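import Cfsg.Agent.FixBN.Thin_m3
import Cfsg.Agent.FixOdd.Radical_m3
import Cfsg.Agent.H460.PanL
import Cfsg.Agent.FixBN.GoodFam
import Cfsg.Agent.H478.RadTools_m3
import Mathlib
import Cfsg.Agent.Mrg.ParSys.Core
import Cfsg.Agent.Tits.ExtAux
import Cfsg.Agent.Tits.OppRes
import Cfsg.Agent.LieRecognition.CoxClass
import Cfsg.Agent.H388.EvenFixSylow
import Cfsg.Agent.OddHalf.Table.AutRGD
import Cfsg.Agent.H470.EPK.ParOfVJ
import Cfsg.Agent.H459.Gallery
import Cfsg.Agent.H538.MFacts
import Cfsg.Agent.FastGrp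
import Cfsg.Agent.Prune
set_option linter.all false

section
prune_inst 0x7ff4bdf98fb8bddfffff7e7fffffdffdf9b9ffffffdff97bffe56bff9fff4b67cbc5fbaf6fec90ffde56e09410f87b53f97eceffe86bdc7ffffd5ff41ffbff8fbfefb50d5194bc341ffc4fff93f077ae7f3ffffffffffffffffffffffffffffffffdffffffff

-- part: H460/OppTrace
section
prune_inst 0x90000700542200000018000002000040600000000000000020000200030800008041000130d0001a008008404808002002100030400000000a000000000504010000000080080000020000800080000000000000000000000000000000000000200000000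
set_option linter.all false
open scoped Cfsg.Agent.FastGrp

/-!
# Elliptic automorphisms of finite buildings map a chamber to an opposite one

`Δ` is a building all of whose parameters are divisible by the prime `p`, `θ` an automorphism (up to
the diagram automorphism `σ`) stabilising the residue `R = Res J x` but no proper residue of `R`.
Then for every `w` in `W_J` which lies in no proper `σ`-stable standard parabolic subgroup of `W_J`
there is a chamber `y` of `R` with `δ(y, θ y) = w` (`exists_delta`); in particular some chamber is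
mapped to an opposite one (`exists_opp`).

Proof: the operators `T_w` on the chambers of `R` over `ZMod p` satisfy the relations of the
`0`-Hecke algebra. `P T_w` (`P` the permutation matrix of `θ`) has the trace `± tr (P T_{w_J})`,
and the sum of all traces is `|R| = 1`.
-/

set_option autoImplicit false
set_option linter.unusedSectionVars false

namespace Cfsg.Agent.H460.OppTrace

open Cfsg.Agent.Tits.Core Cfsg.Agent.Tits.Core.Bldg Cfsg.Agent.Tits.OppRes Cfsg.Agent.FixBN.Trace
open Cfsg.Agent Cfsg.Agent.Tits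

variable {I : Type*} {M : CoxeterMatrix I} {W : Type*} [Group W] {cs : CoxeterSystem M W} {C : Type*}

section Cox

variable [F : Cox cs]

/-- The letters of a reduced word of an element of `W_J` are in `J`. -/
theorem letters_mem {J : Set I} {ω : List I} (hred : cs.IsReduced ω) (h : cs.wordProd ω ∈ WJ cs J) :
    ∀ i ∈ ω, i ∈ J := by
  induction ω with
  | nil => intro i hi; simp at hi
  | cons i ω ih =>
    have hred' : cs.IsReduced ω := by
      have := hred.drop 1
      simpa using this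
    have hl : cs.length (cs.simple i * cs.wordProd (i :: ω)) < cs.length (cs.wordProd (i :: ω)) := by
      have h1 : cs.simple i * cs.wordProd (i :: ω) = cs.wordProd ω := by
        rw [cs.wordProd_cons, ← mul_assoc, cs.simple_mul_simple_self, one_mul]
      rw [h1, hred.eq, hred'.eq]
      simp
    have hi : i ∈ J := by
      refine F.descent_mem J _ (inv_mem h) i ?_
      have h6 := cs.length_inv (cs.simple i * cs.wordProd (i :: ω))
      rw [mul_inv_rev, cs.inv_simple] at h6
      rw [h6, cs.length_inv]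
      exact hl
    have h2 : cs.wordProd ω ∈ WJ cs J := by
      have h3 := mul_mem (simple_mem_WJ (cs := cs) hi) h
      rwa [cs.wordProd_cons, ← mul_assoc, cs.simple_mul_simple_self, one_mul] at h3
    intro j hj
    rcases List.mem_cons.1 hj with rfl | hj
    · exact hi
    · exact ih hred' h2 j hj

end Cox

section Hecke

open scoped Classical

variable {Δ : Bldg cs C} {J : Set I} {x : C} {k : Type*} [CommRing k] [F : Cox cs]
  [Fintype (Δ.Res J x)]

/-- The product of two operators `T`. -/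
theorem T_step (hq : Zero k Δ J x) {u v : W} (hu : u ∈ WJ cs J) (hv : v ∈ WJ cs J) :
    ∃ v' ∈ WJ cs J, (T Δ J x k u * T Δ J x k v = T Δ J x k v' ∨
      T Δ J x k u * T Δ J x k v = - T Δ J x k v') ∧
      (cs.length v < cs.length v' ∨
        (v' = v ∧ u ∈ WJ cs {i | i ∈ J ∧ cs.length (cs.simple i * v) < cs.length v})) := by
  obtain ⟨ω, hω, hred, rfl⟩ := Tits.Exchange.exists_reduced_of_mem_WJ cs hu
  clear hu
  induction ω with
  | nil =>
    refine ⟨v, hv, Or.inl ?_, Or.inr ⟨rfl, ?_⟩⟩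
    · rw [cs.wordProd_nil, T_one, one_mul]
    · rw [cs.wordProd_nil]; exact one_mem _
  | cons i ω ih =>
    have hi : i ∈ J := hω i (by simp)
    have hred' : cs.IsReduced ω := by
      have := hred.drop 1
      simpa using this
    have hl : cs.length (cs.wordProd ω) < cs.length (cs.simple i * cs.wordProd ω) := by
      rw [← cs.wordProd_cons, hred.eq, hred'.eq]
      simp
    have hT : T Δ J x k (cs.wordProd (i :: ω)) = T Δ J x k (cs.simple i) * T Δ J x k (cs.wordProd ω) := by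
      rw [cs.wordProd_cons, simple_mul_T_of_lt hi hl]
    obtain ⟨v1, hv1, h1, h2⟩ := ih (fun j hj => hω j (by simp [hj])) hred'
    by_cases h3 : cs.length (cs.simple i * v1) < cs.length v1
    · refine ⟨v1, hv1, ?_, ?_⟩
      · rw [hT, mul_assoc]
        rcases h1 with h1 | h1
        · right
          rw [h1, simple_mul_T_of_gt hq hi h3]
        · left
          rw [h1, mul_neg, simple_mul_T_of_gt hq hi h3, neg_neg]
      · rcases h2 with h2 | ⟨rfl, h2⟩
        · exact Or.inl h2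
        · right
          refine ⟨rfl, ?_⟩
          rw [cs.wordProd_cons]
          exact mul_mem (simple_mem_WJ ⟨hi, h3⟩) h2
    · have h4 : cs.length v1 < cs.length (cs.simple i * v1) :=
        lt_of_le_of_ne (not_lt.1 h3) (cs.length_simple_mul_ne v1 i).symm
      refine ⟨cs.simple i * v1, mul_mem (simple_mem_WJ hi) hv1, ?_, Or.inl ?_⟩
      · rw [hT, mul_assoc]
        rcases h1 with h1 | h1
        · left
          rw [h1, simple_mul_T_of_lt hi h4]
        · right
          rw [h1, mul_neg, simple_mul_T_of_lt hi h4]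
      · rcases h2 with h2 | ⟨rfl, h2⟩
        · omega
        · exact h4

theorem T_mul_wJ (hq : Zero k Δ J x) {u : W} (hu : u ∈ WJ cs J) :
    T Δ J x k u * T Δ J x k (wJ cs J) = T Δ J x k (wJ cs J) ∨
      T Δ J x k u * T Δ J x k (wJ cs J) = - T Δ J x k (wJ cs J) := by
  obtain ⟨v', hv', h1, h2⟩ := T_step hq hu (F.wJ_mem J)
  have h3 : v' = wJ cs J := by
    rcases h2 with h2 | ⟨h2, -⟩
    · exfalso
      have := F.len_wJ_mul hv'
      omega
    · exact h2
  rw [h3] at h1
  exact h1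

theorem wJ_mul_T (hq : Zero k Δ J x) {u : W} (hu : u ∈ WJ cs J) :
    T Δ J x k (wJ cs J) * T Δ J x k u = T Δ J x k (wJ cs J) ∨
      T Δ J x k (wJ cs J) * T Δ J x k u = - T Δ J x k (wJ cs J) := by
  have h := T_mul_wJ (x := x) hq (inv_mem hu)
  have h1 : (T Δ J x k u⁻¹ * T Δ J x k (wJ cs J)).transpose =
      T Δ J x k (wJ cs J) * T Δ J x k u := by
    rw [Matrix.transpose_mul, T_transpose, T_transpose, inv_inv, F.wJ_inv]
  rw [← h1]
  rcases h with h | h
  · left
    rw [h, T_transpose, F.wJ_inv]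
  · right
    rw [h, Matrix.transpose_neg, T_transpose, F.wJ_inv]

end Hecke

section Main

open scoped Classical

variable {Δ : Bldg cs C} {J : Set I} {x : C} [F : Cox cs] [Finite I]

variable {φ : W ≃* W} {σ : Equiv.Perm I} {θ : Equiv.Perm C}

theorem iter_wordProd (hφ : ∀ i, φ (cs.simple i) = cs.simple (σ i)) (n : ℕ) (ω : List I) :
    (φ : W → W)^[n] (cs.wordProd ω) = cs.wordProd (ω.map (σ ^ n : Equiv.Perm I)) := by
  induction n with
  | zero => simp
  | succ n ih =>
    rw [Function.iterate_succ_apply', ih, FixBN.Cox.map_wordProd hφ, List.map_map, pow_succ']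
    rfl

/-- **Elliptic automorphisms.** `θ` stabilises the residue `R` of type `J` of `x` and no proper
residue of `R` (of `σ`-stable type). Then every `w ∈ W_J` which lies in no proper `σ`-stable
standard parabolic subgroup is a displacement of a chamber of `R`. -/
theorem exists_delta {p : ℕ} [Fact p.Prime] [Finite (Δ.Res J x)]
    (hφ : ∀ i, φ (cs.simple i) = cs.simple (σ i)) (hJ : ∀ i ∈ J, σ i ∈ J)
    (hθ : ∀ a b, Δ.δ (θ a) (θ b) = φ (Δ.δ a b))
    (hR : ∀ y ∈ Δ.Res J x, θ y ∈ Δ.Res J x) (hR' : ∀ y ∈ Δ.Res J x, θ.symm y ∈ Δ.Res J x)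
    (hmin : ∀ y ∈ Δ.Res J x, ∀ K ⊆ J, (∀ i ∈ K, σ i ∈ K) → θ y ∈ Δ.Res K y → K = J)
    (hq : Zero (ZMod p) Δ J x) {r : ℕ} (hr : 0 < r) (hσr : σ ^ r = 1)
    {w : W} (hw : w ∈ WJ cs J) (hwf : ∀ K ⊆ J, (∀ i ∈ K, σ i ∈ K) → w ∈ WJ cs K → K = J) :
    ∃ y ∈ Δ.Res J x, Δ.δ y (θ y) = w := by
  have hfin := Fintype.ofFinite (Δ.Res J x)
  set k := ZMod p
  let P : Matrix (Δ.Res J x) (Δ.Res J x) k := Matrix.of fun a b => if (b : C) = θ a then 1 else 0
  -- multiplication by `P`
  have hPM : ∀ (B : Matrix (Δ.Res J x) (Δ.Res J x) k) (a b : Δ.Res J x),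
      (P * B) a b = B ⟨θ a, hR a a.2⟩ b := by
    intro B a b
    rw [Matrix.mul_apply, Finset.sum_eq_single (⟨θ a, hR a a.2⟩ : Δ.Res J x)]
    · change (if θ (a : C) = θ a then (1 : k) else 0) * _ = _
      rw [if_pos rfl, one_mul]
    · intro c _ hc
      change (if (c : C) = θ a then (1 : k) else 0) * _ = _
      rw [if_neg fun h1 => hc (Subtype.ext h1), zero_mul]
    · intro h1
      exact absurd (Finset.mem_univ _) h1
  have hMP : ∀ (B : Matrix (Δ.Res J x) (Δ.Res J x) k) (a b : Δ.Res J x),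
      (B * P) a b = B a ⟨θ.symm b, hR' b b.2⟩ := by
    intro B a b
    rw [Matrix.mul_apply, Finset.sum_eq_single (⟨θ.symm b, hR' b b.2⟩ : Δ.Res J x)]
    · change _ * (if (b : C) = θ (θ.symm b) then (1 : k) else 0) = _
      rw [if_pos (θ.apply_symm_apply _).symm, mul_one]
    · intro c _ hc
      change _ * (if (b : C) = θ c then (1 : k) else 0) = _
      rw [if_neg, mul_zero]
      intro h1
      apply hc
      apply Subtype.ext
      change (c : C) = θ.symm b
      rw [h1, θ.symm_apply_apply]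
    · intro h1
      exact absurd (Finset.mem_univ _) h1
  have hTP : ∀ w, T Δ J x k w * P = P * T Δ J x k (φ w) := by
    intro w
    ext a b
    rw [hPM, hMP, T_apply, T_apply]
    have h1 : Δ.δ (a : C) (θ.symm b) = w ↔ Δ.δ (θ a) (b : C) = φ w := by
      rw [← θ.apply_symm_apply (b : C), hθ, θ.symm_apply_apply]
      exact φ.injective.eq_iff.symm
    by_cases h2 : Δ.δ (a : C) (θ.symm b) = w
    · rw [if_pos h2]
      exact (if_pos (h1.1 h2)).symm
    · rw [if_neg h2]
      exact (if_neg fun h3 => h2 (h1.2 h3)).symm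
  have hφJ : ∀ w ∈ WJ cs J, φ w ∈ WJ cs J := fun w hw => FixBN.Cox.mem_WJ_map hφ hJ hw
  have hφn : ∀ (n : ℕ), ∀ w ∈ WJ cs J, (φ : W → W)^[n] w ∈ WJ cs J := by
    intro n
    induction n with
    | zero => exact fun w hw => hw
    | succ n ih =>
      intro w hw
      rw [Function.iterate_succ_apply']
      exact hφJ _ (ih w hw)
  have hTPn : ∀ (n : ℕ) (w : W), T Δ J x k w * P ^ n = P ^ n * T Δ J x k ((φ : W → W)^[n] w) := by
    intro n
    induction n with
    | zero => intro w; simp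
    | succ n ih =>
      intro w
      rw [pow_succ, ← mul_assoc, ih, mul_assoc, hTP, ← mul_assoc, Function.iterate_succ_apply']
  -- the trace is the number of the chambers with a given displacement
  let N : W → k := fun w => (P * T Δ J x k w).trace
  have hN : ∀ w, N w = ∑ a : Δ.Res J x, if Δ.δ (θ a) (a : C) = w then (1 : k) else 0 := by
    intro w
    change Matrix.trace _ = _
    rw [Matrix.trace]
    refine Finset.sum_congr rfl fun a _ => ?_
    rw [Matrix.diag_apply, hPM, T_apply]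
  have hex : ∀ w, N w ≠ 0 → ∃ a ∈ Δ.Res J x, Δ.δ (θ a) a = w := by
    intro w hw
    by_contra hcon
    push Not at hcon
    apply hw
    rw [hN]
    refine Finset.sum_eq_zero fun a _ => if_neg (hcon a a.2)
  -- some trace is not zero
  have hsome : ∃ v ∈ WJ cs J, N v ≠ 0 := by
    by_contra hcon
    push Not at hcon
    have h1 : ((Fintype.card (Δ.Res J x) : ℕ) : k) = 1 := card_Res hq
    have h2 : ((Fintype.card (Δ.Res J x) : ℕ) : k) = ∑ b : Δ.Res J x, (1 : k) := by
      rw [Finset.sum_const, Finset.card_univ, nsmul_eq_mul, mul_one]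
    rw [h2, ← Finset.sum_fiberwise_of_maps_to (s := Finset.univ)
      (t := Finset.univ.image fun b : Δ.Res J x => Δ.δ (θ b) (b : C))
      (g := fun b : Δ.Res J x => Δ.δ (θ b) (b : C))
      (fun b _ => Finset.mem_image_of_mem _ (Finset.mem_univ b))] at h1
    have h3 : ∀ v ∈ (Finset.univ.image fun b : Δ.Res J x => Δ.δ (θ b) (b : C)),
        (Finset.univ.filter fun b : Δ.Res J x => Δ.δ (θ b) (b : C) = v).sum (fun _ => (1 : k)) = 0 := by
      intro v hv
      obtain ⟨b, -, hb⟩ := Finset.mem_image.1 hv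
      have hvJ : v ∈ WJ cs J := by
        rw [← hb]
        exact delta_mem_of_Res (hR b b.2) b.2
      rw [Finset.sum_filter, ← hN]
      exact hcon v hvJ
    rw [Finset.sum_eq_zero h3] at h1
    exact zero_ne_one h1
  -- `w` with `N w ≠ 0` is full
  have hfull : ∀ v, N v ≠ 0 → ∀ K ⊆ J, (∀ i ∈ K, σ i ∈ K) → v ∈ WJ cs K → K = J := by
    intro v hv K hK hKσ hvK
    obtain ⟨a, ha, hav⟩ := hex v hv
    refine hmin a ha K hK hKσ ?_
    change Δ.δ a (θ a) ∈ WJ cs K
    rw [Δ.symm (θ a) a, hav]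
    exact inv_mem hvK
  -- the trace of full elements
  have hmain : ∀ v ∈ WJ cs J, (∀ K ⊆ J, (∀ i ∈ K, σ i ∈ K) → v ∈ WJ cs K → K = J) →
      N v = N (wJ cs J) ∨ N v = - N (wJ cs J) := by
    intro v hv hvf
    set X : Matrix (Δ.Res J x) (Δ.Res J x) k := P * T Δ J x k v with hX
    set T0 : Matrix (Δ.Res J x) (Δ.Res J x) k := T Δ J x k (wJ cs J) with hT0
    have hφw : φ (wJ cs J) = wJ cs J := FixOdd.Cox.map_wJ hφ hJ
    have hPT0 : T0 * P = P * T0 := by rw [hT0, hTP, hφw]
    -- the idempotent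
    obtain ⟨ε, hε, hE0⟩ : ∃ ε : k, ε * ε = 1 ∧ T0 * T0 = ε • T0 := by
      rcases T_mul_wJ (x := x) hq (F.wJ_mem J) with h | h
      · exact ⟨1, by ring, by rw [one_smul]; exact h⟩
      · exact ⟨-1, by ring, by rw [neg_one_smul]; exact h⟩
    set E : Matrix (Δ.Res J x) (Δ.Res J x) k := ε • T0 with hE
    have hEE : E * E = E := by
      rw [hE, Matrix.smul_mul, Matrix.mul_smul, hE0, smul_smul, smul_smul, hε, one_mul]
    have hT0E : T0 * E = T0 := by
      rw [hE, Matrix.mul_smul, hE0, smul_smul, hε, one_smul]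
    have hPE : E * P = P * E := by
      rw [hE, Matrix.smul_mul, Matrix.mul_smul, hPT0]
    obtain ⟨a1, ha1, hXE⟩ : ∃ a1 : k, (a1 = 1 ∨ a1 = -1) ∧ X * E = a1 • (P * T0) := by
      have hε' : ε = 1 ∨ ε = -1 := mul_self_eq_one_iff.1 hε
      rcases T_mul_wJ (x := x) hq hv with h | h
      · refine ⟨ε, hε', ?_⟩
        rw [hE, Matrix.mul_smul, hX, mul_assoc, h]
      · refine ⟨-ε, ?_, ?_⟩
        · rcases hε' with h | h
          · right; rw [h]
          · left; rw [h, neg_neg]
        · rw [hE, Matrix.mul_smul, hX, mul_assoc, h, mul_neg, smul_neg, neg_smul]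
    have hEX : E * X * (1 - E) = 0 := by
      have h1 : ∃ c : k, E * X = c • (P * E) := by
        rcases wJ_mul_T (x := x) hq hv with h | h
        · refine ⟨1, ?_⟩
          rw [hX, ← mul_assoc, hPE, mul_assoc, hE, Matrix.smul_mul, h, one_smul]
        · refine ⟨-1, ?_⟩
          rw [hX, ← mul_assoc, hPE, mul_assoc, hE, Matrix.smul_mul, h, neg_one_smul, smul_neg, mul_neg]
      obtain ⟨c, hc⟩ := h1
      rw [hc, Matrix.smul_mul, mul_assoc, mul_sub, mul_one, hEE, sub_self, mul_zero, smul_zero]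
    -- the powers of `X`
    let Y : ℕ → Matrix (Δ.Res J x) (Δ.Res J x) k :=
      fun n => Nat.rec 1 (fun n Z => T Δ J x k ((φ : W → W)^[n] v) * Z) n
    have hY0 : Y 0 = 1 := rfl
    have hYs : ∀ n, Y (n + 1) = T Δ J x k ((φ : W → W)^[n] v) * Y n := fun n => rfl
    have hXn : ∀ n, X ^ n = P ^ n * Y n := by
      intro n
      induction n with
      | zero => rw [pow_zero, pow_zero, hY0, one_mul]
      | succ n ih =>
        rw [pow_succ', ih, hX, hYs, mul_assoc, ← mul_assoc (T Δ J x k v), hTPn, pow_succ', mul_assoc,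
          mul_assoc]
    -- the period of `φ`
    obtain ⟨ω, hωJ, hωr, hωv⟩ := Tits.Exchange.exists_reduced_of_mem_WJ cs hv
    have hlen : ∀ n : ℕ, cs.IsReduced (ω.map (σ ^ n : Equiv.Perm I)) := by
      intro n
      have h1 : cs.length ((φ : W → W)^[n] v) = cs.length v := by
        induction n with
        | zero => rfl
        | succ n ih =>
          rw [Function.iterate_succ_apply', FixOdd.Cox.length_map hφ, ih]
      have h2 : cs.wordProd (ω.map (σ ^ n : Equiv.Perm I)) = (φ : W → W)^[n] v := by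
        rw [← hωv, iter_wordProd hφ]
      unfold CoxeterSystem.IsReduced
      rw [h2, h1, List.length_map, ← hωv]
      exact hωr
    have hstay : ∀ u ∈ WJ cs J, (∀ n < r, ∃ m, (φ : W → W)^[m + n] v ∈
        WJ cs {i | i ∈ J ∧ cs.length (cs.simple i * u) < cs.length u} ∧ r ∣ m) → u = wJ cs J := by
      intro u hu h
      set D : Set I := {i | i ∈ J ∧ cs.length (cs.simple i * u) < cs.length u} with hD
      have hper : ∀ n : ℕ, ∀ i ∈ ω, (σ ^ n) i ∈ D := by
        intro n i hi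
        obtain ⟨m, hm, hrm⟩ := h (n % r) (Nat.mod_lt _ hr)
        have h1 : cs.wordProd (ω.map (σ ^ (m + n % r) : Equiv.Perm I)) ∈ WJ cs D := by
          rw [← iter_wordProd hφ, hωv]; exact hm
        have h2 := letters_mem (hlen _) h1 ((σ ^ (m + n % r)) i) (List.mem_map_of_mem hi)
        have h3 : σ ^ (m + n % r) = σ ^ n := by
          obtain ⟨c, rfl⟩ := hrm
          have h4 : σ ^ n = σ ^ (r * (n / r) + n % r) := by rw [Nat.div_add_mod]
          rw [h4, pow_add, pow_add, pow_mul, pow_mul, hσr, one_pow, one_pow]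
        rwa [h3] at h2
      have hDJ : D = J := by
        have hK := hvf {i | i ∈ J ∧ ∀ n : ℕ, (σ ^ n) i ∈ D} (fun i hi => hi.1) (fun i hi =>
          ⟨hJ i hi.1, fun n => by
            have := hi.2 (n + 1)
            rwa [pow_succ] at this⟩) (by
          rw [← hωv]
          exact Tits.Exchange.wordProd_mem_WJ cs fun i hi => ⟨hωJ i hi, fun n => hper n i hi⟩)
        refine Set.Subset.antisymm (fun i hi => hi.1) fun i hi => ?_
        rw [← hK] at hi
        exact hi.2 0
      have h1 : u⁻¹ = wJ cs J := by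
        refine F.eq_wJ_of_descents (inv_mem hu) fun j hj => ?_
        rw [← hDJ] at hj
        have h2 := hj.2
        have h6 := cs.length_inv (cs.simple j * u)
        rw [mul_inv_rev, cs.inv_simple] at h6
        rw [h6, cs.length_inv]
        exact h2
      rw [← F.wJ_inv J, ← h1, inv_inv]
    have hgrow : ∀ m, ∃ n, ∃ u ∈ WJ cs J, (Y n = T Δ J x k u ∨ Y n = - T Δ J x k u) ∧ r ∣ n ∧
        (u = wJ cs J ∨ m ≤ cs.length u) := by
      intro m
      induction m with
      | zero => exact ⟨0, 1, one_mem _, Or.inl (by rw [hY0, T_one]), dvd_zero _, Or.inr (Nat.zero_le _)⟩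
      | succ m ih =>
        obtain ⟨n, u, hu, hYn, hrn, h1⟩ := ih
        -- `j` further steps
        have hsteps : ∀ j ≤ r, ∃ u' ∈ WJ cs J, (Y (n + j) = T Δ J x k u' ∨ Y (n + j) = - T Δ J x k u') ∧
            (cs.length u < cs.length u' ∨ (u' = u ∧ ∀ i < j, (φ : W → W)^[n + i] v ∈
              WJ cs {i | i ∈ J ∧ cs.length (cs.simple i * u) < cs.length u})) := by
          intro j hj
          induction j with
          | zero => exact ⟨u, hu, hYn, Or.inr ⟨rfl, fun i hi => absurd hi (Nat.not_lt_zero _)⟩⟩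
          | succ j ihj =>
            obtain ⟨u', hu', hY', h2⟩ := ihj (by omega)
            obtain ⟨u'', hu'', hY'', h3⟩ := T_step (x := x) hq (hφn (n + j) v hv) hu'
            refine ⟨u'', hu'', ?_, ?_⟩
            · rw [← add_assoc, hYs]
              rcases hY' with hY' | hY' <;> rcases hY'' with hY'' | hY''
              · left; rw [hY', hY'']
              · right; rw [hY', hY'']
              · right; rw [hY', mul_neg, hY'']
              · left; rw [hY', mul_neg, hY'', neg_neg]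
            · rcases h2 with h2 | ⟨rfl, h2⟩
              · left
                rcases h3 with h3 | ⟨rfl, -⟩
                · omega
                · exact h2
              · rcases h3 with h3 | ⟨rfl, h3⟩
                · exact Or.inl h3
                · right
                  refine ⟨rfl, fun i hi => ?_⟩
                  rcases Nat.lt_succ_iff_lt_or_eq.1 hi with hi | rfl
                  · exact h2 i hi
                  · exact h3
        obtain ⟨u', hu', hY', h2⟩ := hsteps r le_rfl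
        refine ⟨n + r, u', hu', hY', (Nat.dvd_add_right hrn).2 dvd_rfl, ?_⟩
        rcases h2 with h2 | ⟨rfl, h2⟩
        · rcases h1 with h1 | h1
          · exfalso
            have h3 := F.len_wJ_mul hu'
            rw [h1] at h2
            omega
          · right; omega
        · left
          exact hstay u' hu' fun i hi => ⟨n, h2 i hi, hrn⟩
    obtain ⟨n, hYn⟩ : ∃ n, Y (n + 1) = T0 ∨ Y (n + 1) = - T0 := by
      obtain ⟨n, u, hu, hYn, -, h1⟩ := hgrow (cs.length (wJ cs J) + 1)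
      have hu' : u = wJ cs J := by
        rcases h1 with h1 | h1
        · exact h1
        · exfalso
          have h3 := F.len_wJ_mul hu
          omega
      rw [hu'] at hYn
      refine ⟨n, ?_⟩
      rw [hYs]
      rcases T_mul_wJ (x := x) hq (hφn n v hv) with h2 | h2 <;> rcases hYn with h3 | h3
      · left; rw [h3, h2]
      · right; rw [h3, mul_neg, h2]
      · right; rw [h3, h2]
      · left; rw [h3, mul_neg, h2, neg_neg]
    -- nilpotency
    have hnil : IsNilpotent (X * (1 - E)) := by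
      refine ⟨n + 1, ?_⟩
      have h1 : ∀ m, (X * (1 - E)) ^ (m + 1) = X ^ (m + 1) * (1 - E) := by
          intro m
          induction m with
          | zero => rw [zero_add, pow_one, pow_one]
          | succ m ih =>
            rw [pow_succ', ih]
            have h2 : (1 - E) * X * (1 - E) = X * (1 - E) := by
              rw [sub_mul, one_mul, sub_mul, hEX, sub_zero]
            have h3 : (1 - E) * X ^ (m + 1) * (1 - E) = X ^ (m + 1) * (1 - E) := by
              have h4 : ∀ j, (1 - E) * X ^ j * (1 - E) = X ^ j * (1 - E) := by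
                intro j
                induction j with
                | zero =>
                  rw [pow_zero, mul_one, one_mul, mul_sub, mul_one, sub_mul, one_mul, hEE, sub_self,
                    sub_zero]
                | succ j ihj =>
                  rw [pow_succ]
                  calc (1 - E) * (X ^ j * X) * (1 - E)
                      = (1 - E) * X ^ j * (X * (1 - E)) := by simp only [mul_assoc]
                    _ = (1 - E) * X ^ j * ((1 - E) * X * (1 - E)) := by rw [h2]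
                    _ = ((1 - E) * X ^ j * (1 - E)) * (X * (1 - E)) := by simp only [mul_assoc]
                    _ = X ^ j * (1 - E) * (X * (1 - E)) := by rw [ihj]
                    _ = X ^ j * ((1 - E) * X * (1 - E)) := by simp only [mul_assoc]
                    _ = X ^ j * (X * (1 - E)) := by rw [h2]
                    _ = X ^ j * X * (1 - E) := (mul_assoc _ _ _).symm
              exact h4 (m + 1)
            calc X * (1 - E) * (X ^ (m + 1) * (1 - E))
                = X * ((1 - E) * X ^ (m + 1) * (1 - E)) := by simp only [mul_assoc]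
              _ = X * (X ^ (m + 1) * (1 - E)) := by rw [h3]
              _ = X ^ (m + 1 + 1) * (1 - E) := by rw [← mul_assoc, ← pow_succ']
      rw [h1 n, hXn]
      have h2 : T0 * (1 - E) = 0 := by rw [mul_sub, mul_one, hT0E, sub_self]
      rcases hYn with hYn | hYn
      · rw [hYn, mul_assoc, h2, mul_zero]
      · rw [hYn, mul_assoc, neg_mul, h2, neg_zero, mul_zero]
    have htr : X.trace = (X * E).trace := by
      have h1 : X = X * E + X * (1 - E) := by rw [← mul_add, add_sub_cancel, mul_one]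
      have h2 := (Matrix.isNilpotent_trace_of_isNilpotent hnil).eq_zero
      conv_lhs => rw [h1]
      rw [Matrix.trace_add, h2, add_zero]
    change X.trace = (P * T0).trace ∨ X.trace = - (P * T0).trace
    rw [htr, hXE, Matrix.trace_smul]
    rcases ha1 with rfl | rfl
    · left; rw [one_smul]
    · right; rw [neg_one_smul]
  -- the end
  obtain ⟨v, hv, hNv⟩ := hsome
  have hN0 : N (wJ cs J) ≠ 0 := by
    rcases hmain v hv (hfull v hNv) with h | h
    · rw [← h]; exact hNv
    · intro h0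
      rw [h0, neg_zero] at h
      exact hNv h
  have hwi : ∀ K ⊆ J, (∀ i ∈ K, σ i ∈ K) → w⁻¹ ∈ WJ cs K → K = J := fun K hK hKσ h =>
    hwf K hK hKσ (inv_inv w ▸ inv_mem h)
  have hNw : N w⁻¹ ≠ 0 := by
    rcases hmain w⁻¹ (inv_mem hw) hwi with h | h
    · rw [h]; exact hN0
    · rw [h]; exact neg_ne_zero.2 hN0
  obtain ⟨a, ha, haw⟩ := hex _ hNw
  refine ⟨a, ha, ?_⟩
  rw [Δ.symm (θ a) a, haw, inv_inv]

end Main

end Cfsg.Agent.H460.OppTrace
end

-- part: H460/EllC
section
prune_inst 0xb42027041022000000180000000020644000000200680001a9400600030083428041090104a000181022a2400000006813100070421000000a0004000001040100aa0206b008a000220006803085180c00000000000000000000000000000000200000000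
set_option linter.all false
open scoped Cfsg.Agent.FastGrp

-- part: H460/OppPanel
section
/-!
# The action on a residue which is opposite its image

`V` is a residue of type `K` in a residue of type `J`, `θ V` is opposite `V` there. The permutation
`f = proj_V ∘ θ` of `V` controls products of conjugates of `θ`: for every `l` in the stabiliser of
`V` there is a `g` with the same action on `V` as `l` such that `θ g θ g⁻¹` stabilises `V` and acts
on `V` as `f l f l⁻¹` (`exists_mul`), and a `g` such that `θ g θ⁻¹ g⁻¹` acts on `V` as `f l f⁻¹ l⁻¹`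
(`exists_comm`).
-/

set_option autoImplicit false
set_option linter.unusedSectionVars false

open scoped Pointwise

namespace Cfsg.Agent.H460.OppPanel

open Cfsg.Agent.Tits.Core Cfsg.Agent.Tits.Core.Bldg Cfsg.Agent.Tits.Exchange Cfsg.Agent.Tits
open Cfsg.Agent.FixBN (Sys eq_of_isMinR par_transfer)
open Cfsg.Agent.FixBN.Cox (Par Ad)
open Cfsg.Agent.FixOdd (Tw)

variable {I : Type*} {M : CoxeterMatrix I} {W : Type*} [Group W] {cs : CoxeterSystem M W} {C : Type*}

variable {Δ : Bldg cs C} {G : Type*} [Group G] [MulAction G C] {p : ℕ} (S : Sys Δ G p) (t : Tw Δ G)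
variable [F : OppRes.Cox cs]

theorem ad_inv {φ : W ≃* W} {σ : I → I} {J K : Set I} {b : W} (h : Ad cs φ σ J K K b) : b⁻¹ = b := by
  have h1 : wJ cs K * b = wJ cs J := h.long'
  have h2 := h.long
  have h3 : b = wJ cs J * (wJ cs K)⁻¹ := by rw [← h2]; group
  have h4 : b⁻¹ = (wJ cs J)⁻¹ * wJ cs K := by rw [← h1]; group
  rw [h4, F.wJ_inv J]
  rw [h3, F.wJ_inv K]

/-- `Res K y` is mapped to an opposite residue. -/
def OppV (t : Tw Δ G) (b : W) (K : Set I) (y : C) : Prop :=
  ∃ c ∈ Δ.Res K y, ∃ d ∈ Δ.Res K y, Δ.δ c (t.θ d) = b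

variable {t} {J K : Set I} {b : W} {y : C}

theorem exists_e (hA : Ad cs t.φ t.σ J K K b) (hy : OppV t b K y) {c : C} (hc : c ∈ Δ.Res K y) :
    ∃ e ∈ Δ.Res K y, Δ.δ e (t.θ c) = b := by
  obtain ⟨c0, hc0, d0, hd0, h0⟩ := hy
  have h1 : t.θ c ∈ Δ.Res K (t.θ d0) :=
    t.θ_mem_Res hA.st' (Δ.mem_Res_trans (Δ.mem_Res_symm hd0) hc)
  obtain ⟨e, he, he'⟩ := par_transfer hA.par.symm (x := t.θ d0) (y := c0) (a := t.θ c)
    (by rw [Δ.symm c0, h0]) h1
  refine ⟨e, Δ.mem_Res_trans hc0 he, ?_⟩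
  rw [Δ.symm (t.θ c) e, he', inv_inv]

theorem eq_e (hA : Ad cs t.φ t.σ J K K b) {c e e' : C} (he : e ∈ Δ.Res K y) (he' : e' ∈ Δ.Res K y)
    (h : Δ.δ e c = b) (h' : Δ.δ e' c = b) : e = e' := by
  refine eq_of_isMinR (Δ := Δ) (T := K) (x := c) (v := b⁻¹) ?_ ?_ ?_ ?_
  · exact (isMinR_inv_iff cs).2 hA.par.minL
  · rw [Δ.symm e' c, h']
  · rw [Δ.symm e c, h]
  · exact Δ.mem_Res_trans (Δ.mem_Res_symm he') he

/-- The map `proj_V ∘ θ`. -/
noncomputable def f0 (hA : Ad cs t.φ t.σ J K K b) (hy : OppV t b K y) (c : Δ.Res K y) : Δ.Res K y :=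
  ⟨(exists_e hA hy c.2).choose, (exists_e hA hy c.2).choose_spec.1⟩

theorem f0_spec (hA : Ad cs t.φ t.σ J K K b) (hy : OppV t b K y) (c : Δ.Res K y) :
    Δ.δ (f0 hA hy c : C) (t.θ c) = b := (exists_e hA hy c.2).choose_spec.2

theorem f0_injective (hA : Ad cs t.φ t.σ J K K b) (hy : OppV t b K y) :
    Function.Injective (f0 hA hy) := by
  intro c c' h
  have h1 := f0_spec hA hy c
  have h2 := f0_spec hA hy c'
  rw [← h] at h2
  have h3 : t.θ c' ∈ Δ.Res K (t.θ c) :=
    t.θ_mem_Res hA.st' (Δ.mem_Res_trans (Δ.mem_Res_symm c.2) c'.2)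
  have h4 := eq_of_isMinR hA.par.minR h1 h2 h3
  exact Subtype.ext (t.θ.injective h4).symm

/-- The permutation `proj_V ∘ θ` of `V`. -/
noncomputable def f (hA : Ad cs t.φ t.σ J K K b) (hy : OppV t b K y) [Finite C] :
    Equiv.Perm (Δ.Res K y) :=
  Equiv.ofBijective (f0 hA hy) (Finite.injective_iff_bijective.1 (f0_injective hA hy))

theorem f_spec (hA : Ad cs t.φ t.σ J K K b) (hy : OppV t b K y) [Finite C] (c : Δ.Res K y) :
    Δ.δ (f hA hy c : C) (t.θ c) = b := f0_spec hA hy c

theorem f_eq (hA : Ad cs t.φ t.σ J K K b) (hy : OppV t b K y) [Finite C] {c e : Δ.Res K y}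
    (h : Δ.δ (e : C) (t.θ c) = b) : f hA hy c = e :=
  Subtype.ext (eq_e hA (f hA hy c).2 e.2 (f_spec hA hy c) h)

/-- `f c = c` if and only if `c` is not mapped to a chamber opposite... -/
theorem f_eq_self_iff (hA : Ad cs t.φ t.σ J K K b) (hy : OppV t b K y) [Finite C] (c : Δ.Res K y) :
    f hA hy c = c ↔ Δ.δ (c : C) (t.θ c) = b := by
  constructor
  · intro h
    have := f_spec hA hy c
    rwa [h] at this
  · exact fun h => f_eq hA hy h

include S in
/-- Lifting the action on `V` to an element with given action on opposite residues. -/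
theorem exists_lift (hth : Δ.Thick) (hA : Ad cs t.φ t.σ J K K b) {l : G} {c1 c2 z1 z2 : C}
    (h1 : Δ.δ c1 z1 = b) (h2 : Δ.δ c2 z2 = b) (hl : l • c1 = c2) :
    ∃ g : G, (∀ c ∈ Δ.Res K c1, g • c = l • c) ∧ g • z1 = z2 := by
  have h3 : Δ.δ c2 (l • z1) = b := by rw [← hl, S.iso, h1]
  obtain ⟨u, hu, huz⟩ := FixBN.Thin.exists_UR_move S hth hA h3 h2
  refine ⟨u * l, fun c hc => ?_, by rw [mul_smul, huz]⟩
  rw [mul_smul]
  have h4 : l • c ∈ Δ.Res K c2 := by rw [← hl]; exact S.smul_mem_Res hc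
  exact S.fix _ u (S.mem_UR.1 hu _ h4)

/-- The permutation of a set of chambers induced by `l`. -/
noncomputable def act {V : Set C} (l : G) (hl : ∀ c, l • c ∈ V ↔ c ∈ V) : Equiv.Perm V :=
  (MulAction.toPerm l : Equiv.Perm C).subtypePerm fun x => hl x

theorem act_apply {V : Set C} {l : G} (hl : ∀ c, l • c ∈ V ↔ c ∈ V) (c : V) :
    (act l hl c : C) = l • (c : C) := rfl

theorem act_inv_apply {V : Set C} {l : G} (hl : ∀ c, l • c ∈ V ↔ c ∈ V) (c : V) :
    ((act l hl)⁻¹ c : C) = l⁻¹ • (c : C) := by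
  have h : act l hl ((act l hl)⁻¹ c) = c := (act l hl).apply_symm_apply c
  have h1 := congrArg Subtype.val h
  rw [act_apply] at h1
  rw [← h1, inv_smul_smul]

theorem mul_power {X : Type*} {V : Set X} (z : Equiv.Perm X) (w : Equiv.Perm V)
    (h : ∀ c : V, z c = w c) {n : ℕ} (hn : z ^ n = 1) : w ^ n = 1 := by
  have h1 : ∀ (n : ℕ) (c : V), (z ^ n) c = (w ^ n) c := by
    intro n
    induction n with
    | zero => intro c; rfl
    | succ n ih =>
      intro c
      rw [pow_succ, pow_succ, Equiv.Perm.mul_apply, Equiv.Perm.mul_apply, h, ih]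
  ext c
  rw [← h1, hn]
  rfl

include S in
/-- **Products.** -/
theorem exists_mul (hth : Δ.Thick) (hA : Ad cs t.φ t.σ J K K b) (hy : OppV t b K y) [Finite C]
    (l : G) (hl : ∀ c, l • c ∈ Δ.Res K y ↔ c ∈ Δ.Res K y) :
    ∃ g : G, ∀ c : Δ.Res K y, (t.θ * MulAction.toPerm g * t.θ * (MulAction.toPerm g)⁻¹ : Equiv.Perm C) c =
      (f hA hy * act l hl * f hA hy * (act l hl)⁻¹ : Equiv.Perm (Δ.Res K y)) c := by
  have hbi := ad_inv hA
  have hbφ : t.φ b = b := hA.fix
  set c1 : Δ.Res K y := ⟨y, Δ.self_mem_Res K y⟩ with hc1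
  set c2 : Δ.Res K y := act l hl c1 with hc2
  set z1 : C := t.θ ((f hA hy)⁻¹ c1 : Δ.Res K y) with hz1
  set z2 : C := t.θ.symm (f hA hy c2 : Δ.Res K y) with hz2
  have h1 : Δ.δ (c1 : C) z1 = b := by
    have h := f_spec hA hy ((f hA hy)⁻¹ c1)
    have h' : f hA hy ((f hA hy)⁻¹ c1) = c1 := (f hA hy).apply_symm_apply c1
    rwa [h'] at h
  have h2 : Δ.δ (c2 : C) z2 = b := by
    have h := f_spec hA hy c2
    have h3 : t.φ (Δ.δ z2 (c2 : C)) = b := by
      rw [← t.δ_θ, hz2, Equiv.apply_symm_apply]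
      exact h
    have h4 : Δ.δ z2 (c2 : C) = b := t.φ.injective (by rw [h3, hbφ])
    rw [Δ.symm z2 c2, h4, hbi]
  obtain ⟨g, hg, hgz⟩ := exists_lift S hth hA (l := l) h1 h2 (act_apply hl c1).symm
  have hRes : Δ.Res K (c1 : C) = Δ.Res K y := rfl
  rw [hRes] at hg
  refine ⟨g, fun c => ?_⟩
  -- `g⁻¹ c`
  have hginv : ∀ c ∈ Δ.Res K y, g⁻¹ • c = l⁻¹ • c := by
    intro c hc
    have h3 : l⁻¹ • c ∈ Δ.Res K y := by rw [← hl, smul_inv_smul]; exact hc
    rw [inv_smul_eq_iff, hg _ h3, smul_inv_smul]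
  set c' : Δ.Res K y := (act l hl)⁻¹ c with hc'
  have hc'' : (c' : C) = g⁻¹ • (c : C) := by rw [hginv c c.2, hc', act_inv_apply]
  change t.θ (g • t.θ (g⁻¹ • (c : C))) = (f hA hy (act l hl (f hA hy ((act l hl)⁻¹ c))) : Δ.Res K y)
  rw [← hc'', ← hc']
  -- `e = f c'`
  set e := f hA hy c' with he
  have he1 : Δ.δ (e : C) (t.θ c') = b := f_spec hA hy c'
  have he2 : Δ.δ (g • (e : C)) (g • t.θ c') = b := by rw [S.iso, he1]
  have hge : (act l hl e : C) = g • (e : C) := by rw [act_apply, hg e e.2]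
  -- `θ (g θ c')` is in `V`
  have h5 : t.θ c' ∈ Δ.Res K z1 := by
    refine t.θ_mem_Res hA.st' ?_
    exact Δ.mem_Res_trans (Δ.mem_Res_symm ((f hA hy)⁻¹ c1).2) c'.2
  have h6 : g • t.θ c' ∈ Δ.Res K z2 := by
    rw [← hgz]
    exact S.smul_mem_Res h5
  have h7 : t.θ (g • t.θ c') ∈ Δ.Res K y := by
    have h8 := t.θ_mem_Res hA.st' h6
    rw [hz2, Equiv.apply_symm_apply] at h8
    exact Δ.mem_Res_trans (f hA hy c2).2 h8
  have h8 : Δ.δ (t.θ (g • t.θ c')) (t.θ (act l hl e : Δ.Res K y)) = b := by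
    rw [t.δ_θ, hge, Δ.symm (g • (e : C)), he2, hbi, hbφ]
  exact congrArg Subtype.val
    (f_eq hA hy (c := act l hl e) (e := ⟨t.θ (g • t.θ c'), h7⟩) h8).symm

include S in
/-- **Commutators.** -/
theorem exists_comm (hth : Δ.Thick) (hA : Ad cs t.φ t.σ J K K b) (hy : OppV t b K y) [Finite C]
    (l : G) (hl : ∀ c, l • c ∈ Δ.Res K y ↔ c ∈ Δ.Res K y) :
    ∃ g : G, ∀ c : Δ.Res K y, (t.θ * MulAction.toPerm g * t.θ⁻¹ * (MulAction.toPerm g)⁻¹ : Equiv.Perm C) c =
      (f hA hy * act l hl * (f hA hy)⁻¹ * (act l hl)⁻¹ : Equiv.Perm (Δ.Res K y)) c := by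
  have hbi := ad_inv hA
  have hbφ : t.φ b = b := hA.fix
  have hspec : ∀ c : Δ.Res K y, Δ.δ (c : C) (t.θ.symm (f hA hy c : Δ.Res K y)) = b := by
    intro c
    have h := f_spec hA hy c
    have h3 : t.φ (Δ.δ (t.θ.symm (f hA hy c : Δ.Res K y)) (c : C)) = b := by
      rw [← t.δ_θ, Equiv.apply_symm_apply]
      exact h
    have h4 : Δ.δ (t.θ.symm (f hA hy c : Δ.Res K y)) (c : C) = b := t.φ.injective (by rw [h3, hbφ])
    rw [Δ.symm _ (c : C), h4, hbi]
  set c1 : Δ.Res K y := ⟨y, Δ.self_mem_Res K y⟩ with hc1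
  obtain ⟨g, hg, hgz⟩ := exists_lift S hth hA (l := l) (hspec c1) (hspec (act l hl c1))
    (act_apply hl c1).symm
  have hRes : Δ.Res K (c1 : C) = Δ.Res K y := rfl
  rw [hRes] at hg
  refine ⟨g, fun c => ?_⟩
  have hginv : ∀ c ∈ Δ.Res K y, g⁻¹ • c = l⁻¹ • c := by
    intro c hc
    have h3 : l⁻¹ • c ∈ Δ.Res K y := by rw [← hl, smul_inv_smul]; exact hc
    rw [inv_smul_eq_iff, hg _ h3, smul_inv_smul]
  set c' : Δ.Res K y := (act l hl)⁻¹ c with hc'
  have hc'' : (c' : C) = g⁻¹ • (c : C) := by rw [hginv c c.2, hc', act_inv_apply]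
  change t.θ (g • t.θ⁻¹ (g⁻¹ • (c : C))) =
    (f hA hy (act l hl ((f hA hy)⁻¹ ((act l hl)⁻¹ c))) : Δ.Res K y)
  rw [← hc'', ← hc']
  set e := (f hA hy)⁻¹ c' with he
  have hfe : f hA hy e = c' := (f hA hy).apply_symm_apply c'
  have he1 : Δ.δ (e : C) (t.θ⁻¹ c') = b := by
    have := hspec e
    rw [hfe] at this
    exact this
  have hge : (act l hl e : C) = g • (e : C) := by rw [act_apply, hg e e.2]
  -- the unique chamber opposite in the image
  have hst : ∀ c ∈ Δ.Res K y, ∀ d ∈ Δ.Res K y, t.θ.symm d ∈ Δ.Res K (t.θ.symm c) := by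
    intro c hc d hd
    rw [mem_Res]
    have h3 : t.φ (Δ.δ (t.θ.symm c) (t.θ.symm d)) ∈ WJ cs K := by
      rw [← t.δ_θ, Equiv.apply_symm_apply, Equiv.apply_symm_apply]
      exact Δ.δ_mem_of_mem_Res hc hd
    have h4 : ∀ n : ℕ, (t.φ : W → W)^[n] (t.φ (Δ.δ (t.θ.symm c) (t.θ.symm d))) ∈ WJ cs K := by
      intro n
      induction n with
      | zero => exact h3
      | succ n ih => rw [Function.iterate_succ_apply']; exact t.φ_mem hA.st' ih
    -- `θ` has finite order
    obtain ⟨n, hn, hθn⟩ : ∃ n : ℕ, 0 < n ∧ t.θ ^ n = 1 :=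
      ⟨orderOf t.θ, orderOf_pos _, pow_orderOf_eq_one _⟩
    have h5 := FixOdd.Tw.δ_pow (t := t) n (t.θ.symm c) (t.θ.symm d)
    rw [hθn] at h5
    obtain ⟨m, rfl⟩ := Nat.exists_eq_succ_of_ne_zero hn.ne'
    rw [Function.iterate_succ_apply] at h5
    have h6 := h4 m
    rw [← h5] at h6
    exact h6
  have h5 : t.θ⁻¹ c' ∈ Δ.Res K (t.θ.symm (f hA hy c1 : Δ.Res K y)) := hst _ (f hA hy c1).2 _ c'.2
  have h6 : g • t.θ⁻¹ c' ∈ Δ.Res K (t.θ.symm (f hA hy (act l hl c1) : Δ.Res K y)) := by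
    rw [← hgz]
    exact S.smul_mem_Res h5
  have h7 : t.θ (g • t.θ⁻¹ c') ∈ Δ.Res K y := by
    have h8 := t.θ_mem_Res hA.st' h6
    rw [Equiv.apply_symm_apply] at h8
    exact Δ.mem_Res_trans (f hA hy (act l hl c1)).2 h8
  have h8 : Δ.δ (t.θ (g • t.θ⁻¹ c')) (t.θ (act l hl e : Δ.Res K y)) = b := by
    rw [t.δ_θ, hge, Δ.symm (g • (e : C)), S.iso, he1, hbi, hbφ]
  exact congrArg Subtype.val
    (f_eq hA hy (c := act l hl e) (e := ⟨t.θ (g • t.θ⁻¹ c'), h7⟩) h8).symm

end Cfsg.Agent.H460.OppPanel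
end

-- part: H460/EllPan
section
/-!
# The permutation `proj ∘ θ` of a residue opposite its image permutes the root groups (helper460)

* `exists_U_of_pElem` : an element acting on `V ∋ z` as a `p`-element fixing `z` acts as an element of `U z`;
* `exists_ad_self` : adjacency data for a type `K` stable under the opposition;
* `opp_OppV` : a chamber opposite its image gives `OppV`;
* `exists_pan` : the permutation `f` of the panel `Pan i y`.
-/

set_option autoImplicit false
set_option linter.unusedSectionVars false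

open scoped Pointwise

namespace Cfsg.Agent.H460.EllPan

open Cfsg.Agent.Tits.Core Cfsg.Agent.Tits.Core.Bldg Cfsg.Agent.Tits.Exchange Cfsg.Agent.Tits
open Cfsg.Agent.FixBN (Sys eq_of_isMinR par_transfer famStab mem_famStab)
open Cfsg.Agent.FixBN.Cox (Par Ad)
open Cfsg.Agent.FixOdd (Tw)
open Cfsg.Agent.H460.OppPanel Cfsg.Agent.H460.AA

variable {I : Type*} {M : CoxeterMatrix I} {W : Type*} [Group W] {cs : CoxeterSystem M W} {C : Type*}

variable {Δ : Bldg cs C} {G : Type*} [Group G] [MulAction G C] {p : ℕ} (S : Sys Δ G p) (t : Tw Δ G)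

/-! ### Elements of `U z` -/

theorem pow_smul_eq {V : Set C} {w : Equiv.Perm V} {k : G} (hk : ∀ c : V, (w c : C) = k • (c : C)) (n : ℕ) (c : V) :
    ((w ^ n) c : C) = k ^ n • (c : C) := by
  induction n with
  | zero => simp
  | succ n ih => rw [pow_succ', Equiv.Perm.mul_apply, hk, ih, ← mul_smul, pow_succ']

include S in
/-- An element acting on `V ∋ z` as a `p`-element fixing `z` acts as an element of `U z`. -/
theorem exists_U_of_pElem [hp : Fact p.Prime] [Finite G] {V : Set C} {w : Equiv.Perm V} {k : G}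
    (hk : ∀ c : V, (w c : C) = k • (c : C)) {z : V} (hz : w z = z) {N : ℕ} (hN : w ^ p ^ N = 1) :
    ∃ u ∈ S.U (z : C), ∀ c : V, (w c : C) = u • (c : C) := by
  have ho : 0 < orderOf k := orderOf_pos k
  obtain ⟨a, m, hm, hkm⟩ := Nat.exists_eq_pow_mul_and_not_dvd ho.ne' p hp.out.ne_one
  have hcop : Nat.Coprime m (p ^ N) := Nat.Coprime.pow_right _ ((Nat.Prime.coprime_iff_not_dvd hp.out).2 hm).symm
  obtain ⟨e, he1, he2⟩ : ∃ e, e ≡ 1 [MOD p ^ N] ∧ m ∣ e := by
    obtain ⟨e, h1, h2⟩ := Nat.chineseRemainder hcop.symm 1 0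
    exact ⟨e, h1, (Nat.modEq_zero_iff_dvd).1 h2⟩
  have hw : w ^ e = w := by
    have h1 : orderOf w ∣ p ^ N := orderOf_dvd_of_pow_eq_one hN
    have h2 : e ≡ 1 [MOD orderOf w] := Nat.ModEq.of_dvd h1 he1
    have h3 := (pow_eq_pow_iff_modEq (x := w) (n := e) (m := 1)).2 h2
    rwa [pow_one] at h3
  have hke : ∀ c : V, (w c : C) = k ^ e • (c : C) := by
    intro c
    rw [← pow_smul_eq hk, hw]
  have hpe : (k ^ e) ^ p ^ a = 1 := by
    obtain ⟨j, rfl⟩ := he2
    rw [← pow_mul]
    have h1 : m * j * p ^ a = orderOf k * j := by rw [hkm]; ring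
    rw [h1, pow_mul, pow_orderOf_eq_one, one_pow]
  refine ⟨k ^ e, ?_, hke⟩
  have h1 : IsPGroup p (Subgroup.zpowers (k ^ e)) := by
    obtain ⟨j, -, hj⟩ := (Nat.dvd_prime_pow hp.out).1 (orderOf_dvd_of_pow_eq_one hpe)
    exact IsPGroup.of_card (n := j) (by rw [Nat.card_zpowers, hj])
  refine S.max z _ h1 ?_ (Subgroup.mem_zpowers _)
  have h2 : k ^ e • (z : C) = z := by rw [← hke z, hz]
  have h3 : Subgroup.zpowers (k ^ e) ≤ MulAction.stabilizer G (z : C) := by
    rw [Subgroup.zpowers_le]; exact h2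
  exact fun v hv => h3 hv

/-- In a finite symmetric group one inclusion suffices. -/
theorem mem_famStab_of_forward {Om : Type*} [Finite Om] {U : Om → Subgroup (Equiv.Perm Om)} {f : Equiv.Perm Om}
    (h : ∀ z, ∀ g ∈ U z, f * g * f⁻¹ ∈ U (f z)) : f ∈ famStab U := by
  have h1 : ∀ n : ℕ, ∀ z, ∀ g ∈ U z, f ^ n * g * (f ^ n)⁻¹ ∈ U ((f ^ n) z) := by
    intro n
    induction n with
    | zero => intro z g hg; simpa using hg
    | succ n ih =>
      intro z g hg
      have h2 := h _ _ (ih z g hg)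
      rw [pow_succ', Equiv.Perm.mul_apply]
      have e : f * f ^ n * g * (f * f ^ n)⁻¹ = f * (f ^ n * g * (f ^ n)⁻¹) * f⁻¹ := by group
      rwa [e]
  intro z g
  refine ⟨h z g, fun hg => ?_⟩
  have hfin : 0 < orderOf f := orderOf_pos f
  have h2 := h1 (orderOf f - 1) _ _ hg
  have h3 : f ^ (orderOf f - 1) = f⁻¹ := by
    rw [eq_inv_iff_mul_eq_one, ← pow_succ, Nat.sub_add_cancel hfin, pow_orderOf_eq_one]
  rw [h3] at h2
  have e : f⁻¹ * (f * g * f⁻¹) * f⁻¹⁻¹ = g := by group
  have e2 : f⁻¹ (f z) = z := f.symm_apply_apply z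
  rwa [e, e2] at h2

/-! ### Adjacency data -/

variable [F : OppRes.Cox cs]

/-- Adjacency data for a type stable under the opposition. -/
theorem exists_ad_self {φ : W ≃* W} {σ : I → I} (hφ : ∀ i, φ (cs.simple i) = cs.simple (σ i)) (hσ : ∀ i, σ i = i)
    {K : Set I} (hK : ∀ i ∈ K, ∃ j ∈ K, w0 cs * cs.simple i * w0 cs = cs.simple j) :
    ∃ b, Ad cs φ σ Set.univ K K b := by
  obtain ⟨J', b, hA⟩ := FixBN.Cox.exists_ad (T := Set.univ) (J := K) hφ (fun i => by rw [hσ, hσ])
    (fun i _ => trivial) (fun i hi => by rw [hσ]; exact hi) (Set.subset_univ K)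
  have hw0 : w0 cs = wJ cs (Set.univ : Set I) := rfl
  have hww : w0 cs * w0 cs = 1 := F.w0_mul_self
  have hb : b = wJ cs K * w0 cs := by
    rw [hw0, ← hA.long', ← mul_assoc, F.wJ_mul_self, one_mul]
  have hb' : b⁻¹ = w0 cs * wJ cs K := by
    rw [hb, mul_inv_rev, F.w0_inv, F.wJ_inv]
  -- conjugation by `w_K`
  have hop : ∀ j ∈ K, ∃ k ∈ K, wJ cs K * cs.simple j * wJ cs K = cs.simple k := by
    intro j hj
    obtain ⟨k, hk, h1⟩ := F.exists_opJ hj
    refine ⟨k, hk, ?_⟩
    rw [mul_assoc, ← h1, ← mul_assoc, F.wJ_mul_self, one_mul]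
  have hJ' : J' = K := by
    apply Set.Subset.antisymm
    · intro j hj
      obtain ⟨k, hk, h1⟩ := hA.par.fwd j hj
      obtain ⟨k', hk', h2⟩ := hop k hk
      obtain ⟨k'', hk'', h3⟩ := hK k' hk'
      have h4 : cs.simple j = cs.simple k'' := by
        calc cs.simple j = b⁻¹ * (b * cs.simple j) := by group
          _ = b⁻¹ * (cs.simple k * b) := by rw [h1]
          _ = w0 cs * (wJ cs K * cs.simple k * wJ cs K) * w0 cs := by rw [hb', hb]; simp only [mul_assoc]
          _ = cs.simple k'' := by rw [h2, h3]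
      rw [F.inj h4]
      exact hk''
    · intro k hk
      obtain ⟨k1, hk1, h1⟩ := hK k hk
      obtain ⟨k2, hk2, h2⟩ := hop k1 hk1
      obtain ⟨j, hj, h3⟩ := hA.par.bwd k2 hk2
      have h4 : cs.simple j = cs.simple k := by
        have h5 : wJ cs K * cs.simple k2 * wJ cs K = cs.simple k1 := by
          rw [← h2]
          calc wJ cs K * (wJ cs K * cs.simple k1 * wJ cs K) * wJ cs K =
              (wJ cs K * wJ cs K) * cs.simple k1 * (wJ cs K * wJ cs K) := by simp only [mul_assoc]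
            _ = cs.simple k1 := by rw [F.wJ_mul_self, one_mul, mul_one]
        calc cs.simple j = b⁻¹ * (b * cs.simple j) := by group
          _ = b⁻¹ * (cs.simple k2 * b) := by rw [h3]
          _ = w0 cs * (wJ cs K * cs.simple k2 * wJ cs K) * w0 cs := by rw [hb', hb]; simp only [mul_assoc]
          _ = w0 cs * (w0 cs * cs.simple k * w0 cs) * w0 cs := by rw [h5, ← h1]
          _ = (w0 cs * w0 cs) * cs.simple k * (w0 cs * w0 cs) := by simp only [mul_assoc]
          _ = cs.simple k := by rw [hww, one_mul, mul_one]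
      rw [← F.inj h4]
      exact hj
  rw [hJ'] at hA
  exact ⟨b, hA⟩

variable {t}

/-- A chamber opposite its image. -/
theorem opp_OppV {K : Set I} {b : W} (hA : Ad cs t.φ t.σ Set.univ K K b) {y : C} (hy : Δ.δ y (t.θ y) = w0 cs)
    [Finite I] : OppV t b K y := by
  -- the chamber of `Res K (θ y)` at distance `b`
  obtain ⟨z, hz, hz'⟩ : ∃ z ∈ Δ.Res K (t.θ y), Δ.δ y z = b := by
    obtain ⟨z, hz, h1⟩ := Δ.exists_δ_mul_mem_Res (J := K) (x := t.θ y) (y := t.θ y) y (Δ.self_mem_Res K _)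
      (F.wJ_mem K)
    refine ⟨z, hz, ?_⟩
    rw [h1, hy]
    change wJ cs (Set.univ : Set I) * wJ cs K = b
    rw [← hA.long, mul_assoc, F.wJ_mul_self, mul_one]
  refine ⟨y, Δ.self_mem_Res K y, t.θ.symm z, ?_, ?_⟩
  · rw [← FixOdd.Tw.θ_mem_Res_iff (t := t) hA.st', Equiv.apply_symm_apply]
    exact hz
  · rw [Equiv.apply_symm_apply, hz']

/-! ### Elements acting on a residue -/

/-- permutations of `V` induced by elements of `G` -/
def ActG (G : Type*) [Group G] [MulAction G C] (V : Set C) : Subgroup (Equiv.Perm V) where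
  carrier := {m | ∃ l : G, ∀ c : V, (m c : C) = l • (c : C)}
  one_mem' := ⟨1, fun c => by rw [one_smul]; rfl⟩
  mul_mem' := fun {a b} ha hb => by
    obtain ⟨u, ha⟩ := ha
    obtain ⟨v, hb⟩ := hb
    refine ⟨u * v, fun z => ?_⟩
    rw [Equiv.Perm.mul_apply, ha, hb, mul_smul]
  inv_mem' := fun {a} ha => by
    obtain ⟨u, ha⟩ := ha
    refine ⟨u⁻¹, fun z => ?_⟩
    have h1 : a (a⁻¹ z) = z := a.apply_symm_apply z
    rw [eq_inv_smul_iff, ← ha, h1]

theorem stab_of_act {V : Set C} {m : Equiv.Perm V} {l : G} (h : ∀ c : V, (m c : C) = l • (c : C)) (c : C) :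
    l • c ∈ V ↔ c ∈ V := by
  constructor
  · intro hc
    obtain ⟨d, hd⟩ := m.surjective ⟨l • c, hc⟩
    have h1 := h d
    rw [hd] at h1
    have h2 : c = d := smul_left_cancel l h1
    rw [h2]
    exact d.2
  · intro hc
    rw [← h ⟨c, hc⟩]
    exact (m ⟨c, hc⟩).2

theorem act_eq {V : Set C} {m : Equiv.Perm V} {l : G} (h : ∀ c : V, (m c : C) = l • (c : C)) :
    act l (stab_of_act h) = m := by
  ext c
  rw [act_apply, h]

/-- `θ * g * θ⁻¹ = τ g` on the chambers -/
theorem conj_toPerm (t : Tw Δ G) (g : G) :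
    t.θ * (MulAction.toPerm g : Equiv.Perm C) * t.θ⁻¹ = MulAction.toPerm (t.τ g) := by
  ext c
  change t.θ (g • t.θ⁻¹ c) = t.τ g • c
  rw [t.θ_smul]
  congr 1
  exact t.θ.apply_symm_apply c

include S in
/-- **The permutation `f` normalises the permutations induced by `G`.** -/
theorem conj_act (hth : Δ.Thick) {K : Set I} {b : W} {y : C} (hA : Ad cs t.φ t.σ Set.univ K K b) (hy : OppV t b K y)
    [Finite C] {m : Equiv.Perm (Δ.Res K y)} (hm : m ∈ ActG G (Δ.Res K y)) :
    f hA hy * m * (f hA hy)⁻¹ ∈ ActG G (Δ.Res K y) := by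
  obtain ⟨l, hl⟩ := hm
  obtain ⟨g, hg⟩ := exists_comm S hth hA hy l (stab_of_act hl)
  rw [act_eq hl] at hg
  have h1 : f hA hy * m * (f hA hy)⁻¹ = (f hA hy * m * (f hA hy)⁻¹ * m⁻¹) * m := by group
  rw [h1]
  refine mul_mem ?_ ⟨l, hl⟩
  refine ⟨t.τ g * g⁻¹, fun c => ?_⟩
  rw [← hg c, conj_toPerm, mul_smul]
  rfl

include S in
/-- **Products.** -/
theorem mul_act (hth : Δ.Thick) {K : Set I} {b : W} {y : C} (hA : Ad cs t.φ t.σ Set.univ K K b) (hy : OppV t b K y)
    [Finite C] {m : Equiv.Perm (Δ.Res K y)} (hm : m ∈ ActG G (Δ.Res K y)) {r : ℕ} [hr : Fact r.Prime]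
    (hP : ∀ g : G, PE r (t.θ * MulAction.toPerm g * t.θ * (MulAction.toPerm g)⁻¹ : Equiv.Perm C)) :
    PE r (f hA hy * (m * f hA hy * m⁻¹)) := by
  obtain ⟨l, hl⟩ := hm
  obtain ⟨g, hg⟩ := exists_mul S hth hA hy l (stab_of_act hl)
  rw [act_eq hl] at hg
  obtain ⟨k, hk⟩ := PE.pow_eq_one_iff.1 (hP g)
  refine PE.pow_eq_one_iff.2 ⟨k, ?_⟩
  have e : f hA hy * (m * f hA hy * m⁻¹) = f hA hy * m * f hA hy * m⁻¹ := by group
  rw [e]
  exact mul_power _ _ hg hk

/-- conjugates of the root groups -/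
theorem fam_le_ActG {i : I} {y : C} (z : Δ.Pan i y) : S.fam i y z ≤ ActG G (Δ.Pan i y) := by
  rintro m ⟨u, -, hu⟩
  exact ⟨u, hu⟩

/-- **The permutation of a panel.** -/
theorem exists_pan [Finite G] [Finite C] [hp : Fact p.Prime] (hth : Δ.Thick) {i : I} {b : W} {y : C}
    (hA : Ad cs t.φ t.σ Set.univ {i} {i} b) (hy : OppV t b {i} y) {r : ℕ} [hr : Fact r.Prime]
    (hP : ∀ g : G, PE r (t.θ * MulAction.toPerm g * t.θ * (MulAction.toPerm g)⁻¹ : Equiv.Perm C)) :
    ∃ f ∈ famStab (S.fam i y), (∀ c : Δ.Pan i y, f c = c ↔ Δ.δ (c : C) (t.θ c) = b) ∧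
      (∀ m ∈ ⨆ z, S.fam i y z, PE r (f * (m * f * m⁻¹))) ∧
      ∀ c : Δ.Pan i y, Δ.δ (f c : C) (t.θ c) = b := by
  have hPR : Δ.Pan i y = Δ.Res {i} y := Δ.Pan_eq_Res i y
  -- everything for the set `V = Pan i y`
  obtain ⟨f', hf1, hf2, hf3, hf4⟩ : ∃ f' : Equiv.Perm (Δ.Pan i y),
      (∀ c : Δ.Pan i y, f' c = c ↔ Δ.δ (c : C) (t.θ c) = b) ∧
      (∀ m ∈ ActG G (Δ.Pan i y), f' * m * f'⁻¹ ∈ ActG G (Δ.Pan i y)) ∧
      (∀ m ∈ ActG G (Δ.Pan i y), PE r (f' * (m * f' * m⁻¹))) ∧
      ∀ c : Δ.Pan i y, Δ.δ (f' c : C) (t.θ c) = b := by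
    rw [hPR]
    exact ⟨f hA hy, fun c => f_eq_self_iff hA hy c, fun m hm => conj_act S hth hA hy hm,
      fun m hm => mul_act S hth hA hy hm hP, fun c => f_spec hA hy c⟩
  refine ⟨f', mem_famStab_of_forward ?_, hf1, fun m hm => hf3 m ?_, hf4⟩
  · intro z g hg
    obtain ⟨k, hk⟩ := hf2 g (fam_le_ActG S z hg)
    obtain ⟨u, hu, hgu⟩ := hg
    obtain ⟨n, hn⟩ := (S.isP z) ⟨u, hu⟩
    have hn' : u ^ p ^ n = 1 := by simpa using congrArg Subtype.val hn
    have hgn : g ^ p ^ n = 1 := by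
      ext c
      rw [pow_smul_eq hgu, hn', one_smul]
      rfl
    have hwn : (f' * g * f'⁻¹) ^ p ^ n = 1 := by
      rw [conj_pow, hgn, mul_one, mul_inv_cancel]
    have hgz : g z = z := Subtype.ext (by rw [hgu, S.fix z u hu])
    have hwz : (f' * g * f'⁻¹) (f' z) = f' z := by
      rw [Equiv.Perm.mul_apply, Equiv.Perm.mul_apply]
      have : f'⁻¹ (f' z) = z := f'.symm_apply_apply z
      rw [this, hgz]
    obtain ⟨v, hv, h⟩ := exists_U_of_pElem S hk hwz hwn
    exact ⟨v, hv, h⟩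
  · exact (iSup_le fun z => fam_le_ActG S z) hm

end Cfsg.Agent.H460.EllPan
end

-- part: H460/EllC
section
/-!
# Elliptic automorphisms, central opposition (helper460, AA-engine)

`t.θ` type preserving, in no proper residue. `Full cs w`: `w` lies in no proper standard parabolic subgroup.
* `exists_delta'` : every full `w` is a displacement;
* `three_false` : `θ ^ 3 = 1` is impossible if some full `w` has `ℓ (w * w) = 2 * ℓ w`;
* `central_false` : the conclusion for `w0` central.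
-/

set_option autoImplicit false
set_option linter.unusedSectionVars false

open scoped Pointwise

namespace Cfsg.Agent.H460.EllC

open Cfsg.Agent.Tits.Core Cfsg.Agent.Tits.Core.Bldg Cfsg.Agent.Tits.Exchange Cfsg.Agent.Tits
open Cfsg.Agent.FixBN (Sys famStab mem_famStab)
open Cfsg.Agent.FixBN.Cox (Par Ad)
open Cfsg.Agent.FixOdd (Tw)
open Cfsg.Agent.H460.OppPanel Cfsg.Agent.H460.AA Cfsg.Agent.H460.EllPan Cfsg.Agent.H460.Pan

variable {I : Type*} {M : CoxeterMatrix I} {W : Type*} [Group W] {cs : CoxeterSystem M W} {C : Type*}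

variable {Δ : Bldg cs C} {G : Type*} [Group G] [MulAction G C] {p : ℕ} (S : Sys Δ G p) {t : Tw Δ G}

/-- `w` lies in no proper standard parabolic subgroup -/
def Full (cs : CoxeterSystem M W) (w : W) : Prop := ∀ K : Set I, w ∈ WJ cs K → K = Set.univ

/-- `θ` maps no chamber into a proper residue of it -/
def Elliptic (t : Tw Δ G) : Prop := ∀ (y : C) (J : Set I), t.θ y ∈ Δ.Res J y → J = Set.univ

variable [F : OppRes.Cox cs]

theorem full_w0 : Full cs (w0 cs) := by
  intro K hK
  refine Set.eq_univ_of_forall fun i => F.descent_mem K _ hK i ?_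
  have h1 := F.len_mul_w0 (cs.simple i)
  have h2 := F.len_w0_mul (cs.simple i)
  rw [cs.length_simple] at h2
  omega

theorem φ_eq (hσ : ∀ i, t.σ i = i) (w : W) : t.φ w = w := by
  have h : (t.φ : W →* W) = MonoidHom.id W := by
    refine cs.ext_simple fun i => ?_
    change t.φ (cs.simple i) = cs.simple i
    rw [t.φ_simple, hσ]
  exact DFunLike.congr_fun h w

section

variable [Finite I] [Finite C] [hp : Fact p.Prime] (hth : Δ.Thick) (hσ : ∀ i, t.σ i = i) (hell : Elliptic t)

include S hth hσ hell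

/-- every full element is a displacement -/
theorem exists_delta' [hC : Nonempty C] {w : W} (hw : Full cs w) : ∃ y, Δ.δ y (t.θ y) = w := by
  obtain ⟨x⟩ := hC
  have hmem : ∀ y : C, y ∈ Δ.Res Set.univ x := fun y => by rw [Δ.Res_univ]; trivial
  obtain ⟨y, -, hy⟩ := OppTrace.exists_delta (Δ := Δ) (J := Set.univ) (x := x) (p := p) (φ := t.φ) (σ := t.σ)
    (θ := t.θ) t.φ_simple (fun i _ => trivial) t.δ_θ (fun y _ => hmem _) (fun y _ => hmem _)
    (fun y _ K _ _ h => hell y K h) (fun i _ a _ => S.card_Pan_eq hth a i) one_pos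
    (by rw [pow_one]; exact Equiv.ext hσ) (w := w) (by rw [WJ_univ]; trivial)
    (fun K _ _ h => hw K h)
  exact ⟨y, hy⟩

/-- **Order three.** -/
theorem three_false [Nonempty C] (h3 : t.θ ^ 3 = 1) {w : W} (hw : Full cs w) (hl : cs.length (w * w) = 2 * cs.length w)
    (hpos : 0 < cs.length w) : False := by
  obtain ⟨y, hy⟩ := exists_delta' S hth hσ hell hw
  have h1 : Δ.δ (t.θ y) (t.θ (t.θ y)) = w := by rw [t.δ_θ, hy, φ_eq hσ]
  have h2 : Δ.δ y (t.θ (t.θ y)) = w * w := Δ.δ_mul_of hy h1 (by rw [hl]; ring)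
  have h4 : t.θ (t.θ (t.θ y)) = y := by
    have := DFunLike.congr_fun h3 y
    simpa [pow_succ] using this
  have h5 : Δ.δ (t.θ (t.θ y)) y = w := by
    have h6 : Δ.δ (t.θ (t.θ y)) (t.θ (t.θ (t.θ y))) = w := by rw [t.δ_θ, h1, φ_eq hσ]
    rwa [h4] at h6
  have h6 : w * w = w⁻¹ := by rw [← h2, Δ.symm (t.θ (t.θ y)) y, h5]
  have h7 := congrArg cs.length h6
  rw [hl, cs.length_inv] at h7
  omega

/-- The permutation of a panel of a chamber opposite its image. -/
theorem exists_pan' [Finite G] (hw0 : ∀ i, w0 cs * cs.simple i * w0 cs = cs.simple i) {r : ℕ} [hr : Fact r.Prime]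
    (hP : ∀ g : G, PE r (t.θ * MulAction.toPerm g * t.θ * (MulAction.toPerm g)⁻¹ : Equiv.Perm C)) {y : C}
    (hy : Δ.δ y (t.θ y) = w0 cs) (i : I) :
    ∃ f ∈ famStab (S.fam i y), f ⟨y, Δ.self_mem_Pan i y⟩ ≠ ⟨y, Δ.self_mem_Pan i y⟩ ∧
      (∀ m ∈ ⨆ z, S.fam i y z, PE r (f * (m * f * m⁻¹))) ∧
      ∀ c : Δ.Pan i y, f c ≠ c → Δ.δ (c : C) (t.θ c) = w0 cs := by
  obtain ⟨b, hA⟩ := exists_ad_self (cs := cs) (φ := t.φ) (σ := t.σ) t.φ_simple hσ (K := {i})
    (fun j hj => ⟨j, hj, hw0 j⟩)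
  have hV := opp_OppV hA hy
  obtain ⟨f, h1, h2, h3, h4⟩ := exists_pan S hth hA hV hP
  have hwi : wJ cs ({i} : Set I) = cs.simple i := by
    have h5 := F.wJ_mem ({i} : Set I)
    have h6 : wJ cs ({i} : Set I) ≠ 1 := by
      intro h7
      have := F.len_wJ_mul (simple_mem_WJ cs (Set.mem_singleton i))
      rw [h7, one_mul, cs.length_simple, cs.length_one] at this
      omega
    have h7 := F.len_wJ_mul (simple_mem_WJ cs (Set.mem_singleton i))
    -- elements of `W_i`
    have h8 : ∀ w ∈ WJ cs ({i} : Set I), w = 1 ∨ w = cs.simple i := by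
      intro w hw
      unfold WJ at hw
      rw [Set.image_singleton] at hw
      obtain ⟨n, rfl⟩ := Subgroup.mem_closure_singleton.1 hw
      have hs : cs.simple i ^ (2 : ℤ) = 1 := by
        have := cs.simple_sq i
        exact_mod_cast this
      rcases Int.even_or_odd' n with ⟨k, rfl | rfl⟩
      · left; rw [zpow_mul, hs, one_zpow]
      · right; rw [zpow_add, zpow_mul, hs, one_zpow, one_mul, zpow_one]
    exact (h8 _ h5).resolve_left h6
  have hlong : cs.simple i * b = w0 cs := by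
    have := hA.long'
    rwa [hwi] at this
  have hne : b ≠ w0 cs := by
    intro h5
    rw [h5] at hlong
    have h6 : cs.simple i = 1 := mul_eq_right.1 hlong
    have := cs.length_simple i
    rw [h6, cs.length_one] at this
    omega
  refine ⟨f, h1, ?_, h3, ?_⟩
  · intro h5
    have h6 := (h2 _).1 h5
    change Δ.δ y (t.θ y) = b at h6
    rw [hy] at h6
    exact hne h6.symm
  · intro c hc
    have h5 := h4 c
    -- `δ c (f c) = s_i`
    have h6 : Δ.δ (c : C) (f c : C) = cs.simple i :=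
      Δ.δ_eq_of_mem_Pan c.2 (f c).2 fun h => hc (Subtype.ext h.symm)
    have h7 : cs.length (cs.simple i * b) = cs.length (cs.simple i) + cs.length b := by
      have h8 := hA.par.minL (cs.simple i) (simple_mem_WJ cs (Set.mem_singleton i))
      rw [h8]
    rw [Δ.δ_mul_of h6 h5 h7, hlong]

/-- **Central opposition.** -/
theorem central_false [Finite G] [hC : Nonempty C] (hw0 : ∀ i, w0 cs * cs.simple i * w0 cs = cs.simple i) {r : ℕ}
    [hr : Fact r.Prime]
    (hP : ∀ g : G, PE r (t.θ * MulAction.toPerm g * t.θ * (MulAction.toPerm g)⁻¹ : Equiv.Perm C))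
    (hN : ∀ i y, ¬ r ∣ Nat.card (Δ.Pan i y) → PN r (S.fam i y))
    (hF : (∃ i, ∀ y, ¬ r ∣ Nat.card (Δ.Pan i y)) ∨ ∀ i y, PF r (S.fam i y))
    {w : W} (hw : Full cs w) (hne : w ≠ w0 cs) : False := by
  rcases hF with ⟨i, hi⟩ | hF
  · obtain ⟨y, hy⟩ := exists_delta' S hth hσ hell (full_w0 (cs := cs))
    obtain ⟨f, h1, h2, h3, h4⟩ := exists_pan' S hth hσ hell hw0 hP hy i
    apply h2
    rw [hN i y (hi y) f h1 h3]
    rfl
  · -- all chambers are opposite their images
    have hadj : ∀ y, Δ.δ y (t.θ y) = w0 cs → ∀ i z, Δ.δ y z = cs.simple i → Δ.δ z (t.θ z) = w0 cs := by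
      intro y hy i z hz
      obtain ⟨f, h1, h2, h3, h4⟩ := exists_pan' S hth hσ hell hw0 hP hy i
      refine h4 ⟨z, Or.inr hz⟩ fun h5 => h2 ?_
      rw [hF i y f h1 ⟨_, h5⟩ h3]
      rfl
    obtain ⟨y, hy⟩ := exists_delta' S hth hσ hell (full_w0 (cs := cs))
    have hall : ∀ z, Δ.δ z (t.θ z) = w0 cs := by
      intro z
      refine Δ.Res_induction (J := Set.univ) (x := y) (p := fun z => Δ.δ z (t.θ z) = w0 cs) hy ?_
        (by rw [Δ.Res_univ]; trivial)
      intro a _ b i _ hab ha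
      exact hadj a ha i b hab
    obtain ⟨z, hz⟩ := exists_delta' S hth hσ hell hw
    rw [hall z] at hz
    exact hne hz.symm

end

end Cfsg.Agent.H460.EllC
end

private theorem dce_2187b7bc8b8d : _root_.True := by
  try have : _root_.True := by simp only [_root_.Cfsg.Agent.H460.OppPanel.f.congr_simp]
  exact _root_.True.intro
end

-- part: H460/EngFix
section
prune_inst 0x242000000000000000180000000000440000000000680000890004000000034220000900340000120020a2400008000000000040000000000000040000000000008a02043000a000200006001000000000000000000000000000000000000000000000000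
set_option linter.all false
open scoped Cfsg.Agent.FastGrp

-- part: H460/Coset
section
/-!
# The coset lemma (helper460, AA-engine)

* `coset_false` : in a Moufang set (`Reg fam`) there is no coset `g0 M`, `M = ⨆ fam`, consisting of `r`-elements.
-/

set_option autoImplicit false
set_option linter.unusedSectionVars false

open scoped Pointwise

namespace Cfsg.Agent.H460.Coset

open Cfsg.Agent.H460.AA Cfsg.Agent.FixBN

/-- A Moufang set. -/
structure Reg {X : Type*} (fam : X → Subgroup (Equiv.Perm X)) : Prop where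
  fix : ∀ y, ∀ u ∈ fam y, u y = y
  trans : ∀ y a b, a ≠ y → b ≠ y → ∃ u ∈ fam y, u a = b
  free : ∀ y a, a ≠ y → ∀ u ∈ fam y, u a = a → u = 1
  conj : ∀ y z, ∀ u ∈ fam y, ∀ g ∈ fam z, u * g * u⁻¹ ∈ fam (u z)

section Abstract

variable {X : Type*} [Finite X] {fam : X → Subgroup (Equiv.Perm X)} (hR : Reg fam)

theorem exists_ne (h3 : 3 ≤ Nat.card X) (y : X) : ∃ a, a ≠ y := by
  by_contra h
  push Not at h
  have h1 : Nat.card X = 1 := by
    rw [Nat.card_eq_one_iff_unique]
    exact ⟨⟨fun a b => by rw [h a, h b]⟩, ⟨y⟩⟩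
  omega

theorem exists_ne_ne (h3 : 3 ≤ Nat.card X) (y z : X) : ∃ a, a ≠ y ∧ a ≠ z := by
  classical
  have : Fintype X := Fintype.ofFinite X
  rw [Nat.card_eq_fintype_card] at h3
  by_contra h
  push Not at h
  have h1 : (Finset.univ : Finset X) ⊆ {y, z} := by
    intro a _
    by_cases hay : a = y
    · simp [hay]
    · simp [h a hay]
  have h2 := Finset.card_le_card h1
  have h4 : ({y, z} : Finset X).card ≤ 2 := Finset.card_le_two
  rw [Finset.card_univ] at h2
  omega

include hR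

theorem sup_le_famStab : (⨆ y, fam y) ≤ famStab fam := by
  refine iSup_le fun y u hu => ?_
  exact EllPan.mem_famStab_of_forward fun z g hg => hR.conj y z u hu g hg

theorem card_fam (h3 : 3 ≤ Nat.card X) (y : X) : Nat.card (fam y) = Nat.card X - 1 := by
  classical
  have : Fintype X := Fintype.ofFinite X
  obtain ⟨a, ha⟩ := exists_ne h3 y
  have e : fam y ≃ {b : X // b ≠ y} := by
    refine Equiv.ofBijective (fun u => ⟨(u : Equiv.Perm X) a, fun h => ?_⟩) ⟨?_, ?_⟩
    · have h1 := hR.fix y u u.2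
      exact ha ((u : Equiv.Perm X).injective (h.trans h1.symm))
    · intro u v huv
      have h1 : (u : Equiv.Perm X) a = (v : Equiv.Perm X) a := congrArg Subtype.val huv
      have h2 : ((u : Equiv.Perm X)⁻¹ * v) a = a := by
        rw [Equiv.Perm.mul_apply, ← h1]
        exact (u : Equiv.Perm X).symm_apply_apply a
      have h3 := hR.free y a ha _ (mul_mem (inv_mem u.2) v.2) h2
      exact Subtype.ext (inv_mul_eq_one.1 h3)
    · rintro ⟨b, hb⟩
      obtain ⟨u, hu, h1⟩ := hR.trans y a b ha hb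
      exact ⟨⟨u, hu⟩, Subtype.ext h1⟩
  rw [Nat.card_congr e, Nat.card_eq_fintype_card, Nat.card_eq_fintype_card]
  exact Set.card_ne_eq y

/-- `M` is transitive. -/
theorem exists_M (h3 : 3 ≤ Nat.card X) (a b : X) : ∃ m ∈ ⨆ y, fam y, m a = b := by
  obtain ⟨y, hya, hyb⟩ := exists_ne_ne h3 a b
  obtain ⟨u, hu, h⟩ := hR.trans y a b hya.symm hyb.symm
  exact ⟨u, (le_iSup fam y) hu, h⟩

/-- **The coset lemma.** -/
theorem coset_false (h3 : 3 ≤ Nat.card X) {r : ℕ} [hrp : Fact r.Prime] (hr2 : r ≠ 2)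
    (hr : ¬ r ∣ Nat.card X - 1) {g0 : Equiv.Perm X} (hg0 : ∀ y, ∀ g ∈ fam y, g0 * g * g0⁻¹ ∈ fam (g0 y))
    (hP : ∀ m ∈ ⨆ y, fam y, PE r (g0 * m)) : False := by
  classical
  have : Fintype X := Fintype.ofFinite X
  have hXn : Nonempty X := by
    by_contra h
    rw [not_nonempty_iff] at h
    rw [Nat.card_of_isEmpty] at h3
    omega
  obtain ⟨x0⟩ := hXn
  -- fixed points of `r`-elements
  have hfp : ∀ z : Equiv.Perm X, PE r z → Fintype.card X ≡ Fintype.card (Function.fixedPoints z) [MOD r] := by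
    intro z hz
    obtain ⟨k, hk⟩ := PE.pow_eq_one_iff.1 hz
    have h1 := map_pow (MulAction.toEndHom (M := Equiv.Perm X) (α := X)) z (r ^ k)
    rw [hk, map_one] at h1
    exact Equiv.Perm.card_fixedPoints_modEq (f := MulAction.toEndHom (M := Equiv.Perm X) (α := X) z) h1.symm
  by_cases hrX : r ∣ Nat.card X
  · -- some element of the coset fixes `x0`
    obtain ⟨m, hm, hmx⟩ := exists_M hR h3 x0 (g0⁻¹ x0)
    set z := g0 * m with hz
    have hzx : z x0 = x0 := by
      rw [hz, Equiv.Perm.mul_apply, hmx]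
      exact g0.apply_symm_apply x0
    have hzP : PE r z := hP m hm
    have hzn : ∀ k ∈ fam x0, z * k * z⁻¹ ∈ fam x0 := by
      intro k hk
      have h1 := (sup_le_famStab hR hm x0 k).1 hk
      have h2 := hg0 _ _ h1
      have h4 : g0 (m x0) = x0 := hzx
      rw [h4] at h2
      have e : z * k * z⁻¹ = g0 * (m * k * m⁻¹) * g0⁻¹ := by rw [hz]; group
      rwa [e]
    -- three fixed points
    have h5 : r ≤ Fintype.card (Function.fixedPoints z) := by
      have h1 := hfp z hzP
      have h2 : Fintype.card (Function.fixedPoints z) ≡ 0 [MOD r] :=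
        h1.symm.trans ((Nat.modEq_zero_iff_dvd).2 (by rwa [← Nat.card_eq_fintype_card]))
      have h4 := (Nat.modEq_zero_iff_dvd).1 h2
      refine Nat.le_of_dvd ?_ h4
      exact Fintype.card_pos_iff.2 ⟨⟨x0, hzx⟩⟩
    have h6 : 3 ≤ r := by
      have := hrp.out.two_le
      omega
    obtain ⟨a, ha, b, hb, hax, hbx, hab⟩ : ∃ a, z a = a ∧ ∃ b, z b = b ∧ a ≠ x0 ∧ b ≠ x0 ∧ a ≠ b := by
      obtain ⟨⟨a, ha⟩, h7, -⟩ := exists_ne_ne (X := Function.fixedPoints z)
        (by rw [Nat.card_eq_fintype_card]; omega) ⟨x0, hzx⟩ ⟨x0, hzx⟩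
      obtain ⟨⟨b, hb⟩, h8, h9⟩ := exists_ne_ne (X := Function.fixedPoints z)
        (by rw [Nat.card_eq_fintype_card]; omega) ⟨x0, hzx⟩ ⟨a, ha⟩
      refine ⟨a, ha, b, hb, ?_, ?_, ?_⟩
      · exact fun h => h7 (Subtype.ext h)
      · exact fun h => h8 (Subtype.ext h)
      · exact fun h => h9 (Subtype.ext h.symm)
    -- the element `w` of the root group maps `a` to `b` and commutes with `z`
    obtain ⟨w, hw, hwab⟩ := hR.trans x0 a b hax hbx
    have hzw : z * w * z⁻¹ = w := by
      have h7 : (z * w * z⁻¹) a = b := by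
        rw [Equiv.Perm.mul_apply, Equiv.Perm.mul_apply]
        have : z⁻¹ a = a := by rw [Equiv.Perm.inv_eq_iff_eq, ha]
        rw [this, hwab, hb]
      have h8 : (w⁻¹ * (z * w * z⁻¹)) a = a := by
        rw [Equiv.Perm.mul_apply, h7, Equiv.Perm.inv_eq_iff_eq, hwab]
      have h9 := hR.free x0 a hax _ (mul_mem (inv_mem hw) (hzn w hw)) h8
      exact (inv_mul_eq_one.1 h9).symm
    -- surjectivity of `k ↦ z⁻¹ k z k⁻¹`
    have hcard : ¬ r ∣ Nat.card (fam x0) := by rw [card_fam hR h3]; exact hr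
    have hzn' : ∀ k ∈ fam x0, z⁻¹ * k * z ∈ fam x0 := by
      intro k hk
      have h1 : z ∈ Subgroup.normalizer (fam x0 : Set (Equiv.Perm X)) := by
        rw [Subgroup.mem_normalizer_iff_map_conj_eq]
        refine Subgroup.eq_of_le_of_card_ge ?_ (le_of_eq (Subgroup.card_map_of_injective
          (K := fam x0) (MulAut.conj z).injective).symm)
        rintro _ ⟨d, hd, rfl⟩
        exact hzn d hd
      have := (Subgroup.mem_normalizer_iff.1 (inv_mem h1) k).1 hk
      simpa using this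
    let φ : fam x0 → fam x0 := fun k => ⟨z⁻¹ * ((k : Equiv.Perm X) * z * (k : Equiv.Perm X)⁻¹), by
      have e : z⁻¹ * ((k : Equiv.Perm X) * z * (k : Equiv.Perm X)⁻¹) =
        (z⁻¹ * (k : Equiv.Perm X) * z) * (k : Equiv.Perm X)⁻¹ := by group
      rw [e]
      exact mul_mem (hzn' _ k.2) (inv_mem k.2)⟩
    have hφ : Function.Surjective φ := by
      rintro ⟨u, hu⟩
      have h7 : PE r (z * u) := by
        rw [hz, mul_assoc]
        exact hP _ (mul_mem hm ((le_iSup fam x0) hu))
      obtain ⟨k, hk, h8⟩ := Lem1.exists_conj (K := fam x0) hcard hzn hzP h7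
        (by rw [inv_mul_cancel_left]; exact hu)
      refine ⟨⟨k, hk⟩, Subtype.ext ?_⟩
      change z⁻¹ * (k * z * k⁻¹) = u
      rw [← h8, inv_mul_cancel_left]
    have hinj := Finite.injective_iff_surjective.2 hφ
    have h7 : (⟨w, hw⟩ : fam x0) = 1 := by
      apply hinj
      apply Subtype.ext
      change z⁻¹ * (w * z * w⁻¹) = z⁻¹ * (1 * z * 1⁻¹)
      have h8 : w * z * w⁻¹ = z := by
        have : z * w = w * z := by
          calc z * w = (z * w * z⁻¹) * z := by group
            _ = w * z := by rw [hzw]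
        rw [← this]; group
      rw [h8]; group
    have h8 : w = 1 := congrArg Subtype.val h7
    rw [h8] at hwab
    exact hab hwab
  · -- the average number of fixed points is one
    set L : Subgroup (Equiv.Perm X) := ⨆ y, fam y with hL
    have : Fintype L := Fintype.ofFinite L
    have h1 : ∀ m : L, 2 ≤ Fintype.card (Function.fixedPoints (g0 * (m : Equiv.Perm X))) := by
      intro m
      have h2 := hfp _ (hP m m.2)
      rw [Nat.card_eq_fintype_card] at hrX hr
      by_contra h4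
      have h5 : Fintype.card (Function.fixedPoints (g0 * (m : Equiv.Perm X))) = 0 ∨
        Fintype.card (Function.fixedPoints (g0 * (m : Equiv.Perm X))) = 1 := by omega
      rcases h5 with h5 | h5
      · rw [h5] at h2
        exact hrX ((Nat.modEq_zero_iff_dvd).1 h2)
      · rw [h5] at h2
        have h6 : 1 ≤ Fintype.card X := by
          rw [← Nat.card_eq_fintype_card]; omega
        exact hr ((Nat.modEq_iff_dvd' h6).1 h2.symm)
    -- the stabilisers
    have hMA : MulAction.IsPretransitive L X := ⟨fun a b => by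
      obtain ⟨m, hm, h⟩ := exists_M hR h3 a b
      exact ⟨⟨m, hm⟩, h⟩⟩
    have hst : ∀ x : X, Fintype.card X * Fintype.card {m : L // (m : Equiv.Perm X) x = g0⁻¹ x} = Fintype.card L := by
      intro x
      obtain ⟨m0, hm0, h0⟩ := exists_M hR h3 x (g0⁻¹ x)
      have e : {m : L // (m : Equiv.Perm X) x = g0⁻¹ x} ≃ MulAction.stabilizer L x :=
        { toFun := fun m => ⟨(⟨m0, hm0⟩ : L)⁻¹ * m.1, by
            rw [MulAction.mem_stabilizer_iff]
            change m0⁻¹ ((m.1 : Equiv.Perm X) x) = x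
            rw [m.2, ← h0]
            exact m0.symm_apply_apply x⟩
          invFun := fun m => ⟨(⟨m0, hm0⟩ : L) * m.1, by
            have := m.2
            rw [MulAction.mem_stabilizer_iff] at this
            change m0 ((m.1 : Equiv.Perm X) x) = g0⁻¹ x
            have h : ((m : L) : Equiv.Perm X) x = x := this
            rw [h, h0]⟩
          left_inv := fun m => Subtype.ext (by simp only [_root_.Equiv.Perm.coe_inv, _root_.mul_inv_cancel_left])
          right_inv := fun m => Subtype.ext (by simp) }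
      rw [Fintype.card_congr e]
      have h5 := MulAction.card_orbit_mul_card_stabilizer_eq_card_group L x
      have h6 : Fintype.card (MulAction.orbit L x) = Fintype.card X := by
        rw [← Nat.card_eq_fintype_card, ← Nat.card_eq_fintype_card]
        have h7 : MulAction.orbit L x = Set.univ := MulAction.orbit_eq_univ L x
        rw [h7, Nat.card_univ]
      rw [← h6]
      exact h5
    -- double counting
    have hcount : ∑ m : L, Fintype.card (Function.fixedPoints (g0 * (m : Equiv.Perm X))) =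
        ∑ x : X, Fintype.card {m : L // (m : Equiv.Perm X) x = g0⁻¹ x} := by
      have e1 : ∀ m : L, Fintype.card (Function.fixedPoints (g0 * (m : Equiv.Perm X))) =
          ∑ x : X, if (m : Equiv.Perm X) x = g0⁻¹ x then 1 else 0 := by
        intro m
        rw [Finset.sum_boole, Nat.cast_id, Fintype.card_subtype]
        congr 1
        ext x
        rw [Finset.mem_filter, Finset.mem_filter]
        refine and_congr Iff.rfl ?_
        change g0 ((m : Equiv.Perm X) x) = x ↔ _
        rw [Equiv.Perm.eq_inv_iff_eq]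
      have e2 : ∀ x : X, Fintype.card {m : L // (m : Equiv.Perm X) x = g0⁻¹ x} =
          ∑ m : L, if (m : Equiv.Perm X) x = g0⁻¹ x then 1 else 0 := by
        intro x
        rw [Finset.sum_boole, Nat.cast_id, Fintype.card_subtype]
      simp only [e1, e2]
      exact Finset.sum_comm
    have h5 : 2 * Fintype.card L ≤ ∑ m : L, Fintype.card (Function.fixedPoints (g0 * (m : Equiv.Perm X))) := by
      calc 2 * Fintype.card L = ∑ _m : L, 2 := by rw [Finset.sum_const, Finset.card_univ, smul_eq_mul, mul_comm]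
        _ ≤ _ := Finset.sum_le_sum fun m _ => h1 m
    rw [hcount] at h5
    have h6 : Fintype.card X * ∑ x : X, Fintype.card {m : L // (m : Equiv.Perm X) x = g0⁻¹ x} =
        Fintype.card X * Fintype.card L := by
      rw [Finset.mul_sum, Finset.sum_congr rfl (fun x _ => hst x), Finset.sum_const, Finset.card_univ, smul_eq_mul]
    have hXpos : 0 < Fintype.card X := Fintype.card_pos_iff.2 ⟨x0⟩
    have h7 := Nat.eq_of_mul_eq_mul_left hXpos h6
    have h8 : 0 < Fintype.card L := Fintype.card_pos_iff.2 ⟨1⟩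
    omega

end Abstract

end Cfsg.Agent.H460.Coset
end

-- part: H460/EllS
section
/-!
# Elliptic automorphisms, two commuting nodes interchanged by the opposition (helper460, AA-engine)

* `reg_fam` : the root groups on a panel form a Moufang set;
* `swap_false` : the conclusion.
-/

set_option autoImplicit false
set_option linter.unusedSectionVars false

open scoped Pointwise

namespace Cfsg.Agent.H460.EllS

open Cfsg.Agent.Tits.Core Cfsg.Agent.Tits.Core.Bldg Cfsg.Agent.Tits.Exchange Cfsg.Agent.Tits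
open Cfsg.Agent.FixBN (Sys famStab mem_famStab)
open Cfsg.Agent.FixBN.Cox (Par Ad)
open Cfsg.Agent.FixOdd (Tw)
open Cfsg.Agent.H460.OppPanel Cfsg.Agent.H460.AA Cfsg.Agent.H460.EllPan Cfsg.Agent.H460.Pan
  Cfsg.Agent.H460.EllC Cfsg.Agent.H460.Coset

variable {I : Type*} {M : CoxeterMatrix I} {W : Type*} [Group W] {cs : CoxeterSystem M W} {C : Type*}

variable {Δ : Bldg cs C} {G : Type*} [Group G] [MulAction G C] {p : ℕ} (S : Sys Δ G p) {t : Tw Δ G}

variable [F : OppRes.Cox cs]

include S in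
/-- The root groups on a panel form a Moufang set. -/
theorem reg_fam (i : I) (y : C) : Reg (S.fam i y) where
  fix z u hu := by
    obtain ⟨v, hv, h⟩ := hu
    exact Subtype.ext (by rw [h, S.fix z v hv])
  trans z a b ha hb := by
    have h1 : Δ.δ (z : C) a = cs.simple i := Δ.δ_eq_of_mem_Pan z.2 a.2 fun h => ha (Subtype.ext h.symm)
    have h2 : Δ.δ (z : C) b = cs.simple i := Δ.δ_eq_of_mem_Pan z.2 b.2 fun h => hb (Subtype.ext h.symm)
    obtain ⟨u, hu, hua⟩ := S.exists_move (h1.trans h2.symm)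
    have hst : ∀ c : C, c ∈ Δ.Pan i y → u • c ∈ Δ.Pan i y := by
      intro c hc
      have h3 : Δ.Pan i (z : C) = Δ.Pan i y := Δ.Pan_eq_of_mem z.2
      rw [← h3] at hc ⊢
      rcases hc with rfl | hc
      · exact Or.inl (S.fix _ u hu)
      · refine Or.inr ?_
        have h4 := S.iso u z c
        rw [S.fix _ u hu, hc] at h4
        exact h4
    have hst' : ∀ c : C, u • c ∈ Δ.Pan i y → c ∈ Δ.Pan i y := by
      intro c hc
      have h3 : Δ.Pan i (z : C) = Δ.Pan i y := Δ.Pan_eq_of_mem z.2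
      rw [← h3] at hc ⊢
      rcases hc with hc | hc
      · refine Or.inl (smul_left_cancel u ?_)
        rw [hc, S.fix _ u hu]
      · refine Or.inr ?_
        have h4 := S.iso u z c
        rw [S.fix _ u hu, hc] at h4
        exact h4.symm
    refine ⟨act u fun c => ⟨hst' c, hst c⟩, ⟨u, hu, fun c => rfl⟩, Subtype.ext hua⟩
  free z a ha u hu h := by
    obtain ⟨v, hv, h1⟩ := hu
    have h2 : Δ.δ (z : C) a = cs.simple i := Δ.δ_eq_of_mem_Pan z.2 a.2 fun h => ha (Subtype.ext h.symm)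
    have h3 : v • (a : C) = a := by rw [← h1, h]
    have h4 := S.pan z a i h2 v hv h3
    ext c
    rw [h1]
    refine h4 c ?_
    rw [Δ.Pan_eq_of_mem z.2]
    exact c.2
  conj y' z u hu g hg := by
    obtain ⟨v, hv, h1⟩ := hu
    obtain ⟨w, hw, h2⟩ := hg
    refine ⟨v * w * v⁻¹, ?_, fun c => ?_⟩
    · rw [h1]
      exact S.conj_mem_U hw v
    · have h3 : ((u⁻¹ : Equiv.Perm _) c : C) = v⁻¹ • (c : C) := by
        have h4 : u (u⁻¹ c) = c := u.apply_symm_apply c
        rw [eq_inv_smul_iff, ← h1, h4]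
      rw [Equiv.Perm.mul_apply, Equiv.Perm.mul_apply, h1, h2, h3, ← mul_smul, ← mul_smul, mul_assoc]

/-! ### Two commuting nodes -/

section Pair

variable {i j : I} (hij : i ≠ j) (hc : cs.simple i * cs.simple j = cs.simple j * cs.simple i)

include hij in
theorem len_two : cs.length (cs.simple i * cs.simple j) = cs.length (cs.simple i) + cs.length (cs.simple j) := by
  have h1 := cs.length_mul_simple (cs.simple i) j
  rw [cs.length_simple, cs.length_simple]
  rw [cs.length_simple] at h1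
  rcases h1 with h1 | h1
  · exact h1
  · exfalso
    have h2 : cs.length (cs.simple i * cs.simple j) = 0 := by omega
    have h3 := cs.length_eq_zero_iff.1 h2
    have h4 : cs.simple i = cs.simple j := by
      rw [mul_eq_one_iff_eq_inv, cs.inv_simple] at h3
      exact h3
    exact hij (F.inj h4)

include hc in
theorem mem_WJ_pair {w : W} (hw : w ∈ WJ cs ({i, j} : Set I)) :
    w = 1 ∨ w = cs.simple i ∨ w = cs.simple j ∨ w = cs.simple i * cs.simple j := by
  unfold WJ at hw
  have hi := cs.simple_mul_simple_self i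
  have hj := cs.simple_mul_simple_self j
  have hi' : ∀ w, cs.simple i * (cs.simple i * w) = w := fun w => by rw [← mul_assoc, hi, one_mul]
  have hj' : ∀ w, cs.simple j * (cs.simple j * w) = w := fun w => by rw [← mul_assoc, hj, one_mul]
  refine Subgroup.closure_induction_left (p := fun w _ => w = 1 ∨ w = cs.simple i ∨ w = cs.simple j ∨
    w = cs.simple i * cs.simple j) (Or.inl rfl) ?_ ?_ hw
  · rintro x ⟨k, hk, rfl⟩ w _ h
    rcases hk with rfl | hk
    · rcases h with rfl | rfl | rfl | rfl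
      · rw [mul_one]; exact Or.inr (Or.inl rfl)
      · exact Or.inl hi
      · exact Or.inr (Or.inr (Or.inr rfl))
      · exact Or.inr (Or.inr (Or.inl (hi' _)))
    · rw [Set.mem_singleton_iff] at hk
      subst hk
      rcases h with rfl | rfl | rfl | rfl
      · rw [mul_one]; exact Or.inr (Or.inr (Or.inl rfl))
      · exact Or.inr (Or.inr (Or.inr hc.symm))
      · exact Or.inl hj
      · refine Or.inr (Or.inl ?_)
        rw [hc, hj']
  · rintro x ⟨k, hk, rfl⟩ w _ h
    rw [cs.inv_simple]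
    rcases hk with rfl | hk
    · rcases h with rfl | rfl | rfl | rfl
      · rw [mul_one]; exact Or.inr (Or.inl rfl)
      · exact Or.inl hi
      · exact Or.inr (Or.inr (Or.inr rfl))
      · exact Or.inr (Or.inr (Or.inl (hi' _)))
    · rw [Set.mem_singleton_iff] at hk
      subst hk
      rcases h with rfl | rfl | rfl | rfl
      · rw [mul_one]; exact Or.inr (Or.inr (Or.inl rfl))
      · exact Or.inr (Or.inr (Or.inr hc.symm))
      · exact Or.inl hj
      · refine Or.inr (Or.inl ?_)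
        rw [hc, hj']

include hij hc in
/-- the projection onto the panel of type `i` -/
theorem exists_pr {y c : C} (hcy : c ∈ Δ.Res {i, j} y) : ∃ d ∈ Δ.Pan i y, c ∈ Δ.Pan j d := by
  rcases mem_WJ_pair hc hcy with h | h | h | h
  · have h1 := Δ.eq_of_δ_eq_one h
    exact ⟨y, Δ.self_mem_Pan i y, by rw [← h1]; exact Δ.self_mem_Pan j y⟩
  · exact ⟨c, Or.inr h, Δ.self_mem_Pan j c⟩
  · exact ⟨y, Δ.self_mem_Pan i y, Or.inr h⟩
  · obtain ⟨d, h1, h2⟩ := Δ.exists_between h (len_two hij)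
    exact ⟨d, Or.inr h1, Or.inr h2⟩

include hij in
theorem pr_unique {y c d d' : C} (h1 : d ∈ Δ.Pan i y) (h2 : c ∈ Δ.Pan j d) (h1' : d' ∈ Δ.Pan i y)
    (h2' : c ∈ Δ.Pan j d') : d = d' := by
  have h3 : d' ∈ Δ.Pan j d := Δ.mem_Pan_trans h2 (Δ.mem_Pan_symm h2')
  have h4 : d' ∈ Δ.Pan i d := by rw [Δ.Pan_eq_of_mem h1]; exact h1'
  rcases h3 with h3 | h3
  · exact h3.symm
  · rcases h4 with h4 | h4
    · exact h4.symm
    · exact absurd (F.inj (h4.symm.trans h3)) hij

include S hij hc in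
/-- **Separation of the root groups.** -/
theorem sep {z : C} {u : G} (hu : u ∈ S.U z) :
    ∃ u' ∈ S.U z, (∀ c ∈ Δ.Pan i z, u' • c = u • c) ∧ ∀ c ∈ Δ.Pan j z, u' • c = c := by
  obtain ⟨d, hd⟩ := Δ.exists_δ z (cs.simple i)
  obtain ⟨q, hq⟩ := Δ.exists_δ d (cs.simple j)
  have hzq : Δ.δ z q = cs.simple i * cs.simple j := Δ.δ_mul_of hd hq (len_two hij)
  obtain ⟨e, he, heq⟩ := Δ.exists_between (hzq.trans hc) (len_two hij.symm)
  -- the image of `d`
  have hd' : Δ.δ z (u • d) = cs.simple i := by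
    rw [← S.δ_smul (x := z) (y := d) hu] at hd
    exact hd
  have hed' : Δ.δ e (u • d) = cs.simple j * cs.simple i :=
    Δ.δ_mul_of (by rw [Δ.symm z e, he, cs.inv_simple]) hd' (len_two hij.symm)
  obtain ⟨q', hq1, hq2⟩ := Δ.exists_between (hed'.trans hc.symm) (len_two hij)
  have hq2' : Δ.δ (u • d) q' = cs.simple j := by rw [Δ.symm q' _, hq2, cs.inv_simple]
  have hzq' : Δ.δ z q' = cs.simple i * cs.simple j := Δ.δ_mul_of hd' hq2' (len_two hij)
  obtain ⟨u', hu', huq⟩ := S.exists_move (hzq.trans hzq'.symm)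
  have h1 : u' • d = u • d := by
    have h2 : Δ.δ z (u' • d) = cs.simple i := by rw [S.δ_smul hu', hd]
    have h3 : Δ.δ (u' • d) q' = cs.simple j := by rw [← huq, S.iso, hq]
    exact pr_unique (Δ := Δ) hij (y := z) (c := q') (Or.inr h2) (Or.inr h3) (Or.inr hd') (Or.inr hq2')
  have h2 : u' • e = e := by
    have h3 : Δ.δ z (u' • e) = cs.simple j := by rw [S.δ_smul hu', he]
    have h4 : Δ.δ (u' • e) q' = cs.simple i := by rw [← huq, S.iso, heq]
    exact pr_unique (Δ := Δ) hij.symm (y := z) (c := q') (Or.inr h3) (Or.inr h4) (Or.inr he) (Or.inr hq1)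
  refine ⟨u', hu', fun c hcz => ?_, S.pan z e j he u' hu' h2⟩
  have h3 : u⁻¹ * u' ∈ S.U z := mul_mem (inv_mem hu) hu'
  have h4 : (u⁻¹ * u') • d = d := by rw [mul_smul, h1, inv_smul_smul]
  have h5 := S.pan z d i hd _ h3 h4 c hcz
  rw [mul_smul, inv_smul_eq_iff] at h5
  exact h5

/-! ### The action on the panels of type `j` of a residue -/

/-- Permutations of the residue preserving the panels of type `j`. -/
def TJ (Δ : Bldg cs C) (j : I) (V : Set C) : Subgroup (Equiv.Perm V) where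
  carrier := {z | ∀ c d : V, (z d : C) ∈ Δ.Pan j (z c : C) ↔ (d : C) ∈ Δ.Pan j c}
  one_mem' := fun c d => Iff.rfl
  mul_mem' := fun {a b} ha hb c d => (ha (b c) (b d)).trans (hb c d)
  inv_mem' := fun {a} ha c d => by
    have h := ha (a⁻¹ c) (a⁻¹ d)
    have h1 : ∀ c, a (a⁻¹ c) = c := a.apply_symm_apply
    rw [h1, h1] at h
    exact h.symm

/-- the projection of the residue to the panel of type `i` -/
noncomputable def pr (hij : i ≠ j) (hc : cs.simple i * cs.simple j = cs.simple j * cs.simple i) (y : C)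
    (c : Δ.Res {i, j} y) : Δ.Pan i y :=
  ⟨(exists_pr hij hc c.2).choose, (exists_pr hij hc c.2).choose_spec.1⟩

theorem pr_spec (y : C) (c : Δ.Res {i, j} y) : (c : C) ∈ Δ.Pan j (pr hij hc y c : C) :=
  (exists_pr hij hc c.2).choose_spec.2

theorem pr_eq {y : C} {c : Δ.Res {i, j} y} {d : Δ.Pan i y} (h : (c : C) ∈ Δ.Pan j (d : C)) : pr hij hc y c = d :=
  Subtype.ext (pr_unique hij (pr hij hc y c).2 (pr_spec hij hc y c) d.2 h)

/-- the inclusion of the panel -/
def inc (y : C) (d : Δ.Pan i y) : Δ.Res {i, j} y := ⟨d, Δ.Pan_subset_Res (by simp) y d.2⟩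

theorem pr_inc (y : C) (d : Δ.Pan i y) : pr hij hc y (inc (j := j) y d) = d :=
  pr_eq hij hc (Δ.self_mem_Pan j _)

/-- The action on the panels of type `j`. -/
noncomputable def bar (hij : i ≠ j) (hc : cs.simple i * cs.simple j = cs.simple j * cs.simple i) (y : C) :
    TJ Δ j (Δ.Res {i, j} y) →* Equiv.Perm (Δ.Pan i y) := by
  have key : ∀ z w : TJ Δ j (Δ.Res {i, j} y), ∀ d : Δ.Pan i y,
      pr hij hc y (z.1 (inc y (pr hij hc y (w.1 (inc y d))))) = pr hij hc y ((z.1 * w.1) (inc y d)) := by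
    intro z w d
    apply pr_eq
    have h1 := pr_spec hij hc y ((z.1 * w.1) (inc y d))
    have h2 := pr_spec hij hc y (w.1 (inc y d))
    have h3 := (z.2 (inc y (pr hij hc y (w.1 (inc y d)))) (w.1 (inc y d))).2 h2
    exact Δ.mem_Pan_trans h1 (Δ.mem_Pan_symm h3)
  exact MonoidHom.mk' (fun z =>
    { toFun := fun d => pr hij hc y (z.1 (inc y d))
      invFun := fun d => pr hij hc y ((z⁻¹).1 (inc y d))
      left_inv := fun d => by
        refine (key z⁻¹ z d).trans ?_
        have : ((z⁻¹).1 * z.1) = 1 := by simp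
        rw [this]
        exact pr_inc hij hc y d
      right_inv := fun d => by
        refine (key z z⁻¹ d).trans ?_
        have : (z.1 * (z⁻¹).1) = 1 := by simp
        rw [this]
        exact pr_inc hij hc y d }) (fun z w => by
      ext d
      exact congrArg Subtype.val (key z w d).symm)

theorem bar_apply (y : C) (z : TJ Δ j (Δ.Res {i, j} y)) (d : Δ.Pan i y) :
    bar hij hc y z d = pr hij hc y (z.1 (inc y d)) := rfl

/-- permutations induced by `G` preserve the panels of all types -/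
theorem act_mem_TJ {V : Set C} {m : Equiv.Perm V} (hm : m ∈ ActG G V) (hiso : ∀ (g : G) x y, Δ.δ (g • x) (g • y) = Δ.δ x y)
    (k : I) : m ∈ TJ Δ k V := by
  obtain ⟨l, hl⟩ := hm
  intro c d
  rw [hl, hl, mem_Pan, mem_Pan, hiso]
  exact or_congr (MulAction.injective l).eq_iff Iff.rfl

end Pair

/-! ### The permutation `f` interchanges the types -/

theorem mem_TJ_of_forward [Finite C] {V : Set C} {k : I} {z : Equiv.Perm V}
    (h : ∀ c d : V, (d : C) ∈ Δ.Pan k (c : C) → (z d : C) ∈ Δ.Pan k (z c : C)) : z ∈ TJ Δ k V := by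
  have h1 : ∀ n : ℕ, ∀ c d : V, (d : C) ∈ Δ.Pan k (c : C) → ((z ^ n) d : C) ∈ Δ.Pan k ((z ^ n) c : C) := by
    intro n
    induction n with
    | zero => intro c d hd; simpa only [_root_.pow_zero, _root_.Equiv.Perm.coe_one, _root_.id_eq] using hd
    | succ n ih =>
      intro c d hd
      rw [pow_succ', Equiv.Perm.mul_apply, Equiv.Perm.mul_apply]
      exact h _ _ (ih c d hd)
  intro c d
  refine ⟨fun hd => ?_, h c d⟩
  have ho : 0 < orderOf z := orderOf_pos z
  have h2 := h1 (orderOf z - 1) _ _ hd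
  have h3 : z ^ (orderOf z - 1) = z⁻¹ := by
    rw [eq_inv_iff_mul_eq_one, ← pow_succ, Nat.sub_add_cancel ho, pow_orderOf_eq_one]
  rw [h3] at h2
  have h4 : ∀ c, z⁻¹ (z c) = c := z.symm_apply_apply
  rwa [h4, h4] at h2

section Swap

variable {i j : I} (hij : i ≠ j) (hc : cs.simple i * cs.simple j = cs.simple j * cs.simple i)
  (hwi : w0 cs * cs.simple i * w0 cs = cs.simple j) (hwj : w0 cs * cs.simple j * w0 cs = cs.simple i)

theorem b_eq {b : W} {φ : W ≃* W} {σ : I → I} (hA : Ad cs φ σ Set.univ {i, j} {i, j} b) :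
    b = wJ cs ({i, j} : Set I) * w0 cs := by
  have h1 : w0 cs = wJ cs (Set.univ : Set I) := rfl
  rw [h1, ← hA.long', ← mul_assoc, F.wJ_mul_self, one_mul]

include hc in
theorem wJ_comm : wJ cs ({i, j} : Set I) * cs.simple j = cs.simple j * wJ cs ({i, j} : Set I) ∧
    wJ cs ({i, j} : Set I) * cs.simple i = cs.simple i * wJ cs ({i, j} : Set I) := by
  rcases mem_WJ_pair hc (F.wJ_mem ({i, j} : Set I)) with h | h | h | h <;> rw [h]
  · exact ⟨by rw [one_mul, mul_one], by rw [one_mul, mul_one]⟩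
  · exact ⟨hc, rfl⟩
  · exact ⟨rfl, hc.symm⟩
  · constructor
    · rw [mul_assoc, cs.simple_mul_simple_self, mul_one, hc, ← mul_assoc, cs.simple_mul_simple_self, one_mul]
    · rw [mul_assoc, ← hc, ← mul_assoc]

include hc hwi in
theorem b_mul {b : W} {φ : W ≃* W} {σ : I → I} (hA : Ad cs φ σ Set.univ {i, j} {i, j} b) :
    b * cs.simple i = cs.simple j * b := by
  have h1 : w0 cs * cs.simple i = cs.simple j * w0 cs := by
    calc w0 cs * cs.simple i = (w0 cs * cs.simple i * w0 cs) * w0 cs := by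
          rw [mul_assoc _ (w0 cs), F.w0_mul_self, mul_one]
      _ = _ := by rw [hwi]
  calc b * cs.simple i = wJ cs ({i, j} : Set I) * (w0 cs * cs.simple i) := by rw [b_eq hA, mul_assoc]
    _ = wJ cs ({i, j} : Set I) * cs.simple j * w0 cs := by rw [h1, mul_assoc]
    _ = cs.simple j * b := by rw [(wJ_comm hc).1, mul_assoc, b_eq hA]

include hc hwj in
theorem b_mul' {b : W} {φ : W ≃* W} {σ : I → I} (hA : Ad cs φ σ Set.univ {i, j} {i, j} b) :
    b * cs.simple j = cs.simple i * b := by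
  have h1 : w0 cs * cs.simple j = cs.simple i * w0 cs := by
    calc w0 cs * cs.simple j = (w0 cs * cs.simple j * w0 cs) * w0 cs := by
          rw [mul_assoc _ (w0 cs), F.w0_mul_self, mul_one]
      _ = _ := by rw [hwj]
  calc b * cs.simple j = wJ cs ({i, j} : Set I) * (w0 cs * cs.simple j) := by rw [b_eq hA, mul_assoc]
    _ = wJ cs ({i, j} : Set I) * cs.simple i * w0 cs := by rw [h1, mul_assoc]
    _ = cs.simple i * b := by rw [(wJ_comm hc).2, mul_assoc, b_eq hA]

/-- `f` maps panels of type `k` to panels of type `l` if `b s_k = s_l b` -/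
theorem f_swap (hσ : ∀ i, t.σ i = i) {K : Set I} {b : W} {y : C} (hA : Ad cs t.φ t.σ Set.univ K K b)
    (hy : OppV t b K y) [Finite C] {k l : I} (hk : k ∈ K) (hl : l ∈ K) (hb : b * cs.simple k = cs.simple l * b)
    {c d : Δ.Res K y} (h : (d : C) ∈ Δ.Pan k (c : C)) :
    (f hA hy d : C) ∈ Δ.Pan l (f hA hy c : C) := by
  rcases h with h | h
  · rw [Subtype.ext h]
    exact Δ.self_mem_Pan l _
  have h1 : Δ.δ (f hA hy c : C) (t.θ c) = b := f_spec hA hy c
  have h2 : Δ.δ (t.θ (c : C)) (t.θ d) = cs.simple k := by rw [t.δ_θ, h, φ_eq hσ]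
  have h3 : Δ.δ (f hA hy c : C) (t.θ d) = b * cs.simple k :=
    Δ.δ_mul_of h1 h2 (hA.par.minR (cs.simple k) (simple_mem_WJ cs hk))
  rw [hb] at h3
  have hlen : cs.length (cs.simple l * b) = cs.length (cs.simple l) + cs.length b :=
    hA.par.minL (cs.simple l) (simple_mem_WJ cs hl)
  obtain ⟨e, he1, he2⟩ := Δ.exists_between h3 hlen
  have heV : e ∈ Δ.Res K y :=
    Δ.mem_Res_trans (f hA hy c).2 (Δ.Pan_subset_Res hl _ (Or.inr he1))
  have h4 := f_eq hA hy (c := d) (e := ⟨e, heV⟩) he2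
  rw [h4]
  exact Or.inr he1

/-- permutations of the panel induced by elements preserving all panels of type `i` of the residue -/
def N1 (G : Type*) [Group G] [MulAction G C] (hiso : ∀ (g : G) x y, Δ.δ (g • x) (g • y) = Δ.δ x y) (i j : I) (y : C) :
    Subgroup (Equiv.Perm (Δ.Pan i y)) where
  carrier := {m | ∃ l : G, (∀ c ∈ Δ.Res {i, j} y, l • c ∈ Δ.Pan i c) ∧ ∀ d : Δ.Pan i y, (m d : C) = l • (d : C)}
  one_mem' := ⟨1, fun c _ => by rw [one_smul]; exact Δ.self_mem_Pan i c, fun d => by rw [one_smul]; rfl⟩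
  mul_mem' := fun {a b} ha hb => by
    obtain ⟨u, hu, ha⟩ := ha
    obtain ⟨v, hv, hb⟩ := hb
    refine ⟨u * v, fun c hc => ?_, fun z => ?_⟩
    · rw [mul_smul]
      have h1 := hv c hc
      have h2 := hu (v • c) (Δ.mem_Res_trans hc (Δ.Pan_subset_Res (by simp) _ h1))
      rwa [Δ.Pan_eq_of_mem h1] at h2
    · rw [Equiv.Perm.mul_apply, ha, hb, mul_smul]
  inv_mem' := fun {a} ha => by
    obtain ⟨u, hu, ha⟩ := ha
    refine ⟨u⁻¹, fun c hc => ?_, fun z => ?_⟩
    · rcases hu c hc with h | h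
      · left
        rw [inv_smul_eq_iff, h]
      · right
        have h1 := hiso u (u⁻¹ • c) c
        rw [smul_inv_smul, h] at h1
        rw [Δ.symm (u⁻¹ • c) c, ← h1, cs.inv_simple]
    · have h1 : a (a⁻¹ z) = z := a.apply_symm_apply z
      rw [eq_inv_smul_iff, ← ha, h1]

include S hij hc in
theorem fam_le_N1 {y : C} (z : Δ.Pan i y) : S.fam i y z ≤ N1 G S.iso i j y := by
  rintro m ⟨u, hu, hm⟩
  obtain ⟨u', hu', h1, h2⟩ := sep S hij hc hu
  have hPz : Δ.Pan i (z : C) = Δ.Pan i y := Δ.Pan_eq_of_mem z.2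
  refine ⟨u', fun c hcV => ?_, fun d => by rw [hm, h1 d (by rw [hPz]; exact d.2)]⟩
  have hcz : c ∈ Δ.Res {j, i} (z : C) := by
    rw [Set.pair_comm]
    exact Δ.mem_Res_trans (Δ.mem_Res_symm (Δ.Pan_subset_Res (by simp) y z.2)) hcV
  obtain ⟨c0, hc0, hcc0⟩ := exists_pr hij.symm hc.symm hcz
  have h3 : u' • c ∈ Δ.Pan i (u' • c0) := by
    rcases hcc0 with rfl | h
    · exact Δ.self_mem_Pan i _
    · exact Or.inr (by rw [S.iso, h])
  rw [h2 c0 hc0] at h3
  rwa [Δ.Pan_eq_of_mem hcc0]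

/-- such elements stabilise the residue -/
theorem stab_V (hiso : ∀ (g : G) x y, Δ.δ (g • x) (g • y) = Δ.δ x y) {y : C} {l : G}
    (hl : ∀ c ∈ Δ.Res {i, j} y, l • c ∈ Δ.Pan i c) (c : C) : l • c ∈ Δ.Res {i, j} y ↔ c ∈ Δ.Res {i, j} y := by
  have h0 : ∀ c ∈ Δ.Res {i, j} y, l • c ∈ Δ.Res {i, j} y := fun c hc =>
    Δ.mem_Res_trans hc (Δ.Pan_subset_Res (by simp) _ (hl c hc))
  refine ⟨fun h => ?_, h0 c⟩
  have h1 := h0 y (Δ.self_mem_Res _ y)
  have h2 := Δ.δ_mem_of_mem_Res h1 h
  rw [hiso] at h2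
  exact h2

include S hij hc hwi hwj in
/-- **Two commuting nodes interchanged by the opposition.** -/
theorem swap_false [Finite I] [Finite G] [Finite C] [hC : Nonempty C] [hp : Fact p.Prime] (hth : Δ.Thick)
    (hσ : ∀ i, t.σ i = i) (hell : Elliptic t) {r : ℕ} [hr : Fact r.Prime] (hr2 : r ≠ 2) (hrp : r ≠ p)
    (hP : ∀ g : G, PE r (t.θ * MulAction.toPerm g * t.θ * (MulAction.toPerm g)⁻¹ : Equiv.Perm C)) : False := by
  classical
  obtain ⟨y, hy⟩ := exists_delta' S hth hσ hell (full_w0 (cs := cs))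
  obtain ⟨b, hA⟩ := exists_ad_self (cs := cs) (φ := t.φ) (σ := t.σ) t.φ_simple hσ (K := {i, j}) (by
    rintro k (rfl | hk)
    · exact ⟨j, by simp, hwi⟩
    · rw [Set.mem_singleton_iff] at hk
      subst hk
      exact ⟨i, by simp, hwj⟩)
  have hV := opp_OppV hA hy
  obtain ⟨ff, hff⟩ : ∃ ff, ff = f hA hV := ⟨_, rfl⟩
  have hi : i ∈ ({i, j} : Set I) := by simp
  have hj : j ∈ ({i, j} : Set I) := by simp
  have hf1 : ∀ c d : Δ.Res {i, j} y, (d : C) ∈ Δ.Pan i (c : C) → (ff d : C) ∈ Δ.Pan j (ff c : C) := by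
    intro c d h
    rw [hff]
    exact f_swap hσ hA hV hi hj (b_mul hc hwi hA) h
  have hf2 : ∀ c d : Δ.Res {i, j} y, (d : C) ∈ Δ.Pan j (c : C) → (ff d : C) ∈ Δ.Pan i (ff c : C) := by
    intro c d h
    rw [hff]
    exact f_swap hσ hA hV hj hi (b_mul' hc hwj hA) h
  have hconj : ∀ m ∈ ActG G (Δ.Res {i, j} y), ff * m * ff⁻¹ ∈ ActG G (Δ.Res {i, j} y) := by
    intro m hm
    rw [hff]
    exact conj_act S hth hA hV hm
  have hmul : ∀ m ∈ ActG G (Δ.Res {i, j} y), PE r (ff * (m * ff * m⁻¹)) := by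
    intro m hm
    rw [hff]
    exact mul_act S hth hA hV hm hP
  have hTJ : ff * ff ∈ TJ Δ j (Δ.Res {i, j} y) := mem_TJ_of_forward fun c d h => hf1 _ _ (hf2 _ _ h)
  set g0 := bar hij hc y ⟨ff * ff, hTJ⟩ with hg0
  -- lifts
  have hlift : ∀ m ∈ N1 G S.iso i j y, ∃ lV : Equiv.Perm (Δ.Res {i, j} y), ∃ hlA : lV ∈ ActG G (Δ.Res {i, j} y),
      (∀ c : Δ.Res {i, j} y, (lV c : C) ∈ Δ.Pan i (c : C)) ∧ bar hij hc y ⟨lV, act_mem_TJ hlA S.iso j⟩ = m := by
    rintro m ⟨l, hl, hm⟩
    have hlA : act l (stab_V S.iso hl) ∈ ActG G (Δ.Res {i, j} y) := ⟨l, fun c => act_apply _ c⟩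
    refine ⟨act l (stab_V S.iso hl), hlA, fun c => by rw [act_apply]; exact hl c c.2, ?_⟩
    ext d
    rw [bar_apply]
    have h1 : pr hij hc y (act l (stab_V S.iso hl) (inc y d)) = m d := by
      apply pr_eq
      rw [act_apply, hm]
      exact Δ.self_mem_Pan j _
    exact congrArg Subtype.val h1
  -- conjugates by `ff`
  have hbar1 : ∀ lV : Equiv.Perm (Δ.Res {i, j} y), ∀ hlA : lV ∈ ActG G (Δ.Res {i, j} y),
      (∀ c : Δ.Res {i, j} y, (lV c : C) ∈ Δ.Pan i (c : C)) →
      bar hij hc y ⟨ff * lV * ff⁻¹, act_mem_TJ (hconj lV hlA) S.iso j⟩ = 1 := by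
    intro lV hlA h
    ext d
    rw [bar_apply]
    have h1 : pr hij hc y ((ff * lV * ff⁻¹) (inc y d)) = d := by
      apply pr_eq
      rw [Equiv.Perm.mul_apply, Equiv.Perm.mul_apply]
      have h2 := hf1 _ _ (h (ff⁻¹ (inc y d)))
      have h3 : ff (ff⁻¹ (inc y d)) = inc y d := ff.apply_symm_apply _
      rw [h3] at h2
      exact h2
    exact congrArg Subtype.val h1
  obtain ⟨n, hn⟩ := S.card_Pan y i
  have hcardeq := S.card_Pan_eq hth y i
  have h3 : 3 ≤ Nat.card (Δ.Pan i y) := by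
    rw [hn]
    rcases Nat.eq_zero_or_pos n with rfl | hpos
    · exfalso
      rw [hn, pow_zero] at hcardeq
      have h1 : ((1 : ℕ) : ZMod p) = 0 := by
        have h2 : ((1 + 1 : ℕ) : ZMod p) = 1 := hcardeq
        rw [Nat.cast_add, Nat.cast_one] at h2
        rw [Nat.cast_one]
        exact add_eq_left.1 h2
      have h2 := (ZMod.natCast_eq_zero_iff 1 p).1 h1
      exact hp.out.one_lt.ne' (Nat.dvd_one.1 h2)
    · have h1 : 2 ≤ p ^ n := by
        calc 2 ≤ p := hp.out.two_le
          _ ≤ p ^ n := Nat.le_self_pow hpos.ne' p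
      omega
  refine coset_false (reg_fam S i y) h3 hr2 (r := r) ?_ (g0 := g0) ?_ ?_
  · rw [hn, Nat.add_sub_cancel]
    intro h
    exact hrp ((Nat.prime_dvd_prime_iff_eq hr.out hp.out).1 (hr.out.dvd_of_dvd_pow h))
  · -- `g0` normalises the family
    intro z g hg
    obtain ⟨lV, hlA, hl, hlm⟩ := hlift g (fam_le_N1 S hij hc z hg)
    have hwA : ff * (ff * lV * ff⁻¹) * ff⁻¹ ∈ ActG G (Δ.Res {i, j} y) := hconj _ (hconj _ hlA)
    set w := ff * (ff * lV * ff⁻¹) * ff⁻¹ with hw
    have hwi' : ∀ c : Δ.Res {i, j} y, (w c : C) ∈ Δ.Pan i (c : C) := by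
      intro c
      have h1 := hf2 _ _ (hf1 _ _ (hl (ff⁻¹ (ff⁻¹ c))))
      have h2 : ∀ c, ff (ff⁻¹ c) = c := ff.apply_symm_apply
      rw [h2, h2] at h1
      exact h1
    have hbarw : bar hij hc y ⟨w, act_mem_TJ hwA S.iso j⟩ = g0 * g * g0⁻¹ := by
      rw [← hlm, hg0, ← map_inv, ← map_mul, ← map_mul]
      congr 1
    obtain ⟨k, hk⟩ := hwA
    have hact : ∀ d : Δ.Pan i y, ((g0 * g * g0⁻¹) d : C) = k • (d : C) := by
      intro d
      rw [← hbarw, bar_apply]
      have h1 : (w (inc y d) : C) ∈ Δ.Pan i y := Δ.mem_Pan_trans d.2 (hwi' (inc y d))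
      have h2 : pr hij hc y (w (inc y d)) = ⟨w (inc y d), h1⟩ := pr_eq hij hc (Δ.self_mem_Pan j _)
      rw [h2]
      exact hk (inc y d)
    obtain ⟨u, hu, hgu⟩ := hg
    obtain ⟨N, hN⟩ := (S.isP z) ⟨u, hu⟩
    have hN' : u ^ p ^ N = 1 := by simpa only [_root_.SubmonoidClass.mk_pow, _root_.OneMemClass.coe_one] using congrArg Subtype.val hN
    have hgN : g ^ p ^ N = 1 := by
      ext c
      rw [pow_smul_eq hgu, hN', one_smul]
      rfl
    have hwN : (g0 * g * g0⁻¹) ^ p ^ N = 1 := by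
      rw [conj_pow, hgN, mul_one, mul_inv_cancel]
    have hgz : g z = z := Subtype.ext (by rw [hgu, S.fix z u hu])
    have hwz : (g0 * g * g0⁻¹) (g0 z) = g0 z := by
      rw [Equiv.Perm.mul_apply, Equiv.Perm.mul_apply]
      have : g0⁻¹ (g0 z) = z := g0.symm_apply_apply z
      rw [this, hgz]
    obtain ⟨v, hv, h⟩ := exists_U_of_pElem S hact hwz hwN
    exact ⟨v, hv, h⟩
  · -- the coset consists of `r`-elements
    intro m hm
    have hm' : m⁻¹ ∈ N1 G S.iso i j y := inv_mem ((iSup_le fun z => fam_le_N1 S hij hc z) hm)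
    obtain ⟨lV, hlA, hl, hlm⟩ := hlift _ hm'
    have h1 := hmul lV hlA
    have hzT : ff * (lV * ff * lV⁻¹) ∈ TJ Δ j (Δ.Res {i, j} y) := by
      have e : ff * (lV * ff * lV⁻¹) = (ff * lV * ff⁻¹) * (ff * ff) * lV⁻¹ := by group
      rw [e]
      exact mul_mem (mul_mem (act_mem_TJ (hconj lV hlA) S.iso j) hTJ) (inv_mem (act_mem_TJ hlA S.iso j))
    have h2 : PE r (⟨ff * (lV * ff * lV⁻¹), hzT⟩ : TJ Δ j (Δ.Res {i, j} y)) := PE.coe.1 h1
    have h4 := h2.map (bar hij hc y)
    have e : (⟨ff * (lV * ff * lV⁻¹), hzT⟩ : TJ Δ j (Δ.Res {i, j} y)) =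
        ⟨ff * lV * ff⁻¹, act_mem_TJ (hconj lV hlA) S.iso j⟩ * ⟨ff * ff, hTJ⟩ *
          (⟨lV, act_mem_TJ hlA S.iso j⟩ : TJ Δ j (Δ.Res {i, j} y))⁻¹ := by
      apply Subtype.ext
      change ff * (lV * ff * lV⁻¹) = (ff * lV * ff⁻¹) * (ff * ff) * lV⁻¹
      group
    rw [e, map_mul, map_mul, map_inv, hbar1 lV hlA hl, one_mul, hlm, inv_inv] at h4
    exact h4

end Swap

end Cfsg.Agent.H460.EllS
end

-- part: H491/AA/Cox
section
/-!
# The square of a bipartite Coxeter element (task AA-COX)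

`length_sq`: in an irreducible Coxeter group of rank at least two which is not of type `A₂`, the square of a bipartite
Coxeter element is reduced.
-/

set_option autoImplicit false
set_option linter.unusedSectionVars false

namespace Cfsg.Agent.H491.CoxSq

open CoxeterSystem Cfsg.Agent.Tits.Core Cfsg.Agent.Tits.Exchange Cfsg.Agent.Tits

variable {B W : Type*} [Group W] {M : CoxeterMatrix B} (cs : CoxeterSystem M W)

local prefix:100 "s" => cs.simple
local prefix:100 "π" => cs.wordProd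
local prefix:100 "ℓ" => cs.length

section basic

variable [Finite B]

theorem inj : Function.Injective cs.simple := ParSys.Words.simple_injective cs

theorem commute_iff {i j : B} (hij : i ≠ j) : Commute (s i) (s j) ↔ M i j = 2 := by
  constructor
  · intro h
    have h1 : (s i * s j) ^ 2 = 1 := by
      rw [h.mul_pow, cs.simple_sq, cs.simple_sq, one_mul]
    have h2 := orderOf_dvd_of_pow_eq_one h1
    rw [ParSys.Words.orderOf_eq cs i j] at h2
    rcases (Nat.dvd_prime Nat.prime_two).1 h2 with h3 | h3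
    · exact absurd h3 (M.off_diagonal i j hij)
    · exact h3
  · intro h
    have h1 := cs.simple_mul_simple_pow i j
    rw [h, pow_two] at h1
    have h2 : s i * s j = (s i * s j)⁻¹ := eq_inv_of_mul_eq_one_left h1
    rw [mul_inv_rev, cs.inv_simple, cs.inv_simple] at h2
    exact h2

theorem lt_mul_simple {J : Set B} {w : W} (hw : w ∈ WJ cs J) {i : B} (hi : i ∉ J) : ℓ w < ℓ (w * s i) := by
  rcases cs.length_mul_simple w i with h | h
  · omega
  · exfalso
    apply hi
    refine Ext.mem_of_simple_mem_WJ (inj cs) (mem_WJ_of_nn cs hw ?_)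
    rw [nn_eq_one_iff cs (cs.isReflection_simple i)]
    omega

theorem lt_simple_mul {J : Set B} {w : W} (hw : w ∈ WJ cs J) {i : B} (hi : i ∉ J) : ℓ w < ℓ (s i * w) := by
  have h := lt_mul_simple cs (inv_mem hw) hi
  rwa [← cs.length_inv (w⁻¹ * s i), mul_inv_rev, cs.inv_simple, inv_inv, cs.length_inv] at h

/-- the letters of a word -/
def St (l : List B) : Set B := {i | i ∈ l}

theorem prod_mem (l : List B) : π l ∈ WJ cs (St l) := wordProd_mem_WJ cs fun _ hi => hi

theorem length_nodup {l : List B} (h : l.Nodup) : ℓ (π l) = l.length := by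
  induction l with
  | nil => simp
  | cons i l ih =>
    rw [List.nodup_cons] at h
    have h1 := lt_simple_mul cs (prod_mem cs l) (i := i) h.1
    rw [cs.wordProd_cons, List.length_cons]
    have h2 := cs.length_simple_mul (π l) i
    have h3 := ih h.2
    omega

/-- pairwise commuting letters -/
def Com (l : List B) : Prop := ∀ i ∈ l, ∀ j ∈ l, Commute (s i) (s j)

variable {cs}

theorem Com.pairwise {l : List B} (h : Com cs l) : (l.map cs.simple).Pairwise Commute := by
  rw [List.pairwise_map]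
  exact List.pairwise_of_forall_mem_list fun i hi j hj => h i hi j hj

theorem Com.perm {l l' : List B} (h : Com cs l) (hp : l.Perm l') : π l = π l' := by
  unfold CoxeterSystem.wordProd
  exact (hp.map cs.simple).prod_eq' h.pairwise

theorem Com.of_subset {l l' : List B} (h : Com cs l) (hs : ∀ i ∈ l', i ∈ l) : Com cs l' :=
  fun i hi j hj => h i (hs i hi) j (hs j hj)

theorem commute_prod {l : List B} {i : B} (h : ∀ j ∈ l, Commute (s i) (s j)) : Commute (s i) (π l) := by
  induction l with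
  | nil => rw [cs.wordProd_nil]; exact Commute.one_right _
  | cons j l ih =>
    rw [cs.wordProd_cons]
    exact (h j (by simp)).mul_right (ih fun k hk => h k (by simp [hk]))

theorem Com.sq {l : List B} (h : Com cs l) : π l * π l = 1 := by
  induction l with
  | nil => simp
  | cons i l ih =>
    have h1 : Commute (s i) (π l) := commute_prod fun j hj => h i (by simp) j (by simp [hj])
    have h2 := ih (h.of_subset fun j hj => by simp [hj])
    rw [cs.wordProd_cons]
    calc s i * π l * (s i * π l) = s i * (π l * s i) * π l := by simp only [mul_assoc]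
      _ = s i * (s i * π l) * π l := by rw [← h1.eq]
      _ = (s i * s i) * (π l * π l) := by simp only [mul_assoc]
      _ = 1 := by rw [h2, cs.simple_mul_simple_self, one_mul]

theorem Com.inv {l : List B} (h : Com cs l) : (π l)⁻¹ = π l := inv_eq_of_mul_eq_one_left h.sq

theorem Com.erase [DecidableEq B] {l : List B} (h : Com cs l) {j : B} (hj : j ∈ l) :
    π l = π (l.erase j) * s j ∧ π l = s j * π (l.erase j) := by
  have h1 := h.perm (List.perm_cons_erase hj)
  rw [cs.wordProd_cons] at h1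
  refine ⟨?_, h1⟩
  rw [h1]
  exact (commute_prod fun k hk => h j hj k (List.mem_of_mem_erase hk)).eq

theorem eq_one_of_empty {w : W} (h : w ∈ WJ cs (∅ : Set B)) : w = 1 := by
  unfold WJ at h
  rw [Set.image_empty, Subgroup.closure_empty, Subgroup.mem_bot] at h
  exact h

/-- **Lemma A.** -/
theorem Com.commute_of_prod {l : List B} (h : Com cs l) (hn : l.Nodup) {i : B} (hi : i ∉ l)
    (he : π l * s i = s i * π l) : ∀ j ∈ l, Commute (s i) (s j) := by
  classical
  intro j hj
  obtain ⟨l', hl'⟩ : ∃ l', l' = l.erase j := ⟨_, rfl⟩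
  have hij : i ≠ j := fun h => hi (h ▸ hj)
  have h1 := (h.erase hj).1
  rw [← hl'] at h1
  have hlen : l'.length + 1 = l.length := by
    rw [hl', List.length_erase_of_mem hj]
    have := List.length_pos_of_mem hj
    omega
  have hn' : l'.Nodup := by rw [hl']; exact hn.erase j
  have hjl' : j ∉ l' := by rw [hl']; exact hn.not_mem_erase
  have hil' : i ∉ l' := by rw [hl']; exact fun h => hi (List.mem_of_mem_erase h)
  have hω : π (l' ++ [j, i]) = π l * s i := by
    rw [cs.wordProd_append, cs.wordProd_cons, cs.wordProd_singleton, h1, mul_assoc]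
  have hlω : ℓ (π (l' ++ [j, i])) = l'.length + 2 := by
    have h2 := lt_mul_simple cs (prod_mem cs l) (i := i) hi
    have h3 := cs.length_mul_simple (π l) i
    rw [length_nodup cs hn] at h2 h3
    rw [hω]
    omega
  have hlt : ℓ (π (l' ++ [j, i]) * s j) < ℓ (π (l' ++ [j, i])) := by
    rw [hlω, hω, he, h1]
    have h2 : s i * (π l' * s j) * s j = s i * π l' := by
      rw [mul_assoc, mul_assoc, cs.simple_mul_simple_self, mul_one]
    rw [h2]
    have h3 := cs.length_mul_le (s i) (π l')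
    rw [cs.length_simple, length_nodup cs hn'] at h3
    omega
  obtain ⟨k, hk, hke⟩ := exchange_right cs hlt
  rw [cs.wordProd_append, cs.wordProd_cons, cs.wordProd_singleton] at hke
  rw [List.length_append] at hk
  simp only [List.length_cons, List.length_nil] at hk
  rcases lt_or_ge k l'.length with hk1 | hk1
  · exfalso
    rw [List.eraseIdx_append_of_lt_length hk1, cs.wordProd_append, cs.wordProd_cons, cs.wordProd_singleton] at hke
    have h2 : (π l')⁻¹ * π (l'.eraseIdx k) = s j * s i * s j * s i * s j := by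
      have h3 : π (l'.eraseIdx k) = π l' * (s j * s i) * s j * (s j * s i)⁻¹ := by
        rw [hke]; group
      rw [h3, mul_inv_rev, cs.inv_simple, cs.inv_simple]
      group
    have h3 : (π l')⁻¹ * π (l'.eraseIdx k) ∈ WJ cs (St l' ∩ {i, j}) := by
      apply Ext.WJ_inter (inj cs)
      · exact mul_mem (inv_mem (prod_mem cs l')) (wordProd_mem_WJ cs fun a ha => List.mem_of_mem_eraseIdx ha)
      · rw [h2]
        have hi' : s i ∈ WJ cs {i, j} := simple_mem_WJ cs (by simp)
        have hj' : s j ∈ WJ cs {i, j} := simple_mem_WJ cs (by simp)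
        exact mul_mem (mul_mem (mul_mem (mul_mem hj' hi') hj') hi') hj'
    have h4 : St l' ∩ {i, j} = ∅ := by
      ext a
      simp only [St, Set.mem_inter_iff, Set.mem_ofPred_eq, Set.mem_insert_iff, Set.mem_singleton_iff,
        Set.mem_empty_iff_false, iff_false, not_and]
      rintro ha (rfl | rfl)
      · exact hil' ha
      · exact hjl' ha
    rw [h4] at h3
    have h5 := eq_one_of_empty h3
    have h6 : π (l'.eraseIdx k) = π l' := (inv_mul_eq_one.1 h5).symm
    have h7 := cs.length_wordProd_le (l'.eraseIdx k)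
    rw [h6, length_nodup cs hn', List.length_eraseIdx_of_lt hk1] at h7
    omega
  · rw [List.eraseIdx_append_of_length_le hk1, cs.wordProd_append] at hke
    obtain hk2 | hk2 : k - l'.length = 0 ∨ k - l'.length = 1 := by omega
    · rw [hk2] at hke
      simp only [List.eraseIdx_cons_zero, cs.wordProd_singleton] at hke
      have h2 : s j * s i * s j = s i := by
        have := hke
        rw [mul_assoc] at this
        exact mul_left_cancel this
      have h3 : s j * s i = s i * s j := by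
        calc s j * s i = s j * s i * s j * s j := by rw [mul_assoc _ (s j) (s j), cs.simple_mul_simple_self, mul_one]
          _ = s i * s j := by rw [h2]
      exact h3.symm
    · exfalso
      rw [hk2] at hke
      simp only [List.eraseIdx_cons_succ, List.eraseIdx_cons_zero, cs.wordProd_singleton] at hke
      have h2 : s j * s i * s j = s j := by
        have := hke
        rw [mul_assoc] at this
        exact mul_left_cancel this
      have h3 : s j * s i = 1 := by
        calc s j * s i = s j * s i * s j * s j := by rw [mul_assoc _ (s j) (s j), cs.simple_mul_simple_self, mul_one]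
          _ = 1 := by rw [h2, cs.simple_mul_simple_self]
      have h4 : s i = s j := by
        calc s i = s j * (s j * s i) := by rw [← mul_assoc, cs.simple_mul_simple_self, one_mul]
          _ = s j := by rw [h3, mul_one]
      exact hij (inj cs h4)

/-- **Lemma B.** -/
theorem commute_of_descent {l₁ l₂ : List B} (h₂ : Com cs l₂) (hn : (l₁ ++ l₂).Nodup) {i : B}
    (hi : i ∈ l₁) (hlt : ℓ (π l₁ * π l₂ * s i) < ℓ (π l₁ * π l₂)) : ∀ j ∈ l₂, Commute (s i) (s j) := by
  classical
  rw [List.nodup_append] at hn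
  obtain ⟨hn1, hn2, hd⟩ := hn
  have hi2 : i ∉ l₂ := fun h => hd i hi i h rfl
  rw [← cs.wordProd_append] at hlt
  obtain ⟨k, hk, hke⟩ := exchange_right cs hlt
  rw [cs.wordProd_append] at hke
  rcases lt_or_ge k l₁.length with hk1 | hk1
  · rw [List.eraseIdx_append_of_lt_length hk1, cs.wordProd_append] at hke
    obtain ⟨u, hu⟩ : ∃ u, u = (π l₁)⁻¹ * π (l₁.eraseIdx k) := ⟨_, rfl⟩
    have hu1 : π l₂ * s i = u * π l₂ := by
      rw [hu, mul_assoc, ← hke]; group
    have hu2 : u ∈ WJ cs (St l₁) := by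
      rw [hu]
      exact mul_mem (inv_mem (prod_mem cs l₁)) (wordProd_mem_WJ cs fun a ha => List.mem_of_mem_eraseIdx ha)
    have hmin : IsMinL cs (St l₁) (π l₂) := by
      rw [isMinL_iff]
      intro a ha
      exact lt_simple_mul cs (prod_mem cs l₂) fun h => hd a ha a h rfl
    have h3 := hmin u hu2
    rw [← hu1] at h3
    have h4 := lt_mul_simple cs (prod_mem cs l₂) (i := i) hi2
    have h5 := cs.length_mul_simple (π l₂) i
    have h6 : ℓ u = 1 := by omega
    obtain ⟨m, hm⟩ := cs.length_eq_one_iff.1 h6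
    have h7 : i ∈ insert m (St l₂) := by
      refine Ext.mem_of_simple_mem_WJ (inj cs) ?_
      have h8 : s i = (π l₂)⁻¹ * s m * π l₂ := by rw [← hm, mul_assoc, ← hu1]; group
      rw [h8]
      have h9 := WJ_mono cs (Set.subset_insert m (St l₂)) (prod_mem cs l₂)
      exact mul_mem (mul_mem (inv_mem h9) (simple_mem_WJ cs (Set.mem_insert _ _))) h9
    rcases Set.mem_insert_iff.1 h7 with h8 | h8
    · rw [hm, ← h8] at hu1
      exact h₂.commute_of_prod hn2 hi2 hu1
    · exact absurd h8 hi2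
  · exfalso
    rw [List.eraseIdx_append_of_length_le hk1, cs.wordProd_append, mul_assoc] at hke
    have h3 := mul_left_cancel hke
    apply hi2
    refine Ext.mem_of_simple_mem_WJ (inj cs) (J := St l₂) ?_
    have h4 : s i = (π l₂)⁻¹ * π (l₂.eraseIdx (k - l₁.length)) := by rw [← h3]; group
    rw [h4]
    exact mul_mem (inv_mem (prod_mem cs l₂)) (wordProd_mem_WJ cs fun a ha => List.mem_of_mem_eraseIdx ha)

/-- **Lemma D.** -/
theorem Com.commute_of_conj {l : List B} (h : Com cs l) (hn : l.Nodup) {t σ : B} (ht : t ∉ l) (hσ : σ ∈ l)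
    (hz : π l * s t * (π l)⁻¹ ∈ WJ cs {σ, t}) : ∀ j ∈ l, j ≠ σ → Commute (s t) (s j) := by
  classical
  obtain ⟨l', hl'⟩ : ∃ l', l' = l.erase σ := ⟨_, rfl⟩
  have h1 := (h.erase hσ).2
  rw [← hl'] at h1
  have hn' : l'.Nodup := by rw [hl']; exact hn.erase σ
  have hσ' : σ ∉ l' := by rw [hl']; exact hn.not_mem_erase
  have ht' : t ∉ l' := by rw [hl']; exact fun h => ht (List.mem_of_mem_erase h)
  have hσJ : s σ ∈ WJ cs {σ, t} := simple_mem_WJ cs (by simp)
  obtain ⟨z, hzd⟩ : ∃ z, z = π l' * s t * (π l')⁻¹ := ⟨_, rfl⟩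
  have hz' : z ∈ WJ cs {σ, t} := by
    have h2 : z = s σ * (π l * s t * (π l)⁻¹) * s σ := by
      rw [hzd, h1, mul_inv_rev, cs.inv_simple]
      calc π l' * s t * (π l')⁻¹ = (s σ * s σ) * (π l' * s t * (π l')⁻¹) * (s σ * s σ) := by
            rw [cs.simple_mul_simple_self, one_mul, mul_one]
        _ = _ := by simp only [mul_assoc]
    rw [h2]
    exact mul_mem (mul_mem hσJ hz) hσJ
  have hmin : IsMinL cs {σ, t} (π l') := by
    rw [isMinL_iff]
    rintro a (rfl | rfl)
    · exact lt_simple_mul cs (prod_mem cs l') hσ'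
    · exact lt_simple_mul cs (prod_mem cs l') ht'
  have h2 := hmin z hz'
  have h3 : z * π l' = π l' * s t := by rw [hzd]; group
  rw [h3] at h2
  have h4 := lt_mul_simple cs (prod_mem cs l') (i := t) ht'
  have h5 := cs.length_mul_simple (π l') t
  have h6 : ℓ z = 1 := by omega
  rcases Generic.mem_two cs hz' h6 with h7 | h7
  · exfalso
    apply ht
    refine Ext.mem_of_simple_mem_WJ (inj cs) (J := St l) ?_
    have h8 : s t = (π l')⁻¹ * s σ * π l' := by rw [← h7, mul_assoc, h3]; group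
    rw [h8]
    have h9 : π l' ∈ WJ cs (St l) := wordProd_mem_WJ cs fun a ha => by
      rw [hl'] at ha; exact List.mem_of_mem_erase ha
    exact mul_mem (mul_mem (inv_mem h9) (simple_mem_WJ cs hσ)) h9
  · intro j hj hjσ
    rw [h7] at h3
    refine (h.of_subset (l' := l') fun a ha => ?_).commute_of_prod hn' ht' h3.symm j ?_
    · rw [hl'] at ha; exact List.mem_of_mem_erase ha
    · rw [hl', List.mem_erase_of_ne hjσ]; exact hj

/-- `w₁ w₂` is minimal in its coset `w₁ w₂ W₁`. -/
theorem isMinR_prod {l₁ l₂ : List B} (h₂ : Com cs l₂) (hn : (l₁ ++ l₂).Nodup)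
    (hno : ∀ i ∈ l₁, ∃ j ∈ l₂, ¬ Commute (s i) (s j)) : IsMinR cs (St l₁) (π l₁ * π l₂) := by
  rw [isMinR_iff]
  intro i hi
  obtain ⟨j, hj, hij⟩ := hno i hi
  rcases cs.length_mul_simple (π l₁ * π l₂) i with h | h
  · omega
  · exact absurd (commute_of_descent h₂ hn hi (by omega) j hj) hij

/-- **The square of a bipartite Coxeter element**, elementwise form: the commuting words `l₁`, `l₂` are such that every
letter of one does not commute with some letter of the other, and there are no `σ ∈ l₁`, `t ∈ l₂` which commute with all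
letters except each other and satisfy `σ t σ = t σ t`. -/
theorem length_sq_aux {l₁ l₂ : List B} (h₁ : Com cs l₁) (h₂ : Com cs l₂) (hn : (l₁ ++ l₂).Nodup)
    (hno₁ : ∀ i ∈ l₁, ∃ j ∈ l₂, ¬ Commute (s i) (s j)) (hno₂ : ∀ i ∈ l₂, ∃ j ∈ l₁, ¬ Commute (s i) (s j))
    (hne : ∀ σ ∈ l₁, ∀ t ∈ l₂, (∀ j ∈ l₁, j ≠ σ → Commute (s t) (s j)) → (∀ j ∈ l₂, j ≠ t → Commute (s σ) (s j)) →
      s σ * s t * s σ ≠ s t * s σ * s t) :
    ℓ (π (l₁ ++ l₂) ^ 2) = 2 * (l₁.length + l₂.length) := by
  classical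
  have hn' := hn
  rw [List.nodup_append] at hn'
  obtain ⟨hn1, hn2, hd⟩ := hn'
  have hn21 : (l₂ ++ l₁).Nodup := by
    rw [List.nodup_append]
    exact ⟨hn2, hn1, fun a ha b hb h => hd b hb a ha h.symm⟩
  have hm12 := isMinR_prod h₂ hn hno₁
  have hm21 := isMinR_prod h₁ hn21 hno₂
  have hl1 := length_nodup cs hn1
  have hl2 := length_nodup cs hn2
  have hl12 : ℓ (π l₁ * π l₂) = l₁.length + l₂.length := by
    rw [← cs.wordProd_append, length_nodup cs hn, List.length_append]
  have hl21 : ℓ (π l₂ * π l₁) = l₂.length + l₁.length := by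
    rw [← cs.wordProd_append, length_nodup cs hn21, List.length_append]
  have hx : ℓ (π l₁ * π l₂ * π l₁) = l₁.length + l₂.length + l₁.length := by
    rw [hm12 _ (prod_mem cs l₁), hl12, hl1]
  have hmx : IsMinR cs (St l₂) (π l₁ * π l₂ * π l₁) := by
    rw [isMinR_iff]
    intro t ht
    have htl1 : t ∉ l₁ := fun h => hd t h t ht rfl
    rcases cs.length_mul_simple (π l₁ * π l₂ * π l₁) t with h | h
    · omega
    exfalso
    have hω : π (l₁ ++ (l₂ ++ l₁)) = π l₁ * π l₂ * π l₁ := by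
      rw [cs.wordProd_append, cs.wordProd_append, mul_assoc]
    have hlt : ℓ (π (l₁ ++ (l₂ ++ l₁)) * s t) < ℓ (π (l₁ ++ (l₂ ++ l₁))) := by
      rw [hω]; omega
    obtain ⟨k, hk, hke⟩ := exchange_right cs hlt
    rw [hω] at hke
    rcases lt_or_ge k l₁.length with hk1 | hk1
    · rw [List.eraseIdx_append_of_lt_length hk1, cs.wordProd_append, cs.wordProd_append] at hke
      -- the erased letter
      have hperm : (l₁[k] :: l₁.eraseIdx k).Perm l₁ := List.getElem_cons_eraseIdx_perm hk1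
      have hσ : l₁[k] ∈ l₁ := List.getElem_mem hk1
      obtain ⟨σ, hσd⟩ : ∃ σ, σ = l₁[k] := ⟨_, rfl⟩
      rw [← hσd] at hperm hσ
      have h3 : π l₁ = s σ * π (l₁.eraseIdx k) := by
        rw [h₁.perm hperm.symm, cs.wordProd_cons]
      have h4 : Commute (s σ) (π (l₁.eraseIdx k)) :=
        commute_prod fun j hj => h₁ σ hσ j (List.mem_of_mem_eraseIdx hj)
      have h5 : π (l₁.eraseIdx k) = π l₁ * s σ := by
        rw [h3, h4.eq, mul_assoc, cs.simple_mul_simple_self, mul_one]
      rw [h5] at hke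
      -- `y t = σ y`
      have h6 : π l₂ * π l₁ * s t = s σ * (π l₂ * π l₁) := by
        have h7 : π l₁ * (π l₂ * π l₁ * s t) = π l₁ * (s σ * (π l₂ * π l₁)) := by
          rw [← mul_assoc, ← mul_assoc, hke]; simp only [mul_assoc]
        exact mul_left_cancel h7
      have h7 : π l₁ * s t * (π l₁)⁻¹ = π l₂ * s σ * (π l₂)⁻¹ := by
        have h8 : π l₁ * s t = (π l₂)⁻¹ * (s σ * (π l₂ * π l₁)) := by rw [← h6]; group
        rw [h8, h₂.inv]; group
      have hσl2 : σ ∉ l₂ := fun h => hd σ hσ σ h rfl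
      have hz : π l₁ * s t * (π l₁)⁻¹ ∈ WJ cs {σ, t} := by
        have h8 : π l₁ * s t * (π l₁)⁻¹ ∈ WJ cs (insert t (St l₁) ∩ insert σ (St l₂)) := by
          apply Ext.WJ_inter (inj cs)
          · have h9 := WJ_mono cs (Set.subset_insert t (St l₁)) (prod_mem cs l₁)
            exact mul_mem (mul_mem h9 (simple_mem_WJ cs (Set.mem_insert _ _))) (inv_mem h9)
          · rw [h7]
            have h9 := WJ_mono cs (Set.subset_insert σ (St l₂)) (prod_mem cs l₂)
            exact mul_mem (mul_mem h9 (simple_mem_WJ cs (Set.mem_insert _ _))) (inv_mem h9)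
        refine WJ_mono cs ?_ h8
        rintro a ⟨ha1, ha2⟩
        rcases Set.mem_insert_iff.1 ha1 with ha1 | ha1
        · right; exact ha1
        · rcases Set.mem_insert_iff.1 ha2 with ha2 | ha2
          · left; exact ha2
          · exact absurd rfl (hd a ha1 a ha2)
      have hA := h₁.commute_of_conj hn1 htl1 hσ hz
      have hB := h₂.commute_of_conj hn2 hσl2 ht (by rw [← h7, Set.pair_comm]; exact hz)
      refine hne σ hσ t ht hA hB ?_
      -- reduce `π l₁ t (π l₁)⁻¹ = π l₂ σ (π l₂)⁻¹` to `σ t σ = t σ t`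
      have e1 : π l₁ * s t * (π l₁)⁻¹ = s σ * s t * s σ := by
        have f1 := (h₁.erase hσ).2
        have f2 : Commute (s t) (π (l₁.erase σ)) := commute_prod fun j hj =>
          hA j (List.mem_of_mem_erase hj) fun h => hn1.not_mem_erase (h ▸ hj)
        rw [f1, mul_inv_rev, cs.inv_simple]
        calc s σ * π (l₁.erase σ) * s t * ((π (l₁.erase σ))⁻¹ * s σ)
            = s σ * (π (l₁.erase σ) * s t) * (π (l₁.erase σ))⁻¹ * s σ := by simp only [mul_assoc]
          _ = s σ * (s t * π (l₁.erase σ)) * (π (l₁.erase σ))⁻¹ * s σ := by rw [f2.eq]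
          _ = s σ * s t * s σ := by group
      have e2 : π l₂ * s σ * (π l₂)⁻¹ = s t * s σ * s t := by
        have f1 := (h₂.erase ht).2
        have f2 : Commute (s σ) (π (l₂.erase t)) := commute_prod fun j hj =>
          hB j (List.mem_of_mem_erase hj) fun h => hn2.not_mem_erase (h ▸ hj)
        rw [f1, mul_inv_rev, cs.inv_simple]
        calc s t * π (l₂.erase t) * s σ * ((π (l₂.erase t))⁻¹ * s t)
            = s t * (π (l₂.erase t) * s σ) * (π (l₂.erase t))⁻¹ * s t := by simp only [mul_assoc]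
          _ = s t * (s σ * π (l₂.erase t)) * (π (l₂.erase t))⁻¹ * s t := by rw [f2.eq]
          _ = s t * s σ * s t := by group
      rw [← e1, h7, e2]
    · rw [List.eraseIdx_append_of_length_le hk1, cs.wordProd_append, mul_assoc, mul_assoc] at hke
      have h3 := mul_left_cancel hke
      rw [← mul_assoc] at h3
      have h4 := hm21 (s t) (simple_mem_WJ cs ht)
      rw [cs.length_simple, hl21, h3] at h4
      have h5 := cs.length_wordProd_le ((l₂ ++ l₁).eraseIdx (k - l₁.length))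
      have h6 := List.length_eraseIdx_le (l₂ ++ l₁) (k - l₁.length)
      rw [List.length_append] at h6
      omega
  have h1 : π (l₁ ++ l₂) ^ 2 = π l₁ * π l₂ * π l₁ * π l₂ := by
    rw [pow_two, cs.wordProd_append]; simp only [mul_assoc]
  rw [h1, hmx _ (prod_mem cs l₂), hx, hl2]
  ring

end basic

/-- **The square of a bipartite Coxeter element** of an irreducible Coxeter group of rank at least two which is not of type
`A₂` is reduced. -/
theorem length_sq {B W : Type*} [Fintype B] [DecidableEq B] [Group W] {M : CoxeterMatrix B} (cs : CoxeterSystem M W)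
    (l1 l2 : List B) (hnd : (l1 ++ l2).Nodup) (hall : ∀ i, i ∈ l1 ++ l2)
    (h1 : ∀ i ∈ l1, ∀ j ∈ l1, i ≠ j → M i j = 2) (h2 : ∀ i ∈ l2, ∀ j ∈ l2, i ≠ j → M i j = 2)
    (hconn : ∀ S : Set B, S.Nonempty → S ≠ Set.univ → ∃ i ∈ S, ∃ j ∉ S, M i j ≠ 2)
    (hne : ¬ ∃ i j, M i j = 3 ∧ ∀ k, k = i ∨ k = j) (h2' : 2 ≤ Fintype.card B) :
    cs.length ((cs.wordProd (l1 ++ l2)) ^ 2) = 2 * Fintype.card B := by
  have hn' := hnd
  rw [List.nodup_append] at hn'
  obtain ⟨hn1, hn2, hd⟩ := hn'
  have hC1 : Com cs l1 := fun i hi j hj => by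
    by_cases hij : i = j
    · rw [hij]
    · exact (commute_iff cs hij).2 (h1 i hi j hj hij)
  have hC2 : Com cs l2 := fun i hi j hj => by
    by_cases hij : i = j
    · rw [hij]
    · exact (commute_iff cs hij).2 (h2 i hi j hj hij)
  have hone : ∀ i : B, ∃ j, i ≠ j ∧ M i j ≠ 2 := by
    intro i
    obtain ⟨a, ha, b, hb, hab⟩ := hconn {i} ⟨i, rfl⟩ (by
      intro h
      have h3 : Fintype.card B ≤ 1 := Fintype.card_le_one_iff.2 fun a b => by
        have ha : a ∈ ({i} : Set B) := by rw [h]; trivial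
        have hb : b ∈ ({i} : Set B) := by rw [h]; trivial
        rw [Set.mem_singleton_iff] at ha hb
        rw [ha, hb]
      omega)
    rw [Set.mem_singleton_iff] at ha hb
    subst ha
    exact ⟨b, fun h => hb h.symm, hab⟩
  have hcard : Fintype.card B = l1.length + l2.length := by
    rw [← List.length_append, ← List.toFinset_card_of_nodup hnd, ← Finset.card_univ]
    congr 1
    ext i
    rw [List.mem_toFinset]
    exact ⟨fun _ => hall i, fun _ => Finset.mem_univ i⟩
  rw [hcard]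
  refine length_sq_aux hC1 hC2 hnd ?_ ?_ ?_
  · intro i hi
    obtain ⟨j, hij, hM⟩ := hone i
    rcases List.mem_append.1 (hall j) with hj | hj
    · exact absurd (h1 i hi j hj hij) hM
    · exact ⟨j, hj, fun h => hM ((commute_iff cs hij).1 h)⟩
  · intro i hi
    obtain ⟨j, hij, hM⟩ := hone i
    rcases List.mem_append.1 (hall j) with hj | hj
    · exact ⟨j, hj, fun h => hM ((commute_iff cs hij).1 h)⟩
    · exact absurd (h2 i hi j hj hij) hM
  · intro σ hσ t ht hA hB he
    have hσt : σ ≠ t := hd σ hσ t ht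
    have huniv : ∀ k, k = σ ∨ k = t := by
      by_contra hcon
      obtain ⟨a, ha, b, hb, hab⟩ := hconn {σ, t} ⟨σ, by simp⟩ (by
        intro h
        apply hcon
        intro k
        have hk : k ∈ ({σ, t} : Set B) := by rw [h]; trivial
        simpa using hk)
      simp only [Set.mem_insert_iff, Set.mem_singleton_iff, not_or] at ha hb
      rcases ha with rfl | rfl
      · rcases List.mem_append.1 (hall b) with hj | hj
        · exact hab (h1 a hσ b hj (Ne.symm hb.1))
        · exact hab ((commute_iff cs (Ne.symm hb.1)).1 (hB b hj hb.2))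
      · rcases List.mem_append.1 (hall b) with hj | hj
        · exact hab ((commute_iff cs (Ne.symm hb.2)).1 (hA b hj hb.1))
        · exact hab (h2 a ht b hj (Ne.symm hb.2))
    apply hne
    refine ⟨σ, t, ?_, huniv⟩
    have h3 : (cs.simple σ * cs.simple t) ^ 3 = 1 := by
      calc (cs.simple σ * cs.simple t) ^ 3 = (cs.simple σ * cs.simple t * cs.simple σ) * (cs.simple t * cs.simple σ * cs.simple t) := by
            rw [pow_succ, pow_two]; simp only [mul_assoc]
        _ = (cs.simple t * cs.simple σ * cs.simple t) * (cs.simple t * cs.simple σ * cs.simple t) := by rw [he]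
        _ = cs.simple t * (cs.simple σ * (cs.simple t * cs.simple t) * cs.simple σ) * cs.simple t := by simp only [mul_assoc]
        _ = 1 := by rw [cs.simple_mul_simple_self, mul_one, cs.simple_mul_simple_self, mul_one,
            cs.simple_mul_simple_self]
    have h4 := orderOf_dvd_of_pow_eq_one h3
    rw [ParSys.Words.orderOf_eq cs σ t] at h4
    rcases (Nat.dvd_prime Nat.prime_three).1 h4 with h5 | h5
    · exact absurd h5 (M.off_diagonal σ t hσt)
    · exact h5

end Cfsg.Agent.H491.CoxSq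
end

-- part: H234/AAW0
section
/-!
# The longest element of an irreducible finite Coxeter group (task AA-W0, helper234)

* `no_triangle`, `no_four_cycle`, `no_five_cycle` : the Coxeter graph has no short cycles;
* `dich` : the longest element is central, or it interchanges two commuting simple reflections, or the group is dihedral
  of order `2 m`, `m` odd.
-/

set_option autoImplicit false
set_option linter.unusedSectionVars false

namespace Cfsg.Agent.H234.AAW0

open CoxeterSystem Cfsg.Agent.Tits.Core Cfsg.Agent.LieRecognition.CoxForm Cfsg.Agent.LieRecognition.CoxExcl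

variable {I W : Type*} [Group W] {M : CoxeterMatrix I} (cs : CoxeterSystem M W)

section Cycles

variable [Finite I] [Finite W]
  (irr : ∀ J : Set I, J.Nonempty → J ≠ Set.univ → ∃ a ∈ J, ∃ b, b ∉ J ∧ M a b ≠ 2)

include cs in
theorem three_le {a b : I} (hab : a ≠ b) (h : M a b ≠ 2) : 3 ≤ M a b := by
  have := Fintype.ofFinite I
  classical
  have h1 := ne_zero_of_finite cs a b
  have h2 := M.off_diagonal a b hab
  omega

include cs irr in
theorem conn (J : Set I) (h1 : J.Nonempty) (h2 : Jᶜ.Nonempty) : ∃ a ∈ J, ∃ b ∈ Jᶜ, M a b ≠ 2 := by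
  obtain ⟨a, ha, b, hb, h⟩ := irr J h1 (by
    rintro rfl
    rw [Set.compl_univ] at h2
    exact Set.not_nonempty_empty h2)
  exact ⟨a, ha, b, hb, h⟩

include cs irr in
/-- There are no triangles. -/
theorem no_triangle {a b c : I} (hab : a ≠ b) (hac : a ≠ c) (hbc : b ≠ c)
    (h1 : M a b ≠ 2) (h2 : M a c ≠ 2) (h3 : M b c ≠ 2) : False := by
  classical
  have := Fintype.ofFinite I
  have k1 := K_le_three M (three_le cs hab h1)
  have k2 := K_le_three M (three_le cs hac h2)
  have k3 := K_le_three M (three_le cs hbc h3)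
  have hx : (bs a + bs b + bs c : I → ℝ) ≠ 0 := by
    intro h
    have h4 := congrFun h a
    simp [bs, hab, hac] at h4
  have h5 := q_pos cs (conn cs irr) _ hx
  rw [← bf_self] at h5
  simp only [bf_add_left, bf_add_right, bf_bs_bs, K_self] at h5
  rw [K_symm M b a, K_symm M c a, K_symm M c b] at h5
  linarith

include cs irr in
/-- There are no 4-cycles. -/
theorem no_four_cycle {a b c d : I} (hab : a ≠ b) (hac : a ≠ c) (had : a ≠ d) (hbc : b ≠ c) (hbd : b ≠ d) (hcd : c ≠ d)
    (h1 : M a b ≠ 2) (h2 : M b c ≠ 2) (h3 : M c d ≠ 2) (h4 : M d a ≠ 2) : False := by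
  classical
  have := Fintype.ofFinite I
  have k1 := K_le_three M (three_le cs hab h1)
  have k2 := K_le_three M (three_le cs hbc h2)
  have k3 := K_le_three M (three_le cs hcd h3)
  have k4 := K_le_three M (three_le cs had.symm h4)
  have knon : ∀ {x y : I}, x ≠ y → K M x y ≤ 0 := by
    intro x y hxy
    by_cases h : M x y = 2
    · rw [K_two M h]
    · have := K_le_three M (three_le cs hxy h)
      linarith only [this]
  have k5 := knon hac
  have k6 := knon hbd
  have hx : (bs a + bs b + bs c + bs d : I → ℝ) ≠ 0 := by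
    intro h
    have h4 := congrFun h a
    simp [bs, hab, hac, had] at h4
  have h5 := q_pos cs (conn cs irr) _ hx
  rw [← bf_self] at h5
  simp only [bf_add_left, bf_add_right, bf_bs_bs, K_self] at h5
  rw [K_symm M b a, K_symm M c a, K_symm M c b, K_symm M a d, K_symm M d b, K_symm M d c] at h5
  linarith

end Cycles

section W0

variable [Finite I] [Finite W]

/-- The opposition involution. -/
theorem simple_op (i : I) : cs.simple (op cs i) = w0 cs * cs.simple i * w0 cs :=
  (Cfsg.Agent.Tits.OppRes.instCox (cs := cs)).op i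

theorem w0_sq : w0 cs * w0 cs = 1 := (Cfsg.Agent.Tits.OppRes.instCox (cs := cs)).w0_mul_self

theorem w0_inv : (w0 cs)⁻¹ = w0 cs := (Cfsg.Agent.Tits.OppRes.instCox (cs := cs)).w0_inv

theorem simple_inj {a b : I} (h : cs.simple a = cs.simple b) : a = b := by
  classical
  have := Fintype.ofFinite I
  by_contra hab
  have h1 := orderOf_eq cs a b
  rw [h, cs.simple_mul_simple_self, orderOf_one] at h1
  exact M.off_diagonal a b hab h1.symm

theorem op_op (i : I) : op cs (op cs i) = i := by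
  apply simple_inj cs
  rw [simple_op, simple_op]
  have h := w0_sq cs
  calc w0 cs * (w0 cs * cs.simple i * w0 cs) * w0 cs = (w0 cs * w0 cs) * cs.simple i * (w0 cs * w0 cs) := by group
    _ = cs.simple i := by rw [h, one_mul, mul_one]

theorem M_op (i j : I) : M (op cs i) (op cs j) = M i j := by
  classical
  have := Fintype.ofFinite I
  rw [← orderOf_eq cs, ← orderOf_eq cs, simple_op, simple_op]
  have h := w0_sq cs
  have e : w0 cs * cs.simple i * w0 cs * (w0 cs * cs.simple j * w0 cs) =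
      MulAut.conj (w0 cs) (cs.simple i * cs.simple j) := by
    rw [MulAut.conj_apply, w0_inv]
    calc w0 cs * cs.simple i * w0 cs * (w0 cs * cs.simple j * w0 cs) =
        w0 cs * cs.simple i * (w0 cs * w0 cs) * cs.simple j * w0 cs := by group
      _ = _ := by rw [h]; group
  rw [e]
  exact orderOf_injective (MulAut.conj (w0 cs)).toMonoidHom (MulAut.conj (w0 cs)).injective _

theorem conj_eq (i : I) : w0 cs * cs.simple i * (w0 cs)⁻¹ = cs.simple (op cs i) := by
  rw [simple_op, w0_inv]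

/-- If the two generators of a dihedral group are conjugate then the bond is odd. -/
theorem odd_of_conj {i j : I} (hij : i ≠ j) (hI : ∀ k, k = i ∨ k = j) {w : W}
    (h : w * cs.simple i * w⁻¹ = cs.simple j) : Odd (M i j) := by
  classical
  by_contra ho
  rw [Nat.not_odd_iff_even] at ho
  let f : I → Multiplicative (ZMod 2) := fun k => if k = i then Multiplicative.ofAdd 1 else 1
  have hsq : ∀ x : Multiplicative (ZMod 2), x ^ 2 = 1 := by decide
  have hf : M.IsLiftable f := by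
    intro a b
    rcases hI a with rfl | rfl <;> rcases hI b with rfl | rfl
    · rw [M.diagonal, pow_one, ← pow_two, hsq]
    · obtain ⟨m, hm⟩ := ho
      rw [hm, ← two_mul, pow_mul, hsq, one_pow]
    · obtain ⟨m, hm⟩ := ho
      rw [M.symmetric] at hm
      rw [hm, ← two_mul, pow_mul, hsq, one_pow]
    · rw [M.diagonal, pow_one, ← pow_two, hsq]
  have h1 := congrArg (cs.lift ⟨f, hf⟩) h
  rw [map_mul, map_mul, map_inv, cs.lift_apply_simple hf, cs.lift_apply_simple hf] at h1
  have h2 : f i = Multiplicative.ofAdd 1 := if_pos rfl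
  have h3 : f j = 1 := if_neg hij.symm
  rw [h2, h3, mul_comm, inv_mul_cancel_left] at h1
  exact absurd h1 (by decide)

variable (irr : ∀ J : Set I, J.Nonempty → J ≠ Set.univ → ∃ a ∈ J, ∃ b, b ∉ J ∧ M a b ≠ 2)

include irr in
theorem dich_op : (∀ i, op cs i = i) ∨ (∃ i, op cs i ≠ i ∧ M i (op cs i) = 2) ∨
    (∃ i, op cs i ≠ i ∧ (∀ k, k = i ∨ k = op cs i) ∧ Odd (M i (op cs i))) := by
  by_cases hall : ∀ i, op cs i = i
  · exact Or.inl hall
  right
  push Not at hall
  obtain ⟨i, hi⟩ := hall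
  by_cases h2 : M i (op cs i) = 2
  · exact Or.inl ⟨i, hi, h2⟩
  by_cases huniv : ∀ k, k = i ∨ k = op cs i
  · right
    refine ⟨i, hi, huniv, odd_of_conj cs (w := w0 cs) (Ne.symm hi) huniv ?_⟩
    exact conj_eq cs i
  left
  push Not at huniv
  obtain ⟨k₀, hk₀, hk₀'⟩ := huniv
  have hne : ({i, op cs i} : Set I) ≠ Set.univ := by
    intro h
    have : k₀ ∈ ({i, op cs i} : Set I) := by rw [h]; trivial
    rcases this with h | h
    · exact hk₀ h
    · exact hk₀' h
  obtain ⟨a, ha, t, ht, hat⟩ := irr {i, op cs i} ⟨i, Or.inl rfl⟩ hne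
  -- `a` and `a*`
  have ha1 : op cs a ≠ a ∧ M a (op cs a) ≠ 2 ∧ t ≠ a ∧ t ≠ op cs a := by
    have ht1 : t ≠ i := fun h => ht (Or.inl h)
    have ht2 : t ≠ op cs i := fun h => ht (Or.inr h)
    rcases ha with rfl | ha
    · exact ⟨hi, h2, ht1, ht2⟩
    · have ha' : a = op cs i := ha
      subst ha'
      rw [op_op]
      refine ⟨Ne.symm hi, ?_, ht2, ht1⟩
      rwa [M.symmetric]
  obtain ⟨n1, n2, n3, n4⟩ := ha1
  have hop : ∀ {x y : I}, op cs x = y → x = op cs y := by
    intro x y h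
    rw [← h, op_op]
  have m1 : M (op cs a) (op cs t) ≠ 2 := by rwa [M_op]
  have hta : op cs t ≠ a := fun h => n4 (hop h)
  have hta' : op cs t ≠ op cs a := by
    intro h
    apply n3
    have := congrArg (op cs) h
    rwa [op_op, op_op] at this
  have htt : op cs t ≠ t := by
    intro h
    rw [h] at m1
    exact no_triangle cs irr (Ne.symm n1) (Ne.symm n3) (Ne.symm n4) n2 hat m1
  refine ⟨t, htt, ?_⟩
  by_contra h3
  -- the cycle `a, t, t*, a*`
  refine no_four_cycle cs irr (a := a) (b := t) (c := op cs t) (d := op cs a) (Ne.symm n3) (Ne.symm hta) (Ne.symm n1)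
    (Ne.symm htt) n4 hta' hat h3 ?_ ?_
  · rwa [M.symmetric]
  · rwa [M.symmetric]

include irr in
/-- **The dichotomy for the longest element.** -/
theorem dich : (∀ i, w0 cs * cs.simple i * (w0 cs)⁻¹ = cs.simple i) ∨
    (∃ i j, i ≠ j ∧ M i j = 2 ∧ w0 cs * cs.simple i * (w0 cs)⁻¹ = cs.simple j ∧
      w0 cs * cs.simple j * (w0 cs)⁻¹ = cs.simple i) ∨
    (∃ i j, i ≠ j ∧ (∀ k, k = i ∨ k = j) ∧ Odd (M i j)) := by
  rcases dich_op cs irr with h | ⟨i, h1, h2⟩ | ⟨i, h1, h2, h3⟩
  · left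
    intro i
    rw [conj_eq, h]
  · right; left
    exact ⟨i, op cs i, Ne.symm h1, h2, conj_eq cs i, by rw [conj_eq, op_op]⟩
  · right; right
    exact ⟨i, op cs i, Ne.symm h1, h2, h3⟩

include irr in
/-- The form with `wJ cs Set.univ`. -/
theorem dich' : (∀ i, wJ cs Set.univ * cs.simple i * (wJ cs Set.univ)⁻¹ = cs.simple i) ∨
    (∃ i j, i ≠ j ∧ M i j = 2 ∧ wJ cs Set.univ * cs.simple i * (wJ cs Set.univ)⁻¹ = cs.simple j ∧
      wJ cs Set.univ * cs.simple j * (wJ cs Set.univ)⁻¹ = cs.simple i) ∨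
    (∃ i j, i ≠ j ∧ (∀ k, k = i ∨ k = j) ∧ Odd (M i j)) := dich cs irr

end W0

end Cfsg.Agent.H234.AAW0
end

-- part: H460/Eng
section
/-!
# The engine for groups with a typed root group datum (helper460)

* `Eng ℓ K M Q` : split (B, N)-pair with a Coxeter system and typed nodes; `exists_eng`;
* `exists_t` : the action `t` of an automorphism; `pe_theta` : the condition on `θ`;
* `ell_false` : no elliptic type preserving automorphism of odd prime order `r ≠ ℓ` satisfies `PA`, except for `A₂`.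
-/

set_option autoImplicit false
set_option linter.unusedSectionVars false

namespace Cfsg.Agent.H460.Engine

open Cfsg Cfsg.Agent.LieExceptional.BNPairCore Cfsg.Agent.Tits.Core Cfsg.Agent.Tits.Core.Bldg Cfsg.Agent.Tits.OfBN
  Cfsg.Agent.Schreier.BNSch Cfsg.Agent.Tits.OppRes Cfsg.Agent.FixBN.OfBN
open Cfsg.Agent.FixBN (Sys Split)
open Cfsg.Agent.FixOdd (Tw)
open Cfsg.Agent.H460.Typed Cfsg.Agent.H460.Pan Cfsg.Agent.H460.AA Cfsg.Agent.H460.EllC Cfsg.Agent.H460.PanL
  Cfsg.Agent.H185.TypedTw Cfsg.Agent.H459.Rad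

/-- Split (B, N)-pair of characteristic `ℓ` with typed nodes. -/
structure Eng (ℓ : ℕ) (K : Type*) [Group K] {l : ℕ} (M : CoxeterMatrix (Fin l)) (Q : Fin l → ℕ) where
  P : Cfsg.BNPair K
  U : Subgroup K
  S : Split P ℓ U
  hN : ((P.B ⊓ P.N).subgroupOf P.N).Normal
  e : Fin l ≃ P.S
  cs : CoxeterSystem M (WP P)
  hcs : ∀ i, cs.simple i = QuotientGroup.mk (⟨(e i : K), P.subset (e i).2⟩ : P.N)
  fin : Finite (WP P)
  sol : Group.IsSolvable P.B
  core : P.B.normalCore = ⊥
  node : ∀ i, LNode P U (e i : K) (Q i)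

attribute [instance] Eng.hN Eng.fin

section

open CoxeterSystem Cfsg.Agent.ChevalleyStructure.CoxeterGeom Cfsg.Agent.Tits.Roots
  Cfsg.Agent.Tits.RootComb Cfsg.Agent.Nodes.Comb Cfsg.Agent.Nodes.Reps Cfsg.Agent.Nodes.BNOf Cfsg.Agent.Nodes.BNOf.RGD

variable {K : Type*} [Group K] [Finite K] [IsSimpleGroup K] {ℓ : ℕ} [Fact ℓ.Prime] {l : ℕ}
  {M : CoxeterMatrix (Fin l)} {Q : Fin l → ℕ}

/-- solvability of `B` -/
theorem sol_B {A : Fin l → Fin l → ℤ} {h : IsCartan M A} {T : Subgroup K} {n : Fin l → K}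
    {X : (Fin l → ℤ) → Subgroup K} [Finite M.Group] (R : RGD M.toCoxeterSystem h ℓ T n X)
    (hgen : RGD.B M.toCoxeterSystem h T X ⊔ NN M.toCoxeterSystem R.nsys = ⊤) (hT : Group.IsSolvable T)
    (hS : Split (R.bnPair hgen) ℓ (RGD.Sup X (RGD.Pos M.toCoxeterSystem h))) :
    Group.IsSolvable (R.bnPair hgen).B := by
  have h1 : (R.bnPair hgen).B = T ⊔ RGD.Sup X (RGD.Pos M.toCoxeterSystem h) := rfl
  have hnil : Group.IsNilpotent ↥(RGD.Sup X (RGD.Pos M.toCoxeterSystem h)) := hS.isP.isNilpotent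
  rw [h1, sup_comm]
  refine Cfsg.Agent.H459.Gallery.isSolvable_sup (M := (R.bnPair hgen).B) hS.le (by rw [h1]; exact le_sup_left)
    hS.norm inferInstance hT

theorem exists_eng (h2 : 1 ≤ l) (H : HasTyped ℓ K M Q) : Nonempty (Eng ℓ K M Q) := by
  obtain ⟨A, h, T, n, X, hW, R, hgen, hT, hn⟩ := H
  have hne : (R.bnPair hgen).S.Nonempty := ⟨n ⟨0, h2⟩, ⟨0, h2⟩, rfl⟩
  have hcore := Cfsg.Agent.Tits.OfBN.normalCore_eq_bot (R.bnPair hgen) hne
  obtain ⟨hN, cs', hcs, hWP, hS⟩ := OddHalf.Table.AutRGD.exists_setup R hgen hcore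
  exact ⟨⟨R.bnPair hgen, _, hS, hN, OddHalf.Table.AutRGD.eS R hgen, cs', hcs, hWP, sol_B R hgen hT hS, hcore, hn⟩⟩

theorem exists_engF (h2 : 1 ≤ l) (H : HasFTyped ℓ K M Q) :
    ∃ E : Eng ℓ K M Q, ∀ i, FNode E.P E.U (E.e i : K) (Q i) := by
  obtain ⟨A, h, T, n, X, hW, R, hgen, hT, hn⟩ := H
  have hne : (R.bnPair hgen).S.Nonempty := ⟨n ⟨0, h2⟩, ⟨0, h2⟩, rfl⟩
  have hcore := Cfsg.Agent.Tits.OfBN.normalCore_eq_bot (R.bnPair hgen) hne
  obtain ⟨hN, cs', hcs, hWP, hS⟩ := OddHalf.Table.AutRGD.exists_setup R hgen hcore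
  exact ⟨⟨R.bnPair hgen, _, hS, hN, OddHalf.Table.AutRGD.eS R hgen, cs', hcs, hWP, sol_B R hgen hT hS, hcore,
    fun i => (hn i).lnode⟩, hn⟩

end

section

variable {K : Type*} [Group K] [Finite K] {ℓ : ℕ} [Fact ℓ.Prime] {l : ℕ} {M : CoxeterMatrix (Fin l)} {Q : Fin l → ℕ}
  (E : Eng ℓ K M Q)

/-- the building -/
noncomputable abbrev Eng.Δ : Bldg E.cs (K ⧸ E.P.B) := bldg E.P E.e E.cs E.hcs

/-- the root groups -/
noncomputable abbrev Eng.sys : Sys E.Δ K ℓ := Cfsg.Agent.FixBN.OfBN.sys E.e E.cs E.hcs E.S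

theorem Eng.th : E.Δ.Thick := thick E.P E.e E.cs E.hcs

theorem Eng.exists_t (x : MulAut K) : ∃ t : Tw E.Δ K, t.τ = x ∧ ∀ n : ℕ, x ^ n = 1 → t.θ ^ n = 1 :=
  Cfsg.Agent.FixOdd.exists_tw E.S E.e E.cs E.hcs x

/-- A permutation of the chambers commuting with `K` is trivial. -/
theorem Eng.perm_eq_one {y : Equiv.Perm (K ⧸ E.P.B)} (h : ∀ (k : K) c, y (k • c) = k • y c) : y = 1 := by
  obtain ⟨a, ha⟩ := QuotientGroup.mk_surjective (y (QuotientGroup.mk 1))
  have h1 : ∀ b : K, y (QuotientGroup.mk b) = b • (QuotientGroup.mk a : K ⧸ E.P.B) := by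
    intro b
    have e : (QuotientGroup.mk b : K ⧸ E.P.B) = b • QuotientGroup.mk 1 := by rw [smul_mk, mul_one]
    rw [e, h, ← ha]
  have h2 : a ∈ E.P.B := by
    apply Cfsg.Agent.FixBN.TwOfBN.mem_of_conj E.S
    intro b hb
    have h3 : (QuotientGroup.mk b : K ⧸ E.P.B) = QuotientGroup.mk 1 := by
      rw [mk_eq, mul_one]; exact inv_mem hb
    have h4 : b • (QuotientGroup.mk a : K ⧸ E.P.B) = QuotientGroup.mk a := by
      rw [← h1, h3, h1, one_smul]
    exact smul_mk_eq.1 h4
  have h3 : (QuotientGroup.mk a : K ⧸ E.P.B) = QuotientGroup.mk 1 := by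
    rw [mk_eq, mul_one]; exact inv_mem h2
  ext z
  obtain ⟨b, rfl⟩ := QuotientGroup.mk_surjective z
  rw [h1, h3, smul_mk, mul_one]
  rfl

/-- the powers of `θ g θ g⁻¹` -/
theorem Eng.pe_theta {x : MulAut K} {t : Tw E.Δ K} (ht : t.τ = x) {r : ℕ} [Fact r.Prime] (hP : PA r x) (g : K) :
    PE r (t.θ * MulAction.toPerm g * t.θ * (MulAction.toPerm g)⁻¹ : Equiv.Perm (K ⧸ E.P.B)) := by
  obtain ⟨k, hk⟩ := PE.pow_eq_one_iff.1 (hP g)
  refine PE.pow_eq_one_iff.2 ⟨k, E.perm_eq_one fun a c => ?_⟩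
  set y : Equiv.Perm (K ⧸ E.P.B) := t.θ * MulAction.toPerm g * t.θ * (MulAction.toPerm g)⁻¹ with hy
  set z : MulAut K := x * (MulAut.conj g * x * (MulAut.conj g)⁻¹) with hz
  have h1 : ∀ (a : K) c, y (a • c) = z a • y c := by
    intro a c
    have e1 : y (a • c) = t.θ (g • t.θ (g⁻¹ • (a • c))) := by
      rw [hy]
      simp only [Equiv.Perm.mul_apply, MulAction.toPerm_apply]
      rfl
    have e2 : y c = t.θ (g • t.θ (g⁻¹ • c)) := by
      rw [hy]
      simp only [Equiv.Perm.mul_apply, MulAction.toPerm_apply]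
      rfl
    have e3 : g⁻¹ • (a • c) = (g⁻¹ * a * g) • (g⁻¹ • c) := by
      simp only [smul_smul]
      congr 1
      group
    have e4 : ∀ c', g • (t.τ (g⁻¹ * a * g) • c') = (g * t.τ (g⁻¹ * a * g) * g⁻¹) • (g • c' : K ⧸ E.P.B) := by
      intro c'
      simp only [smul_smul]
      congr 1
      group
    rw [e1, e2, e3, t.θ_smul (g⁻¹ * a * g), e4, t.θ_smul (g * t.τ (g⁻¹ * a * g) * g⁻¹), ht]
    rfl
  have h2 : ∀ (n : ℕ) (a : K) c, (y ^ n) (a • c) = (z ^ n) a • (y ^ n) c := by
    intro n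
    induction n with
    | zero => intro a c; rfl
    | succ n ih =>
      intro a c
      rw [pow_succ', pow_succ' z, MulAut.mul_apply]
      show y ((y ^ n) (a • c)) = z ((z ^ n) a) • y ((y ^ n) c)
      rw [ih, h1]
  rw [h2, hk]
  rfl

/-- the type permutation has order dividing `r` -/
theorem Eng.sigma_pow {t : Tw E.Δ K} {n : ℕ} (h : t.θ ^ n = 1) : t.σ ^ n = 1 := by
  have hC : Cox E.cs := inferInstance
  ext i
  have h1 : ∀ m : ℕ, ∀ x y, E.Δ.δ ((t.θ ^ m) x) ((t.θ ^ m) y) = (t.φ ^ m : MulAut (WP E.P)) (E.Δ.δ x y) := by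
    intro m
    induction m with
    | zero => intro x y; rfl
    | succ m ih =>
      intro x y
      rw [pow_succ', pow_succ', Equiv.Perm.mul_apply, Equiv.Perm.mul_apply, t.δ_θ, ih]
      rfl
  have h2 : ∀ m : ℕ, (t.φ ^ m : MulAut (WP E.P)) (E.cs.simple i) = E.cs.simple ((t.σ ^ m) i) := by
    intro m
    induction m with
    | zero => rfl
    | succ m ih =>
      rw [pow_succ', pow_succ', Equiv.Perm.mul_apply]
      show t.φ ((t.φ ^ m : MulAut (WP E.P)) (E.cs.simple i)) = _
      rw [ih, t.φ_simple]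
  obtain ⟨z, hz⟩ := E.Δ.exists_δ (QuotientGroup.mk 1) (E.cs.simple i)
  have h3 := h1 n (QuotientGroup.mk 1) z
  rw [h, hz, h2] at h3
  change E.Δ.δ (QuotientGroup.mk 1) z = _ at h3
  rw [hz] at h3
  have := hC.inj h3
  rw [← this]
  rfl

/-- the type permutation preserves the Coxeter matrix -/
theorem Eng.sigma_M (t : Tw E.Δ K) (i j : Fin l) : M (t.σ i) (t.σ j) = M i j := by
  rw [← LieRecognition.CoxForm.orderOf_eq E.cs, ← LieRecognition.CoxForm.orderOf_eq E.cs, ← t.φ_simple, ← t.φ_simple,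
    ← map_mul]
  exact orderOf_injective t.φ.toMonoidHom t.φ.injective _

/-! ### The elliptic case -/

/-- a two-colouring of the diagram -/
def Bip (M : CoxeterMatrix (Fin l)) : Prop := ∃ col : Fin l → Bool, ∀ i j, i ≠ j → M i j ≠ 2 → col i ≠ col j

/-- the Coxeter element of a list -/
theorem full_of_nodup {W : Type*} [Group W] {cs : CoxeterSystem M W} [Cox cs] {ω : List (Fin l)} (h : ω.Nodup)
    (hall : ∀ i, i ∈ ω) : Full cs (cs.wordProd ω) := by
  classical
  intro J hJ
  have hred : cs.IsReduced ω := H491.CoxSq.length_nodup cs h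
  have := Cfsg.Agent.H460.OppTrace.letters_mem hred hJ
  exact Set.eq_univ_of_forall fun i => this i (hall i)

/-- a bipartite Coxeter element -/
theorem exists_coxeter_element {W : Type*} [Group W] (cs : CoxeterSystem M W) [Cox cs] (hb : Bip M)
    (irr : ∀ J : Set (Fin l), J.Nonempty → J ≠ Set.univ → ∃ a ∈ J, ∃ b, b ∉ J ∧ M a b ≠ 2)
    (hne : ¬ ∃ i j, M i j = 3 ∧ ∀ k, k = i ∨ k = j) (h2 : 2 ≤ l) :
    ∃ w : W, Full cs w ∧ cs.length w = l ∧ cs.length (w * w) = 2 * l := by
  classical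
  obtain ⟨col, hcol⟩ := hb
  set l1 := (List.finRange l).filter fun i => col i with hl1
  set l2 := (List.finRange l).filter fun i => !col i with hl2
  have m1 : ∀ i, i ∈ l1 ↔ col i = true := fun i => by simp [hl1]
  have m2 : ∀ i, i ∈ l2 ↔ col i = false := fun i => by simp [hl2]
  have hnd : (l1 ++ l2).Nodup := by
    rw [List.nodup_append]
    refine ⟨(List.nodup_finRange l).filter _, (List.nodup_finRange l).filter _, ?_⟩
    intro a ha b hb hab
    rw [m1] at ha
    rw [m2] at hb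
    rw [hab, hb] at ha
    exact absurd ha (by decide)
  have hall : ∀ i, i ∈ l1 ++ l2 := by
    intro i
    rw [List.mem_append, m1, m2]
    cases col i <;> simp
  have h3 := H491.CoxSq.length_sq cs l1 l2 hnd hall (fun i hi j hj hij => by
      by_contra h
      exact hcol i j hij h (by rw [(m1 i).1 hi, (m1 j).1 hj]))
    (fun i hi j hj hij => by
      by_contra h
      exact hcol i j hij h (by rw [(m2 i).1 hi, (m2 j).1 hj]))
    (fun S hS hS' => by
      obtain ⟨a, ha, b, hb, h⟩ := irr S hS hS'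
      exact ⟨a, ha, b, hb, h⟩) hne (by rw [Fintype.card_fin]; exact h2)
  rw [Fintype.card_fin] at h3
  refine ⟨cs.wordProd (l1 ++ l2), full_of_nodup hnd hall, ?_, ?_⟩
  · rw [H491.CoxSq.length_nodup cs hnd]
    have h4 : (l1 ++ l2).toFinset = Finset.univ := Finset.eq_univ_iff_forall.2 fun i => List.mem_toFinset.2 (hall i)
    have h5 := List.toFinset_card_of_nodup hnd
    rw [h4, Finset.card_univ, Fintype.card_fin] at h5
    exact h5.symm
  · rw [← pow_two, h3]

variable {E} in
/-- **No elliptic automorphism.** `hPF` is the condition on the panels with a fixed chamber. -/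
theorem ell_false (hb : Bip M)
    (irr : ∀ J : Set (Fin l), J.Nonempty → J ≠ Set.univ → ∃ a ∈ J, ∃ b, b ∉ J ∧ M a b ≠ 2)
    (hA : ¬ ∃ i j, M i j = 3 ∧ ∀ k, k = i ∨ k = j) (h2 : 2 ≤ l) {r : ℕ} [hr : Fact r.Prime] (hr2 : r ≠ 2)
    (hrl : r ≠ ℓ) {x : MulAut K} (hx : x ^ r = 1) (hP : PA r x) {t : Tw E.Δ K} (ht : t.τ = x)
    (hθ : t.θ ^ r = 1) (hσ : ∀ i, t.σ i = i) (hell : Elliptic t)
    (hodd : ∀ i j, i ≠ j → (∀ k, k = i ∨ k = j) → Odd (M i j) → M i j = 3)
    (hPF : 5 ≤ r → (∀ i, r ∣ Q i + 1) → ∀ i x, PF r (E.sys.fam i x)) : False := by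
  have hC : Cox E.cs := inferInstance
  have hne : Nonempty (K ⧸ E.P.B) := ⟨QuotientGroup.mk 1⟩
  obtain ⟨w, hw, hw1, hw2⟩ := exists_coxeter_element E.cs hb irr hA h2
  by_cases h3 : r = 3
  · exact three_false E.sys E.th hσ hell (by rw [← h3]; exact hθ) hw (by rw [hw1, hw2]) (by omega)
  have h5 : 5 ≤ r := by
    have := hr.out.two_le
    have h4 : r ≠ 4 := by rintro rfl; exact absurd hr.out (by norm_num)
    omega
  have hPθ := fun g => E.pe_theta ht hP g
  have hrQ : ∀ i, ¬ r ∣ Q i := by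
    -- `Q i` is a power of `ℓ`
    intro i hd
    obtain ⟨V, Nd, hF⟩ := E.node i
    obtain ⟨n, hn⟩ : ∃ n, Q i = ℓ ^ n := by
      obtain ⟨a, ha⟩ := Cfsg.Agent.H459.NonEll.index_node E.P (r := ℓ) (U := E.U) E.S.le E.S.isP E.S.cover (E.e i).2
      rw [relIndex_eq E.S E.e (E.node i)] at ha
      exact ⟨a, by omega⟩
    rw [hn] at hd
    exact hrl ((Nat.prime_dvd_prime_iff_eq hr.out Fact.out).1 (hr.out.dvd_of_dvd_pow hd))
  rcases H234.AAW0.dich' E.cs irr with h | ⟨i, j, hij, hM, h6, h7⟩ | ⟨i, j, hij, hk, ho⟩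
  · -- central opposition
    have hw0 : ∀ i, w0 E.cs * E.cs.simple i * w0 E.cs = E.cs.simple i := by
      intro i
      have := h i
      have e : (wJ E.cs Set.univ)⁻¹ = wJ E.cs Set.univ := hC.wJ_inv _
      rw [e] at this
      exact this
    refine central_false E.sys E.th hσ hell hw0 hPθ (fun i y hc => ?_) ?_ hw ?_
    · rw [card_pan E.S E.e E.cs E.hcs (E.node i)] at hc
      exact pn_pan E.S E.e E.cs E.hcs (E.node i) hr2 (hrQ i) hc y
    · by_cases hall : ∀ i, r ∣ Q i + 1
      · exact Or.inr (hPF h5 hall)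
      · push Not at hall
        obtain ⟨i, hi⟩ := hall
        exact Or.inl ⟨i, fun y => by rw [card_pan E.S E.e E.cs E.hcs (E.node i)]; exact hi⟩
    · rintro rfl
      have h8 : w0 E.cs * w0 E.cs = 1 := hC.w0_mul_self
      rw [h8, E.cs.length_one] at hw2
      omega
  · -- two commuting nodes
    have e : (wJ E.cs Set.univ)⁻¹ = wJ E.cs Set.univ := hC.wJ_inv _
    rw [e] at h6 h7
    have hc : E.cs.simple i * E.cs.simple j = E.cs.simple j * E.cs.simple i := by
      have h8 := E.cs.simple_mul_simple_pow i j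
      rw [hM, pow_two] at h8
      have h9 := E.cs.simple_mul_simple_self i
      have h10 := E.cs.simple_mul_simple_self j
      calc E.cs.simple i * E.cs.simple j
          = (E.cs.simple i * E.cs.simple j)⁻¹ := by rw [eq_inv_iff_mul_eq_one]; exact h8
        _ = _ := by rw [mul_inv_rev, E.cs.inv_simple, E.cs.inv_simple]
    exact EllS.swap_false E.sys hij hc h6 h7 E.th hσ hell hr2 hrl hPθ
  · exact hA ⟨i, j, hodd i j hij hk ho, hk⟩

end

end Cfsg.Agent.H460.Engine
end

-- part: H460/RCStar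
section
/-!
# Radical automorphisms: the star lemma (helper460, AA-engine)

`x : MulAut K` radical of prime order `p`, normalising a proper parabolic subgroup but no Borel subgroup. Then all nodes
but one commute, have solvable minimal parabolic subgroups, and `p` divides the size of their panels.
-/

set_option autoImplicit false
set_option linter.unusedSectionVars false

namespace Cfsg.Agent.H460.RCStar

open Cfsg Subgroup Cfsg.Agent.SignalizersComponents.ComponentExists Cfsg.Agent.H459.Rad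
open Cfsg.Agent.Schreier.BNSch Cfsg.Agent.H459.Gallery

variable {K : Type*} [Group K] [Finite K] (P : BNPair K)

theorem cx_pow {x : MulAut K} {p : ℕ} (hxp : x ^ p = 1) (g : K) : (cx x g) ^ p = 1 := by
  have e : cx x g = (MulAut.conj g)⁻¹ * x * ((MulAut.conj g)⁻¹)⁻¹ := by rw [inv_inv]; rfl
  rw [e, conj_pow, hxp, mul_one, mul_inv_cancel]

/-- All automorphisms in the coset `Inn K x` which normalise `B` normalise the minimal parabolic subgroups. -/
def Rig (x : MulAut K) : Prop :=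
  ∀ a : K, Iv (MulAut.conj a * x) P.B → ∀ s ∈ P.S, Iv (MulAut.conj a * x) (P.parabolic {s})

theorem cx_eq (x : MulAut K) (g : K) : cx x g = MulAut.conj (g⁻¹ * x g) * x := by
  ext k
  rw [cx_apply', MulAut.mul_apply, MulAut.conj_apply]

variable {P} in
theorem Rig.cx {x : MulAut K} (h : Rig P x) (g : K) : Rig P (cx x g) := by
  intro a ha
  rw [cx_eq, ← mul_assoc, ← map_mul] at ha ⊢
  exact h _ ha

/-- An automorphism normalising `P_J` normalises all `P_L`, `J ⊆ L`. -/
theorem iv_mono {r : ℕ} [Fact r.Prime] (U : Sylow r K)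
    (hU : normalizer ((U : Subgroup K) : Set K) = P.B) {y : MulAut K}
    (hrig : Rig P y)
    {J L : Set K} (hLS : L ⊆ P.S) (hJL : J ⊆ L) (hg : Iv y (P.parabolic J)) : Iv y (P.parabolic L) := by
  obtain ⟨m, hm, hmB⟩ := exists_conj_fix P U hU (B_le_parabolic P J) hg
  have hzs := hrig m hmB
  have hzL : Iv (MulAut.conj m * y) (P.parabolic L) := by
    have h1 : P.parabolic L ≤ (P.parabolic L).comap (MulAut.conj m * y).toMonoidHom := by
      refine sup_le ?_ ?_
      · intro b hb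
        exact B_le_parabolic P _ (hmB b hb)
      · rw [closure_le]
        intro t ht
        exact parabolic_mono P (Set.singleton_subset_iff.2 ht) (hzs t (hLS ht) t (mem_parabolic_self P t))
    exact h1
  have hmL : m ∈ P.parabolic L := parabolic_mono P hJL hm
  intro a ha
  have h1 := hzL a ha
  rw [MulAut.mul_apply, MulAut.conj_apply] at h1
  have h2 := mul_mem (mul_mem (inv_mem hmL) h1) hmL
  have e : m⁻¹ * (m * y a * m⁻¹) * m = y a := by group
  rwa [e] at h2

/-- `R(M) B` is invariant. -/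
theorem iv_rad_sup {y : MulAut K} (hyR : RC y) {M : Subgroup K} (hMt : M ≠ ⊤) (hBM : P.B ≤ M) (hg : Iv y M) :
    Iv y (radIn M ⊔ P.B) := by
  have hradM : (radIn M).map y.toMonoidHom = radIn M := by
    have := radIn_map (y : K ≃* K) (M := M)
    rw [show (M.map (y : K ≃* K).toMonoidHom) = M from hg.map_eq] at this
    exact this
  have h2 : radIn M ⊔ P.B ≤ (radIn M ⊔ P.B).comap y.toMonoidHom := by
    refine sup_le ?_ ?_
    · intro a ha
      rw [mem_comap]
      refine mem_sup_left ?_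
      rw [← hradM]
      exact ⟨a, ha, rfl⟩
    · intro b hb
      rw [mem_comap]
      have h3 := hyR M hMt hg b (hBM hb)
      have h4 : y b = b * (b⁻¹ * y b) := by group
      show y b ∈ _
      rw [h4]
      exact mul_mem (mem_sup_right hb) (mem_sup_left h3)
  exact h2

theorem parabolic_ne_top {J : Set K} (hJS : J ⊆ P.S) (hJne : J ≠ P.S) : P.parabolic J ≠ ⊤ := by
  intro hMt
  have h1 : P.parabolic P.S ≤ P.parabolic J := by rw [hMt]; exact le_top
  rw [parabolic_le_iff P le_rfl hJS] at h1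
  exact hJne (Set.Subset.antisymm hJS h1)

/-- the reduction step: a node `s` with `p ∤ |P_s : B|` can be removed from `J` -/
theorem reduce_step {r p : ℕ} [Fact r.Prime] [Fact p.Prime] (U : Sylow r K)
    (hU : normalizer ((U : Subgroup K) : Set K) = P.B) {x : MulAut K} (hxp : x ^ p = 1)
    (hrig : Rig P x)
    {J : Set K} (hJS : J ⊆ P.S) {g : K} (hg : Iv (cx x g) (P.parabolic J)) {s : K} (hsJ : s ∈ J)
    (hcomm : ∀ t ∈ J, t ≠ s → s * t * s⁻¹ * t⁻¹ ∈ P.B) (hnd0 : ¬ p ∣ P.B.relIndex (P.parabolic {s})) :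
    ∃ k, Iv (cx x k) (P.parabolic (J \ {s})) := by
  classical
  have hfin : Finite K := inferInstance
  set y := cx x g with hy
  have hyp : y ^ p = 1 := cx_pow hxp g
  set M := P.parabolic J with hM
  have hBM : P.B ≤ M := B_le_parabolic P _
  have hsS : s ∈ P.S := hJS hsJ
  set J' := J \ {s} with hJ'
  have hJ'S : J' ⊆ P.S := Set.sdiff_subset.trans hJS
  have hsJ' : s ∉ J' := fun h => h.2 rfl
  have hins : insert s J' = J := by
    rw [hJ', Set.insert_sdiff_singleton, Set.insert_eq_of_mem hsJ]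
  set P' := P.parabolic J' with hP'
  have hP'M : P' ≤ M := parabolic_mono P Set.sdiff_subset
  have hnorm : normalizer (P' : Set K) = P' := Cfsg.Agent.S0312.result P hJ'S
  have hidx' : P'.relIndex M = P.B.relIndex (P.parabolic {s}) := by
    have := relIndex_insert P hJ'S hsS hsJ' (fun t ht => hcomm t ht.1 ht.2)
    rwa [hins] at this
  have hnd : ¬ p ∣ P'.relIndex M := by
    rw [hidx']
    exact hnd0
  -- `y` maps `P'` to a conjugate
  obtain ⟨m, hm, hmB⟩ := exists_conj_fix P U hU hBM hg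
  have hzs := hrig.cx g m hmB
  rw [← hy] at hzs
  set z := MulAut.conj m * y with hz
  have hzP' : Iv z P' := by
    have h1 : P' ≤ P'.comap z.toMonoidHom := by
      refine sup_le ?_ ?_
      · intro b hb
        exact B_le_parabolic P _ (hmB b hb)
      · rw [closure_le]
        intro t ht
        exact parabolic_mono P (Set.singleton_subset_iff.2 ht) (hzs t (hJ'S ht) t (mem_parabolic_self P t))
    exact h1
  -- the set of conjugates
  let X : Set (Subgroup K) := {A | ∃ k ∈ M, A = P'.map (MulAut.conj k).toMonoidHom}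
  have hyP' : ∃ k ∈ M, P'.map y.toMonoidHom = P'.map (MulAut.conj k).toMonoidHom := by
    refine ⟨m⁻¹, inv_mem hm, ?_⟩
    have h1 : y = MulAut.conj m⁻¹ * z := by rw [hz, ← mul_assoc, ← map_mul, inv_mul_cancel, map_one, one_mul]
    conv_lhs => rw [h1]
    have h2 : (MulAut.conj m⁻¹ * z).toMonoidHom = (MulAut.conj m⁻¹).toMonoidHom.comp z.toMonoidHom := rfl
    rw [h2, ← Subgroup.map_map, hzP'.map_eq]
  have hcomp : ∀ (f : MulAut K) (k : K) (A : Subgroup K), (A.map (MulAut.conj k).toMonoidHom).map f.toMonoidHom =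
      (A.map f.toMonoidHom).map (MulAut.conj (f k)).toMonoidHom := by
    intro f k A
    rw [Subgroup.map_map, Subgroup.map_map]
    congr 1
    ext a
    simp only [_root_.MulEquiv.toMonoidHom_eq_coe, _root_.MonoidHom.coe_comp, _root_.MonoidHom.coe_coe, _root_.Function.comp_apply, _root_.MulAut.conj_apply, _root_.map_mul, _root_.map_inv]
  have hXy : ∀ A ∈ X, A.map y.toMonoidHom ∈ X := by
    rintro _ ⟨k, hk, rfl⟩
    obtain ⟨l, hl, h1⟩ := hyP'
    refine ⟨y k * l, mul_mem (hg k hk) hl, ?_⟩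
    rw [hcomp, h1, Subgroup.map_map]
    congr 1
    ext a
    simp only [mul_assoc, _root_.MulEquiv.toMonoidHom_eq_coe, _root_.MonoidHom.coe_comp, _root_.MonoidHom.coe_coe, _root_.Function.comp_apply, _root_.MulAut.conj_apply, _root_.mul_assoc, _root_.map_mul, _root_.MulAut.mul_apply]
  let π : X → X := fun A => ⟨A.1.map y.toMonoidHom, hXy A.1 A.2⟩
  have hπ : Function.Injective π := by
    intro A B hAB
    have h1 : A.1.map y.toMonoidHom = B.1.map y.toMonoidHom := congrArg Subtype.val hAB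
    exact Subtype.ext (Subgroup.map_injective y.injective h1)
  have hXfin : Finite X := inferInstance
  let σ : Equiv.Perm X := Equiv.ofBijective π (Finite.injective_iff_bijective.1 hπ)
  have hσpow : ∀ n (A : X), (((σ ^ n) A : X) : Subgroup K) = (A : Subgroup K).map (y ^ n).toMonoidHom := by
    intro n
    induction n with
    | zero =>
      intro A
      rw [pow_zero, pow_zero]
      exact (Subgroup.map_id _).symm
    | succ n ih =>
      intro A
      rw [pow_succ', Equiv.Perm.mul_apply, pow_succ']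
      show (((σ ^ n) A : X) : Subgroup K).map y.toMonoidHom = _
      rw [ih, Subgroup.map_map]
      rfl
  have hσp : σ ^ p ^ 1 = 1 := by
    rw [pow_one]
    apply Equiv.ext
    intro A
    apply Subtype.ext
    rw [hσpow, hyp]
    exact Subgroup.map_id _
  have hcardX : Nat.card X = P'.relIndex M := by
    unfold Subgroup.relIndex Subgroup.index
    symm
    refine Nat.card_congr (Equiv.ofBijective (fun q : M ⧸ P'.subgroupOf M => Quotient.liftOn' q
      (fun m : M => (⟨P'.map (MulAut.conj (m : K)).toMonoidHom, m, m.2, rfl⟩ : X)) ?_) ⟨?_, ?_⟩)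
    · intro a b hab
      rw [QuotientGroup.leftRel_apply, mem_subgroupOf] at hab
      apply Subtype.ext
      show P'.map (MulAut.conj (a : K)).toMonoidHom = P'.map (MulAut.conj (b : K)).toMonoidHom
      have h1 : P'.map (MulAut.conj (((a⁻¹ * b : M) : K))).toMonoidHom = P' :=
        Subgroup.mem_normalizer_iff_map_conj_eq.1 (le_normalizer hab)
      conv_lhs => rw [← h1]
      rw [Subgroup.map_map]
      congr 1
      ext k
      simp [mul_assoc]
    · intro q q'
      refine Quotient.inductionOn₂' q q' fun a b hab => ?_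
      have h1 : P'.map (MulAut.conj (a : K)).toMonoidHom = P'.map (MulAut.conj (b : K)).toMonoidHom :=
        congrArg Subtype.val hab
      refine Quotient.sound' (QuotientGroup.leftRel_apply.2 ?_)
      rw [mem_subgroupOf, ← hnorm, Subgroup.mem_normalizer_iff_map_conj_eq]
      have h2 : (P'.map (MulAut.conj (b : K)).toMonoidHom).map (MulAut.conj ((a : K)⁻¹)).toMonoidHom =
          P'.map (MulAut.conj (((a⁻¹ * b : M) : K))).toMonoidHom := by
        rw [Subgroup.map_map]
        congr 1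
        ext k
        simp only [mul_assoc, _root_.map_inv, _root_.MulEquiv.toMonoidHom_eq_coe, _root_.MonoidHom.coe_comp, _root_.MonoidHom.coe_coe, _root_.MulAut.coe_inv, _root_.Function.comp_apply, _root_.MulAut.conj_apply, _root_.mul_assoc, _root_.MulAut.conj_symm_apply, _root_.Subgroup.coe_mul, _root_.InvMemClass.coe_inv, _root_.map_mul, _root_.MulAut.mul_apply, _root_.MulAut.inv_apply]
      have h3 : P'.map (MulAut.conj (((a⁻¹ * b : M) : K))).toMonoidHom = P' := by
        rw [← h2, ← h1, Subgroup.map_map]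
        conv_rhs => rw [← Subgroup.map_id P']
        congr 1
        ext k
        simp only [mul_assoc, _root_.map_inv, _root_.MulEquiv.toMonoidHom_eq_coe, _root_.MonoidHom.coe_comp, _root_.MonoidHom.coe_coe, _root_.MulAut.coe_inv, _root_.Function.comp_apply, _root_.MulAut.conj_apply, _root_.mul_assoc, _root_.MulAut.conj_symm_apply, _root_.inv_mul_cancel_left, _root_.inv_mul_cancel, _root_.mul_one, _root_.MonoidHom.id_apply]
      exact h3
    · rintro ⟨A, k, hk, rfl⟩
      exact ⟨Quotient.mk'' ⟨k, hk⟩, rfl⟩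
  have : Fintype X := Fintype.ofFinite X
  obtain ⟨⟨A, k, hk, rfl⟩, hA⟩ := Equiv.Perm.exists_fixed_point_of_prime (p := p) (n := 1)
    (by rw [← Nat.card_eq_fintype_card, hcardX]; exact hnd) hσp
  have hA' : (P'.map (MulAut.conj k).toMonoidHom).map y.toMonoidHom = P'.map (MulAut.conj k).toMonoidHom :=
    congrArg Subtype.val hA
  refine ⟨g * k, ?_⟩
  rw [← cx_cx]
  intro a ha
  have h1 : y (k * a * k⁻¹) ∈ P'.map (MulAut.conj k).toMonoidHom := by
    rw [← hA']
    exact ⟨k * a * k⁻¹, ⟨a, ha, rfl⟩, rfl⟩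
  obtain ⟨c, hc, h2⟩ := h1
  rw [cx_apply]
  have h3 : k * c * k⁻¹ = y (k * a * k⁻¹) := h2
  rw [← hy, ← h3]
  have : k⁻¹ * (k * c * k⁻¹) * k = c := by group
  rwa [this]

/-- **The star lemma.** -/
theorem star {r p : ℕ} [Fact r.Prime] [Fact p.Prime] (U : Sylow r K)
    (hU : normalizer ((U : Subgroup K) : Set K) = P.B) {x : MulAut K} (h : RC x) (hxp : x ^ p = 1)
    (hBs : Group.IsSolvable P.B) (hirr : P.Irreducible) (hrig : Rig P x)
    {J₀ : Set K} (hJ₀ : J₀ ⊆ P.S) (hne : J₀ ≠ P.S) {g₀ : K} (hg₀ : Iv (cx x g₀) (P.parabolic J₀))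
    (hno : ¬ ∃ g, Iv (cx x g) P.B) :
    ∃ c ∈ P.S, ∀ s ∈ P.S, s ≠ c → Group.IsSolvable (P.parabolic {s}) ∧ p ∣ P.B.relIndex (P.parabolic {s}) ∧
      ∀ t ∈ P.S, t ≠ c → s ≠ t → s * t * s⁻¹ * t⁻¹ ∈ P.B := by
  classical
  have hfin : Finite K := inferInstance
  obtain ⟨J, hJ⟩ := Set.exists_min_image {J : Set K | J ⊆ P.S ∧ J ≠ P.S ∧ ∃ g, Iv (cx x g) (P.parabolic J)}
    Set.ncard (Set.toFinite _) ⟨J₀, hJ₀, hne, g₀, hg₀⟩
  obtain ⟨⟨hJS, hJne, g, hg⟩, hmin⟩ := hJ
  have hJ0 : J ≠ ∅ := by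
    rintro rfl
    rw [parabolic_empty] at hg
    exact hno ⟨g, hg⟩
  set y := cx x g with hy
  have hyR : RC y := h.cx g
  have hyp : y ^ p = 1 := cx_pow hxp g
  -- invariant parabolic subgroups above `P_J`
  have key : ∀ L : Set K, L ⊆ P.S → L ≠ P.S → J ⊆ L →
      ∃ L' ⊆ L, J ⊆ L' ∧ radIn (P.parabolic L) ⊔ P.B = P.parabolic L' := by
    intro L hLS hLne hJL
    have hLt := parabolic_ne_top P hLS hLne
    have hBL : P.B ≤ P.parabolic L := B_le_parabolic P L
    have hyL := iv_mono P U hU (hrig.cx g) hLS hJL hg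
    have h1 := iv_rad_sup P hyR hLt hBL hyL
    obtain ⟨L', hL'S, hL'e⟩ := Cfsg.Agent.S0311.result P (radIn (P.parabolic L) ⊔ P.B) le_sup_right
    have hL'L : L' ⊆ L := by
      rw [← parabolic_le_iff P hL'S hLS, ← hL'e]
      exact sup_le (radIn_le _) hBL
    refine ⟨L', hL'L, ?_, hL'e⟩
    have h2 : Iv y (P.parabolic (L' ∩ J)) := by
      rw [← Cfsg.Agent.S0315.result P hL'S hJS, ← hL'e]
      intro a ha
      exact ⟨h1 a ha.1, hg a ha.2⟩
    have h3 := hmin (L' ∩ J) ⟨Set.inter_subset_right.trans hJS, fun h => hJne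
      (Set.Subset.antisymm hJS (h ▸ Set.inter_subset_right)), g, h2⟩
    have h4 : L' ∩ J = J := Set.eq_of_subset_of_ncard_le Set.inter_subset_right h3 (Set.toFinite _)
    exact Set.inter_eq_right.1 h4
  -- `P_J` is solvable
  have hMsol : Group.IsSolvable (P.parabolic J) := by
    obtain ⟨L', h1, h2, h3⟩ := key J hJS hJne le_rfl
    have h4 : L' = J := Set.Subset.antisymm h1 h2
    rw [h4] at h3
    have h5 := isSolvable_sup (radIn_le (P.parabolic J)) (B_le_parabolic P J)
      (fun g hg a ha => radIn_conj_mem hg ha) (radIn_solvable _) hBs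
    rw [h3] at h5
    exact h5
  have hcJ : ∀ s ∈ J, ∀ t ∈ J, s ≠ t → s * t * s⁻¹ * t⁻¹ ∈ P.B := by
    intro s hs t ht hst
    refine comm_of_solvable P (hJS hs) (hJS ht) hst (isSolvable_of_le (parabolic_mono P ?_) hMsol)
    rintro y (rfl | rfl)
    · exact hs
    · exact ht
  have hsolv : ∀ s ∈ J, Group.IsSolvable (P.parabolic {s}) := fun s hs =>
    isSolvable_of_le (parabolic_mono P (Set.singleton_subset_iff.2 hs)) hMsol
  have hdvd : ∀ s ∈ J, p ∣ P.B.relIndex (P.parabolic {s}) := by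
    intro s hs
    by_contra hnd
    obtain ⟨k, hk⟩ := reduce_step P U hU hxp hrig hJS hg hs (fun t ht hts => hcJ s hs t ht hts.symm) hnd
    have h1 := hmin (J \ {s}) ⟨Set.sdiff_subset.trans hJS, fun h => hJne
      (Set.Subset.antisymm hJS (h ▸ Set.sdiff_subset)), k, hk⟩
    have h2 : (J \ {s}).ncard < J.ncard := Set.ncard_sdiff_singleton_lt_of_mem hs (Set.toFinite _)
    omega
  -- a node `c` such that `J ∪ {c}` is not everything commutes with `J`
  have hout : ∀ c ∈ P.S, c ∉ J → insert c J ≠ P.S → ∀ j ∈ J, j * c * j⁻¹ * c⁻¹ ∈ P.B := by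
    intro c hc hcJ' hne' j hj
    have hLS : insert c J ⊆ P.S := Set.insert_subset hc hJS
    obtain ⟨L', h1, h2, h3⟩ := key (insert c J) hLS hne' (Set.subset_insert c J)
    by_cases hcL : c ∈ L'
    · have h4 : L' = insert c J := Set.Subset.antisymm h1 (Set.insert_subset hcL h2)
      rw [h4] at h3
      have h5 := isSolvable_sup (radIn_le (P.parabolic (insert c J))) (B_le_parabolic P _)
        (fun g hg a ha => radIn_conj_mem hg ha) (radIn_solvable _) hBs
      rw [h3] at h5
      refine comm_of_solvable P (hJS hj) hc (fun e => hcJ' (e ▸ hj)) (isSolvable_of_le (parabolic_mono P ?_) h5)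
      rintro y (rfl | rfl)
      · exact Set.mem_insert_of_mem _ hj
      · exact Set.mem_insert _ _
    · have h4 : L' = J := by
        refine Set.Subset.antisymm ?_ h2
        intro l hl
        rcases h1 hl with e | e
        · exact absurd (e ▸ hl) hcL
        · exact e
      rw [h4] at h3
      -- the normal subgroup of the parabolic subgroup
      set G' := P.parabolic (insert c J) with hG'
      set Q : BNPair G' := Cfsg.Agent.LieRecognition.BNCox.sub P (insert c J) hLS with hQ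
      have hQB : Q.B = P.B.subgroupOf G' := rfl
      have hQS : Q.S = {x : G' | (x : K) ∈ insert c J} := rfl
      have hmG : ∀ t ∈ insert c J, t ∈ G' := fun t ht => (le_sup_right : closure (insert c J) ≤ G') (subset_closure ht)
      have hN : ((radIn G').subgroupOf G').Normal := by
        refine ⟨fun n hn g => ?_⟩
        rw [mem_subgroupOf] at hn ⊢
        exact radIn_conj_mem g.2 hn
      set J' : Set G' := {x : G' | (x : K) ∈ J} with hJ'
      have hJ'S : J' ⊆ Q.S := fun x hx => Set.mem_insert_of_mem _ hx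
      have hsup : (radIn G').subgroupOf G' ⊔ Q.B = Q.parabolic J' := by
        have hpar : Q.parabolic J' = (P.parabolic J).subgroupOf G' := by
          apply Subgroup.map_injective G'.subtype_injective
          have e1 : (Q.parabolic J').map G'.subtype = P.parabolic J := by
            change (Q.B ⊔ closure J').map G'.subtype = P.B ⊔ closure J
            rw [Subgroup.map_sup, hQB, Subgroup.subgroupOf_map_subtype, inf_eq_left.2 (B_le_parabolic P _),
              MonoidHom.map_closure]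
            congr 2
            ext k
            constructor
            · rintro ⟨a, ha, rfl⟩
              exact ha
            · intro hk
              exact ⟨⟨k, hmG k (Set.mem_insert_of_mem _ hk)⟩, hk, rfl⟩
          rw [e1, Subgroup.subgroupOf_map_subtype, inf_eq_left.2 (parabolic_mono P (Set.subset_insert c J))]
        rw [hpar, ← h3, hQB]
        exact (Subgroup.subgroupOf_sup (radIn_le G') (B_le_parabolic P _)).symm
      have h5 := Cfsg.Agent.S0319.commute_of_normal Q ((radIn G').subgroupOf G') hJ'S hsup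
        (s := ⟨j, hmG j (Set.mem_insert_of_mem _ hj)⟩) (s' := ⟨c, hmG c (Set.mem_insert _ _)⟩) hj
        ⟨Set.mem_insert _ _, hcJ'⟩
      exact h5
  -- only one node is missing
  obtain ⟨c, hcS, hcJ'⟩ : ∃ c ∈ P.S, c ∉ J := by
    by_contra hcon
    push Not at hcon
    exact hJne (Set.Subset.antisymm hJS hcon)
  have hall : insert c J = P.S := by
    by_contra hne'
    -- then no node outside is joined to `J`
    obtain ⟨j, hj, d, hd, hjd⟩ := hirr J hJS (Set.nonempty_iff_ne_empty.2 hJ0) ⟨c, hcS, hcJ'⟩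
    apply hjd
    by_cases hdc : d = c
    · rw [hdc]; exact hout c hcS hcJ' hne' j hj
    · refine hout d hd.1 hd.2 (fun e => ?_) j hj
      have h1 : c ∈ insert d J := by rw [e]; exact hcS
      rcases h1 with h1 | h1
      · exact hdc h1.symm
      · exact hcJ' h1
  have hmemJ : ∀ s ∈ P.S, s ≠ c → s ∈ J := by
    intro s hs hsc
    rw [← hall] at hs
    exact hs.resolve_left hsc
  refine ⟨c, hcS, fun s hs hsc => ?_⟩
  have hsJ := hmemJ s hs hsc
  exact ⟨hsolv s hsJ, hdvd s hsJ, fun t ht htc hst => hcJ s hsJ t (hmemJ t ht htc) hst⟩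

end Cfsg.Agent.H460.RCStar
end

-- part: H460/EngFix
section
/-!
# The engine: automorphisms normalising a proper parabolic subgroup (helper460)

* `fixed_iff`, `wt_cx` : fixed chambers; `rig_of_sigma`;
* `exists_par` : an automorphism which is not elliptic normalises a proper parabolic subgroup;
* `fix_pan`, `hnode_of_px` : panels with a fixed chamber;
* `eq_one_of_borel`; `fix_main` : the conclusion.
-/

set_option autoImplicit false
set_option linter.unusedSectionVars false

namespace Cfsg.Agent.H460.Engine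

open Cfsg Subgroup Cfsg.Agent.LieExceptional.BNPairCore Cfsg.Agent.Tits.Core Cfsg.Agent.Tits.Core.Bldg
  Cfsg.Agent.Tits.OfBN Cfsg.Agent.Schreier.BNSch Cfsg.Agent.Tits.OppRes Cfsg.Agent.FixBN.OfBN
open Cfsg.Agent.FixBN (Sys Split famStab mem_famStab)
open Cfsg.Agent.FixOdd (Tw)
open Cfsg.Agent.H460.Typed Cfsg.Agent.H460.Pan Cfsg.Agent.H460.AA Cfsg.Agent.H460.EllC Cfsg.Agent.H460.PanL
  Cfsg.Agent.H185.TypedTw Cfsg.Agent.H459.Rad Cfsg.Agent.H459.Gallery Cfsg.Agent.H460.EllPan
open Cfsg.Agent.H694 (PJ PJ_sub mem_PJ)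

variable {K : Type*} [Group K] [Finite K] {ℓ : ℕ} [Fact ℓ.Prime] {l : ℕ} {M : CoxeterMatrix (Fin l)} {Q : Fin l → ℕ}
  {E : Eng ℓ K M Q}

/-! ### Fixed chambers -/

theorem theta_smul_mk (t : Tw E.Δ K) (g a : K) :
    t.θ (QuotientGroup.mk (a * g)) = t.τ a • t.θ (QuotientGroup.mk g) := by
  rw [← t.θ_smul, smul_mk]

/-- a chamber is fixed iff its stabiliser is invariant -/
theorem fixed_iff (t : Tw E.Δ K) (g : K) :
    t.θ (QuotientGroup.mk g) = QuotientGroup.mk g ↔ Iv (cx t.τ g) E.P.B := by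
  constructor
  · intro h b hb
    rw [cx_apply]
    have h1 : (QuotientGroup.mk (g * b * g⁻¹ * g) : K ⧸ E.P.B) = QuotientGroup.mk g := by
      rw [mk_eq]
      have e : (g * b * g⁻¹ * g)⁻¹ * g = b⁻¹ := by group
      rw [e]; exact inv_mem hb
    have h2 := theta_smul_mk t g (g * b * g⁻¹)
    rw [h1, h] at h2
    exact smul_mk_eq.1 h2.symm
  · intro h
    obtain ⟨g', hg'⟩ := QuotientGroup.mk_surjective (t.θ (QuotientGroup.mk g))
    rw [← hg', mk_eq]
    have h1 : ∀ b ∈ E.P.B, g'⁻¹ * t.τ (g * b * g⁻¹) * g' ∈ E.P.B := by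
      intro b hb
      have h2 := theta_smul_mk t g (g * b * g⁻¹)
      have h3 : (QuotientGroup.mk (g * b * g⁻¹ * g) : K ⧸ E.P.B) = QuotientGroup.mk g := by
        rw [mk_eq]
        have e : (g * b * g⁻¹ * g)⁻¹ * g = b⁻¹ := by group
        rw [e]; exact inv_mem hb
      rw [h3, ← hg'] at h2
      exact smul_mk_eq.1 h2.symm
    have h2 : g⁻¹ * g' ∈ E.P.B := by
      apply Cfsg.Agent.FixBN.TwOfBN.mem_of_conj E.S
      intro b hb
      rw [← h.map_eq] at hb
      obtain ⟨c, hc, rfl⟩ := hb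
      have h4 := h1 c hc
      have h5 : (cx t.τ g).toMonoidHom c = g⁻¹ * t.τ (g * c * g⁻¹) * g := cx_apply _ _ _
      rw [h5]
      have e : (g⁻¹ * g')⁻¹ * (g⁻¹ * t.τ (g * c * g⁻¹) * g) * (g⁻¹ * g') = g'⁻¹ * t.τ (g * c * g⁻¹) * g' := by group
      rw [e]
      exact h4
    have e : g'⁻¹ * g = (g⁻¹ * g')⁻¹ := by group
    rw [e]
    exact inv_mem h2

theorem theta_mk_of_fixed {t : Tw E.Δ K} {g : K} (h : t.θ (QuotientGroup.mk g) = QuotientGroup.mk g) (k : K) :
    t.θ (QuotientGroup.mk (g * k)) = QuotientGroup.mk (g * cx t.τ g k) := by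
  have e : g * k = (g * k * g⁻¹) * g := by group
  rw [e, theta_smul_mk, h, smul_mk, cx_apply]
  congr 1
  group

/-- `cx x g` preserves the double cosets. -/
theorem wt_cx {t : Tw E.Δ K} (hσ : ∀ i, t.σ i = i) {g : K} (h : t.θ (QuotientGroup.mk g) = QuotientGroup.mk g) (k : K) :
    wt E.P (cx t.τ g k) = wt E.P k := by
  have h1 := t.δ_θ (QuotientGroup.mk g) (QuotientGroup.mk (g * k))
  rw [h, theta_mk_of_fixed h, φ_eq hσ, bldg_δ_mk, bldg_δ_mk, inv_mul_cancel_left, inv_mul_cancel_left] at h1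
  exact h1

theorem iv_PJ {t : Tw E.Δ K} (hσ : ∀ i, t.σ i = i) {g : K} (h : Iv (cx t.τ g) E.P.B) (J : Set (Fin l)) :
    Iv (cx t.τ g) (PJ E.P E.e J) := by
  intro k hk
  rw [mem_PJ E.e E.cs E.hcs] at hk ⊢
  rwa [wt_cx hσ ((fixed_iff t g).2 h)]

theorem PJ_singleton (i : Fin l) : PJ E.P E.e {i} = E.P.parabolic {(E.e i : K)} := by
  unfold PJ
  rw [Set.image_singleton]

theorem iv_parabolic {t : Tw E.Δ K} (hσ : ∀ i, t.σ i = i) {g : K} (h : Iv (cx t.τ g) E.P.B) {s : K} (hs : s ∈ E.P.S) :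
    Iv (cx t.τ g) (E.P.parabolic {s}) := by
  obtain ⟨i, hi⟩ := E.e.surjective ⟨s, hs⟩
  have h1 : (E.e i : K) = s := congrArg Subtype.val hi
  have := iv_PJ hσ h {i}
  rwa [PJ_singleton, h1] at this

/-- multiplication by an inner automorphism -/
def twConj (t : Tw E.Δ K) (a : K) : Tw E.Δ K where
  τ := MulAut.conj a * t.τ
  θ := MulAction.toPerm a * t.θ
  φ := t.φ
  σ := t.σ
  φ_simple := t.φ_simple
  δ_θ x y := by
    rw [← t.δ_θ]
    exact E.sys.iso a _ _
  θ_smul g x := by
    show a • t.θ (g • x) = (a * t.τ g * a⁻¹) • (a • t.θ x)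
    rw [t.θ_smul]
    simp only [smul_smul]
    congr 1
    group

theorem rig_of_sigma {t : Tw E.Δ K} (hσ : ∀ i, t.σ i = i) : RCStar.Rig E.P t.τ := by
  intro a ha s hs
  have h1 : Iv (cx (twConj t a).τ 1) E.P.B := by rw [cx_one]; exact ha
  have h2 := iv_parabolic (t := twConj t a) hσ h1 hs
  rwa [cx_one] at h2

/-! ### Non elliptic automorphisms -/

theorem exists_par {t : Tw E.Δ K} (hσ : ∀ i, t.σ i = i) (h : ¬ Elliptic t) :
    ∃ J : Set (Fin l), J ≠ Set.univ ∧ ∃ g, Iv (cx t.τ g) (PJ E.P E.e J) := by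
  have hC : Cox E.cs := inferInstance
  unfold Elliptic at h
  push Not at h
  obtain ⟨y, J, hy, hJ⟩ := h
  obtain ⟨g, rfl⟩ := QuotientGroup.mk_surjective y
  obtain ⟨g', hg'⟩ := QuotientGroup.mk_surjective (t.θ (QuotientGroup.mk g))
  refine ⟨J, hJ, g, fun k hk => ?_⟩
  rw [← hg', mem_Res, bldg_δ_mk, ← mem_PJ E.e E.cs E.hcs] at hy
  have h1 : t.θ (QuotientGroup.mk (g * k)) = QuotientGroup.mk (t.τ (g * k * g⁻¹) * g') := by
    have e : g * k = (g * k * g⁻¹) * g := by group
    conv_lhs => rw [e]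
    rw [theta_smul_mk, ← hg', smul_mk]
  have h2 := t.δ_θ (QuotientGroup.mk g) (QuotientGroup.mk (g * k))
  rw [h1, ← hg', φ_eq hσ, bldg_δ_mk, bldg_δ_mk, inv_mul_cancel_left] at h2
  have h3 : g'⁻¹ * (t.τ (g * k * g⁻¹) * g') ∈ PJ E.P E.e J := by
    rw [mem_PJ E.e E.cs E.hcs, h2, ← mem_PJ E.e E.cs E.hcs]
    exact hk
  rw [cx_apply]
  have e : g⁻¹ * t.τ (g * k * g⁻¹) * g = (g⁻¹ * g') * (g'⁻¹ * (t.τ (g * k * g⁻¹) * g')) * (g⁻¹ * g')⁻¹ := by group
  rw [e]
  exact mul_mem (mul_mem hy h3) (inv_mem hy)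

/-! ### Panels with a fixed chamber -/

theorem restr_pow {C : Type*} {V : Set C} {w : Equiv.Perm V} {y : Equiv.Perm C} (h : ∀ z : V, (w z : C) = y z) (n : ℕ)
    (z : V) : ((w ^ n) z : C) = (y ^ n) z := by
  induction n with
  | zero => rfl
  | succ n ih =>
    rw [pow_succ', pow_succ', Equiv.Perm.mul_apply, Equiv.Perm.mul_apply, h, ih]

/-- **A panel with a fixed chamber.** -/
theorem fix_pan {t : Tw E.Δ K} (hσ : ∀ i, t.σ i = i) {c : K ⧸ E.P.B} (hc : t.θ c = c) (i : Fin l) {r : ℕ}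
    [Fact r.Prime] (hθ : t.θ ^ r = 1)
    (hP : ∀ g : K, PE r (t.θ * MulAction.toPerm g * t.θ * (MulAction.toPerm g)⁻¹ : Equiv.Perm (K ⧸ E.P.B)))
    (hX : PX r (E.sys.fam i c)) : ∀ z ∈ E.Δ.Pan i c, t.θ z = z := by
  have hfin : Finite (K ⧸ E.P.B) := inferInstance
  have hmem : ∀ z, z ∈ E.Δ.Pan i c ↔ t.θ z ∈ E.Δ.Pan i c := by
    intro z
    rw [E.Δ.Pan_eq_Res, mem_Res, mem_Res]
    have h1 := t.δ_θ c z
    rw [hc, φ_eq hσ] at h1
    rw [h1]
  let f : Equiv.Perm (E.Δ.Pan i c) := t.θ.subtypePerm fun z => (hmem z).symm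
  have hf : ∀ z, (f z : K ⧸ E.P.B) = t.θ z := fun z => rfl
  have hfi : ∀ z, ((f⁻¹) z : K ⧸ E.P.B) = t.θ⁻¹ z := by
    intro z
    have h1 : f (f⁻¹ z) = z := f.apply_symm_apply z
    have h2 := congrArg Subtype.val h1
    rw [hf] at h2
    rw [Equiv.Perm.eq_inv_iff_eq]
    exact h2
  have hone : f = 1 := by
    refine hX f (mem_famStab_of_forward ?_) ?_ ⟨⟨c, E.Δ.self_mem_Pan i c⟩, Subtype.ext (by rw [hf]; exact hc)⟩ ?_
    · intro z g hg
      obtain ⟨u, hu, hgu⟩ := hg
      have hk : ∀ a : E.Δ.Pan i c, ((f * g * f⁻¹) a : K ⧸ E.P.B) = t.τ u • (a : K ⧸ E.P.B) := by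
        intro a
        rw [Equiv.Perm.mul_apply, Equiv.Perm.mul_apply, hf, hgu, t.θ_smul, hfi]
        congr 1
        exact t.θ.apply_symm_apply _
      obtain ⟨n, hn⟩ := (E.sys.isP z) ⟨u, hu⟩
      have hn' : u ^ ℓ ^ n = 1 := by simpa only [_root_.SubmonoidClass.mk_pow, _root_.OneMemClass.coe_one] using congrArg Subtype.val hn
      have hgn : g ^ ℓ ^ n = 1 := by
        ext a
        rw [pow_smul_eq hgu, hn', one_smul]
        rfl
      have hwn : (f * g * f⁻¹) ^ ℓ ^ n = 1 := by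
        rw [conj_pow, hgn, mul_one, mul_inv_cancel]
      have hgz : g z = z := Subtype.ext (by rw [hgu, E.sys.fix z u hu])
      have hwz : (f * g * f⁻¹) (f z) = f z := by
        rw [Equiv.Perm.mul_apply, Equiv.Perm.mul_apply]
        have : f⁻¹ (f z) = z := f.symm_apply_apply z
        rw [this, hgz]
      obtain ⟨v, hv, h⟩ := exists_U_of_pElem E.sys hk hwz hwn
      exact ⟨v, hv, h⟩
    · refine PE.pow_eq_one_iff.2 ⟨1, ?_⟩
      ext z
      rw [restr_pow hf, pow_one, hθ]
      rfl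
    · intro m hm
      obtain ⟨k, hk⟩ := (iSup_le fun z => fam_le_ActG E.sys z) hm
      obtain ⟨n, hn⟩ := PE.pow_eq_one_iff.1 (hP k)
      refine PE.pow_eq_one_iff.2 ⟨n, ?_⟩
      have hki : ∀ z, ((m⁻¹) z : K ⧸ E.P.B) = k⁻¹ • (z : K ⧸ E.P.B) := by
        intro z
        rw [eq_inv_smul_iff, ← hk]
        congr 1
        exact m.apply_symm_apply z
      have h1 : ∀ z, ((f * (m * f * m⁻¹)) z : K ⧸ E.P.B) =
          (t.θ * MulAction.toPerm k * t.θ * (MulAction.toPerm k)⁻¹ : Equiv.Perm (K ⧸ E.P.B)) z := by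
        intro z
        simp only [Equiv.Perm.mul_apply]
        rw [hf, hk, hf, hki]
        rfl
      ext z
      rw [restr_pow h1, hn]
      rfl
  intro z hz
  have h1 := hf ⟨z, hz⟩
  rw [hone] at h1
  exact h1.symm

theorem hnode_of_px {t : Tw E.Δ K} (hσ : ∀ i, t.σ i = i) {g : K} (hg : Iv (cx t.τ g) E.P.B) (i : Fin l) {r : ℕ}
    [Fact r.Prime] (hθ : t.θ ^ r = 1)
    (hP : ∀ g : K, PE r (t.θ * MulAction.toPerm g * t.θ * (MulAction.toPerm g)⁻¹ : Equiv.Perm (K ⧸ E.P.B)))
    (hX : PX r (E.sys.fam i (QuotientGroup.mk g))) :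
    ∀ k ∈ E.P.parabolic {(E.e i : K)}, k⁻¹ * cx t.τ g k ∈ E.P.B := by
  intro k hk
  have hc := (fixed_iff t g).2 hg
  have h1 : (QuotientGroup.mk (g * k) : K ⧸ E.P.B) ∈ E.Δ.Pan i (QuotientGroup.mk g) := by
    rw [E.Δ.Pan_eq_Res, mem_Res, bldg_δ_mk, inv_mul_cancel_left, ← mem_PJ E.e E.cs E.hcs, PJ_singleton]
    exact hk
  have h2 := fix_pan hσ hc i hθ hP hX _ h1
  rw [theta_mk_of_fixed hc, eq_comm, mk_eq] at h2
  have e : (g * k)⁻¹ * (g * cx t.τ g k) = k⁻¹ * cx t.τ g k := by group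
  rwa [e] at h2

/-! ### The diagram -/

theorem comm_iff {i j : Fin l} (hij : i ≠ j) :
    (E.e i : K) * (E.e j : K) * (E.e i : K)⁻¹ * (E.e j : K)⁻¹ ∈ E.P.B ↔ M i j = 2 := by
  have hi := E.P.subset (E.e i).2
  have hj := E.P.subset (E.e j).2
  have hN : (E.e i : K) * (E.e j : K) * (E.e i : K)⁻¹ * (E.e j : K)⁻¹ ∈ E.P.N :=
    mul_mem (mul_mem (mul_mem hi hj) (inv_mem hi)) (inv_mem hj)
  have h1 : (QuotientGroup.mk (⟨_, hN⟩ : E.P.N) : WP E.P) =
      E.cs.simple i * E.cs.simple j * (E.cs.simple i)⁻¹ * (E.cs.simple j)⁻¹ := by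
    rw [E.hcs, E.hcs]
    rfl
  have h2 : (E.e i : K) * (E.e j : K) * (E.e i : K)⁻¹ * (E.e j : K)⁻¹ ∈ E.P.B ↔
      E.cs.simple i * E.cs.simple j * (E.cs.simple i)⁻¹ * (E.cs.simple j)⁻¹ = 1 := by
    rw [← h1, QuotientGroup.eq_one_iff, Subgroup.mem_subgroupOf]
    exact ⟨fun h => ⟨h, hN⟩, fun h => h.1⟩
  rw [h2, E.cs.inv_simple, E.cs.inv_simple]
  have h3 : E.cs.simple i * E.cs.simple j * E.cs.simple i * E.cs.simple j = (E.cs.simple i * E.cs.simple j) ^ 2 := by
    rw [pow_two]; group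
  rw [h3]
  constructor
  · intro h
    have h4 := orderOf_dvd_of_pow_eq_one h
    rw [LieRecognition.CoxForm.orderOf_eq E.cs, Nat.dvd_prime Nat.prime_two] at h4
    exact h4.resolve_left (M.off_diagonal i j hij)
  · intro h
    have := E.cs.simple_mul_simple_pow i j
    rwa [h] at this

theorem irreducible (irr : ∀ J : Set (Fin l), J.Nonempty → J ≠ Set.univ → ∃ a ∈ J, ∃ b, b ∉ J ∧ M a b ≠ 2) :
    E.P.Irreducible := by
  rintro J hJ ⟨s, hs⟩ ⟨s', hs', hsJ'⟩
  obtain ⟨a, ha, b, hb, hab⟩ := irr {i | (E.e i : K) ∈ J} (by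
      obtain ⟨i, hi⟩ := E.e.surjective ⟨s, hJ hs⟩
      exact ⟨i, by rw [Set.mem_ofPred_eq, hi]; exact hs⟩) (by
      intro h
      obtain ⟨i, hi⟩ := E.e.surjective ⟨s', hs'⟩
      have h1 : i ∈ {i | (E.e i : K) ∈ J} := by rw [h]; trivial
      rw [Set.mem_ofPred_eq, hi] at h1
      exact hsJ' h1)
  have hne : a ≠ b := fun h => hb (h ▸ ha)
  refine ⟨_, ha, E.e b, ⟨(E.e b).2, hb⟩, fun h => hab ((comm_iff hne).1 h)⟩

/-- a non-trivial extension of the diagram: the neighbour argument in rank at least three -/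
theorem hnode_of_neighbour {t : Tw E.Δ K} (hσ : ∀ i, t.σ i = i) (h : RC t.τ) {g : K} (hgB : Iv (cx t.τ g) E.P.B)
    {i j : Fin l} (hij : i ≠ j) (hM : M i j ≠ 2) (hne : ∃ k, k ≠ i ∧ k ≠ j) :
    ∀ k ∈ E.P.parabolic {(E.e i : K)}, k⁻¹ * cx t.τ g k ∈ E.P.B := by
  have hLS : ({(E.e i : K), (E.e j : K)} : Set K) ⊆ E.P.S := by
    rintro u (rfl | rfl)
    · exact (E.e i).2
    · exact (E.e j).2
  have hLne : ({(E.e i : K), (E.e j : K)} : Set K) ≠ E.P.S := by
    intro he
    obtain ⟨k, hki, hkj⟩ := hne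
    have h1 : (E.e k : K) ∈ ({(E.e i : K), (E.e j : K)} : Set K) := by rw [he]; exact (E.e k).2
    rcases h1 with h1 | h1
    · exact hki (E.e.injective (Subtype.ext h1))
    · exact hkj (E.e.injective (Subtype.ext h1))
  have hst : (E.e i : K) * (E.e j : K) * (E.e i : K)⁻¹ * (E.e j : K)⁻¹ ∉ E.P.B := fun h => hM ((comm_iff hij).1 h)
  have hne' : (E.e i : K) ≠ (E.e j : K) := fun h => hij (E.e.injective (Subtype.ext h))
  obtain ⟨L', hL', hLe', -, hc⟩ := H459.NonEll.radIn_sup E.P E.sol hLS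
  have hsL : (E.e i : K) ∉ L' := fun h1 => hst (hc _ h1 _ (Or.inr rfl) hne')
  have htL : (E.e j : K) ∉ L' := fun h1 => by
    have h2 := hc _ h1 _ (Or.inl rfl) hne'.symm
    apply hst
    have e : (E.e i : K) * (E.e j : K) * (E.e i : K)⁻¹ * (E.e j : K)⁻¹ =
        ((E.e j : K) * (E.e i : K) * (E.e j : K)⁻¹ * (E.e i : K)⁻¹)⁻¹ := by group
    rw [e]
    exact inv_mem h2
  have hL0 : L' = ∅ := by
    rw [Set.eq_empty_iff_forall_notMem]
    intro u hu
    rcases hL' hu with rfl | rfl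
    · exact hsL hu
    · exact htL hu
  rw [hL0, parabolic_empty] at hLe'
  intro k hk
  have h4 := (h.cx g) _ (H459.NonEll.parabolic_ne_top E.P hLS hLne)
    (H459.NonEll.iv_parabolic E.P hgB (fun s hs => iv_parabolic hσ hgB hs) hLS) k
    (parabolic_mono E.P (Set.singleton_subset_iff.2 (Or.inl rfl)) hk)
  exact hLe'.le (mem_sup_left h4)

theorem singleton_ne_top (h2 : 2 ≤ l) {s : K} (hs : s ∈ E.P.S) : E.P.parabolic {s} ≠ ⊤ := by
  refine H459.NonEll.parabolic_ne_top E.P (Set.singleton_subset_iff.2 hs) fun he => ?_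
  have h0 : ∀ i : Fin l, (E.e i : K) = s := fun i => by
    have : (E.e i : K) ∈ ({s} : Set K) := by rw [he]; exact (E.e i).2
    exact this
  have h1 : E.e ⟨0, by omega⟩ = E.e ⟨1, by omega⟩ := Subtype.ext ((h0 _).trans (h0 _).symm)
  have h2 := congrArg Fin.val (E.e.injective h1)
  exact absurd h2 (by norm_num)

/-- **From a fixed chamber to the identity.** -/
theorem eq_one_of_borel (h2 : 2 ≤ l) {t : Tw E.Δ K} (hσ : ∀ i, t.σ i = i) (hR : RC t.τ) {g₀ : K}
    (hg₀ : Iv (cx t.τ g₀) E.P.B)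
    (hnode : ∀ i, Group.IsSolvable ↥(E.P.parabolic {(E.e i : K)}) → ∀ g, Iv (cx t.τ g) E.P.B →
      ∀ k ∈ E.P.parabolic {(E.e i : K)}, k⁻¹ * cx t.τ g k ∈ E.P.B) : t.τ = 1 := by
  have hall := all_fixed E.P (hR.cx g₀) E.sol (fun s hs => singleton_ne_top h2 hs)
    (fun g' hg' s hs => by rw [cx_cx] at hg' ⊢; exact iv_parabolic hσ hg' hs)
    (fun g' hg' s hs hsol k hk => by
      rw [cx_cx] at hg' ⊢
      obtain ⟨i, hi⟩ := E.e.surjective ⟨s, hs⟩
      have h1 : (E.e i : K) = s := congrArg Subtype.val hi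
      subst h1
      exact hnode i hsol _ hg' k hk) hg₀
  have h1 := eq_one E.P E.core hall
  have h3 : t.τ = MulAut.conj g₀ * cx t.τ g₀ * (MulAut.conj g₀)⁻¹ := by
    unfold cx
    group
  rw [h3, h1, mul_one, mul_inv_cancel]

/-! ### The theorem -/

/-- the orders `Q i` are powers of `ℓ` -/
theorem Eng.q_pow (E : Eng ℓ K M Q) (i : Fin l) : ∃ n, Q i = ℓ ^ n := by
  obtain ⟨a, ha⟩ := Cfsg.Agent.H459.NonEll.index_node E.P (r := ℓ) (U := E.U) E.S.le E.S.isP E.S.cover (E.e i).2
  rw [relIndex_eq E.S E.e (E.node i)] at ha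
  exact ⟨a, by omega⟩

theorem Eng.q_ne (E : Eng ℓ K M Q) (i : Fin l) {r : ℕ} (hr : r.Prime) (hrl : r ≠ ℓ) : ¬ r ∣ Q i := by
  intro hd
  obtain ⟨n, hn⟩ := E.q_pow i
  rw [hn] at hd
  exact hrl ((Nat.prime_dvd_prime_iff_eq hr Fact.out).1 (hr.dvd_of_dvd_pow hd))

/-- **Automorphisms normalising a proper parabolic subgroup.** -/
theorem fix_main (irr : ∀ J : Set (Fin l), J.Nonempty → J ≠ Set.univ → ∃ a ∈ J, ∃ b, b ∉ J ∧ M a b ≠ 2)
    (h2 : 2 ≤ l) {r : ℕ} [hr : Fact r.Prime] (hr2 : r ≠ 2) {t : Tw E.Δ K} (hx : orderOf t.τ = r) (hR : RC t.τ)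
    (hP : PA r t.τ) (hθ : t.θ ^ r = 1) (hσ : ∀ i, t.σ i = i) (hne : r = ℓ ∨ ¬ Elliptic t) :
    (r ≠ ℓ ∧ (¬ ∃ g, Iv (cx t.τ g) E.P.B) ∧ ∃ c : Fin l,
      (∀ i, i ≠ c → Group.IsSolvable ↥(E.P.parabolic {(E.e i : K)}) ∧ r ∣ Q i + 1) ∧
        ∀ i j, i ≠ c → j ≠ c → i ≠ j → M i j = 2) ∨
      (r = ℓ ∧ l = 2 ∧ ∃ i, Group.IsSolvable ↥(E.P.parabolic {(E.e i : K)})) := by
  have hPθ := fun g => E.pe_theta rfl hP g
  have hx1 : t.τ ≠ 1 := by
    intro h
    rw [h, orderOf_one] at hx
    exact hr.out.one_lt.ne hx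
  have hxr : t.τ ^ r = 1 := by rw [← hx]; exact pow_orderOf_eq_one _
  by_cases hrl : r = ℓ
  · right
    refine ⟨hrl, ?_⟩
    -- a fixed chamber
    obtain ⟨c, hc⟩ : ∃ c, t.θ c = c := by
      have : Fintype (K ⧸ E.P.B) := Fintype.ofFinite _
      have h1 : ¬ r ∣ Fintype.card (K ⧸ E.P.B) := by
        rw [← Nat.card_eq_fintype_card]
        intro hd
        have h2 : Nat.card (K ⧸ E.P.B) ≡ 1 [MOD r] := by
          rw [hrl]
          exact card_modEq (P := E.P) E.S
        have h3 := (h2.dvd_iff (dvd_refl r)).1 hd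
        exact hr.out.one_lt.ne' (Nat.dvd_one.1 h3)
      exact Equiv.Perm.exists_fixed_point_of_prime (p := r) (n := 1) h1 (by rw [pow_one]; exact hθ)
    obtain ⟨g, rfl⟩ := QuotientGroup.mk_surjective c
    have hg := (fixed_iff t g).1 hc
    by_contra hcon
    apply hx1
    refine eq_one_of_borel h2 hσ hR hg fun i hsol g' hg' => ?_
    have hl : l ≠ 2 := fun h => hcon ⟨h, i, hsol⟩
    obtain ⟨a, ha, j, hj, haj⟩ := irr {i} (Set.singleton_nonempty i) (by
      intro h
      have h0 : (⟨0, by omega⟩ : Fin l) ∈ ({i} : Set (Fin l)) := by rw [h]; trivial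
      have h1 : (⟨1, by omega⟩ : Fin l) ∈ ({i} : Set (Fin l)) := by rw [h]; trivial
      have h2 := congrArg Fin.val (h0.trans h1.symm)
      exact absurd h2 (by norm_num))
    rw [Set.mem_singleton_iff] at ha hj
    subst ha
    refine hnode_of_neighbour hσ hR hg' (Ne.symm hj) haj ?_
    by_contra hk
    push Not at hk
    have h3 : Fintype.card (Fin l) ≤ 2 := by
      have h4 : (Finset.univ : Finset (Fin l)) ⊆ {a, j} := by
        intro k _
        by_cases h5 : k = a
        · simp [h5]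
        · simp [hk k h5]
      rw [← Finset.card_univ]
      exact (Finset.card_le_card h4).trans Finset.card_le_two
    rw [Fintype.card_fin] at h3
    omega
  · left
    have hno : ¬ ∃ g, Iv (cx t.τ g) E.P.B := by
      rintro ⟨g, hg⟩
      apply hx1
      exact eq_one_of_borel h2 hσ hR hg fun i hsol g' hg' =>
        hnode_of_px hσ hg' i hθ hPθ (px_sol E.S E.e E.cs E.hcs (E.node i) hsol hr2 (E.q_ne i hr.out hrl) _)
    refine ⟨hrl, hno, ?_⟩
    obtain ⟨J, hJ, g, hg⟩ := exists_par hσ (hne.resolve_left hrl)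
    obtain ⟨U', hU'⟩ := Cfsg.Agent.H459.RgdRad.exists_sylow E.S
    have hN : normalizer ((U' : Subgroup K) : Set K) = E.P.B := by rw [hU']; exact E.S.normalizer_eq
    obtain ⟨c, hc, hs⟩ := RCStar.star E.P U' hN hR hxr E.sol (irreducible irr) (rig_of_sigma hσ) (PJ_sub E.e J) (by
      intro h
      apply hJ
      refine Set.eq_univ_of_forall fun i => ?_
      have h1 : (E.e i : K) ∈ (fun i => (E.e i : K)) '' J := by rw [h]; exact (E.e i).2
      obtain ⟨j, hj, h3⟩ := h1
      rw [← E.e.injective (Subtype.ext h3)]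
      exact hj) hg hno
    obtain ⟨c', hc'⟩ := E.e.surjective ⟨c, hc⟩
    have hcc : (E.e c' : K) = c := congrArg Subtype.val hc'
    have hne : ∀ i, i ≠ c' → (E.e i : K) ≠ c := fun i hi h => hi (E.e.injective (Subtype.ext (h.trans hcc.symm)))
    refine ⟨c', fun i hi => ?_, fun i j hi hj hij => ?_⟩
    · obtain ⟨h3, h4, -⟩ := hs _ (E.e i).2 (hne i hi)
      rw [relIndex_eq E.S E.e (E.node i)] at h4
      exact ⟨h3, h4⟩
    · obtain ⟨-, -, h5⟩ := hs _ (E.e i).2 (hne i hi)
      exact (comm_iff hij).1 (h5 _ (E.e j).2 (hne j hj) fun h => hij (E.e.injective (Subtype.ext h)))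

end Cfsg.Agent.H460.Engine
end

private theorem dce_12d5774d3f19 : _root_.True := by
  try have : _root_.True := by simp only [_root_.Cfsg.Agent.H491.CoxSq.St.eq_1]
  exact _root_.True.intro
end

-- part: H460/Dgs
section
set_option linter.all false
open scoped Cfsg.Agent.FastGrp

-- part: H460/EngMain
section
/-!
# The engine: conclusion (helper460)

* `Dg M` : the diagram conditions;
* `eng_main` : an automorphism `x` of odd prime order `r` with `RC` and `PA` of a group with typed nodes: `x` is in one of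
  the two small situations (`r = 3`).
-/

set_option autoImplicit false
set_option linter.unusedSectionVars false

namespace Cfsg.Agent.H460.Engine

open Cfsg Subgroup Cfsg.Agent.LieExceptional.BNPairCore Cfsg.Agent.Tits.Core Cfsg.Agent.Tits.Core.Bldg
  Cfsg.Agent.Tits.OfBN Cfsg.Agent.Schreier.BNSch Cfsg.Agent.Tits.OppRes Cfsg.Agent.FixBN.OfBN
open Cfsg.Agent.FixBN (Sys Split famStab mem_famStab)
open Cfsg.Agent.FixBN.U3Model
open Cfsg.Agent.FixOdd (Tw)
open Cfsg.Agent.H460.Typed Cfsg.Agent.H460.Pan Cfsg.Agent.H460.AA Cfsg.Agent.H460.EllC Cfsg.Agent.H460.PanL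
  Cfsg.Agent.H185.TypedTw Cfsg.Agent.H459.Rad Cfsg.Agent.H459.Gallery Cfsg.Agent.H460.EllPan

/-- The conditions on the diagram: connected, bipartite, of rank at least two, not `A₂`. -/
structure Dg {l : ℕ} (M : CoxeterMatrix (Fin l)) : Prop where
  two : 2 ≤ l
  irr : ∀ J : Set (Fin l), J.Nonempty → J ≠ Set.univ → ∃ a ∈ J, ∃ b, b ∉ J ∧ M a b ≠ 2
  bip : Bip M
  notA : ¬ ∃ i j, M i j = 3 ∧ ∀ k, k = i ∨ k = j
  odd : ∀ i j, i ≠ j → (∀ k, k = i ∨ k = j) → Odd (M i j) → M i j = 3

/-- No diagram automorphisms of order `r`. -/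
def NoAut {l : ℕ} (M : CoxeterMatrix (Fin l)) (r : ℕ) : Prop :=
  ∀ σ : Equiv.Perm (Fin l), (∀ i j, M (σ i) (σ j) = M i j) → σ ^ r = 1 → σ = 1

variable {K : Type*} [Group K] [Finite K] {ℓ : ℕ} [Fact ℓ.Prime] {l : ℕ} {M : CoxeterMatrix (Fin l)} {Q : Fin l → ℕ}

/-- the star situation -/
def Star (E : Eng ℓ K M Q) (r : ℕ) (x : MulAut K) : Prop :=
  r ≠ ℓ ∧ (¬ ∃ g, Iv (cx x g) E.P.B) ∧ (∃ t : Tw E.Δ K, t.τ = x ∧ t.θ ^ r = 1 ∧ (∀ i, t.σ i = i) ∧ ¬ Elliptic t) ∧
    ∃ c : Fin l, (∀ i, i ≠ c → Group.IsSolvable ↥(E.P.parabolic {(E.e i : K)}) ∧ r ∣ Q i + 1) ∧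
        ∀ i j, i ≠ c → j ≠ c → i ≠ j → M i j = 2

/-- the situation in the defining characteristic -/
def Own (E : Eng ℓ K M Q) (r : ℕ) : Prop :=
  r = ℓ ∧ l = 2 ∧ ∃ i, Group.IsSolvable ↥(E.P.parabolic {(E.e i : K)})

/-- **The type preserving automorphisms.** -/
theorem eng_sigma {E : Eng ℓ K M Q} (hD : Dg M) {r : ℕ} [hr : Fact r.Prime] (hr2 : r ≠ 2) {x : MulAut K}
    (hx : orderOf x = r) (hR : RC x) (hP : PA r x) {t : Tw E.Δ K} (ht : t.τ = x) (hθ : t.θ ^ r = 1)
    (hσ : ∀ i, t.σ i = i) (hPF : 5 ≤ r → (∀ i, r ∣ Q i + 1) → ∀ i x, PF r (E.sys.fam i x)) :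
    Star E r x ∨ Own E r := by
  subst ht
  have hxr : t.τ ^ r = 1 := by rw [← hx]; exact pow_orderOf_eq_one _
  by_cases hne : r = ℓ ∨ ¬ Elliptic t
  · rcases fix_main hD.irr hD.two hr2 hx hR hP hθ hσ hne with ⟨h1, h2, h3⟩ | h
    · exact Or.inl ⟨h1, h2, ⟨t, rfl, hθ, hσ, hne.resolve_left h1⟩, h3⟩
    · exact Or.inr h
  · push Not at hne
    exact (ell_false hD.bip hD.irr hD.notA hD.two hr2 hne.1 hxr hP rfl hθ hσ hne.2 hD.odd hPF).elim

theorem eng_main {E : Eng ℓ K M Q} (hD : Dg M) {r : ℕ} [hr : Fact r.Prime] (hr2 : r ≠ 2) (hA : NoAut M r)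
    {x : MulAut K} (hx : orderOf x = r) (hR : RC x) (hP : PA r x)
    (hPF : 5 ≤ r → (∀ i, r ∣ Q i + 1) → ∀ i x, PF r (E.sys.fam i x)) : Star E r x ∨ Own E r := by
  obtain ⟨t, ht, h1⟩ := E.exists_t x
  have hxr : x ^ r = 1 := by rw [← hx]; exact pow_orderOf_eq_one _
  have hθ := h1 r hxr
  have hσ : t.σ = 1 := hA t.σ (E.sigma_M t) (E.sigma_pow hθ)
  exact eng_sigma hD hr2 hx hR hP ht hθ (fun i => by rw [hσ]; rfl) hPF

/-! ### Panels with a fixed chamber -/

/-- `PF` for the unitary families -/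
def PFU : Prop := ∀ (F : Type) [Field F] [Finite F] (σ : F →+* F) [Inv2 σ], (∃ x, σ x ≠ x) → ∀ q : ℕ,
  Nat.card F = q ^ 2 → q ≠ 2 → ∀ (r : ℕ) [Fact r.Prime], r ≠ 2 → ¬ r ∣ q → PF r (Cfsg.Agent.FixBN.RankOneU3.u3Fam σ)

theorem pf_pan (hU : PFU) (E : Eng ℓ K M Q) {r : ℕ} [hr : Fact r.Prime] (h5 : 5 ≤ r) (i : Fin l) (hi : r ∣ Q i + 1)
    (x : K ⧸ E.P.B) : PF r (E.sys.fam i x) := by
  have hr2 : r ≠ 2 := by omega
  have hrQ : ¬ r ∣ Q i := by
    intro h
    have h1 := (Nat.dvd_add_right h).1 hi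
    have := Nat.le_of_dvd one_pos h1
    omega
  have hQ := E.node i
  induction x using QuotientGroup.induction_on with
  | _ g =>
  obtain ⟨V, Nd, ⟨F, _, _, hQ, ⟨N⟩⟩ | ⟨F, _, _, σ, _, q, hσ, hq, hQ, ⟨N⟩⟩⟩ := hQ
  · refine (H458.PanF.pf_line F hr2 (by rwa [hQ]) ?_).map _ (H14.CycNode.iso_mk E.S E.e E.cs E.hcs i Nd N g
      fun y f => Iff.rfl)
    rw [hQ]
    intro h
    rw [h] at hi
    have := Nat.le_of_dvd (by norm_num) hi
    omega
  · refine (hU F σ hσ q hq ?_ r hr2 (fun hd => hrQ (by rw [hQ]; exact dvd_pow hd (by norm_num)))).map _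
      (H14.CycNode.Uni.iso_mk E.S E.e E.cs E.hcs i Nd N g fun y f => Iff.rfl)
    rintro rfl
    rw [hQ] at hi
    have h9 : r ∣ 3 * 3 := hi
    rcases hr.out.dvd_mul.1 h9 with h | h <;>
      · have := Nat.le_of_dvd (by norm_num) h
        omega

/-! ### Numbers -/

theorem Star.q {E : Eng ℓ K M Q} {r : ℕ} {x : MulAut K} [hr : Fact r.Prime] (hr2 : r ≠ 2) (hl : 2 ≤ l)
    (h : Star E r x) : r = 3 ∧ ℓ = 2 ∧ ∃ c : Fin l, (∀ i, i ≠ c → Q i = 2 ∨ Q i = 8) ∧
        ∀ i j, i ≠ c → j ≠ c → i ≠ j → M i j = 2 := by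
  obtain ⟨h1, h2, -, c, h3, h4⟩ := h
  have key : ∀ i, i ≠ c → r = 3 ∧ (Q i = 2 ∨ Q i = 8) := by
    intro i hi
    obtain ⟨h5, h6⟩ := h3 i hi
    rcases q_of_sol E.S E.e (E.node i) h5 with h7 | h7 | h7
    · rw [h7] at h6
      exact ⟨(Nat.prime_dvd_prime_iff_eq hr.out Nat.prime_three).1 h6, Or.inl h7⟩
    · rw [h7] at h6
      exfalso
      have h8 : r ∣ 2 * 2 := h6
      rcases hr.out.dvd_mul.1 h8 with h9 | h9 <;>
        exact hr2 ((Nat.prime_dvd_prime_iff_eq hr.out Nat.prime_two).1 h9)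
    · rw [h7] at h6
      have h8 : r ∣ 3 * 3 := h6
      refine ⟨?_, Or.inr h7⟩
      rcases hr.out.dvd_mul.1 h8 with h9 | h9 <;>
        exact (Nat.prime_dvd_prime_iff_eq hr.out Nat.prime_three).1 h9
  obtain ⟨i, hi⟩ : ∃ i : Fin l, i ≠ c := by
    by_contra hcon
    push Not at hcon
    have h5 := (hcon ⟨0, by omega⟩).trans (hcon ⟨1, by omega⟩).symm
    have := congrArg Fin.val h5
    exact absurd this (by norm_num)
  refine ⟨(key i hi).1, ?_, c, fun i hi => (key i hi).2, h4⟩
  obtain ⟨n, hn⟩ := E.q_pow i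
  have h6 : 2 ∣ ℓ ^ n := by
    rw [← hn]
    rcases (key i hi).2 with h | h <;> rw [h]
    norm_num
  exact ((Nat.prime_dvd_prime_iff_eq Nat.prime_two Fact.out).1 (Nat.prime_two.dvd_of_dvd_pow h6)).symm

/-- with nodes over fields -/
theorem Star.qF {E : Eng ℓ K M Q} (hF : ∀ i, FNode E.P E.U (E.e i : K) (Q i)) {r : ℕ} {x : MulAut K}
    [hr : Fact r.Prime] (hr2 : r ≠ 2) (hl : 2 ≤ l)
    (h : Star E r x) : r = 3 ∧ ℓ = 2 ∧ ∃ c : Fin l, (∀ i, i ≠ c → Q i = 2) ∧
        ∀ i j, i ≠ c → j ≠ c → i ≠ j → M i j = 2 := by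
  obtain ⟨h1, h2, -⟩ := h.q hr2 hl
  obtain ⟨-, -, -, c, h3, h4⟩ := h
  refine ⟨h1, h2, c, fun i hi => ?_, h4⟩
  obtain ⟨h5, h6⟩ := h3 i hi
  rcases q_of_fsol E.S E.e (hF i) h5 with h7 | h7
  · exact h7
  · rw [h7, h1] at h6
    exact absurd h6 (by norm_num)

theorem Own.q {E : Eng ℓ K M Q} {r : ℕ} [hr : Fact r.Prime] (hr2 : r ≠ 2) (h : Own E r) :
    r = 3 ∧ ℓ = 3 ∧ l = 2 ∧ ∃ i, Q i = 3 := by
  obtain ⟨h1, h2, i, h3⟩ := h
  obtain ⟨n, hn⟩ := E.q_pow i
  have hl2 : ℓ ≠ 2 := by rw [← h1]; exact hr2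
  have key : ¬ 2 ∣ Q i := by
    intro h
    rw [hn] at h
    exact hl2 ((Nat.prime_dvd_prime_iff_eq Nat.prime_two Fact.out).1 (Nat.prime_two.dvd_of_dvd_pow h)).symm
  rcases q_of_sol E.S E.e (E.node i) h3 with h7 | h7 | h7
  · exact absurd (by rw [h7]) key
  · have h8 : ℓ = 3 := by
      rw [h7] at hn
      have h9 : 3 ∣ ℓ ^ n := by rw [← hn]
      exact ((Nat.prime_dvd_prime_iff_eq Nat.prime_three Fact.out).1 (Nat.prime_three.dvd_of_dvd_pow h9)).symm
    exact ⟨h1.trans h8, h8, h2, i, h7⟩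
  · exact absurd (by rw [h7]; norm_num) key

end Cfsg.Agent.H460.Engine
end

-- part: H460/Dgs
section
/-!
# The diagrams of the AA-engine (helper460)
-/

set_option autoImplicit false

namespace Cfsg.Agent.H460.Dgs

open Cfsg.Agent.H460.Engine Cfsg.Agent.H538.MFacts
open Cfsg.Agent.LieRecognition.BNCox (cA cA_apply)
open Cfsg.Agent.Nodes

/-- for at least three nodes the last two conditions are void -/
theorem dg_of_three {l : ℕ} {M : CoxeterMatrix (Fin l)} (h3 : 3 ≤ l)
    (irr : ∀ J : Set (Fin l), J.Nonempty → J ≠ Set.univ → ∃ a ∈ J, ∃ b, b ∉ J ∧ M a b ≠ 2) (hb : Bip M) : Dg M := by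
  have key : ∀ i j : Fin l, ¬ ∀ k, k = i ∨ k = j := by
    intro i j h
    have h4 : (Finset.univ : Finset (Fin l)) ⊆ {i, j} := by
      intro k _
      rcases h k with rfl | rfl <;> simp
    have h5 := (Finset.card_le_card h4).trans Finset.card_le_two
    rw [Finset.card_univ, Fintype.card_fin] at h5
    omega
  exact ⟨by omega, irr, hb, fun ⟨i, j, _, h⟩ => key i j h, fun i j _ h => (key i j h).elim⟩

theorem bip_A (n : ℕ) : Bip (cA n) := by
  refine ⟨fun i => (i : ℕ) % 2 == 0, fun i j hij h => ?_⟩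
  rw [cA_ne_two] at h
  intro he
  beta_reduce at he
  have h1 : ((i : ℕ) % 2 = 0) ↔ ((j : ℕ) % 2 = 0) := by
    rw [← beq_iff_eq (a := (i : ℕ) % 2), ← beq_iff_eq (a := (j : ℕ) % 2), he]
  rcases h with h | h | h
  · exact hij h
  · omega
  · omega

theorem bip_B (n : ℕ) : Bip (CoxeterMatrix.B n) := by
  refine ⟨fun i => (i : ℕ) % 2 == 0, fun i j hij h => ?_⟩
  rw [cB_ne_two] at h
  intro he
  beta_reduce at he
  have h1 : ((i : ℕ) % 2 = 0) ↔ ((j : ℕ) % 2 = 0) := by
    rw [← beq_iff_eq (a := (i : ℕ) % 2), ← beq_iff_eq (a := (j : ℕ) % 2), he]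
  rcases h with h | h | h
  · exact hij h
  · omega
  · omega

theorem bip_D (n : ℕ) (_hn : 1 ≤ n) : Bip (TypeD.M n) := by
  refine ⟨fun i => (if (i : ℕ) = n + 1 then n % 2 else (i : ℕ) % 2) == 0, fun i j hij h => ?_⟩
  rw [cD_ne_two] at h
  intro he
  beta_reduce at he
  have h1 : ((if (i : ℕ) = n + 1 then n % 2 else (i : ℕ) % 2) = 0) ↔
      ((if (j : ℕ) = n + 1 then n % 2 else (j : ℕ) % 2) = 0) := by
    rw [← beq_iff_eq (b := 0), he, beq_iff_eq]
  have hi := i.2
  have hj := j.2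
  rcases h with h | h | h
  · exact hij h
  · unfold TypeD.Adj at h
    split_ifs at h1 <;> omega
  · unfold TypeD.Adj at h
    split_ifs at h1 <;> omega

theorem dg_A (n : ℕ) (hn : 3 ≤ n) : Dg (cA n) := dg_of_three hn (irr_A n) (bip_A n)

theorem dg_B (n : ℕ) (hn : 2 ≤ n) : Dg (CoxeterMatrix.B n) := by
  rcases hn.eq_or_lt with rfl | hn
  · refine ⟨le_rfl, irr_B 2, bip_B 2, ?_, ?_⟩
    · rintro ⟨i, j, h, -⟩
      fin_cases i <;> fin_cases j <;> exact absurd h (by decide)
    · intro i j hij _ h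
      fin_cases i <;> fin_cases j <;> first | exact absurd rfl hij | exact absurd h (by decide)
  · exact dg_of_three hn (irr_B n) (bip_B n)

theorem dg_D (n : ℕ) (hn : 1 ≤ n) : Dg (TypeD.M n) := dg_of_three (by omega) (irr_D n hn) (bip_D n hn)

theorem dg_E6 : Dg CoxeterMatrix.E₆ :=
  dg_of_three (by norm_num) irr_E6 ⟨![true, false, false, true, false, true], fun i => by fin_cases i <;> decide⟩

theorem dg_E7 : Dg CoxeterMatrix.E₇ :=
  dg_of_three (by norm_num) irr_E7 ⟨![true, false, false, true, false, true, false], fun i => by fin_cases i <;> decide⟩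

theorem dg_E8 : Dg CoxeterMatrix.E₈ :=
  dg_of_three (by norm_num) irr_E8 ⟨![true, false, false, true, false, true, false, true], fun i => by fin_cases i <;> decide⟩

theorem dg_F4 : Dg CoxeterMatrix.F₄ :=
  dg_of_three (by norm_num) irr_F4 ⟨![true, false, true, false], fun i => by fin_cases i <;> decide⟩

theorem dg_G2 : Dg CoxeterMatrix.G₂ := by
  refine ⟨le_rfl, irr_G2, ⟨![true, false], fun i => by fin_cases i <;> decide⟩, ?_, ?_⟩
  · rintro ⟨i, j, h, -⟩
    fin_cases i <;> fin_cases j <;> exact absurd h (by decide)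
  · intro i j hij _ h
    fin_cases i <;> fin_cases j <;> first | exact absurd rfl hij | exact absurd h (by decide)

end Cfsg.Agent.H460.Dgs
end
end
end
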