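import Cfsg.Agent.H185.TypedTw
import Cfsg.Agent.FixBN.WittNodeD_m3
import Cfsg.Agent.Nodes.WittAll
import Cfsg.Agent.FixBN.ChevGood
import Cfsg.Agent.Nodes.WittInst
import Cfsg.Agent.FastGrp
import Cfsg.Agent.Prune
set_option linter.all false

section
prune_inst 0x7fffffffbffd7fffdfff7ffff7ffeffdfdfb3fffe6fffdcbffecebff0fdf5f8acfe7fbaf8feb13fe1fdf621414fe7bd3fffffeffe36bfc7ffffd5ff45ffbffcffdf7bd0951fe9cb40fbc0fff63f07f8e7f3fffffffffffffffffffffffffffbeffbfffffffff

-- part: H14/TypWitt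
section
set_option linter.all false
open scoped Cfsg.Agent.FastGrp

/-!
# Typed nodes of groups modelled on a Witt frame, all characteristics (helper14)

* `TypedAt R i Q` : the simple root group `X (α_i)` is parametrised by a field of order `Q`, or of unitary type with
  `Q = q ^ 3`; `TypedAt.lNode`, `hasTyped` : the conclusion in the form of `H460.Typed`;
* `inv_Z`, `inv_X`, `typedAt_X`, `typedAt_Z`, `typedAt_U` : the nodes of a model of a Witt frame (as in
  `FixBN.WittNodeB`, without any hypothesis on the characteristic and on the ambient group);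
* `hasTyped_model` : type `C_n`, torus commutative.
-/

set_option autoImplicit false

namespace Cfsg.Agent.H14.TypWitt

open Cfsg.Agent.ChevalleyStructure.CoxeterGeom Cfsg.Agent.Tits.Roots
open Cfsg.Agent.Nodes.Comb Cfsg.Agent.Nodes.Reps Cfsg.Agent.Nodes.BNOf
open Cfsg.Agent.FixBN Cfsg.Agent.FixBN.U3Model Cfsg.Agent.FixBN.UNode Cfsg.Agent.FixBN.WittNodeA
open Cfsg.Agent.H460.Typed

section Generic

variable {l : ℕ} {Y : Type*} [Group Y] {M : CoxeterMatrix (Fin l)} {A : Fin l → Fin l → ℤ} {h : IsCartan M A} {p : ℕ}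
  {T : Subgroup Y} {n : Fin l → Y} {X : (Fin l → ℤ) → Subgroup Y}

/-- The data at the node `i` of a root group datum. -/
def TypedAt (_R : RGD M.toCoxeterSystem h p T n X) (i : Fin l) (Q : ℕ) : Prop :=
  (∃ (F : Type) (_ : Field F) (_ : Finite F) (x : F → Y), Nat.card F = Q ∧ (∀ a b, x (a + b) = x a * x b) ∧
    (∀ a, x a ∈ X (sr i)) ∧ (∀ u ∈ X (sr i), ∃ a, u = x a) ∧ (∀ a, x a = 1 → a = 0) ∧
    ∀ a, a ≠ 0 → (x (-a⁻¹) * n i)⁻¹ * (n i * x a * n i) ∈ RGD.B M.toCoxeterSystem h T X) ∨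
  (∃ (F : Type) (_ : Field F) (_ : Finite F) (σ : F →+* F) (_ : Inv2 σ) (q : ℕ) (x : Pt σ → Y),
    (∃ x, σ x ≠ x) ∧ Nat.card F = q ^ 2 ∧ Q = q ^ 3 ∧ (∀ a b, x (a * b) = x a * x b) ∧
    (∀ a, x a ∈ X (sr i)) ∧ (∀ u ∈ X (sr i), ∃ a, u = x a) ∧ (∀ a, x a = 1 → a = 1) ∧
    ∀ a, a ≠ 1 → (x (J a) * n i)⁻¹ * (n i * x a * n i) ∈ RGD.B M.toCoxeterSystem h T X)

theorem TypedAt.lNode [Finite M.Group] {R : RGD M.toCoxeterSystem h p T n X}
    (hgen : RGD.B M.toCoxeterSystem h T X ⊔ NN M.toCoxeterSystem R.nsys = ⊤) {i : Fin l} {Q : ℕ} (hi : TypedAt R i Q) :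
    LNode (R.bnPair hgen) (RGD.Sup X (RGD.Pos M.toCoxeterSystem h)) (n i) Q := by
  refine ⟨_, NodeRGD.node R hgen i, ?_⟩
  rcases hi with ⟨F, _, _, x, h2, h3, h4, h5, h6, h7⟩ | ⟨F, _, _, σ, _, q, x, h1, h2, h2', h3, h4, h5, h6, h7⟩
  · exact Or.inl ⟨F, _, ‹_›, h2, ⟨fieldNode R hgen i x h3 h4 h5 h6 h7⟩⟩
  · exact Or.inr ⟨F, _, ‹_›, σ, ‹_›, q, h1, h2, h2', ⟨uNode R hgen i x h3 h4 h5 h6 h7⟩⟩

theorem hasTyped [Finite M.Group] (R : RGD M.toCoxeterSystem h p T n X)
    (hgen : RGD.B M.toCoxeterSystem h T X ⊔ NN M.toCoxeterSystem R.nsys = ⊤) (hT : Group.IsSolvable T)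
    {Q : Fin l → ℕ} (hg : ∀ i, TypedAt R i (Q i)) : HasTyped p Y M Q :=
  ⟨A, h, T, n, X, inferInstance, R, hgen, hT, fun i => (hg i).lNode hgen⟩

end Generic

open Cfsg.Agent.Nodes.TypeC
open Cfsg.Agent.Nodes.WittRGD Cfsg.Agent.Nodes.RGDLib Cfsg.Agent.Nodes.WittModel
open Cfsg.Agent.TitsThree Cfsg.Agent.TitsThree.Siegel Cfsg.Agent.TitsThree.WittFrame
  Cfsg.Agent.TitsThree.WittWeyl Cfsg.Agent.TitsThree.FrameCN
open Cfsg.Agent.Nodes.WittRoot
open Cfsg.Agent.FixBN.WittNodeB (Jm Jm_w Jm_c conj_Z_eq conj_X_eq mem_B_of_eq nx_of_not mem_X_last mem_X_I Z_mul'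
  X_add' X_eq_one Z_eq_one mem_T_of_mono)

section Model

variable {F : Type*} [Field F] {V : Type*} [AddCommGroup V] [Module F V] {H : HForm F V} {n : ℕ}
  {Fr : Frame H (Fin n)} {K : Type*} [Group K] (M : Model Fr K)

theorem nX_mem' (a b : Fin n × Bool) (t : F) : nX Fr a b t ∈ M.I :=
  mul_mem (mul_mem (M.hX _ _ _) (M.hX _ _ _)) (M.hX _ _ _)

theorem nZ_mem' (a : Fin n × Bool) (p : Fr.Adm) : nZ Fr a p ∈ M.I :=
  mul_mem (mul_mem (M.hZ _ _) (M.hZ _ _)) (M.hZ _ _)

theorem nn_mem' (p0 : Fr.Adm) (i : Fin n) : Nodes.WittRGD.nn Fr p0 i ∈ M.I := by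
  unfold Nodes.WittRGD.nn
  split_ifs
  · exact nX_mem' M _ _ _
  · exact nZ_mem' M _ _

/-- The Weyl elements. -/
noncomputable def nw' (p0 : Fr.Adm) (i : Fin n) : K := M.φ ⟨Nodes.WittRGD.nn Fr p0 i, nn_mem' M p0 i⟩

variable {M} {p0 : Fr.Adm} (hp0 : p0.c ≠ 0) {W : Type*} [Group W]
  {cs : CoxeterSystem (CoxeterMatrix.B n) W} {p : ℕ} (R : RGD cs (isCartan n) p (T M) (nw' M p0) (X M))

include hp0 R in
/-- The rank one relation at the last node. -/
theorem inv_Z {i : Fin n} (hi : ¬ (i : ℕ) + 1 < n) {q : Fr.Adm} (hq : q.c ≠ 0) :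
    (M.Z (i, true) (Jm Fr p0 hp0 q) * nw' M p0 i)⁻¹ * (nw' M p0 i * M.Z (i, true) q * nw' M p0 i) ∈
      RGD.B cs (isCartan n) (T M) (X M) := by
  obtain ⟨q', p1, hp1, e⟩ := conj_Z_eq Fr (i, true) p0 hp0 q hq
  have hnn : Nodes.WittRGD.nn Fr p0 i = nZ Fr (i, true) p0 := by unfold Nodes.WittRGD.nn; rw [if_neg hi]
  have e' : nw' M p0 i * M.Z (i, true) q * (nw' M p0 i)⁻¹ =
      M.Z (i, true) (Jm Fr p0 hp0 q) * M.φ ⟨nZ Fr (i, true) p1, nZ_mem' M _ _⟩ * M.Z (i, true) q' := by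
    unfold nw' Model.Z
    rw [← map_inv, ← map_mul, ← map_mul, ← map_mul, ← map_mul]
    congr 1
    apply Subtype.ext
    show Nodes.WittRGD.nn Fr p0 i * Fr.Z (i, true) q * (Nodes.WittRGD.nn Fr p0 i)⁻¹ = _
    rw [hnn, e]
    rfl
  refine mem_B_of_eq R i e' ?_ ((mem_X_last hi).2 ⟨q', rfl⟩)
  exact mem_T_of_mono M _ _ (mono_nn hp0 i) (mono_nZ hi hp1)

include hp0 R in
/-- The rank one relation at the other nodes. -/
theorem inv_X {i : Fin n} (hi : (i : ℕ) + 1 < n) {t : F} (ht : t ≠ 0) :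
    (M.X (i, true) (nx i) (-t⁻¹) * nw' M p0 i)⁻¹ * (nw' M p0 i * M.X (i, true) (nx i) t * nw' M p0 i) ∈
      RGD.B cs (isCartan n) (T M) (X M) := by
  have hne' : ((i, true) : Fin n × Bool).1 ≠ (nx i).1 := by
    unfold nx; rw [dif_pos hi]; simp [Fin.ext_iff]
  have hnn : Nodes.WittRGD.nn Fr p0 i = nX Fr (i, true) (nx i) 1 := by unfold Nodes.WittRGD.nn; rw [if_pos hi]
  have e' : nw' M p0 i * M.X (i, true) (nx i) t * (nw' M p0 i)⁻¹ =
      M.X (i, true) (nx i) (-t⁻¹) * M.φ ⟨nX Fr (i, true) (nx i) t⁻¹, nX_mem' M _ _ _⟩ *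
        M.X (i, true) (nx i) (-t⁻¹) := by
    unfold nw' Model.X
    rw [← map_inv, ← map_mul, ← map_mul, ← map_mul, ← map_mul]
    congr 1
    apply Subtype.ext
    show Nodes.WittRGD.nn Fr p0 i * Fr.X (i, true) (nx i) t * (Nodes.WittRGD.nn Fr p0 i)⁻¹ = _
    rw [hnn, conj_X_eq Fr hne' ht]
    rfl
  refine mem_B_of_eq R i e' ?_ ((mem_X_I hi).2 ⟨_, rfl⟩)
  exact mem_T_of_mono M _ _ (mono_nn hp0 i) (mono_nX hi (inv_ne_zero ht))

end Model

section Good

variable {F : Type} [Field F] {V : Type*} [AddCommGroup V] [Module F V] {H : HForm F V} {n : ℕ}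
  {Fr : Frame H (Fin n)} {K : Type*} [Group K] {M : Model Fr K}
  {p0 : Fr.Adm} (hp0 : p0.c ≠ 0) {p : ℕ}
  (R : RGD (CoxeterMatrix.B n).toCoxeterSystem (isCartan n) p (T M) (nw' M p0) (X M))

include hp0 in
/-- The nodes of type I. -/
theorem typedAt_X [Finite F] {i : Fin n} (hi : (i : ℕ) + 1 < n) : TypedAt R i (Nat.card F) := by
  have hne' : ((i, true) : Fin n × Bool).1 ≠ (nx i).1 := by
    unfold nx; rw [dif_pos hi]; simp [Fin.ext_iff]
  refine Or.inl ⟨F, inferInstance, inferInstance, M.X (i, true) (nx i), rfl, X_add' M _ _,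
    fun a => (mem_X_I hi).2 ⟨a, rfl⟩, fun u hu => (mem_X_I hi).1 hu, fun a ha => X_eq_one M hne' ha,
    fun a ha => inv_X hp0 R hi ha⟩

include hp0 in
/-- The last node: a field parametrisation of the admissible pairs. -/
theorem typedAt_Z {i : Fin n} (hi : ¬ (i : ℕ) + 1 < n) {E : Type} [Field E] [Finite E]
    (f : E → Fr.Adm) (hf : ∀ a b, f (a + b) = f a * f b) (hs : Function.Surjective f)
    (hc : ∀ a, (f a).c = 0 → a = 0)
    (hJw : ∀ a, a ≠ 0 → (H.ε⁻¹ * H.σ p0.c * (f a).c⁻¹) • (refl Fr p0 hp0 (f a)).w = (f (-a⁻¹)).w)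
    (hJc : ∀ a, a ≠ 0 → H.ε⁻¹ * (p0.c * H.σ p0.c) * (f a).c⁻¹ = (f (-a⁻¹)).c) : TypedAt R i (Nat.card E) := by
  refine Or.inl ⟨E, inferInstance, inferInstance, fun a => M.Z (i, true) (f a), rfl, fun a b => ?_,
    fun a => (mem_X_last hi).2 ⟨_, rfl⟩, fun u hu => ?_, fun a ha => ?_, fun a ha => ?_⟩
  · show M.Z (i, true) (f (a + b)) = M.Z (i, true) (f a) * M.Z (i, true) (f b)
    rw [hf, Z_mul']
  · obtain ⟨q, rfl⟩ := (mem_X_last hi).1 hu
    obtain ⟨a, rfl⟩ := hs q
    exact ⟨a, rfl⟩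
  · have h1 := Z_eq_one M ha
    exact hc a (by rw [h1]; rfl)
  · have hca : (f a).c ≠ 0 := fun h => ha (hc a h)
    have h1 := inv_Z hp0 R hi hca
    have h3 : Jm Fr p0 hp0 (f a) = f (-a⁻¹) := by
      apply Frame.Adm.ext
      · rw [Jm_w, hJw a ha]
      · rw [Jm_c Fr p0 hp0 _ hca, hJc a ha]
    rw [h3] at h1
    exact h1

include hp0 in
/-- The last node: a unitary parametrisation of the admissible pairs. -/
theorem typedAt_U {i : Fin n} (hi : ¬ (i : ℕ) + 1 < n) {E : Type} [Field E] [Finite E] {σ : E →+* E} [Inv2 σ]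
    (hσ : ∃ x, σ x ≠ x) {q : ℕ} (hq : Nat.card E = q ^ 2)
    (f : Pt σ → Fr.Adm) (hf : ∀ a b, f (a * b) = f a * f b) (hs : Function.Surjective f)
    (hc : ∀ a, (f a).c = 0 → a = 1)
    (hJw : ∀ a, a ≠ 1 → (H.ε⁻¹ * H.σ p0.c * (f a).c⁻¹) • (refl Fr p0 hp0 (f a)).w = (f (J a)).w)
    (hJc : ∀ a, a ≠ 1 → H.ε⁻¹ * (p0.c * H.σ p0.c) * (f a).c⁻¹ = (f (J a)).c) : TypedAt R i (q ^ 3) := by
  refine Or.inr ⟨E, inferInstance, inferInstance, σ, inferInstance, q, fun a => M.Z (i, true) (f a), hσ, hq, rfl,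
    fun a b => ?_, fun a => (mem_X_last hi).2 ⟨_, rfl⟩, fun u hu => ?_, fun a ha => ?_, fun a ha => ?_⟩
  · show M.Z (i, true) (f (a * b)) = M.Z (i, true) (f a) * M.Z (i, true) (f b)
    rw [hf, Z_mul']
  · obtain ⟨q, rfl⟩ := (mem_X_last hi).1 hu
    obtain ⟨a, rfl⟩ := hs q
    exact ⟨a, rfl⟩
  · have h1 := Z_eq_one M ha
    exact hc a (by rw [h1]; rfl)
  · have hca : (f a).c ≠ 0 := fun h => ha (hc a h)
    have h1 := inv_Z hp0 R hi hca
    have h3 : Jm Fr p0 hp0 (f a) = f (J a) := by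
      apply Frame.Adm.ext
      · rw [Jm_w, hJw a ha]
      · rw [Jm_c Fr p0 hp0 _ hca, hJc a ha]
    rw [h3] at h1
    exact h1

end Good

/-- A group modelled on a Witt frame, commutative torus, typed last node. -/
theorem hasTyped_model {F : Type} [Field F] [Finite F] {V : Type*} [AddCommGroup V] [Module F V] [Finite V]
    {H : HForm F V} {n : ℕ} {Fr : Frame H (Fin n)} {K : Type*} [Group K] (M : Model Fr K) {p : ℕ} [Fact p.Prime]
    [CharP F p] (hA : Nodes.WittAll.AmbT Fr p M.I) {p0 : Fr.Adm} (hp0 : p0.c ≠ 0) (hn : 0 < n) (hT : Group.IsSolvable (T M))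
    {Q : Fin n → ℕ} (hQ : ∀ i : Fin n, (i : ℕ) + 1 < n → Q i = Nat.card F)
    (hlast : ∀ (R : RGD (CoxeterMatrix.B n).toCoxeterSystem (isCartan n) p (T M) (nw' M p0) (X M)) (i : Fin n),
      ¬ (i : ℕ) + 1 < n → TypedAt R i (Q i)) : HasTyped p K (CoxeterMatrix.B n) Q := by
  have hfin : Finite (CoxeterMatrix.B n).Group := finite_W (CoxeterMatrix.B n).toCoxeterSystem
  have R : RGD (CoxeterMatrix.B n).toCoxeterSystem (isCartan n) p (T M) (nw' M p0) (X M) :=
    Nodes.WittAll.rgdC_model M hA hp0 (CoxeterMatrix.B n).toCoxeterSystem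
  have hgen := NodeRGD.gen_of_top R (Nodes.WittModel.G1_eq_top M hn (CoxeterMatrix.B n).toCoxeterSystem)
  refine hasTyped R hgen hT fun i => ?_
  by_cases hi : (i : ℕ) + 1 < n
  · rw [hQ i hi]
    exact typedAt_X hp0 R hi
  · exact hlast R i hi

end Cfsg.Agent.H14.TypWitt
end

-- part: H460/FTypedAE
section
prune_inst 0x8000200080000800100002004000190000300010140000000004200004106010040020208982e0000000000000000c00020000000008000000100000408000010000100220008401000000000000000000000000000000000000004000000000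
set_option linter.all false
open scoped Cfsg.Agent.FastGrp

/-!
# `PSL_{n+1}(F)` and the Chevalley groups `D.group K`: `HasFTyped` (after H594/TypedAE of helper594)
-/

set_option autoImplicit false
set_option linter.unusedSectionVars false

namespace Cfsg.Agent.H460.FTypedAE

open Matrix CoxeterSystem Cfsg.Agent.ChevalleyStructure.CoxeterGeom Cfsg.Agent.Tits.Roots Cfsg.Agent.Tits.Core
  Cfsg.Agent.Tits.RootComb Cfsg.Agent.Nodes.Comb Cfsg.Agent.Nodes.Reps Cfsg.Agent.Nodes.BNOf Cfsg.Agent.Nodes.BNOf.RGD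
open Cfsg.Agent.Nodes.RGDLib Cfsg.Agent.FixBN Cfsg.Agent.FixBN.FieldRGD Cfsg.Agent.H460.Typed
open Cfsg.Agent.H185.TypedTw (FNode HasFTyped)
open scoped MatrixGroups

section psl

open Cfsg.Agent.Nodes.RootsA Cfsg.Agent.Nodes.RGDTypeA
open Cfsg.Agent.LieRecognition.BNCox (cA)
open Cfsg.Agent.LieClassical.SLGen
open Cfsg.Agent.TitsThree.KSideA (tv tv_of_ne tv_add tv_zero tv_neg)
open Cfsg.Agent.FixBN.PslGood (key isSolvable_T)

/-- **`PSL_{n+1}(F)`, `n ≥ 1`.** -/
theorem ftyped_psl (F : Type) [Field F] [Finite F] {p : ℕ} [Fact p.Prime] [CharP F p] {n : ℕ} (hn : 1 ≤ n) :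
    HasFTyped p (ProjectiveSpecialLinearGroup (Fin (n + 1)) F) (cA n) (fun _ => Nat.card F) := by
  have : Finite (cA n).Group := finite_W (cA n).toCoxeterSystem (isCartan n)
  have : Finite (ProjectiveSpecialLinearGroup (Fin (n + 1)) F) := Quotient.finite _
  have : Nonempty (Fin n) := ⟨⟨0, by omega⟩⟩
  have R := rgd_psl (F := F) (p := p) (cA n).toCoxeterSystem (isCartan n)
  have hgen := rgd_gen_of_G1 R (G1_psl_eq_top (cA n).toCoxeterSystem (isCartan n))
  have hT : Group.IsSolvable ((T (Fin (n + 1)) F).map (pr n F)) := by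
    have := isSolvable_T (ι := Fin (n + 1)) (F := F)
    exact Group.isSolvable_of_surjective ((pr n F).subgroupMap_surjective (T (Fin (n + 1)) F))
  refine ⟨_, isCartan n, _, _, _, inferInstance, R, hgen, hT, fun i => ?_⟩
  have hab : i.castSucc ≠ i.succ := (Fin.castSucc_lt_succ).ne
  refine ⟨_, NodeRGD.node R hgen i, F, inferInstance, inferInstance, rfl, ⟨?_⟩⟩
  refine fieldNode_of_rgd R hgen i (fun a => pr n F (tv i.castSucc i.succ a)) (fun a c => ?_) (fun y => ?_)
    (fun a ha => ?_) (fun a ha => ?_)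
  · rw [tv_add, map_mul]
  · show y ∈ (X F (sr i)).map (pr n F) ↔ _
    rw [X_sr, Subgroup.mem_map]
    constructor
    · rintro ⟨_, ⟨a, rfl⟩, rfl⟩
      exact ⟨a, rfl⟩
    · rintro ⟨a, rfl⟩
      exact ⟨_, ⟨a, rfl⟩, rfl⟩
  · -- the unipotent elements are not central
    have h1 : tv i.castSucc i.succ a ∈ (pr n F).ker := ha
    rw [ker_pr] at h1
    by_contra hne
    have h3 := Subgroup.mem_center_iff.1 h1 (tv i.succ i.castSucc 1)
    have h4 := congrArg (fun g : SpecialLinearGroup (Fin (n + 1)) F =>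
      (g • (Pi.single i.castSucc 1 : Fin (n + 1) → F)) i.castSucc) h3
    rw [tv_of_ne hab, tv_of_ne hab.symm] at h4
    simp only [mul_smul, transvection_smul] at h4
    simp [hab, hab.symm] at h4
    exact hne h4
  · have hk := key hab ha
    have hns : ns n F i = nn i.castSucc i.succ 1 := rfl
    show (pr n F (tv i.castSucc i.succ (-a⁻¹)) * pr n F (ns n F i))⁻¹ *
      (pr n F (ns n F i) * pr n F (tv i.castSucc i.succ a) * pr n F (ns n F i)) ∈ _
    rw [hns, ← map_mul, ← map_mul, ← map_mul, hk, map_mul _ (_ * _) (_ * _), inv_mul_cancel_left, map_mul]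
    refine mul_mem (T_le_B ⟨_, diag_mem_T hab _, rfl⟩) (U_le_B (mem_U (i := i) ?_))
    exact ⟨_, by rw [X_sr]; exact tv_mem_XX _ _ _, rfl⟩

end psl

section sl

variable {I W Y : Type*} [Fintype I] [DecidableEq I] [Group W] [Group Y] {M : CoxeterMatrix I}
variable {cs : CoxeterSystem M W} {A : I → I → ℤ} {h : IsCartan M A} {p : ℕ} {T : Subgroup Y} {n : I → Y}
  {X : (I → ℤ) → Subgroup Y} [Finite W]

/-- A homomorphism of `SL(2, F)` onto the rank one group of the node `i`, normalised, all characteristics. -/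
theorem fieldNode_of_sl (R : RGD cs h p T n X) (hgen : RGD.B cs h T X ⊔ NN cs R.nsys = ⊤) {i : I} {F : Type}
    [Field F] (φ : SL(2, F) →* Y) (b : F) (hb : b ≠ 0) (hr : ∀ y, y ∈ X (sr i) ↔ ∃ a, φ (uu a) = y)
    (hi : ∀ a, φ (uu a) = 1 → a = 0) (hd : ∀ c hc, φ (dd c hc) ∈ RGD.B cs h T X) (hw : φ (ww b hb) = n i) :
    Nonempty (FieldNode (R.bnPair hgen) (Sup X (Pos cs h)) (n i) (Sup X (PosNe cs h i)) F) := by
  refine ⟨fieldNode_of_rgd R hgen i (fun a => φ (uu (b * a))) (fun a c => ?_) (fun y => ?_) (fun a ha => ?_)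
    (fun a ha => ?_)⟩
  · rw [mul_add, uu_add, map_mul]
  · rw [hr]
    constructor
    · rintro ⟨a, rfl⟩
      exact ⟨b⁻¹ * a, by rw [mul_inv_cancel_left₀ hb]⟩
    · rintro ⟨a, rfl⟩
      exact ⟨_, rfl⟩
  · exact (mul_eq_zero.1 (hi _ ha)).resolve_left hb
  · show (φ (uu (b * -a⁻¹)) * n i)⁻¹ * (n i * φ (uu (b * a)) * n i) ∈ _
    rw [← hw, ← map_mul, ← map_mul, ← map_mul, ← map_inv, ← map_mul, inv_key ha hb, map_mul]
    exact mul_mem (hd _ _) (U_le_B (mem_U ((hr _).2 ⟨_, rfl⟩)))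

end sl

section chev

open Cfsg.Lie Cfsg.Agent.ChevalleyStructure Cfsg.Agent.ChevalleyStructure.Elts
  Cfsg.Agent.ChevalleyStructure.NPerm Cfsg.Agent.ChevalleyStructure.CoxeterGeomTypes Cfsg.Agent.Nodes.RGDChev
open Cfsg.Agent.FixBN.ChevGood (isSolvable_T)

variable {D : ChevalleyDatum} {l : ℕ} {M : CoxeterMatrix (Fin l)}

/-- **The Chevalley groups.** -/
theorem ftyped_chev (hp : IsType D l M) (K : Type) [Field K] [Finite K] (p : ℕ) [CharP K p] :
    HasFTyped p ↥(D.group K) M (fun _ => Nat.card K) := by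
  have hpp : p.Prime := CharP.char_is_prime K p
  have : Fact p.Prime := ⟨hpp⟩
  have : Finite M.Group := finite_W hp M.toCoxeterSystem
  refine ⟨_, hp.isCartan, _, _, _, inferInstance, rgd (K := K) hp M.toCoxeterSystem p,
    gen hp M.toCoxeterSystem p, isSolvable_T K hp, fun i => ?_⟩
  refine ⟨_, NodeRGD.node _ _ i, K, inferInstance, inferInstance, rfl, ?_⟩
  have h := simple_lt hp.inList (lt_rank hp i)
  obtain ⟨φ, hφ, hφ'⟩ := Cfsg.Agent.S1030.result (F := K) D hp.inList (D.simple i) h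
  have hu : ∀ a, φ (uu a) = xG hp.inList (D.simple i) a := fun a => Units.ext ((hφ' (uu a) a).1 rfl)
  have hv : ∀ a, φ (vv a) = xG hp.inList (D.neg (D.simple i)) a := fun a => Units.ext ((hφ' (vv a) a).2 rfl)
  have hw : ∀ b (hb : b ≠ 0), φ (ww b hb) = nG hp.inList (D.simple i) b := by
    intro b hb
    have h1 : ww b hb = uu b * (vv (-b⁻¹) * uu b) := by
      apply Subtype.ext
      show !![0, b; -b⁻¹, 0] = !![1, b; 0, 1] * (!![1, 0; -b⁻¹, 1] * !![1, b; 0, 1])
      rw [Matrix.mul_fin_two, Matrix.mul_fin_two]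
      congr 1
      ext i j
      fin_cases i <;> fin_cases j <;> simp [hb]
    rw [h1, map_mul, map_mul, hu, hv, nG_def]
  have hd : ∀ c (hc : c ≠ 0), φ (dd c hc) = hG hp.inList (D.simple i) c := by
    intro c hc
    have h1 : dd c hc = ww c hc * ww (-1) (neg_ne_zero.2 one_ne_zero) := by
      apply Subtype.ext
      show !![c, 0; 0, c⁻¹] = !![0, c; -c⁻¹, 0] * !![0, -1; -(-1)⁻¹, 0]
      rw [Matrix.mul_fin_two]
      congr 1
      ext i j
      fin_cases i <;> fin_cases j <;> simp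
    rw [h1, map_mul, hw, hw, hG_def]
  have hmem : ∀ g, φ g ∈ D.group K := by
    intro g
    have h1 : φ g ∈ D.rootSubgroup K (D.simple i) ⊔ D.rootSubgroup K (D.neg (D.simple i)) := by
      rw [← hφ]; exact ⟨g, rfl⟩
    rw [← XV_sr hp, ← XV_neg_sr hp] at h1
    exact sup_le (XV_le_group hp _) (XV_le_group hp _) h1
  refine fieldNode_of_sl _ _ (φ.codRestrict (D.group K) hmem) 1 one_ne_zero ?_ ?_ ?_ ?_
  · rintro ⟨y, hy⟩
    rw [Subgroup.mem_subgroupOf, XV_sr hp]
    show y ∈ D.rootSubgroup K (D.simple i) ↔ _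
    rw [mem_rootSubgroup_iff hp.inList]
    constructor
    · rintro ⟨t, rfl⟩
      exact ⟨t, Subtype.ext (hu t)⟩
    · rintro ⟨t, ht⟩
      have h1 : φ (uu t) = y := congrArg Subtype.val ht
      exact ⟨t, by rw [← h1, hu]⟩
  · intro a ha
    have h1 : φ (uu a) = 1 := congrArg Subtype.val ha
    rw [hu] at h1
    have h3 : xG hp.inList (D.simple i) a = xG hp.inList (D.simple i) 0 := by rw [h1, xG_zero]
    exact xG_injective hp.inList h h3
  · intro c hc
    refine T_le_B ?_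
    rw [Subgroup.mem_subgroupOf]
    show φ (dd c hc) ∈ _
    rw [hd]
    exact hG_mem_diagonal hp.inList h hc
  · apply Subtype.ext
    exact hw 1 one_ne_zero

end chev

end Cfsg.Agent.H460.FTypedAE
end

-- part: H185/TypedO
section
prune_inst 0x8000000000000000000000008000000000000000000090200004000000000000c0000020800000000000000000001000000000000000000000000000000000000000000020000000000000000000000000000000000000000000000000000000
set_option linter.all false
open scoped Cfsg.Agent.FastGrp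

/-!
# The orthogonal groups have typed root group data (helper185, task AA-NODEO)

* `typed_odd` : `POmega F (quadFormOdd m F)`, `q` odd, `m ≥ 2`, type `B_m`, all nodes of order `q`;
* `typed_minus` : `POmega F (quadFormMinus m F a b)`, every characteristic, `m ≥ 2`, type `B_m`, the last node of order
  `q ^ 2`;
* `typed_plus` : `POmega F (quadFormPlus (m + 2) F)`, every characteristic, `m ≥ 1`, type `TypeD.M m`.
-/

set_option autoImplicit false

namespace Cfsg.Agent.H185.TypedO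

open QuadraticMap
open Cfsg Cfsg.Agent.LieClassical Cfsg.Agent.LieClassical.OrthCore Cfsg.Agent.LieClassical.OrthTrans
open Cfsg.Agent.LieClassical.OrthSimple Cfsg.Agent.LieClassical.OrthFinite Cfsg.Agent.LieClassical.OrthForms
open Cfsg.Agent.ChevalleyStructure.CoxeterGeom Cfsg.Agent.Tits.Roots Cfsg.Agent.Nodes.TypeC
open Cfsg.Agent.Nodes.Comb Cfsg.Agent.Nodes.Reps Cfsg.Agent.Nodes.WittRoot Cfsg.Agent.Nodes.BNOf
open Cfsg.Agent.Nodes.WittRGD Cfsg.Agent.Nodes.RGDLib Cfsg.Agent.Nodes.WittModel Cfsg.Agent.Nodes.WittU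
open Cfsg.Agent.TitsThree Cfsg.Agent.TitsThree.Siegel Cfsg.Agent.TitsThree.SiegelGen
  Cfsg.Agent.TitsThree.WittFrame Cfsg.Agent.TitsThree.WBridge Cfsg.Agent.TitsThree.WittWeyl
  Cfsg.Agent.TitsThree.FrameCN Cfsg.Agent.TitsThree.KSideO
open Cfsg.Agent.FixBN.WittNodeA Cfsg.Agent.FixBN.WittNodeB
open Cfsg.Agent.FixBN.WittNodeO (vec vec_inl vec_inr0 vec_inr1 vec_add vec_smul vec_zero unvec unvec_vec vec_unvec
  vec_injective form_vec polar_vec exists_type cj' cj'_mul cj'_comm cj'_ne_zero vec_mem exists_vec isSolvable_T_of)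
open Cfsg.Agent.H460.Typed Cfsg.Agent.H14.TypWitt
open Cfsg.Agent.Nodes.WittAll (AmbT)
open Cfsg.Agent.Nodes.WittInst (ambT_O amb_O_of_two fixp_minus)

/-! ### Odd dimension -/

section Odd

variable {F : Type} [Field F] [Finite F] {p : ℕ} [Fact p.Prime] [CharP F p]

/-- **`PΩ_{2m+1}(q)`, `q` odd.** -/
theorem typed_odd {m : ℕ} (hm : 2 ≤ m) (h2 : (2 : F) ≠ 0) :
    HasTyped p (Cfsg.POmega F (Cfsg.quadFormOdd m F)) (CoxeterMatrix.B m) (fun _ => Nat.card F) := by
  rw [← coe_oddForm]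
  have hG : _root_.Cfsg.Agent.LieClassical.OrthTrans.Good (oddForm m F) := by
    apply good_of_finite (nondeg_oddForm m F h2)
    rw [Module.finrank_fintype_fun_eq_card, Fintype.card_sum, Fintype.card_sum, Fintype.card_fin,
      Fintype.card_unit]
    omega
  let d : Unit ⊕ (Fin m ⊕ Fin m) → F := Pi.single (Sum.inl ()) 1
  have hd : d ∈ (wodd m F).V0 := fun j => by simp [d]
  have hQ : ∀ a : F, (oddForm m F) (a • d) = a ^ 2 := by
    intro a
    rw [coe_oddForm, quadFormOdd_apply]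
    simp only [d, _root_.Pi.smul_apply, _root_.Pi.single_eq_same, _root_.smul_eq_mul, _root_.mul_one, _root_.ne_eq, _root_.reduceCtorEq, _root_.not_false_eq_true, _root_.Pi.single_eq_of_ne, _root_.MulZeroClass.mul_zero, _root_.Finset.sum_const_zero, _root_.add_zero]
  have hW : (wodd m F).V0 = Submodule.span F {d} := by
    ext v
    rw [Submodule.mem_span_singleton]
    constructor
    · intro hv
      have hv' : ∀ j, v (Sum.inr j) = 0 := hv
      refine ⟨v (Sum.inl ()), ?_⟩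
      funext j
      rcases j with j | j
      · simp [d]
      · simp [d, hv']
    · rintro ⟨c, rfl⟩
      exact Submodule.smul_mem _ _ hd
  let f : F → (toFrame (wodd m F)).Adm := fun a =>
    ⟨a • d, -a ^ 2, Submodule.smul_mem _ _ hd, by rw [← hQ]; rfl⟩
  have hp0 : (f 1).c ≠ 0 := by show -(1 : F) ^ 2 ≠ 0; simp
  refine hasTyped_model (model (wodd m F) hG ⟨f 1, hp0⟩) (AmbT.of_amb (amb_O_of_two _ h2) p) hp0 (by omega) ?_
    (fun _ _ => rfl) ?_
  · exact Cfsg.Agent.FixBN.WittNodeC.isSolvable_T _ fun g k hg hk =>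
      Cfsg.Agent.FixBN.WittNodeC.comm_Tor _ (amb_O_of_two _ h2) d hW hg hk
  · intro R i hi
    have hpol : ∀ a b : F, polar (oddForm m F) (a • d) (b • d) = 2 * a * b := by
      intro a b
      rw [polar_oddForm]
      simp only [d, _root_.Pi.smul_apply, _root_.Pi.single_eq_same, _root_.smul_eq_mul, _root_.mul_one, _root_.ne_eq, _root_.reduceCtorEq, _root_.not_false_eq_true, _root_.Pi.single_eq_of_ne, _root_.MulZeroClass.mul_zero, _root_.add_zero, _root_.Finset.sum_const_zero]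
    refine typedAt_Z hp0 R hi f ?_ ?_ ?_ ?_ ?_
    · intro a b
      apply Frame.Adm.ext
      · show (a + b) • d = a • d + b • d
        rw [add_smul]
      · show -(a + b) ^ 2 = -a ^ 2 + -b ^ 2 - (1 : F)⁻¹ * polar (oddForm m F) (b • d) (a • d)
        rw [hpol]; ring
    · rintro ⟨w, c, hw, hok⟩
      obtain ⟨a, rfl⟩ : ∃ a : F, a • d = w := by
        rw [hW] at hw
        exact Submodule.mem_span_singleton.1 hw
      have h3 : c = -(oddForm m F) (a • d) := hok
      rw [hQ] at h3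
      subst h3
      exact ⟨a, rfl⟩
    · intro a ha
      change -a ^ 2 = 0 at ha
      simpa using ha
    · intro a ha
      show ((1 : F)⁻¹ * -(1 : F) ^ 2 * (-a ^ 2)⁻¹) • (a • d + ((1 : F)⁻¹ * (-(1 : F) ^ 2)⁻¹ *
        polar (oddForm m F) (a • d) ((1 : F) • d)) • ((1 : F) • d)) = (-a⁻¹) • d
      rw [hpol, smul_smul, ← add_smul, smul_smul]
      congr 1
      field_simp
      ring
    · intro a ha
      show (1 : F)⁻¹ * (-(1 : F) ^ 2 * -(1 : F) ^ 2) * (-a ^ 2)⁻¹ = -(-a⁻¹) ^ 2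
      field_simp

omit [Finite F] in
theorem two_ne_zero_of_card [Finite F] (hq : Odd (Nat.card F)) : (2 : F) ≠ 0 := by
  intro h
  have h1 : CharP F 2 := CharTwo.of_one_ne_zero_of_two_eq_zero one_ne_zero h
  have h2 : Fintype F := Fintype.ofFinite F
  obtain ⟨n, -, hn⟩ := FiniteField.card F 2
  rw [Nat.card_eq_fintype_card, hn] at hq
  exact (Nat.not_odd_iff_even.2 (Nat.even_pow.2 ⟨even_two, n.ne_zero⟩)) hq

/-- **`PΩ_{2m+1}(q)`**, with the hypothesis of `Cfsg.IsPOmegaOddChar`. -/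
theorem typed_odd_card {m : ℕ} (hm : 2 ≤ m) (hq : Odd (Nat.card F)) :
    HasTyped p (Cfsg.POmega F (Cfsg.quadFormOdd m F)) (CoxeterMatrix.B m) (fun _ => Nat.card F) :=
  typed_odd hm (two_ne_zero_of_card hq)

end Odd

/-! ### Minus type -/

section Minus

open scoped QuadraticAlgebra

variable {F : Type} [Field F] {m : ℕ} {a b : F} [Hab : Fact (∀ r : F, r ^ 2 ≠ -b + a * r)]
  (hab : ∀ z₁ z₂ : F, z₁ ^ 2 + a * z₁ * z₂ + b * z₂ ^ 2 = 0 → z₁ = 0 ∧ z₂ = 0) {p : ℕ}
  (hA : AmbT (toFrame (wminus m F a b hab)) p (E (minusForm m F a b)))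

include hA in
/-- The action of the torus on the anisotropic plane. -/
theorem tor_type {g : ((Fin m ⊕ Fin m) ⊕ Fin 2 → F) ≃ₗ[F] ((Fin m ⊕ Fin m) ⊕ Fin 2 → F)}
    (hg : g ∈ Tor (toFrame (wminus m F a b hab)) (E (minusForm m F a b))) :
    ∃ u : QuadraticAlgebra F (-b) a, u ≠ 0 ∧ ∃ s : Bool, ∀ z, g (vec m a b z) = vec m a b (u * cj' s z) := by
  have hV : ∀ z, vec m a b (unvec (g (vec m a b z))) = g (vec m a b z) := fun z =>
    vec_unvec (hA.map_V0 hg.1 hg.2 (ρ := id) (fun _ => rfl) (vec_mem hab z))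
  obtain ⟨u, hu, h⟩ := exists_type (fun z => unvec (g (vec m a b z)))
    (fun z w => vec_injective (m := m) (by
      show vec m a b (unvec (g (vec m a b (z + w)))) = vec m a b (unvec (g (vec m a b z)) + unvec (g (vec m a b w)))
      rw [hV, vec_add (m := m) z w, map_add, vec_add (m := m) (unvec _) (unvec _), hV, hV]))
    (fun c z => vec_injective (m := m) (by
      show vec m a b (unvec (g (vec m a b (c • z)))) = vec m a b (c • unvec (g (vec m a b z)))
      rw [hV, vec_smul (m := m) c z, map_smul, vec_smul (m := m) c (unvec _), hV]))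
    (fun z => by rw [← form_vec (m := m), hV, mem_O.1 (E_le_O hg.1), form_vec])
  refine ⟨u, hu, ?_⟩
  rcases h with h | h
  · exact ⟨false, fun z => by rw [← hV, h]; rfl⟩
  · exact ⟨true, fun z => by rw [← hV, h]; rfl⟩

open scoped commutatorElement in
include hA in
/-- Commutators of the torus fix the frame and act on the anisotropic plane by multiplications. -/
theorem tor_comm {g k : ((Fin m ⊕ Fin m) ⊕ Fin 2 → F) ≃ₗ[F] ((Fin m ⊕ Fin m) ⊕ Fin 2 → F)}
    (hg : g ∈ Tor (toFrame (wminus m F a b hab)) (E (minusForm m F a b)))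
    (hk : k ∈ Tor (toFrame (wminus m F a b hab)) (E (minusForm m F a b))) :
    (∀ x, ⁅g, k⁆ ((toFrame (wminus m F a b hab)).b x) = (toFrame (wminus m F a b hab)).b x) ∧
      ∃ v : QuadraticAlgebra F (-b) a, ∀ z, ⁅g, k⁆ (vec m a b z) = vec m a b (v * z) := by
  have key : ∀ y, ⁅g, k⁆ (k (g y)) = g (k y) := by
    intro y
    have h1 : ⁅g, k⁆ * (k * g) = g * k := by rw [commutatorElement_def]; group
    have h2 := congrArg (fun f : ((Fin m ⊕ Fin m) ⊕ Fin 2 → F) ≃ₗ[F] ((Fin m ⊕ Fin m) ⊕ Fin 2 → F) => f y) h1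
    exact h2
  constructor
  · intro x
    obtain ⟨l, hl, e1⟩ := hg.2 x
    obtain ⟨n, hn, e2⟩ := hk.2 x
    change g _ = l • (toFrame (wminus m F a b hab)).b x at e1
    change k _ = n • (toFrame (wminus m F a b hab)).b x at e2
    have h3 := key ((toFrame (wminus m F a b hab)).b x)
    have h5 : k (g ((toFrame (wminus m F a b hab)).b x)) = (l * n) • (toFrame (wminus m F a b hab)).b x := by
      rw [e1, map_smul, e2, smul_smul]
    have h6 : g (k ((toFrame (wminus m F a b hab)).b x)) = (l * n) • (toFrame (wminus m F a b hab)).b x := by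
      rw [e2, map_smul, e1, smul_smul, mul_comm]
    rw [h5, h6, map_smul] at h3
    have h4 := congrArg ((l * n)⁻¹ • ·) h3
    simp only [smul_smul, inv_mul_cancel₀ (mul_ne_zero hl hn), one_smul] at h4
    exact h4
  · obtain ⟨u, hu, s, hs⟩ := tor_type hab hA hg
    obtain ⟨w, hw, t, ht⟩ := tor_type hab hA hk
    refine ⟨(u * cj' s w) * (w * cj' t u)⁻¹, fun z => ?_⟩
    have hkg : (k * g)⁻¹ ∈ Tor (toFrame (wminus m F a b hab)) (E (minusForm m F a b)) := inv_mem (mul_mem hk hg)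
    obtain ⟨z', hz'⟩ := exists_vec hab (hA.map_V0 hkg.1 hkg.2 (ρ := id) (fun _ => rfl) (vec_mem hab z))
    have h3 : k (g (vec m a b z')) = vec m a b z := by
      rw [← hz']
      show (k * g) ((k * g)⁻¹ (vec m a b z)) = _
      rw [← mul_apply', mul_inv_cancel]; rfl
    have h4 := key (vec m a b z')
    rw [h3] at h4
    rw [h4, ht, hs]
    rw [hs, ht] at h3
    have h5 := vec_injective h3
    rw [cj'_mul] at h5
    rw [cj'_mul, cj'_comm s t, ← h5]
    congr 1
    have h6 : w * cj' t u ≠ 0 := mul_ne_zero hw (cj'_ne_zero t hu)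
    have h7 : w * (cj' t u * cj' t (cj' s z')) = (w * cj' t u) * cj' t (cj' s z') := by ring
    rw [h7, ← mul_assoc ((u * cj' s w) * (w * cj' t u)⁻¹), mul_assoc (u * cj' s w), inv_mul_cancel₀ h6, mul_one]
    ring

open scoped commutatorElement in
include hA in
/-- The torus is solvable. -/
theorem isSolvable_minus {K : Type*} [Group K] (M : Model (toFrame (wminus m F a b hab)) K)
    (hM : M.I = E (minusForm m F a b)) : Group.IsSolvable (T M) := by
  refine isSolvable_T_of M fun g k g' k' hg hk hg' hk' => ?_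
  rw [hM] at hg hk hg' hk'
  obtain ⟨h1, v, hv⟩ := tor_comm hab hA hg hk
  obtain ⟨h1', v', hv'⟩ := tor_comm hab hA hg' hk'
  ext1 y
  show ⁅g, k⁆ (⁅g', k'⁆ y) = ⁅g', k'⁆ (⁅g, k⁆ y)
  obtain ⟨c, d, w, hw, rfl⟩ := (wminus m F a b hab).span y
  obtain ⟨z, rfl⟩ := exists_vec hab hw
  have he : ∀ i, ⁅g, k⁆ ((wminus m F a b hab).e i) = (wminus m F a b hab).e i := fun i => h1 (i, true)
  have hf : ∀ i, ⁅g, k⁆ ((wminus m F a b hab).f i) = (wminus m F a b hab).f i := fun i => h1 (i, false)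
  have he' : ∀ i, ⁅g', k'⁆ ((wminus m F a b hab).e i) = (wminus m F a b hab).e i := fun i => h1' (i, true)
  have hf' : ∀ i, ⁅g', k'⁆ ((wminus m F a b hab).f i) = (wminus m F a b hab).f i := fun i => h1' (i, false)
  simp only [map_add, map_sum, map_smul, he, hf, he', hf', hv, hv']
  congr 2
  ring

end Minus

section MinusMain

variable {F : Type} [Field F] [Finite F] {p : ℕ} [Fact p.Prime] [CharP F p]

/-- The ambient structure of `Ω⁻`, every characteristic. -/
theorem ambT_minus {m : ℕ} (hm : 2 ≤ m) (a b : F)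
    (hab : ∀ z₁ z₂ : F, z₁ ^ 2 + a * z₁ * z₂ + b * z₂ ^ 2 = 0 → z₁ = 0 ∧ z₂ = 0) (hG : _root_.Cfsg.Agent.LieClassical.OrthTrans.Good (minusForm m F a b)) :
    AmbT (toFrame (wminus m F a b hab)) p (E (minusForm m F a b)) := by
  by_cases h2 : (2 : F) = 0
  · have hp2 : p = 2 := by
      have h3 : CharP F 2 := CharTwo.of_one_ne_zero_of_two_eq_zero one_ne_zero h2
      exact CharP.eq F ‹CharP F p› h3
    subst hp2
    exact ambT_O _ fun g hg hg2 hb => fixp_minus a b hab h2 hm hG hg hg2 hb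
  · exact AmbT.of_amb (amb_O_of_two _ h2) p

open scoped QuadraticAlgebra in
/-- **`PΩ⁻_{2m+2}(q)`, every characteristic.** -/
theorem typed_minus' {m : ℕ} (hm : 2 ≤ m) (a b : F)
    (hab : ∀ z₁ z₂ : F, z₁ ^ 2 + a * z₁ * z₂ + b * z₂ ^ 2 = 0 → z₁ = 0 ∧ z₂ = 0) :
    HasTyped p (Cfsg.POmega F (Cfsg.quadFormMinus m F a b)) (CoxeterMatrix.B m)
      (fun i => if (i : ℕ) + 1 < m then Nat.card F else Nat.card F ^ 2) := by
  have Hab : Fact (∀ r : F, r ^ 2 ≠ -b + a * r) := ⟨fun r hr => by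
    have h3 := (hab (-r) 1 (by linear_combination hr)).2
    exact one_ne_zero h3⟩
  rw [← coe_minusForm]
  have hG : _root_.Cfsg.Agent.LieClassical.OrthTrans.Good (minusForm m F a b) := by
    apply good_of_finite (nondeg_minusForm m F a b hab)
    rw [Module.finrank_fintype_fun_eq_card, Fintype.card_sum, Fintype.card_sum, Fintype.card_fin,
      Fintype.card_fin]
    omega
  have hA : AmbT (toFrame (wminus m F a b hab)) p (E (minusForm m F a b)) := ambT_minus hm a b hab hG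
  let f : QuadraticAlgebra F (-b) a → (toFrame (wminus m F a b hab)).Adm := fun z =>
    ⟨vec m a b z, -z.norm, vec_mem hab z, by rw [← form_vec (m := m)]; rfl⟩
  have hp0 : (f 1).c ≠ 0 := by
    show -(1 : QuadraticAlgebra F (-b) a).norm ≠ 0
    rw [map_one]; simp
  have hfinE : Finite (QuadraticAlgebra F (-b) a) := Finite.of_equiv _ (QuadraticAlgebra.equivProd (-b) a).symm
  have hcard : Nat.card (QuadraticAlgebra F (-b) a) = Nat.card F ^ 2 := by
    rw [Nat.card_congr (QuadraticAlgebra.equivProd (-b) a), Nat.card_prod, _root_.sq]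
  have hI : Group.IsSolvable (T (model (wminus m F a b hab) hG ⟨f 1, hp0⟩)) := isSolvable_minus hab hA _ rfl
  refine hasTyped_model (model (wminus m F a b hab) hG ⟨f 1, hp0⟩) hA hp0 (by omega) hI
    (fun i hi => if_pos hi) ?_
  intro R i hi
  ((conv => enter [@13]; rw [if_neg hi]); (conv => enter [@13]; rw [← hcard]))
  refine typedAt_Z hp0 R hi f ?_ ?_ ?_ ?_ ?_
  · intro z w
    apply Frame.Adm.ext
    · exact vec_add z w
    · show -(z + w).norm = -z.norm + -w.norm - (1 : F)⁻¹ * polar (minusForm m F a b) (vec m a b w) (vec m a b z)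
      rw [polar_vec]
      simp only [QuadraticAlgebra.norm_def, QuadraticAlgebra.re_add, QuadraticAlgebra.im_add]
      ring
  · rintro ⟨w, c, hw, hok⟩
    obtain ⟨z, rfl⟩ := exists_vec hab hw
    have h3 : c = -(minusForm m F a b) (vec m a b z) := hok
    rw [form_vec] at h3
    subst h3
    exact ⟨z, rfl⟩
  · intro z hz
    change -z.norm = 0 at hz
    exact QuadraticAlgebra.norm_eq_zero_iff_eq_zero.1 (neg_eq_zero.1 hz)
  · intro z hz
    have hn : z.norm ≠ 0 := fun h => hz (QuadraticAlgebra.norm_eq_zero_iff_eq_zero.1 h)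
    show ((1 : F)⁻¹ * -(1 : QuadraticAlgebra F (-b) a).norm * (-z.norm)⁻¹) • (vec m a b z +
      ((1 : F)⁻¹ * (-(1 : QuadraticAlgebra F (-b) a).norm)⁻¹ *
        polar (minusForm m F a b) (vec m a b z) (vec m a b 1)) • vec m a b 1) = vec m a b (-z⁻¹)
    rw [polar_vec, ← vec_smul, ← vec_add, ← vec_smul]
    congr 1
    rw [QuadraticAlgebra.inv_def, map_one]
    ext
    · simp only [QuadraticAlgebra.re_smul, QuadraticAlgebra.re_add, QuadraticAlgebra.re_neg, QuadraticAlgebra.re_star,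
        QuadraticAlgebra.re_one, QuadraticAlgebra.im_one, smul_eq_mul]
      field_simp
      ring
    · simp only [QuadraticAlgebra.im_smul, QuadraticAlgebra.im_add, QuadraticAlgebra.im_neg, QuadraticAlgebra.im_star,
        QuadraticAlgebra.re_one, QuadraticAlgebra.im_one, smul_eq_mul]
      field_simp
      ring
  · intro z hz
    have hn : z.norm ≠ 0 := fun h => hz (QuadraticAlgebra.norm_eq_zero_iff_eq_zero.1 h)
    show (1 : F)⁻¹ * (-(1 : QuadraticAlgebra F (-b) a).norm * -(1 : QuadraticAlgebra F (-b) a).norm) * (-z.norm)⁻¹ =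
      -(-z⁻¹).norm
    have h3 : (-z⁻¹).norm = z.norm⁻¹ := by
      rw [QuadraticAlgebra.norm_neg, eq_comm, inv_eq_of_mul_eq_one_right]
      rw [← map_mul, mul_inv_cancel₀ hz, map_one]
    rw [h3, map_one]
    field_simp

end MinusMain

/-! ### Plus type -/

section Plus

open Cfsg.Agent.Nodes
open Cfsg.Agent.Nodes.WittRGD (Tor mem_Tor b_ne_zero)
open Cfsg.Agent.Nodes.WittInst (wplus adm_plus amb_plus XD rgD_le G1D_eq_top ker_toPOmega rgdD_model)
open Cfsg.Agent.FixBN.WittNodeD (eq_one_of_comm mem_B_of_eq')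

variable {ι : Type} [Fintype ι] [DecidableEq ι] {F : Type} [Field F] {Q : QuadraticForm F (ι → F)}

end Plus

end Cfsg.Agent.H185.TypedO
end

-- part: H460/FTypC_mg
section
prune_inst 0xc0000000000000000400102000000000001000108001000009680000000000000000100000000000000000000000000000102001000a000220000000000000000000000000000000000000000000000000000000
set_option linter.all false
open scoped Cfsg.Agent.FastGrp

-- part: H460/FTypWitt
section
/-!
# Typed nodes of groups modelled on a Witt frame, all characteristics (helper14)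

* `TypedAt R i Q` : the simple root group `X (α_i)` is parametrised by a field of order `Q`, or of unitary type with
  `Q = q ^ 3`; `TypedAt.lNode`, `hasTyped` : the conclusion in the form of `H460.Typed`;
* `inv_Z`, `inv_X`, `typedAt_X`, `typedAt_Z`, `typedAt_U` : the nodes of a model of a Witt frame (as in
  `FixBN.WittNodeB`, without any hypothesis on the characteristic and on the ambient group);
* `hasTyped_model` : type `C_n`, torus commutative.
-/

set_option autoImplicit false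

namespace Cfsg.Agent.H460.FTypWitt

open Cfsg.Agent.ChevalleyStructure.CoxeterGeom Cfsg.Agent.Tits.Roots
open Cfsg.Agent.Nodes.Comb Cfsg.Agent.Nodes.Reps Cfsg.Agent.Nodes.BNOf
open Cfsg.Agent.FixBN Cfsg.Agent.FixBN.U3Model Cfsg.Agent.FixBN.UNode Cfsg.Agent.FixBN.WittNodeA
open Cfsg.Agent.H460.Typed
open Cfsg.Agent.H185.TypedTw (FNode HasFTyped)

section Generic

variable {l : ℕ} {Y : Type*} [Group Y] {M : CoxeterMatrix (Fin l)} {A : Fin l → Fin l → ℤ} {h : IsCartan M A} {p : ℕ}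
  {T : Subgroup Y} {n : Fin l → Y} {X : (Fin l → ℤ) → Subgroup Y}

/-- The data at the node `i` of a root group datum. -/
def TypedAt (_R : RGD M.toCoxeterSystem h p T n X) (i : Fin l) (Q : ℕ) : Prop :=
  ∃ (F : Type) (_ : Field F) (_ : Finite F) (x : F → Y), Nat.card F = Q ∧ (∀ a b, x (a + b) = x a * x b) ∧
    (∀ a, x a ∈ X (sr i)) ∧ (∀ u ∈ X (sr i), ∃ a, u = x a) ∧ (∀ a, x a = 1 → a = 0) ∧
    ∀ a, a ≠ 0 → (x (-a⁻¹) * n i)⁻¹ * (n i * x a * n i) ∈ RGD.B M.toCoxeterSystem h T X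

theorem TypedAt.lNode [Finite M.Group] {R : RGD M.toCoxeterSystem h p T n X}
    (hgen : RGD.B M.toCoxeterSystem h T X ⊔ NN M.toCoxeterSystem R.nsys = ⊤) {i : Fin l} {Q : ℕ} (hi : TypedAt R i Q) :
    FNode (R.bnPair hgen) (RGD.Sup X (RGD.Pos M.toCoxeterSystem h)) (n i) Q := by
  obtain ⟨F, _, _, x, h2, h3, h4, h5, h6, h7⟩ := hi
  exact ⟨_, NodeRGD.node R hgen i, F, _, ‹_›, h2, ⟨fieldNode R hgen i x h3 h4 h5 h6 h7⟩⟩

theorem hasTyped [Finite M.Group] (R : RGD M.toCoxeterSystem h p T n X)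
    (hgen : RGD.B M.toCoxeterSystem h T X ⊔ NN M.toCoxeterSystem R.nsys = ⊤) (hT : Group.IsSolvable T)
    {Q : Fin l → ℕ} (hg : ∀ i, TypedAt R i (Q i)) : HasFTyped p Y M Q :=
  ⟨A, h, T, n, X, inferInstance, R, hgen, hT, fun i => (hg i).lNode hgen⟩

end Generic

open Cfsg.Agent.Nodes.TypeC
open Cfsg.Agent.Nodes.WittRGD Cfsg.Agent.Nodes.RGDLib Cfsg.Agent.Nodes.WittModel
open Cfsg.Agent.TitsThree Cfsg.Agent.TitsThree.Siegel Cfsg.Agent.TitsThree.WittFrame
  Cfsg.Agent.TitsThree.WittWeyl Cfsg.Agent.TitsThree.FrameCN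
open Cfsg.Agent.Nodes.WittRoot
open Cfsg.Agent.FixBN.WittNodeB (Jm Jm_w Jm_c conj_Z_eq conj_X_eq mem_B_of_eq nx_of_not mem_X_last mem_X_I Z_mul'
  X_add' X_eq_one Z_eq_one mem_T_of_mono)

section Model

variable {F : Type*} [Field F] {V : Type*} [AddCommGroup V] [Module F V] {H : HForm F V} {n : ℕ}
  {Fr : Frame H (Fin n)} {K : Type*} [Group K] (M : Model Fr K)

theorem nX_mem' (a b : Fin n × Bool) (t : F) : nX Fr a b t ∈ M.I :=
  mul_mem (mul_mem (M.hX _ _ _) (M.hX _ _ _)) (M.hX _ _ _)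

theorem nZ_mem' (a : Fin n × Bool) (p : Fr.Adm) : nZ Fr a p ∈ M.I :=
  mul_mem (mul_mem (M.hZ _ _) (M.hZ _ _)) (M.hZ _ _)

theorem nn_mem' (p0 : Fr.Adm) (i : Fin n) : Nodes.WittRGD.nn Fr p0 i ∈ M.I := by
  unfold Nodes.WittRGD.nn
  split_ifs
  · exact nX_mem' M _ _ _
  · exact nZ_mem' M _ _

/-- The Weyl elements. -/
noncomputable def nw' (p0 : Fr.Adm) (i : Fin n) : K := M.φ ⟨Nodes.WittRGD.nn Fr p0 i, nn_mem' M p0 i⟩

variable {M} {p0 : Fr.Adm} (hp0 : p0.c ≠ 0) {W : Type*} [Group W]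
  {cs : CoxeterSystem (CoxeterMatrix.B n) W} {p : ℕ} (R : RGD cs (isCartan n) p (T M) (nw' M p0) (X M))

include hp0 R in
/-- The rank one relation at the last node. -/
theorem inv_Z {i : Fin n} (hi : ¬ (i : ℕ) + 1 < n) {q : Fr.Adm} (hq : q.c ≠ 0) :
    (M.Z (i, true) (Jm Fr p0 hp0 q) * nw' M p0 i)⁻¹ * (nw' M p0 i * M.Z (i, true) q * nw' M p0 i) ∈
      RGD.B cs (isCartan n) (T M) (X M) := by
  obtain ⟨q', p1, hp1, e⟩ := conj_Z_eq Fr (i, true) p0 hp0 q hq
  have hnn : Nodes.WittRGD.nn Fr p0 i = nZ Fr (i, true) p0 := by unfold Nodes.WittRGD.nn; rw [if_neg hi]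
  have e' : nw' M p0 i * M.Z (i, true) q * (nw' M p0 i)⁻¹ =
      M.Z (i, true) (Jm Fr p0 hp0 q) * M.φ ⟨nZ Fr (i, true) p1, nZ_mem' M _ _⟩ * M.Z (i, true) q' := by
    unfold nw' Model.Z
    rw [← map_inv, ← map_mul, ← map_mul, ← map_mul, ← map_mul]
    congr 1
    apply Subtype.ext
    show Nodes.WittRGD.nn Fr p0 i * Fr.Z (i, true) q * (Nodes.WittRGD.nn Fr p0 i)⁻¹ = _
    rw [hnn, e]
    rfl
  refine mem_B_of_eq R i e' ?_ ((mem_X_last hi).2 ⟨q', rfl⟩)
  exact mem_T_of_mono M _ _ (mono_nn hp0 i) (mono_nZ hi hp1)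

include hp0 R in
/-- The rank one relation at the other nodes. -/
theorem inv_X {i : Fin n} (hi : (i : ℕ) + 1 < n) {t : F} (ht : t ≠ 0) :
    (M.X (i, true) (nx i) (-t⁻¹) * nw' M p0 i)⁻¹ * (nw' M p0 i * M.X (i, true) (nx i) t * nw' M p0 i) ∈
      RGD.B cs (isCartan n) (T M) (X M) := by
  have hne' : ((i, true) : Fin n × Bool).1 ≠ (nx i).1 := by
    unfold nx; rw [dif_pos hi]; simp [Fin.ext_iff]
  have hnn : Nodes.WittRGD.nn Fr p0 i = nX Fr (i, true) (nx i) 1 := by unfold Nodes.WittRGD.nn; rw [if_pos hi]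
  have e' : nw' M p0 i * M.X (i, true) (nx i) t * (nw' M p0 i)⁻¹ =
      M.X (i, true) (nx i) (-t⁻¹) * M.φ ⟨nX Fr (i, true) (nx i) t⁻¹, nX_mem' M _ _ _⟩ *
        M.X (i, true) (nx i) (-t⁻¹) := by
    unfold nw' Model.X
    rw [← map_inv, ← map_mul, ← map_mul, ← map_mul, ← map_mul]
    (with_reducible congr 1)
    apply Subtype.ext
    show Nodes.WittRGD.nn Fr p0 i * Fr.X (i, true) (nx i) t * (Nodes.WittRGD.nn Fr p0 i)⁻¹ = _
    rw [hnn, conj_X_eq Fr hne' ht]
    rfl
  refine mem_B_of_eq R i e' ?_ ((mem_X_I hi).2 ⟨_, rfl⟩)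
  exact mem_T_of_mono M _ _ (mono_nn hp0 i) (mono_nX hi (inv_ne_zero ht))

end Model

section Good

variable {F : Type} [Field F] {V : Type*} [AddCommGroup V] [Module F V] {H : HForm F V} {n : ℕ}
  {Fr : Frame H (Fin n)} {K : Type*} [Group K] {M : Model Fr K}
  {p0 : Fr.Adm} (hp0 : p0.c ≠ 0) {p : ℕ}
  (R : RGD (CoxeterMatrix.B n).toCoxeterSystem (isCartan n) p (T M) (nw' M p0) (X M))

include hp0 in
/-- The nodes of type I. -/
theorem typedAt_X [Finite F] {i : Fin n} (hi : (i : ℕ) + 1 < n) : TypedAt R i (Nat.card F) := by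
  have hne' : ((i, true) : Fin n × Bool).1 ≠ (nx i).1 := by
    unfold nx; rw [dif_pos hi]; simp [Fin.ext_iff]
  refine ⟨F, inferInstance, inferInstance, M.X (i, true) (nx i), rfl, X_add' M _ _,
    fun a => (mem_X_I hi).2 ⟨a, rfl⟩, fun u hu => (mem_X_I hi).1 hu, fun a ha => X_eq_one M hne' ha,
    fun a ha => inv_X hp0 R hi ha⟩

include hp0 in
/-- The last node: a field parametrisation of the admissible pairs. -/
theorem typedAt_Z {i : Fin n} (hi : ¬ (i : ℕ) + 1 < n) {E : Type} [Field E] [Finite E]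
    (f : E → Fr.Adm) (hf : ∀ a b, f (a + b) = f a * f b) (hs : Function.Surjective f)
    (hc : ∀ a, (f a).c = 0 → a = 0)
    (hJw : ∀ a, a ≠ 0 → (H.ε⁻¹ * H.σ p0.c * (f a).c⁻¹) • (_root_.Cfsg.Agent.TitsThree.WittWeyl.refl Fr p0 hp0 (f a)).w = (f (-a⁻¹)).w)
    (hJc : ∀ a, a ≠ 0 → H.ε⁻¹ * (p0.c * H.σ p0.c) * (f a).c⁻¹ = (f (-a⁻¹)).c) : TypedAt R i (Nat.card E) := by
  refine ⟨E, inferInstance, inferInstance, fun a => M.Z (i, true) (f a), rfl, fun a b => ?_,
    fun a => (mem_X_last hi).2 ⟨_, rfl⟩, fun u hu => ?_, fun a ha => ?_, fun a ha => ?_⟩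
  · show M.Z (i, true) (f (a + b)) = M.Z (i, true) (f a) * M.Z (i, true) (f b)
    rw [hf, Z_mul']
  · obtain ⟨q, rfl⟩ := (mem_X_last hi).1 hu
    obtain ⟨a, rfl⟩ := hs q
    exact ⟨a, rfl⟩
  · have h1 := Z_eq_one M ha
    exact hc a (by rw [h1]; rfl)
  · have hca : (f a).c ≠ 0 := fun h => ha (hc a h)
    have h1 := inv_Z hp0 R hi hca
    have h3 : Jm Fr p0 hp0 (f a) = f (-a⁻¹) := by
      apply Frame.Adm.ext
      · rw [Jm_w, hJw a ha]
      · rw [Jm_c Fr p0 hp0 _ hca, hJc a ha]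
    rw [h3] at h1
    exact h1

end Good

/-- A group modelled on a Witt frame, commutative torus, typed last node. -/
theorem hasTyped_model {F : Type} [Field F] [Finite F] {V : Type*} [AddCommGroup V] [Module F V] [Finite V]
    {H : HForm F V} {n : ℕ} {Fr : Frame H (Fin n)} {K : Type*} [Group K] (M : Model Fr K) {p : ℕ} [Fact p.Prime]
    [CharP F p] (hA : Nodes.WittAll.AmbT Fr p M.I) {p0 : Fr.Adm} (hp0 : p0.c ≠ 0) (hn : 0 < n) (hT : Group.IsSolvable (T M))
    {Q : Fin n → ℕ} (hQ : ∀ i : Fin n, (i : ℕ) + 1 < n → Q i = Nat.card F)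
    (hlast : ∀ (R : RGD (CoxeterMatrix.B n).toCoxeterSystem (isCartan n) p (T M) (nw' M p0) (X M)) (i : Fin n),
      ¬ (i : ℕ) + 1 < n → TypedAt R i (Q i)) : HasFTyped p K (CoxeterMatrix.B n) Q := by
  have hfin : Finite (CoxeterMatrix.B n).Group := finite_W (CoxeterMatrix.B n).toCoxeterSystem
  have R : RGD (CoxeterMatrix.B n).toCoxeterSystem (isCartan n) p (T M) (nw' M p0) (X M) :=
    Nodes.WittAll.rgdC_model M hA hp0 (CoxeterMatrix.B n).toCoxeterSystem
  have hgen := NodeRGD.gen_of_top R (Nodes.WittModel.G1_eq_top M hn (CoxeterMatrix.B n).toCoxeterSystem)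
  refine hasTyped R hgen hT fun i => ?_
  by_cases hi : (i : ℕ) + 1 < n
  · rw [hQ i hi]
    exact typedAt_X hp0 R hi
  · exact hlast R i hi

end Cfsg.Agent.H460.FTypWitt
end

-- part: H460/FTypC
section
/-!
# `PSp_{2m}(F)` and `PSU_n(q)` have typed root group data, every characteristic (helper14)

* `ftyped_psp` : `PSp m F`, type `B_m`, all nodes of order `|F|`;
* `ftyped_psu_even` : `PSU (2 m) F q`.
-/

set_option autoImplicit false

namespace Cfsg.Agent.H460.FTypC

open Cfsg Cfsg.Agent.LieClassical.HermBasic Cfsg.Agent.LieClassical.HermGen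
open Cfsg.Agent.ChevalleyStructure.CoxeterGeom Cfsg.Agent.Tits.Roots Cfsg.Agent.Nodes.TypeC
open Cfsg.Agent.Nodes.Comb Cfsg.Agent.Nodes.Reps Cfsg.Agent.Nodes.WittRoot Cfsg.Agent.Nodes.BNOf
open Cfsg.Agent.Nodes.WittRGD Cfsg.Agent.Nodes.RGDLib Cfsg.Agent.Nodes.WittModel Cfsg.Agent.Nodes.WittU
open Cfsg.Agent.TitsThree Cfsg.Agent.TitsThree.Siegel Cfsg.Agent.TitsThree.SiegelGen
  Cfsg.Agent.TitsThree.WittFrame Cfsg.Agent.TitsThree.WBridge Cfsg.Agent.TitsThree.WittWeyl
  Cfsg.Agent.TitsThree.FrameCN Cfsg.Agent.TitsThree.KSideU Cfsg.Agent.TitsThree.KSideUDesc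
open Cfsg.Agent.FixBN Cfsg.Agent.FixBN.WittNodeA Cfsg.Agent.FixBN.WittNodeB
open Cfsg.Agent.FixBN.WittNodeC (comm_of_frame comm_Tor isSolvable_T)
open Cfsg.Agent.H185.TypedTw (FNode HasFTyped)
open Cfsg.Agent.H460.Typed Cfsg.Agent.H460.FTypWitt
open Cfsg.Agent.Nodes.WittAll (AmbT)

/-! ### Symplectic groups -/

section Symplectic

open SpIdent SpGen

/-- **`PSp_{2m}(F)`, every characteristic.** -/
theorem ftyped_psp (F : Type) [Field F] [Finite F] {p : ℕ} [Fact p.Prime] [CharP F p] {m : ℕ} (hm : 1 ≤ m) :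
    HasFTyped p (PSp m F) (CoxeterMatrix.B m) (fun _ => Nat.card F) := by
  have h10 : (SpIdent.adm 1 : (frame m F).Adm).c ≠ 0 := one_ne_zero
  refine hasTyped_model (KInstSp.model m F) (AmbT.of_amb amb_Sp p) h10 (by omega) ?_ (fun _ _ => rfl) ?_
  · refine isSolvable_T _ fun g k hg hk => ?_
    refine comm_of_frame (wframe m F) 0 ?_ (fun x => ?_) (fun x => ?_) (by simp only [map_zero])
    · rw [Submodule.span_zero_singleton]; rfl
    · obtain ⟨l, -, e1⟩ := hg.2 x
      exact ⟨l, e1⟩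
    · obtain ⟨l, -, e1⟩ := hk.2 x
      exact ⟨l, e1⟩
  · intro R i hi
    refine typedAt_Z h10 R hi SpIdent.adm
      SpIdent.adm_add (fun q => ⟨q.c, (SpIdent.eq_adm q).symm⟩) (fun a ha => ha) (fun a ha => ?_) fun a ha => ?_
    · show _ • ((0 : Fin m ⊕ Fin m → F) + _ • (0 : Fin m ⊕ Fin m → F)) = 0
      rw [smul_zero, add_zero, smul_zero]
    · show (-1 : F)⁻¹ * (1 * 1) * a⁻¹ = -a⁻¹
      rw [inv_neg, inv_one]; ring

end Symplectic

/-! ### Unitary groups -/

section Unitary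

variable {F : Type} [Field F] [Fintype F] {q N : ℕ} (hF : Fintype.card F = q ^ 2) {m : ℕ} {p : ℕ} [Fact p.Prime]
  [CharP F p]

omit [Field F] in
include hF in
theorem natCard_F : Nat.card F = q ^ 2 := by rw [Nat.card_eq_fintype_card, hF]

include hF in
/-- Even dimension. -/
theorem typed_even (hN : 3 ≤ N) (W : WFrame (PU hF N) m) (hm : 0 < m) (hW : W.V0 = ⊥) :
    HasFTyped p (PSU N F q) (CoxeterMatrix.B m) (fun i => if (i : ℕ) + 1 < m then q ^ 2 else q) := by
  obtain ⟨c0, hc0, hc⟩ := exists_trace_zero_ne hF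
  have hσc : c0 ^ q = -c0 := by linear_combination hc
  have hok : ∀ a : F, a ^ q = a → (toFrame W).ok 0 (a * c0) := by
    intro a ha
    refine ⟨W.V0.zero_mem, ?_⟩
    rw [ok_iff, herm_zero_left, mul_pow, ha, hσc]
    ring
  let E : Subfield F := RingHom.eqLocusField ((conj hF : F ≃+* F) : F →+* F) (RingHom.id F)
  have hE : ∀ a : E, (a : F) ^ q = a := fun a => a.2
  have hcE : Nat.card E = q := card_fixed hF
  let p0 : (toFrame W).Adm := ⟨0, 1 * c0, hok 1 (one_pow q)⟩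
  have hp0 : p0.c ≠ 0 := by
    show 1 * c0 ≠ 0
    rwa [one_mul]
  refine hasTyped_model (KInstU.model hF hN W) (AmbT.of_amb (amb_U hF W) p) hp0 hm ?_ ?_ ?_
  · exact isSolvable_T _ fun g k hg hk =>
      comm_Tor W (amb_U hF W) 0 (by rw [hW, Submodule.span_zero_singleton]) hg hk
  · intro i hi
    rw [if_pos hi, natCard_F hF]
  · intro R i hi
    rw [if_neg hi]
    have h1 : TypedAt R i (Nat.card E) := by
      refine typedAt_Z hp0 R hi (E := E) (fun a => ⟨0, (a : F) * c0, hok a (hE a)⟩) ?_ ?_ ?_ ?_ ?_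
      · intro a b
        apply Frame.Adm.ext
        · show (0 : Fin N → F) = 0 + 0
          rw [add_zero]
        · show ((a : F) + b) * c0 = a * c0 + b * c0 - (HU hF N).ε⁻¹ * (HU hF N).h 0 0
          rw [HForm.zero_left]; ring
      · rintro ⟨w, c, hw, hok'⟩
        have hw0 : w = 0 := by
          rw [hW] at hw
          exact (Submodule.mem_bot F).1 hw
        subst hw0
        rw [ok_iff, herm_zero_left, neg_zero] at hok'
        refine ⟨⟨c * c0⁻¹, ?_⟩, ?_⟩
        · show (c * c0⁻¹) ^ q = c * c0⁻¹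
          rw [mul_pow, inv_pow, hσc]
          have h1 : c ^ q = -c := by linear_combination hok'
          rw [h1]
          field_simp
        · apply Frame.Adm.ext
          · rfl
          · show c * c0⁻¹ * c0 = c
            field_simp
      · intro a ha
        change (a : F) * c0 = 0 at ha
        exact Subtype.ext ((mul_eq_zero.1 ha).resolve_right hc0)
      · intro a ha
        show _ • ((0 : Fin N → F) + _ • (0 : Fin N → F)) = 0
        rw [smul_zero, add_zero, smul_zero]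
      · intro a ha
        have ha' : (a : F) ≠ 0 := fun h => ha (Subtype.ext h)
        show (1 : F)⁻¹ * ((1 * c0) * (1 * c0) ^ q) * ((a : F) * c0)⁻¹ = (-(a : F)⁻¹) * c0
        rw [one_mul, hσc]
        field_simp
    rwa [hcE] at h1

include hF in
/-- **`PSU_{2m}(q)`, every characteristic.** -/
theorem ftyped_psu_even (hm : 2 ≤ m) :
    HasFTyped p (PSU (2 * m) F q) (CoxeterMatrix.B m) (fun i => if (i : ℕ) + 1 < m then q ^ 2 else q) := by
  obtain ⟨W, hW⟩ := exists_wframe_even hF (N := 2 * m) (m := m) rfl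
  exact typed_even hF (by omega) W (by omega) hW

end Unitary

end Cfsg.Agent.H460.FTypC
end

-- part: H460/FTypO
section
/-!
# `PΩ⁺_{2m}(q)` has typed root group data with field nodes (after H185/TypedO of helper185)
-/

set_option autoImplicit false

namespace Cfsg.Agent.H460.FTypO

open QuadraticMap
open Cfsg Cfsg.Agent.LieClassical Cfsg.Agent.LieClassical.OrthCore Cfsg.Agent.LieClassical.OrthTrans
open Cfsg.Agent.LieClassical.OrthSimple Cfsg.Agent.LieClassical.OrthFinite Cfsg.Agent.LieClassical.OrthForms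
open Cfsg.Agent.ChevalleyStructure.CoxeterGeom Cfsg.Agent.Tits.Roots Cfsg.Agent.Nodes.TypeC
open Cfsg.Agent.Nodes.Comb Cfsg.Agent.Nodes.Reps Cfsg.Agent.Nodes.WittRoot Cfsg.Agent.Nodes.BNOf
open Cfsg.Agent.Nodes.WittRGD Cfsg.Agent.Nodes.RGDLib Cfsg.Agent.Nodes.WittModel Cfsg.Agent.Nodes.WittU
open Cfsg.Agent.TitsThree Cfsg.Agent.TitsThree.Siegel Cfsg.Agent.TitsThree.SiegelGen
  Cfsg.Agent.TitsThree.WittFrame Cfsg.Agent.TitsThree.WBridge Cfsg.Agent.TitsThree.WittWeyl
  Cfsg.Agent.TitsThree.FrameCN Cfsg.Agent.TitsThree.KSideO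
open Cfsg.Agent.FixBN.WittNodeA Cfsg.Agent.FixBN.WittNodeB
open Cfsg.Agent.H185.TypedTw (FNode HasFTyped)
open Cfsg.Agent.H460.Typed Cfsg.Agent.H460.FTypWitt
open Cfsg.Agent.Nodes.WittAll (AmbT)
open Cfsg.Agent.Nodes.WittInst (ambT_O amb_O_of_two fixp_minus)

/-! ### Plus type -/

section Plus

open Cfsg.Agent.Nodes
open Cfsg.Agent.Nodes.WittRGD (Tor mem_Tor b_ne_zero)
open Cfsg.Agent.Nodes.WittInst (wplus adm_plus amb_plus XD rgD_le G1D_eq_top ker_toPOmega rgdD_model)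
open Cfsg.Agent.FixBN.WittNodeD (eq_one_of_comm mem_B_of_eq')

variable {ι : Type} [Fintype ι] [DecidableEq ι] {F : Type} [Field F] {Q : QuadraticForm F (ι → F)}

seal _root_.Finset.sum _root_.dotProduct in
theorem hasTyped_D [Finite F] (hG : _root_.Cfsg.Agent.LieClassical.OrthTrans.Good Q) {p : ℕ} [Fact p.Prime] [CharP F p] {m : ℕ}
    (W : WFrame (PO Q) (m + 2)) (hA : Amb (toFrame W) (E Q)) (h0 : ∀ p : (toFrame W).Adm, p = 1) (hV : W.V0 = ⊥) :
    HasFTyped p (Cfsg.POmega F ⇑Q) (TypeD.M m) (fun _ => Nat.card F) := by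
  have hW : Finite (TypeD.M m).Group := TypeD.finite_W (TypeD.M m).toCoxeterSystem
  have hfin : Finite ((ι → F) ≃ₗ[F] (ι → F)) :=
    Finite.of_injective (fun g : (ι → F) ≃ₗ[F] (ι → F) => (g : (ι → F) → (ι → F))) DFunLike.coe_injective
  have R1 := rgd_restrict (WittAll.rgdD (p := p) hA h0 (TypeD.M m).toCoxeterSystem) (E Q) (fun x _ => rgD_le W hA x)
    (fun i => WittRGDD.nn_mem hA i)
  have R2 := rgdD_model W hG hA h0 (p := p) (TypeD.M m).toCoxeterSystem
  have hgen := rgd_gen_of_G1 R2 (G1D_eq_top W (toPOmega hG) (toPOmega_surjective hG) h0 (TypeD.M m).toCoxeterSystem)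
  refine hasTyped R2 hgen ?_ fun i => ?_
  · refine Group.isSolvable_of_comm ?_
    rintro ⟨_, g, hg, rfl⟩ ⟨_, k, hk, rfl⟩
    apply Subtype.ext
    show toPOmega hG g * toPOmega hG k = toPOmega hG k * toPOmega hG g
    rw [← map_mul, ← map_mul]
    exact congrArg _ (Subtype.ext (Cfsg.Agent.FixBN.WittNodeC.comm_Tor W hA 0
      (by rw [hV, Submodule.span_zero_singleton])
      (Subgroup.mem_subgroupOf.1 hg) (Subgroup.mem_subgroupOf.1 hk)))
  · have hne : ((i, true) : Fin (m + 2) × Bool).1 ≠ (TypeD.nx i).1 := TypeD.ok_nx i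
    have hmem : ∀ {u}, u ∈ XD W (toPOmega hG) (sr i) ↔
        ∃ a : F, u = toPOmega hG ⟨(toFrame W).X (i, true) (TypeD.nx i) a, hA.X_mem _ _ _⟩ := by
      intro u
      constructor
      · rintro ⟨g, hg, rfl⟩
        have h1 : (g : (ι → F) ≃ₗ[F] (ι → F)) ∈ WittRGDD.rg (toFrame W) (sr i) := hg
        rw [WittRGDD.rg_sr] at h1
        obtain ⟨a, ha⟩ := h1
        exact ⟨a, congrArg _ (Subtype.ext ha)⟩
      · rintro ⟨a, rfl⟩
        refine ⟨_, ?_, rfl⟩
        show (toFrame W).X (i, true) (TypeD.nx i) a ∈ WittRGDD.rg (toFrame W) (sr i)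
        rw [WittRGDD.rg_sr]
        exact ⟨a, rfl⟩
    refine ⟨F, inferInstance, inferInstance,
      fun a => toPOmega hG ⟨(toFrame W).X (i, true) (TypeD.nx i) a, hA.X_mem _ _ _⟩, rfl, fun a b => ?_,
      fun a => hmem.2 ⟨a, rfl⟩, fun u hu => hmem.1 hu, fun a ha => ?_, fun a ha => ?_⟩
    · rw [← map_mul]
      exact congrArg _ (Subtype.ext ((toFrame W).X_add _ _ _ _))
    · have h3 := center_of_toPOmega hG ha
      have h4 := eq_one_of_comm R1 i (x := ⟨(toFrame W).X (i, true) (TypeD.nx i) a, hA.X_mem _ _ _⟩) (by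
        show (toFrame W).X (i, true) (TypeD.nx i) a ∈ WittRGDD.rg (toFrame W) (sr i)
        rw [WittRGDD.rg_sr]
        exact ⟨a, rfl⟩) (Subgroup.mem_center_iff.1 h3 _)
      have h5 : (toFrame W).X (i, true) (TypeD.nx i) a = 1 := congrArg Subtype.val h4
      have h6 := X_apply_neg (toFrame W) hne a
      rw [h5] at h6
      have h7 : a • (toFrame W).b (i, true) = 0 := by
        have h8 : (toFrame W).b (neg (TypeD.nx i)) = (toFrame W).b (neg (TypeD.nx i)) + a • (toFrame W).b (i, true) := h6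
        exact (add_eq_left.1 h8.symm)
      exact (smul_eq_zero.1 h7).resolve_right (b_ne_zero _)
    · refine mem_B_of_eq' R2 i (m := toPOmega hG ⟨nX (toFrame W) (i, true) (TypeD.nx i) a⁻¹,
        WittRGDD.nX_mem hA _ _ _⟩) (z := toPOmega hG ⟨(toFrame W).X (i, true) (TypeD.nx i) (-a⁻¹), hA.X_mem _ _ _⟩)
        ?_ ?_ (hmem.2 ⟨_, rfl⟩)
      · ((conv => enter [@2, @6]; rw [← map_inv]); (conv => enter [@2, @5]; rw [← map_mul]); (conv => enter [@2]; rw [← map_mul]); (conv => enter [@3, @5]; rw [← map_mul]); (conv => enter [@3]; rw [← map_mul]))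
        exact congrArg _ (Subtype.ext (conj_X_eq (toFrame W) hne ha))
      · rw [← map_inv, ← map_mul]
        refine ⟨_, ?_, rfl⟩
        show (WittRGDD.nn (toFrame W) i)⁻¹ * nX (toFrame W) (i, true) (TypeD.nx i) a⁻¹ ∈ Tor (toFrame W) (E Q)
        exact ⟨mul_mem (inv_mem (WittRGDD.nn_mem hA i)) (WittRGDD.nX_mem hA _ _ _),
          (((WittRGDD.mono_nn i).inv (TypeD.sg_sg i)).mul (WittRGDD.mono_nX' i (inv_ne_zero ha))).congr
            fun x => TypeD.sg_sg i x⟩

/-- **`PΩ⁺_{2m}(q)`, every characteristic**, type `D_m`, `m = k + 2`. -/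
theorem ftyped_plus' {F : Type} [Field F] [Finite F] {p : ℕ} [Fact p.Prime] [CharP F p] {m : ℕ} (hm : 1 ≤ m) :
    HasFTyped p (Cfsg.POmega F (Cfsg.quadFormPlus (m + 2) F)) (TypeD.M m) (fun _ => Nat.card F) := by
  rw [← coe_plusForm]
  have hG : _root_.Cfsg.Agent.LieClassical.OrthTrans.Good (plusForm (m + 2) F) := by
    apply good_of_finite (nondeg_plusForm (m + 2) F)
    rw [Module.finrank_fintype_fun_eq_card, Fintype.card_sum, Fintype.card_fin]
    omega
  exact hasTyped_D hG (wplus (m + 2) F) (amb_plus (m + 2)) (adm_plus (m + 2)) rfl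

/-- **`PΩ⁺_{2m}(q)`, every characteristic**, `m ≥ 3`. -/
theorem ftyped_plus {F : Type} [Field F] [Finite F] {p : ℕ} [Fact p.Prime] [CharP F p] {m : ℕ} (hm : 3 ≤ m) :
    HasFTyped p (Cfsg.POmega F (Cfsg.quadFormPlus m F)) (TypeD.M (m - 2)) (fun _ => Nat.card F) := by
  obtain ⟨k, rfl⟩ : ∃ k, m = k + 2 := ⟨m - 2, by omega⟩
  exact ftyped_plus' (by omega)

end Plus

end Cfsg.Agent.H460.FTypO
end
end

-- part: H14/TypC
section
prune_inst 0x4002000000000000000000000200c000000000000002040030202010200804100010a001402009088000000000000000100400000000a00000000020000000102001000a000280000000000000000000000000000000000000000000000000000000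
set_option linter.all false
open scoped Cfsg.Agent.FastGrp

/-!
# `PSp_{2m}(F)` and `PSU_n(q)` have typed root group data, every characteristic (helper14)

* `typed_psp` : `PSp m F`, type `B_m`, all nodes of order `|F|`;
* `typed_psu_even` : `PSU (2 m) F q`; `typed_psu_odd` : `PSU (2 m + 1) F q`.
-/

set_option autoImplicit false

namespace Cfsg.Agent.H14.TypC

open Cfsg Cfsg.Agent.LieClassical.HermBasic Cfsg.Agent.LieClassical.HermGen
open Cfsg.Agent.ChevalleyStructure.CoxeterGeom Cfsg.Agent.Tits.Roots Cfsg.Agent.Nodes.TypeC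
open Cfsg.Agent.Nodes.Comb Cfsg.Agent.Nodes.Reps Cfsg.Agent.Nodes.WittRoot Cfsg.Agent.Nodes.BNOf
open Cfsg.Agent.Nodes.WittRGD Cfsg.Agent.Nodes.RGDLib Cfsg.Agent.Nodes.WittModel Cfsg.Agent.Nodes.WittU
open Cfsg.Agent.TitsThree Cfsg.Agent.TitsThree.Siegel Cfsg.Agent.TitsThree.SiegelGen
  Cfsg.Agent.TitsThree.WittFrame Cfsg.Agent.TitsThree.WBridge Cfsg.Agent.TitsThree.WittWeyl
  Cfsg.Agent.TitsThree.FrameCN Cfsg.Agent.TitsThree.KSideU Cfsg.Agent.TitsThree.KSideUDesc
open Cfsg.Agent.FixBN Cfsg.Agent.FixBN.WittNodeA Cfsg.Agent.FixBN.WittNodeB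
open Cfsg.Agent.FixBN.WittNodeC (comm_of_frame comm_Tor isSolvable_T)
open Cfsg.Agent.H460.Typed Cfsg.Agent.H14.TypWitt
open Cfsg.Agent.Nodes.WittAll (AmbT)

/-! ### Symplectic groups -/

section Symplectic

open SpIdent SpGen

end Symplectic

/-! ### Unitary groups -/

section Unitary

variable {F : Type} [Field F] [Fintype F] {q N : ℕ} (hF : Fintype.card F = q ^ 2) {m : ℕ} {p : ℕ} [Fact p.Prime]
  [CharP F p]

omit [Field F] in
include hF in
theorem natCard_F : Nat.card F = q ^ 2 := by rw [Nat.card_eq_fintype_card, hF]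

include hF in
/-- Even dimension. -/
theorem typed_even (hN : 3 ≤ N) (W : WFrame (PU hF N) m) (hm : 0 < m) (hW : W.V0 = ⊥) :
    HasTyped p (PSU N F q) (CoxeterMatrix.B m) (fun i => if (i : ℕ) + 1 < m then q ^ 2 else q) := by
  obtain ⟨c0, hc0, hc⟩ := exists_trace_zero_ne hF
  have hσc : c0 ^ q = -c0 := by linear_combination hc
  have hok : ∀ a : F, a ^ q = a → (toFrame W).ok 0 (a * c0) := by
    intro a ha
    refine ⟨W.V0.zero_mem, ?_⟩
    rw [ok_iff, herm_zero_left, mul_pow, ha, hσc]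
    ring
  let E : Subfield F := RingHom.eqLocusField ((conj hF : F ≃+* F) : F →+* F) (RingHom.id F)
  have hE : ∀ a : E, (a : F) ^ q = a := fun a => a.2
  have hcE : Nat.card E = q := card_fixed hF
  let p0 : (toFrame W).Adm := ⟨0, 1 * c0, hok 1 (one_pow q)⟩
  have hp0 : p0.c ≠ 0 := by
    show 1 * c0 ≠ 0
    rwa [one_mul]
  refine hasTyped_model (KInstU.model hF hN W) (AmbT.of_amb (amb_U hF W) p) hp0 hm ?_ ?_ ?_
  · exact isSolvable_T _ fun g k hg hk =>
      comm_Tor W (amb_U hF W) 0 (by rw [hW, Submodule.span_zero_singleton]) hg hk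
  · intro i hi
    rw [if_pos hi, natCard_F hF]
  · intro R i hi
    rw [if_neg hi]
    have h1 : TypedAt R i (Nat.card E) := by
      refine typedAt_Z hp0 R hi (E := E) (fun a => ⟨0, (a : F) * c0, hok a (hE a)⟩) ?_ ?_ ?_ ?_ ?_
      · intro a b
        apply Frame.Adm.ext
        · show (0 : Fin N → F) = 0 + 0
          rw [add_zero]
        · show ((a : F) + b) * c0 = a * c0 + b * c0 - (HU hF N).ε⁻¹ * (HU hF N).h 0 0
          rw [HForm.zero_left]; ring
      · rintro ⟨w, c, hw, hok'⟩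
        have hw0 : w = 0 := by
          rw [hW] at hw
          exact (Submodule.mem_bot F).1 hw
        subst hw0
        rw [ok_iff, herm_zero_left, neg_zero] at hok'
        refine ⟨⟨c * c0⁻¹, ?_⟩, ?_⟩
        · show (c * c0⁻¹) ^ q = c * c0⁻¹
          rw [mul_pow, inv_pow, hσc]
          have h1 : c ^ q = -c := by linear_combination hok'
          rw [h1]
          field_simp
        · apply Frame.Adm.ext
          · rfl
          · show c * c0⁻¹ * c0 = c
            field_simp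
      · intro a ha
        change (a : F) * c0 = 0 at ha
        exact Subtype.ext ((mul_eq_zero.1 ha).resolve_right hc0)
      · intro a ha
        show _ • ((0 : Fin N → F) + _ • (0 : Fin N → F)) = 0
        rw [smul_zero, add_zero, smul_zero]
      · intro a ha
        have ha' : (a : F) ≠ 0 := fun h => ha (Subtype.ext h)
        show (1 : F)⁻¹ * ((1 * c0) * (1 * c0) ^ q) * ((a : F) * c0)⁻¹ = (-(a : F)⁻¹) * c0
        rw [one_mul, hσc]
        field_simp
    rwa [hcE] at h1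

include hF in
/-- Odd dimension. -/
theorem typed_odd (hN : 3 ≤ N) (W : WFrame (PU hF N) m)
    (hm : 0 < m) (d : Fin N → F) (hd : hermForm N F q d d = 1) (hW : W.V0 = Submodule.span F {d}) :
    HasTyped p (PSU N F q) (CoxeterMatrix.B m) (fun i => if (i : ℕ) + 1 < m then q ^ 2 else q ^ 3) := by
  obtain ⟨a0, hn⟩ := exists_norm_eq hF (c := (-2 : F)) (by
    rw [neg_pow_q hF, show (2 : F) = 1 + 1 by norm_num, add_pow_q hF, one_pow])
  let σ : F →+* F := ((conj hF : F ≃+* F) : F →+* F)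
  have hσ : ∀ x, σ x = x ^ q := fun x => rfl
  have hI : U3Model.Inv2 σ := ⟨fun x => pow_q_pow_q hF x⟩
  have hd0 : d ∈ W.V0 := by rw [hW]; exact Submodule.mem_span_singleton_self d
  let p0 : (toFrame W).Adm := ⟨a0 • d, 1, W.V0.smul_mem _ hd0, by
    rw [ok_iff, herm_smul_left, herm_smul_right, hd, mul_one, hn, one_pow]; ring⟩
  have hp0 : p0.c ≠ 0 := one_ne_zero
  refine hasTyped_model (KInstU.model hF hN W) (AmbT.of_amb (amb_U hF W) p) hp0 hm ?_ ?_ ?_
  · exact isSolvable_T _ fun g k hg hk => comm_Tor W (amb_U hF W) d hW hg hk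
  · intro i hi
    rw [if_pos hi, natCard_F hF]
  · intro R i hi
    rw [if_neg hi]
    refine typedAt_U hp0 R hi (σ := σ) (exists_not_fixed hF) (natCard_F hF)
      (fun x => ⟨x.a • d, x.b, W.V0.smul_mem _ hd0, ?_⟩) ?_ ?_ ?_ ?_ ?_
    · rw [ok_iff, herm_smul_left, herm_smul_right, hd, mul_one]
      have := x.h
      rw [hσ, hσ] at this
      linear_combination this
    · intro x y
      apply Frame.Adm.ext
      · show (x.a + y.a) • d = x.a • d + y.a • d
        rw [add_smul]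
      · show x.b + y.b - σ x.a * y.a = x.b + y.b - (1 : F)⁻¹ * hermForm N F q (y.a • d) (x.a • d)
        rw [herm_smul_left, herm_smul_right, hd, hσ, inv_one]
        ring
    · rintro ⟨w, c, hw, hok'⟩
      obtain ⟨a, rfl⟩ : ∃ a : F, a • d = w := by
        rw [hW] at hw
        exact Submodule.mem_span_singleton.1 hw
      rw [ok_iff, herm_smul_left, herm_smul_right, hd, mul_one] at hok'
      exact ⟨⟨a, c, by rw [hσ, hσ]; linear_combination hok'⟩, rfl⟩
    · intro x hx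
      by_contra hne
      exact U3Model.b_ne_zero hne hx
    · intro x hx
      have hb := U3Model.b_ne_zero hx
      show ((1 : F)⁻¹ * (1 : F) ^ q * x.b⁻¹) • (x.a • d + ((1 : F)⁻¹ * (1 : F)⁻¹ *
        hermForm N F q (x.a • d) (a0 • d)) • (a0 • d)) = (U3Model.J x).a • d
      rw [U3Model.J_a hx, herm_smul_left, herm_smul_right, hd, smul_smul, ← add_smul, smul_smul, one_pow]
      congr 1
      have h3 : x.a * (a0 ^ q * 1) * a0 = -2 * x.a := by linear_combination x.a * hn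
      field_simp
      linear_combination h3
    · intro x hx
      have hb := U3Model.b_ne_zero hx
      show (1 : F)⁻¹ * (1 * (1 : F) ^ q) * x.b⁻¹ = (U3Model.J x).b
      rw [U3Model.J_b hx, one_pow]
      field_simp

include hF in
/-- **`PSU_{2m}(q)`, every characteristic.** -/
theorem typed_psu_even (hm : 2 ≤ m) :
    HasTyped p (PSU (2 * m) F q) (CoxeterMatrix.B m) (fun i => if (i : ℕ) + 1 < m then q ^ 2 else q) := by
  obtain ⟨W, hW⟩ := exists_wframe_even hF (N := 2 * m) (m := m) rfl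
  exact typed_even hF (by omega) W (by omega) hW

include hF in
/-- **`PSU_{2m+1}(q)`, every characteristic.** -/
theorem typed_psu_odd (hm : 1 ≤ m) :
    HasTyped p (PSU (2 * m + 1) F q) (CoxeterMatrix.B m) (fun i => if (i : ℕ) + 1 < m then q ^ 2 else q ^ 3) := by
  obtain ⟨W, d, hd, hW⟩ := exists_wframe_odd hF (N := 2 * m + 1) (m := m) rfl
  exact typed_odd hF (by omega) W (by omega) d hd hW

end Unitary

end Cfsg.Agent.H14.TypC
end
end
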