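import Cfsg.Agent.Nodes.TypeD
import Cfsg.Agent.Nodes.Comb
import Cfsg.Agent.H460.Dgs
import Cfsg.Agent.FixOdd.Radical_m3
import Cfsg.Agent.FixBN.Thin_m3
import Cfsg.Agent.H478.RadTools_m3
import Cfsg.Agent.H286.OddNF
import Cfsg.Agent.OddHalf.NI.FTwo.ChartB_mg_m3
import Cfsg.Agent.H185.TypedTw
import Cfsg.Agent.H460.PanL
import Cfsg.Agent.FixBN.WittNodeD_m3
import Cfsg.Agent.FixBN.ChevGood
import Cfsg.Agent.LargeExtra.Cards
import Cfsg.Agent.S0303
import Cfsg.Agent.S0283
import Cfsg.Agent.S0280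
import Cfsg.Agent.S0278
import Cfsg.Agent.KFacts.Unit.Emb
import Cfsg.Agent.S0815
import Cfsg.Agent.FixBN.ThreeD4Split
import Cfsg.Agent.S1067
import Cfsg.Agent.S1106
import Cfsg.Agent.S0316
import Cfsg.Agent.H460.FTypedAE_m3
import Mathlib
import Cfsg.Agent.H28.Frob_m3
import Cfsg.Agent.S1323
import Cfsg.Agent.H235.AA.Row_m3
import Cfsg.Agent.S0243
import Cfsg.Agent.S0255
import Cfsg.Agent.S0256
import Cfsg.Agent.S0822
import Cfsg.Agent.S0813
import Cfsg.Agent.S0249
import Cfsg.Agent.ClassicalGeometry.PSL2Basic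
import Cfsg.Agent.StandardComponent.SpTwoAut
import Cfsg.Agent.S0245
import Cfsg.Agent.UGT.U2.Rec.Congr
import Cfsg.Agent.S0293
import Cfsg.Agent.CpAut.Psl
import Cfsg.Agent.ClassicalGeometry.AutPSL.SylowU
import Cfsg.Agent.H119.SLVec
import Cfsg.Agent.FastGrp
import Cfsg.Agent.Prune
set_option linter.all false

section
prune_inst 0x7ff8bcfbafb839dfdfff7e7faeddddfc39905fffa6dff94b7fe061ff0b9f030009c523ad09e010fe1e96401410287843f9ffeeffea6bdc7ffffd5ff41ffbee0ff5f7b508519488340fbc0fff03f0778e7f3fffffffffffffffffffffffffffbeffffffffffff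

-- part: H289/Tri/ThreeB
section
prune_inst 0x543001001c6202000000051022203c06f80004020068000088e00f060680cf420dc009600c2014169a28a809003100600100005002000000000004000005000000a80206b048a10000000e000080000000000000000000000000000000000000000000000
set_option linter.all false
open scoped Cfsg.Agent.FastGrp

-- part: H289/Tri/Cox
section
/-!
# Triality: computations in the Weyl group of type `D₄` (helper289, task AA-TRI)

The centre of the diagram `TypeD.M 2` is `1`. `rep_word` : the action of words on the root lattice, computable;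
`red`, `length_word` : reduced words.
-/

set_option autoImplicit false

namespace Cfsg.Agent.H289.Tri

open CoxeterSystem Cfsg.Agent.ChevalleyStructure.CoxeterGeom Cfsg.Agent.Tits.Roots Cfsg.Agent.Nodes
  Cfsg.Agent.Tits.Core

/-- the reflections, computable -/
def rf (i : Fin 4) (v : Fin 4 → ℤ) : Fin 4 → ℤ := fun k =>
  if k = i then (if i = 1 then v 0 + v 2 + v 3 - v 1 else v 1 - v i) else v k

/-- the action of a word -/
def act (ω : List (Fin 4)) (v : Fin 4 → ℤ) : Fin 4 → ℤ := ω.foldr rf v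

theorem M_eq (i j : Fin 4) : TypeD.M 2 i j = if i = j then 1 else if i = 1 ∨ j = 1 then 3 else 2 := by
  fin_cases i <;> fin_cases j <;> rfl

variable {W : Type*} [Group W] (cs : CoxeterSystem (TypeD.M 2) W) {A : Fin 4 → Fin 4 → ℤ}
  (h : IsCartan (TypeD.M 2) A)

include h in
theorem A_eq (i j : Fin 4) : A i j = if i = j then 2 else if i = 1 ∨ j = 1 then -1 else 0 := by
  by_cases hij : i = j
  · subst hij
    rw [if_pos rfl, h.diag]
  · rw [if_neg hij]
    have hM := M_eq i j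
    rw [if_neg hij] at hM
    by_cases h1 : i = 1 ∨ j = 1
    · rw [if_pos h1] at hM ⊢
      rcases h.rel i j hij with ⟨hm, h2, -⟩ | ⟨hm, h2, -⟩ | ⟨hm, -⟩ | ⟨hm, -⟩
      · rw [hM] at hm; exact absurd hm (by decide)
      · exact h2
      · rw [hM] at hm; exact absurd hm (by decide)
      · rw [hM] at hm; exact absurd hm (by decide)
    · rw [if_neg h1] at hM ⊢
      rcases h.rel i j hij with ⟨hm, h2, -⟩ | ⟨hm, h2, -⟩ | ⟨hm, -⟩ | ⟨hm, -⟩
      · exact h2
      · rw [hM] at hm; exact absurd hm (by decide)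
      · rw [hM] at hm; exact absurd hm (by decide)
      · rw [hM] at hm; exact absurd hm (by decide)

theorem rep_rf (i : Fin 4) (v : Fin 4 → ℤ) : rep cs h (cs.simple i) v = rf i v := by
  rw [rep_simple_eq]
  funext k
  rw [Pi.sub_apply, Pi.smul_apply, smul_eq_mul]
  have hp : pairing A i v = ∑ k, A i k * v k := rfl
  rw [hp, Fin.sum_univ_four]
  simp only [A_eq h]
  unfold rf sr
  fin_cases i <;> fin_cases k <;> simp <;> ring

theorem rep_word (ω : List (Fin 4)) (v : Fin 4 → ℤ) : rep cs h (cs.wordProd ω) v = act ω v := by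
  induction ω with
  | nil => rw [cs.wordProd_nil, map_one, Module.End.one_apply]; rfl
  | cons i ω ih => rw [cs.wordProd_cons, rep_mul_apply, ih, rep_rf]; rfl

/-- `ω` is a reduced word (sufficient condition) -/
def Red (ω : List (Fin 4)) : Prop := ∀ k : Fin ω.length, ∀ i, 0 ≤ act (ω.take k) (Pi.single (ω.get k) 1) i

instance instDecRed (ω : List (Fin 4)) : Decidable (Red ω) := by unfold Red; infer_instance

theorem length_word {ω : List (Fin 4)} (hr : Red ω) : cs.length (cs.wordProd ω) = ω.length := by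
  have h := TypeD.isCartan 2
  have key : ∀ k ≤ ω.length, cs.length (cs.wordProd (ω.take k)) = k := by
    intro k
    induction k with
    | zero => intro _; simp
    | succ k ih =>
      intro hk
      have h1 := ih (by omega)
      have h2 : ω.take (k + 1) = ω.take k ++ [ω[k]] := by
        rw [List.take_succ_eq_append_getElem (by omega)]
      rw [h2, cs.wordProd_append, cs.wordProd_singleton]
      have h3 : cs.length (cs.wordProd (ω.take k)) < cs.length (cs.wordProd (ω.take k) * cs.simple ω[k]) := by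
        rw [lt_iff' cs h, rep_word cs h]
        exact hr ⟨k, by omega⟩
      have h4 := cs.length_mul_simple (cs.wordProd (ω.take k)) ω[k]
      omega
  have := key ω.length le_rfl
  rwa [List.take_length] at this

/-- `a, b, c` are the outer nodes -/
def Out (a b c : Fin 4) : Prop := a ≠ 1 ∧ b ≠ 1 ∧ c ≠ 1 ∧ a ≠ b ∧ a ≠ c ∧ b ≠ c

instance instDecOut (a b c : Fin 4) : Decidable (Out a b c) := by unfold Out; infer_instance

theorem out_all : ∀ a b c : Fin 4, Out a b c → ∀ i : Fin 4, i = 1 ∨ i = a ∨ i = b ∨ i = c := by decide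

end Cfsg.Agent.H289.Tri
end

-- part: H289/Tri/Ell
section
/-!
# Triality: the minimal invariant residues (helper289, task AA-TRI)

`t` an automorphism of order three of the building of type `D₄` rotating the outer nodes `a → b → c → a`. The type of
a minimal invariant residue is `∅` or `{1}` (`gd_type`).
-/

set_option autoImplicit false
set_option linter.unusedSectionVars false

namespace Cfsg.Agent.H289.Tri

open CoxeterSystem Cfsg.Agent.ChevalleyStructure.CoxeterGeom Cfsg.Agent.Tits.Roots Cfsg.Agent.Nodes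
  Cfsg.Agent.Tits.Core Cfsg.Agent.Tits.Core.Bldg Cfsg.Agent.Tits Cfsg.Agent.Tits.Exchange
open Cfsg.Agent.FixBN (Sys)
open Cfsg.Agent.FixOdd (Tw)

variable {W : Type*} [Group W] {cs : CoxeterSystem (TypeD.M 2) W} {C : Type*} {Δ : Bldg cs C}
  {G : Type*} [Group G] [MulAction G C]

/-- `t` rotates the outer nodes and has order three. -/
structure TriD (t : Tw Δ G) (a b c : Fin 4) : Prop where
  out : Out a b c
  one : t.σ 1 = 1
  ab : t.σ a = b
  bc : t.σ b = c
  ca : t.σ c = a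
  θ3 : t.θ ^ 3 = 1
  τ3 : t.τ ^ 3 = 1

variable {t : Tw Δ G} {a b c : Fin 4}

theorem TriD.θθθ (T : TriD t a b c) (y : C) : t.θ (t.θ (t.θ y)) = y := by
  have h1 := congrArg (fun f : Equiv.Perm C => f y) T.θ3
  simpa only [pow_succ, _root_.Nat.reduceAdd, _root_.pow_zero, _root_.one_mul, _root_.Equiv.Perm.coe_mul, _root_.Function.comp_apply, _root_.Equiv.Perm.coe_one, _root_.id_eq] using h1

theorem TriD.rot (T : TriD t a b c) : TriD t b c a := by
  obtain ⟨⟨h1, h2, h3, h4, h5, h6⟩, h7, h8, h9, h10, h11, h12⟩ := T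
  exact ⟨⟨h2, h3, h1, h6, Ne.symm h4, Ne.symm h5⟩, h7, h9, h10, h8, h11, h12⟩

theorem map_word (t : Tw Δ G) (ω : List (Fin 4)) : t.φ (cs.wordProd ω) = cs.wordProd (ω.map t.σ) :=
  FixBN.Cox.map_wordProd t.φ_simple ω

/-- distances given by reduced words -/
theorem δ_word {x y z : C} {ω ω' : List (Fin 4)} (h1 : Δ.δ x y = cs.wordProd ω) (h2 : Δ.δ y z = cs.wordProd ω')
    (hr : Red (ω ++ ω')) (hr1 : Red ω) (hr2 : Red ω') : Δ.δ x z = cs.wordProd (ω ++ ω') := by
  rw [cs.wordProd_append]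
  refine Δ.δ_mul_of h1 h2 ?_
  rw [← cs.wordProd_append, length_word cs hr, length_word cs hr1, length_word cs hr2, List.length_append]

section Gd

variable {l : ℕ} [Fact l.Prime] [Finite C] [F : OppRes.Cox cs]

theorem no_gd (S : _root_.Cfsg.Agent.FixBN.Sys Δ G l) (hth : Δ.Thick) (T : TriD t a b c) {J : Set (Fin 4)} {y : C} (hJ : t.Gd J y)
    {ω : List (Fin 4)} (hω : ∀ i ∈ ω, i ∈ J)
    (hfull : ∀ K ⊆ J, (∀ i ∈ K, t.σ i ∈ K) → (∀ i ∈ ω, i ∈ K) → K = J) (hr : Red ω) :
    ∃ z ∈ Δ.Res J y, Δ.δ z (t.θ z) = cs.wordProd ω := by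
  have hσ : t.σ ^ 3 = 1 := by
    have : Nonempty C := ⟨y⟩
    exact Tw.σ_pow T.θ3
  have hst := hJ.θ_stable
  refine H460.OppTrace.exists_delta (p := l) t.φ_simple hJ.st t.δ_θ hst ?_ hJ.min
    (fun i _ a _ => S.card_Pan_eq hth a i) (r := 3) (by norm_num) hσ
    (Tits.Exchange.wordProd_mem_WJ cs hω) ?_
  · intro z hz
    have h1 : t.θ.symm z = t.θ (t.θ z) := by
      rw [Equiv.symm_apply_eq, T.θθθ]
    rw [h1]
    exact hst _ (hst _ hz)
  · intro K hK hKσ hw
    refine hfull K hK hKσ fun i hi => ?_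
    refine H460.OppTrace.letters_mem (cs := cs) (ω := ω) ?_ hw i hi
    exact length_word cs hr

/-- there is no elliptic triality automorphism of order three -/
theorem no_univ (S : _root_.Cfsg.Agent.FixBN.Sys Δ G l) (hth : Δ.Thick) (T : TriD t a b c) {y : C} : ¬ t.Gd Set.univ y := by
  intro hJ
  obtain ⟨z, -, hz⟩ := no_gd (ω := [a, 1]) S hth T hJ (fun _ _ => trivial) (fun K _ hKσ hK => by
    have h1 : (1 : Fin 4) ∈ K := hK 1 (by simp)
    have ha : a ∈ K := hK a (by simp)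
    have hb : b ∈ K := T.ab ▸ hKσ a ha
    have hc : c ∈ K := T.bc ▸ hKσ b hb
    ext i
    simp only [Set.mem_univ, iff_true]
    rcases out_all a b c T.out i with rfl | rfl | rfl | rfl <;> assumption) (by
    have : ∀ a b c : Fin 4, Out a b c → Red [a, 1] := by decide +kernel
    exact this a b c T.out)
  have h1 : Δ.δ (t.θ z) (t.θ (t.θ z)) = cs.wordProd [b, 1] := by
    rw [t.δ_θ, hz, map_word]
    simp [T.ab, T.one]
  have h2 : Δ.δ (t.θ (t.θ z)) z = cs.wordProd [c, 1] := by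
    have h3 : Δ.δ (t.θ (t.θ z)) (t.θ (t.θ (t.θ z))) = cs.wordProd [c, 1] := by
      rw [t.δ_θ, h1, map_word]
      simp [T.bc, T.one]
    rwa [T.θθθ] at h3
  have d : ∀ a b c : Fin 4, Out a b c → Red [a, 1] ∧ Red [b, 1] ∧ Red [c, 1] ∧ Red ([a, 1] ++ [b, 1]) ∧
      Red (([a, 1] ++ [b, 1]) ++ [c, 1]) := by decide +kernel
  obtain ⟨d1, d2, d3, d4, d5⟩ := d a b c T.out
  have h3 := δ_word hz h1 d4 d1 d2
  have h4 := δ_word h3 h2 d5 d4 d3
  rw [Δ.δ_self] at h4
  have h5 := length_word cs d5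
  rw [← h4, cs.length_one] at h5
  exact absurd h5 (by simp)

/-- the outer residue is not a minimal invariant residue -/
theorem no_outer (S : _root_.Cfsg.Agent.FixBN.Sys Δ G l) (hth : Δ.Thick) (T : TriD t a b c) {y : C} : ¬ t.Gd {a, b, c} y := by
  intro hJ
  obtain ⟨z, -, hz⟩ := no_gd (ω := [a]) S hth T hJ (by simp) (fun K hKJ hKσ hK => by
    have ha : a ∈ K := hK a (by simp)
    have hb : b ∈ K := T.ab ▸ hKσ a ha
    have hc : c ∈ K := T.bc ▸ hKσ b hb
    refine Set.Subset.antisymm hKJ ?_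
    rintro i (rfl | rfl | rfl) <;> assumption) (by
    have : ∀ a : Fin 4, Red [a] := by decide
    exact this a)
  have h1 : Δ.δ (t.θ z) (t.θ (t.θ z)) = cs.wordProd [b] := by
    rw [t.δ_θ, hz, map_word]
    simp [T.ab]
  have h2 : Δ.δ (t.θ (t.θ z)) z = cs.wordProd [c] := by
    have h3 : Δ.δ (t.θ (t.θ z)) (t.θ (t.θ (t.θ z))) = cs.wordProd [c] := by
      rw [t.δ_θ, h1, map_word]
      simp [T.bc]
    rwa [T.θθθ] at h3
  have d : ∀ a b c : Fin 4, Out a b c → Red [a] ∧ Red [b] ∧ Red [c] ∧ Red ([a] ++ [b]) := by decide +kernel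
  obtain ⟨d1, d2, d3, d4⟩ := d a b c T.out
  have h3 := δ_word hz h1 d4 d1 d2
  rw [Δ.symm, h2] at h3
  have h4 := congrArg cs.length h3
  rw [cs.length_inv, length_word cs d4, length_word cs d3] at h4
  exact absurd h4 (by simp)

/-- **The type of a minimal invariant residue.** -/
theorem gd_type (S : _root_.Cfsg.Agent.FixBN.Sys Δ G l) (hth : Δ.Thick) (T : TriD t a b c) {J : Set (Fin 4)} {y : C} (hJ : t.Gd J y) :
    J = ∅ ∨ J = {1} := by
  have hst := hJ.st
  have hall := out_all a b c T.out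
  by_cases ha : ∃ i ∈ J, i ≠ 1
  · exfalso
    have h3 : a ∈ J ∧ b ∈ J ∧ c ∈ J := by
      obtain ⟨i, hi, hi1⟩ := ha
      rcases hall i with rfl | rfl | rfl | rfl
      · exact absurd rfl hi1
      · have hb := hst _ hi
        rw [T.ab] at hb
        have hc := hst _ hb
        rw [T.bc] at hc
        exact ⟨hi, hb, hc⟩
      · have hc := hst _ hi
        rw [T.bc] at hc
        have ha := hst _ hc
        rw [T.ca] at ha
        exact ⟨ha, hi, hc⟩
      · have ha := hst _ hi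
        rw [T.ca] at ha
        have hb := hst _ ha
        rw [T.ab] at hb
        exact ⟨ha, hb, hi⟩
    by_cases h1 : (1 : Fin 4) ∈ J
    · have : J = Set.univ := by
        ext i
        simp only [Set.mem_univ, iff_true]
        rcases hall i with rfl | rfl | rfl | rfl
        · exact h1
        · exact h3.1
        · exact h3.2.1
        · exact h3.2.2
      rw [this] at hJ
      exact no_univ S hth T hJ
    · have : J = {a, b, c} := by
        ext i
        constructor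
        · intro hi
          rcases hall i with rfl | rfl | rfl | rfl
          · exact absurd hi h1
          · simp
          · simp
          · simp
        · rintro (rfl | rfl | rfl)
          · exact h3.1
          · exact h3.2.1
          · exact h3.2.2
      rw [this] at hJ
      exact no_outer S hth T hJ
  · push Not at ha
    by_cases h1 : (1 : Fin 4) ∈ J
    · right
      ext i
      exact ⟨fun hi => ha i hi, fun hi => by rw [Set.mem_singleton_iff.1 hi]; exact h1⟩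
    · left
      ext i
      simp only [Set.mem_empty_iff_false, iff_false]
      intro hi
      exact h1 (ha i hi ▸ hi)

end Gd

end Cfsg.Agent.H289.Tri
end

-- part: H289/Tri/Psi
section
/-!
# Triality: the cube of `x * x^m` (helper289, task AA-TRI)

`x` an automorphism with `x ^ 3 = 1`: `(x * x^m)^3` is the inner automorphism of `Psi x m`.
-/

set_option autoImplicit false

namespace Cfsg.Agent.H289.Tri

open Cfsg.Agent.H460.AA

variable {K : Type*} [Group K]

/-- the cube of `x * x^m` -/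
def Psi (x : MulAut K) (m : K) : K := x m * (x (x m))⁻¹ * m * (x m)⁻¹ * x (x m) * m⁻¹

theorem cube {x : MulAut K} (hx : x ^ 3 = 1) (m : K) :
    (x * (MulAut.conj m * x * (MulAut.conj m)⁻¹)) ^ 3 = MulAut.conj (Psi x m) := by
  have hc : ∀ k : K, x * MulAut.conj k = MulAut.conj (x k) * x := by
    intro k
    ext y
    simp only [_root_.MulAut.mul_apply, _root_.MulAut.conj_apply, _root_.map_mul, _root_.map_inv]
  have h3 : x (x (x m)) = m := by
    have := congrArg (fun f : MulAut K => f m) hx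
    simpa [pow_succ] using this
  have hci : ∀ k : K, x * (MulAut.conj k)⁻¹ = (MulAut.conj (x k))⁻¹ * x := by
    intro k
    rw [← map_inv, hc, map_inv, map_inv]
  set P := MulAut.conj m with hP
  set Q := MulAut.conj (x m) with hQ
  set R := MulAut.conj (x (x m)) with hR
  have e1 : x * P = Q * x := hc m
  have e2 : x * Q = R * x := hc (x m)
  have e3 : x * R = P * x := by rw [hR, hc, h3]
  have i1 : x * P⁻¹ = Q⁻¹ * x := hci m
  have i2 : x * Q⁻¹ = R⁻¹ * x := hci (x m)
  have i3 : x * R⁻¹ = P⁻¹ * x := by rw [hR, hci, h3]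
  have z1 : x * (P * x * P⁻¹) = Q * R⁻¹ * (x * x) := by
    calc x * (P * x * P⁻¹) = (x * P) * (x * P⁻¹) := by group
      _ = Q * (x * Q⁻¹) * x := by rw [e1, i1]; group
      _ = Q * R⁻¹ * (x * x) := by rw [i2]; group
  have key : (Q * R⁻¹ * (x * x)) ^ 3 = Q * R⁻¹ * P * Q⁻¹ * R * P⁻¹ * x ^ 6 := by
    have s1 : (x * x) * (Q * R⁻¹) = P * Q⁻¹ * (x * x) := by
      calc (x * x) * (Q * R⁻¹) = x * (x * Q) * R⁻¹ := by group
        _ = (x * R) * (x * R⁻¹) := by rw [e2]; group
        _ = P * (x * P⁻¹) * x := by rw [e3, i3]; group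
        _ = P * Q⁻¹ * (x * x) := by rw [i1]; group
    have s2 : (x * x) * (P * Q⁻¹) = R * P⁻¹ * (x * x) := by
      calc (x * x) * (P * Q⁻¹) = x * (x * P) * Q⁻¹ := by group
        _ = (x * Q) * (x * Q⁻¹) := by rw [e1]; group
        _ = R * (x * R⁻¹) * x := by rw [e2, i2]; group
        _ = R * P⁻¹ * (x * x) := by rw [i3]; group
    calc (Q * R⁻¹ * (x * x)) ^ 3 = Q * R⁻¹ * ((x * x) * (Q * R⁻¹)) * ((x * x) * (Q * R⁻¹)) * (x * x) := by
          rw [pow_succ, pow_succ, pow_one]; group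
      _ = Q * R⁻¹ * (P * Q⁻¹) * ((x * x) * (P * Q⁻¹)) * (x * x) * (x * x) := by rw [s1]; group
      _ = Q * R⁻¹ * (P * Q⁻¹) * (R * P⁻¹) * ((x * x) * (x * x) * (x * x)) := by rw [s2]; group
      _ = _ := by
        have : (x * x) * (x * x) * (x * x) = x ^ 6 := by simp only [pow_succ, pow_zero, one_mul, mul_assoc]
        rw [this]; group
  have h6 : x ^ 6 = 1 := by
    rw [show (6 : ℕ) = 3 * 2 from rfl, pow_mul, hx, one_pow]
  rw [z1, key, h6, mul_one]
  unfold Psi
  simp only [map_mul, map_inv, hP, hQ, hR]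

theorem pe_psi {x : MulAut K} (hx : x ^ 3 = 1) (hc : Subgroup.center K = ⊥) (hPA : PA 3 x) (m : K) :
    PE 3 (Psi x m) := by
  have : Fact (Nat.Prime 3) := ⟨Nat.prime_three⟩
  refine PE.of_injective (f := MulAut.conj) (_root_.Cfsg.Agent.H460.AA.conj_injective hc) ?_
  have h1 := (hPA m).pow 3
  rwa [cube hx m] at h1

end Cfsg.Agent.H289.Tri
end

-- part: H289/Tri/Std
section
/-!
# Triality: conjugates of an automorphism, the standard position (helper289, task AA-TRI)
-/

set_option autoImplicit false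
set_option linter.unusedSectionVars false

open scoped Pointwise

namespace Cfsg.Agent.H289.Tri

open Cfsg.Agent.Tits.Core Cfsg.Agent.Tits.Core.Bldg Cfsg.Agent.Tits Cfsg.Agent.Nodes
open Cfsg.Agent.FixBN (Sys)
open Cfsg.Agent.FixOdd (Tw)
open Cfsg.Agent.H460.AA

section Conj

variable {I : Type*} {M : CoxeterMatrix I} {W : Type*} [Group W] {cs : CoxeterSystem M W} {C : Type*}
  {Δ : Bldg cs C} {G : Type*} [Group G] [MulAction G C] {l : ℕ}

/-- the conjugate of `t` by `g` -/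
def cj (S : _root_.Cfsg.Agent.FixBN.Sys Δ G l) (t : Tw Δ G) (g : G) : Tw Δ G where
  τ := (MulAut.conj g)⁻¹ * t.τ * MulAut.conj g
  θ := (MulAction.toPerm g)⁻¹ * t.θ * MulAction.toPerm g
  φ := t.φ
  σ := t.σ
  φ_simple := t.φ_simple
  δ_θ x y := by
    change Δ.δ (g⁻¹ • t.θ (g • x)) (g⁻¹ • t.θ (g • y)) = _
    rw [S.iso, t.δ_θ, S.iso]
  θ_smul k x := by
    change g⁻¹ • t.θ (g • k • x) = (g⁻¹ * t.τ (g * k * g⁻¹) * g) • g⁻¹ • t.θ (g • x)
    have h1 : g • k • x = (g * k * g⁻¹) • (g • x) := by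
      rw [smul_smul, smul_smul]; congr 1; group
    rw [h1, t.θ_smul, smul_smul, smul_smul]
    congr 1
    group

theorem cj_θ (S : _root_.Cfsg.Agent.FixBN.Sys Δ G l) (t : Tw Δ G) (g : G) (x : C) : (cj S t g).θ x = g⁻¹ • t.θ (g • x) := rfl

theorem cj_τ_pow (S : _root_.Cfsg.Agent.FixBN.Sys Δ G l) (t : Tw Δ G) (g : G) (n : ℕ) :
    (cj S t g).τ ^ n = (MulAut.conj g)⁻¹ * t.τ ^ n * MulAut.conj g := by
  change ((MulAut.conj g)⁻¹ * t.τ * MulAut.conj g) ^ n = _
  have := conj_pow (i := n) (a := (MulAut.conj g)⁻¹) (b := t.τ)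
  rwa [inv_inv] at this

theorem cj_θ_pow (S : _root_.Cfsg.Agent.FixBN.Sys Δ G l) (t : Tw Δ G) (g : G) (n : ℕ) :
    (cj S t g).θ ^ n = (MulAction.toPerm g)⁻¹ * t.θ ^ n * MulAction.toPerm g := by
  change ((MulAction.toPerm g : Equiv.Perm C)⁻¹ * t.θ * MulAction.toPerm g) ^ n = _
  have := conj_pow (i := n) (a := (MulAction.toPerm g : Equiv.Perm C)⁻¹) (b := t.θ)
  rwa [inv_inv] at this

theorem cj_PA (S : _root_.Cfsg.Agent.FixBN.Sys Δ G l) (t : Tw Δ G) (g : G) {p : ℕ} (h : PA p t.τ) : PA p (cj S t g).τ := by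
  have h1 := PA_tr (MulAut.conj g⁻¹) h
  have h2 : H459.Rad.tr (MulAut.conj g⁻¹) t.τ = (cj S t g).τ := by
    ext k
    rw [H459.Rad.tr_apply]
    change _ = g⁻¹ * t.τ (g * k * g⁻¹) * g
    simp
  rwa [h2] at h1

end Conj

variable {W : Type*} [Group W] {cs : CoxeterSystem (TypeD.M 2) W} {C : Type*} {Δ : Bldg cs C}
  {G : Type*} [Group G] [MulAction G C] {l : ℕ} {t : Tw Δ G} {a b c : Fin 4}

theorem TriD.cj (S : _root_.Cfsg.Agent.FixBN.Sys Δ G l) (T : TriD t a b c) (g : G) : TriD (cj S t g) a b c where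
  out := T.out
  one := T.one
  ab := T.ab
  bc := T.bc
  ca := T.ca
  θ3 := by rw [cj_θ_pow, T.θ3, mul_one, inv_mul_cancel]
  τ3 := by rw [cj_τ_pow, T.τ3, mul_one, inv_mul_cancel]

/-- If `t` fixes a chamber it fixes an opposite one (cross characteristic). -/
theorem exists_opp (S : _root_.Cfsg.Agent.FixBN.Sys Δ G l) [hl : Fact l.Prime] [Finite C] [Finite G] [F : OppRes.Cox cs] (hl3 : l ≠ 3)
    (T : TriD t a b c) {y : C} (hy : t.θ y = y) : ∃ z, Δ.Opp y z ∧ t.θ z = z := by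
  have : Fact (Nat.Prime 3) := ⟨Nat.prime_three⟩
  have hφ : t.φ (w0 cs) = w0 cs := FixOdd.Cox.map_wJ t.φ_simple (J := Set.univ) (fun _ _ => trivial)
  let f : {z // Δ.Opp y z} → {z // Δ.Opp y z} := fun z => ⟨t.θ z.1, by
    change Δ.δ y (t.θ z.1) = w0 cs
    have h1 : Δ.δ (t.θ y) (t.θ z.1) = w0 cs := by
      rw [t.δ_θ, show Δ.δ y z.1 = w0 cs from z.2, hφ]
    rwa [hy] at h1⟩
  have hf : f^[3] = id := by
    funext z
    apply Subtype.ext
    exact T.θθθ z.1
  have hcard : ¬ 3 ∣ Nat.card {z // Δ.Opp y z} := by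
    obtain ⟨z0, hz0⟩ := Δ.exists_δ y (w0 cs)
    have h1 : {z | Δ.Opp y z} = MulAction.orbit (S.U y) z0 := by
      ext z
      constructor
      · intro hz
        obtain ⟨u, hu, huz⟩ := S.trans y z0 z hz0 hz
        exact ⟨⟨u, hu⟩, huz⟩
      · rintro ⟨u, rfl⟩
        change Δ.δ y ((u : G) • z0) = w0 cs
        have := S.iso u y z0
        rw [S.fix y u u.2, hz0] at this
        exact this
    obtain ⟨n, hn⟩ := (S.isP y).card_orbit z0
    have h2 : Nat.card {z // Δ.Opp y z} = l ^ n := by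
      have h3 : Nat.card {z | Δ.Opp y z} = l ^ n := by rw [h1, hn]
      exact h3
    rw [h2]
    intro h3
    exact hl3 ((Nat.prime_dvd_prime_iff_eq Nat.prime_three hl.out).1 (Nat.prime_three.dvd_of_dvd_pow h3)).symm
  obtain ⟨z, hz⟩ := Tw.exists_fixed f hf hcard
  exact ⟨z.1, z.2, congrArg Subtype.val hz⟩

end Cfsg.Agent.H289.Tri
end

-- part: H289/Tri/CentA
section
/-!
# Triality: the invariant panel of the central type (helper289, task AA-TRI)

`cent_false` : abstract form. `θ` stabilises the panel `Pan 1 y0` and does not fix `y0`, `m` a root element.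
-/

set_option autoImplicit false
set_option linter.unusedSectionVars false

open scoped Pointwise

namespace Cfsg.Agent.H289.Tri

open CoxeterSystem Cfsg.Agent.ChevalleyStructure.CoxeterGeom Cfsg.Agent.Tits.Roots Cfsg.Agent.Nodes
  Cfsg.Agent.Tits.Core Cfsg.Agent.Tits.Core.Bldg Cfsg.Agent.Tits Cfsg.Agent.Tits.Exchange
open Cfsg.Agent.FixBN (Sys)
open Cfsg.Agent.FixOdd (Tw)
open Cfsg.Agent.H460.AA

variable {W : Type*} [Group W] {cs : CoxeterSystem (TypeD.M 2) W} {C : Type*} {Δ : Bldg cs C}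
  {G : Type*} [Group G] [MulAction G C] {l : ℕ} {t : Tw Δ G} {a b c : Fin 4}

/-- the longest element of `⟨1, a, b⟩` -/
theorem wJ_three [F : OppRes.Cox cs] (hout : Out a b c) : cs.wordProd [1, b, 1, a, 1, b] = wJ cs {1, a, b} := by
  have h := TypeD.isCartan 2
  refine F.eq_wJ_of_descents (wordProd_mem_WJ cs (by simp only [_root_.Nat.reduceAdd, _root_.Fin.isValue, _root_.List.mem_cons, _root_.List.not_mem_nil, _root_.or_false, _root_.Set.mem_insert_iff, _root_.Set.mem_singleton_iff, _root_.forall_eq_or_imp, _root_.true_or, _root_.or_true, _root_.forall_eq, _root_.and_self])) ?_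
  intro j hj
  have h1 := cs.length_mul_simple (cs.wordProd [1, b, 1, a, 1, b]) j
  have h2 : ¬ cs.length (cs.wordProd [1, b, 1, a, 1, b]) < cs.length (cs.wordProd [1, b, 1, a, 1, b] * cs.simple j) := by
    rw [lt_iff' cs h, rep_word cs h]
    have key : ∀ a b c : Fin 4, Out a b c → ∀ j : Fin 4, (j = 1 ∨ j = a ∨ j = b) →
        ¬ (0 ≤ act [1, b, 1, a, 1, b] (Pi.single j 1)) := by
      intro a b c h1 j h2 h3
      revert a b c j
      simp only [Pi.le_def]
      decide +kernel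
    exact key a b c hout j (by simpa using hj)
  omega

theorem θ_mem_Res' (t : Tw Δ G) {J J' : Set (Fin 4)} (hJ : ∀ j ∈ J, t.σ j ∈ J') {x y : C} (h : y ∈ Δ.Res J x) :
    t.θ y ∈ Δ.Res J' (t.θ x) := by
  rw [mem_Res, t.δ_θ]
  obtain ⟨ω, hω, e⟩ := Tits.Exchange.exists_word_of_mem_WJ cs ((Δ.mem_Res).1 h)
  rw [← e, map_word]
  refine wordProd_mem_WJ cs ?_
  intro i hi
  obtain ⟨j, hj, rfl⟩ := List.mem_map.1 hi
  exact hJ j (hω j hj)

/-- the image of the fixed chambers -/
theorem fix_image (T : TriD t a b c) {m : G} {J J' : Set (Fin 4)} {x : C} (hm : ∀ z ∈ Δ.Res J x, m • z = z)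
    (hJ : ∀ j ∈ J', t.σ (t.σ j) ∈ J) : ∀ z ∈ Δ.Res J' (t.θ x), t.τ m • z = z := by
  intro z hz
  have h1 : t.θ (t.θ z) ∈ Δ.Res J x := by
    have h2 := θ_mem_Res' t (J' := (t.σ '' J')) (fun j hj => ⟨j, hj, rfl⟩) hz
    have h3 := θ_mem_Res' t (J' := J) (by rintro _ ⟨j, hj, rfl⟩; exact hJ j hj) h2
    rwa [T.θθθ] at h3
  have h4 := t.θ_smul m (t.θ (t.θ z))
  rw [hm _ h1, T.θθθ] at h4
  exact h4.symm

theorem eq_one_of_PE (S : _root_.Cfsg.Agent.FixBN.Sys Δ G l) [Fact l.Prime] (hl3 : l ≠ 3) {x : C} {g : G} (hg : g ∈ S.U x)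
    (h3 : PE 3 g) : g = 1 := by
  obtain ⟨j, hj⟩ := h3
  obtain ⟨i, hi⟩ := S.isP x ⟨g, hg⟩
  have hi' : g ^ l ^ i = 1 := by
    have := congrArg Subtype.val hi
    simpa only [_root_.Nat.reduceAdd, _root_.SubmonoidClass.mk_pow, _root_.OneMemClass.coe_one] using this
  have h1 : orderOf g ∣ l ^ i := orderOf_dvd_of_pow_eq_one hi'
  rw [hj] at h1
  have h2 : Nat.Coprime (3 ^ j) (l ^ i) :=
    Nat.Coprime.pow _ _ ((Nat.coprime_primes Nat.prime_three Fact.out).2 (Ne.symm hl3))
  have h4 := Nat.Coprime.eq_one_of_dvd h2 h1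
  rw [← hj] at h4
  exact orderOf_eq_one_iff.1 h4

/-- **The central panel**, abstract form. -/
theorem cent_false (S : _root_.Cfsg.Agent.FixBN.Sys Δ G l) (hth : Δ.Thick) [hl : Fact l.Prime] [F : OppRes.Cox cs] (hl3 : l ≠ 3)
    (T : TriD t a b c) {y0 yc : C} (h01 : Δ.δ y0 (t.θ y0) = cs.simple 1) (h0c : Δ.δ y0 yc = cs.simple c) {m : G}
    (hmU : m ∈ S.U y0) (hm1 : ∀ z ∈ Δ.Res {1, b, c} y0, m • z = z) (hm2 : ∀ z ∈ Δ.Res {1, a} yc, m • z = z)
    (hm3 : ∀ z, Δ.δ (t.θ y0) z = cs.simple a → m • z ≠ z) (hPE : PE 3 (Psi t.τ m)) : False := by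
  obtain ⟨ha1, hb1, hc1, hab, hac, hbc⟩ := T.out
  set y1 := t.θ y0 with hy1
  set y2 := t.θ y1 with hy2
  have h12 : Δ.δ y1 y2 = cs.simple 1 := by rw [hy2, hy1, t.δ_θ, ← hy1, h01, t.φ_simple, T.one]
  have hy20 : t.θ y2 = y0 := T.θθθ y0
  have h20 : Δ.δ y2 y0 = cs.simple 1 := by
    have h1 := t.δ_θ y1 y2
    rw [h12, t.φ_simple, T.one, hy20] at h1
    exact h1
  have h10 : Δ.δ y1 y0 = cs.simple 1 := by rw [Δ.symm, h01, cs.inv_simple]
  -- residues
  have hmem1 : ∀ J : Set (Fin 4), (1 : Fin 4) ∈ J → y1 ∈ Δ.Res J y0 := fun J hJ => by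
    rw [mem_Res, h01]; exact simple_mem_WJ cs hJ
  have hmem2 : ∀ J : Set (Fin 4), (1 : Fin 4) ∈ J → y2 ∈ Δ.Res J y0 := fun J hJ => by
    refine Δ.mem_Res_symm ?_
    rw [mem_Res, h20]; exact simple_mem_WJ cs hJ
  set A := t.τ m with hA
  set B := t.τ A with hB
  have hA1 : ∀ z ∈ Δ.Res {1, c, a} y0, A • z = z := by
    intro z hz
    refine fix_image T (J' := {1, c, a}) hm1 ?_ z ?_
    · rintro j (rfl | rfl | rfl)
      · rw [T.one, T.one]; simp
      · rw [T.ca, T.ab]; simp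
      · rw [T.ab, T.bc]; simp
    · rw [← hy1, Δ.Res_eq_of_mem (hmem1 _ (by simp))]
      exact hz
  have hB1 : ∀ z ∈ Δ.Res {1, a, b} y0, B • z = z := by
    intro z hz
    refine fix_image T (J' := {1, a, b}) (x := y1) (fun w hw => hA1 w ?_) ?_ z ?_ (J := {1, c, a})
    · rwa [Δ.Res_eq_of_mem (hmem1 _ (by simp))] at hw
    · rintro j (rfl | rfl | rfl)
      · rw [T.one, T.one]; simp
      · rw [T.ab, T.bc]; simp
      · rw [T.bc, T.ca]; simp
    · rw [← hy2, Δ.Res_eq_of_mem (hmem2 _ (by simp))]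
      exact hz
  have hy0m : ∀ J : Set (Fin 4), y0 ∈ Δ.Res J y0 := fun J => Δ.self_mem_Res _ _
  have hAU : A ∈ S.U y0 := S.mem_U_of_fix (FixOdd.Tw.τ_mem_U S t hmU) (hA1 _ (hy0m _))
  have hBU : B ∈ S.U y0 := S.mem_U_of_fix (FixOdd.Tw.τ_mem_U S t (FixOdd.Tw.τ_mem_U S t hmU)) (hB1 _ (hy0m _))
  have hPsi : Psi t.τ m = 1 := by
    refine eq_one_of_PE S hl3 (x := y0) ?_ hPE
    exact mul_mem (mul_mem (mul_mem (mul_mem (mul_mem hAU (inv_mem hBU)) hmU) (inv_mem hAU)) hBU) (inv_mem hmU)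
  change A * B⁻¹ * m * A⁻¹ * B * m⁻¹ = 1 at hPsi
  -- the residue `Q`
  have hQ : ∀ u ∈ S.U y0, ∀ z ∈ Δ.Res {1, a, b} y0, u • z ∈ Δ.Res {1, a, b} y0 := by
    intro u hu z hz
    rw [mem_Res] at hz ⊢
    have h1 := S.iso u y0 z
    rw [S.fix _ u hu] at h1
    rwa [h1]
  have hcomm : ∀ z ∈ Δ.Res {1, a, b} y0, A • m • z = m • A • z := by
    intro z hz
    have h1 : A * B⁻¹ * m * A⁻¹ * B = m := by
      rw [mul_inv_eq_one] at hPsi; exact hPsi
    have h2 : ∀ z ∈ Δ.Res {1, a, b} y0, B⁻¹ • z = z := fun z hz => by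
      rw [inv_smul_eq_iff, hB1 z hz]
    have h3 : (A * B⁻¹ * m * A⁻¹ * B) • (A • z) = m • A • z := by rw [h1]
    rw [mul_smul, hB1 _ (hQ A hAU z hz), mul_smul, inv_smul_smul, mul_smul, mul_smul, h2 _ (hQ m hmU z hz)] at h3
    exact h3
  -- the chamber `d`
  set d := t.θ yc with hd
  have h1d : Δ.δ y1 d = cs.simple a := by rw [hy1, hd, t.δ_θ, h0c, t.φ_simple, T.ca]
  have hAd : ∀ z ∈ Δ.Res {1, b} d, A • z = z := by
    refine fix_image T hm2 ?_
    rintro j (rfl | rfl)
    · rw [T.one, T.one]; simp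
    · rw [T.bc, T.ca]; simp
  have hm_y1 : m • y1 = y1 := hm1 _ (hmem1 _ (by simp))
  have h1md : Δ.δ y1 (m • d) = cs.simple a := by
    have h1 := S.iso m y1 d
    rwa [hm_y1, h1d] at h1
  have hdmd : Δ.δ d (m • d) = cs.simple a := by
    have h1 : m • d ∈ Δ.Pan a d := by
      rw [Δ.Pan_eq_of_mem (show d ∈ Δ.Pan a y1 from Or.inr h1d)]
      exact Or.inr h1md
    rcases h1 with h1 | h1
    · exact absurd h1 (hm3 d h1d)
    · exact h1
  have hdQ : d ∈ Δ.Res {1, a, b} y0 := by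
    refine Δ.mem_Res_trans (hmem1 _ (by simp)) ?_
    rw [mem_Res, h1d]
    exact simple_mem_WJ cs (by simp)
  have hAmd : ∀ z ∈ Δ.Res {1, b} (m • d), A • z = z := by
    intro z hz
    have h1 : m⁻¹ • z ∈ Δ.Res {1, b} d := by
      rw [mem_Res] at hz ⊢
      have h2 := S.iso m d (m⁻¹ • z)
      rw [smul_inv_smul] at h2
      rwa [← h2]
    have h2 : m⁻¹ • z ∈ Δ.Res {1, a, b} y0 :=
      Δ.mem_Res_trans hdQ (Δ.Res_mono (by rintro j (rfl | rfl) <;> simp) _ h1)
    have h3 := hcomm _ h2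
    rwa [smul_inv_smul, hAd _ h1, smul_inv_smul] at h3
  -- two opposite chambers of `Q`
  obtain ⟨x, hx⟩ := Δ.exists_δ d (cs.wordProd [1, b, 1])
  obtain ⟨x', hx'⟩ := Δ.exists_δ (m • d) (cs.wordProd [1, b])
  have hxd : Δ.δ x d = cs.wordProd [1, b, 1] := by
    rw [Δ.symm, hx, ← cs.wordProd_reverse]
    rfl
  have r1 : ∀ a b c : Fin 4, Out a b c → Red [1, b, 1] ∧ Red [a] ∧ Red [1, b] ∧ Red ([1, b, 1] ++ [a]) ∧
      Red (([1, b, 1] ++ [a]) ++ [1, b]) := by decide +kernel
  obtain ⟨r1, r2, r3, r4, r5⟩ := r1 a b c T.out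
  have hx1 := δ_word hxd (ω' := [a]) (by rw [hdmd, cs.wordProd_singleton]) r4 r1 r2
  have hx2 := δ_word hx1 hx' r5 r4 r3
  have hxx' : Δ.δ x x' = wJ cs {1, a, b} := by
    rw [hx2, ← wJ_three T.out]
    rfl
  have hxmem : x ∈ Δ.Res {1, b} d := by
    rw [mem_Res, hx]
    exact wordProd_mem_WJ cs (by simp only [_root_.Nat.reduceAdd, _root_.Fin.isValue, _root_.List.mem_cons, _root_.List.not_mem_nil, _root_.or_false, _root_.Set.mem_insert_iff, _root_.Set.mem_singleton_iff, _root_.forall_eq_or_imp, _root_.true_or, _root_.or_true, _root_.forall_eq, _root_.and_self])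
  have hx'mem : x' ∈ Δ.Res {1, b} (m • d) := by
    rw [mem_Res, hx']
    exact wordProd_mem_WJ cs (by simp)
  have hfixQ := S.fixRes hth (S.mem_U_of_fix hAU (hAd x hxmem)) hxx' (hAmd x' hx'mem)
  have hQx : Δ.Res {1, a, b} x = Δ.Res {1, a, b} y0 := by
    refine Δ.Res_eq_of_mem ?_
    exact Δ.mem_Res_trans hdQ (Δ.Res_mono (by rintro j (rfl | rfl) <;> simp) _ hxmem)
  rw [hQx] at hfixQ
  -- contradiction
  obtain ⟨z, hz⟩ := Δ.exists_δ y1 (cs.simple a)
  have h2z : Δ.δ y2 (t.θ z) = cs.simple b := by rw [hy2, t.δ_θ, hz, t.φ_simple, T.ab]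
  have hzQ : t.θ z ∈ Δ.Res {1, a, b} y0 := by
    refine Δ.mem_Res_trans (hmem2 _ (by simp)) ?_
    rw [mem_Res, h2z]
    exact simple_mem_WJ cs (by simp)
  have h5 := hfixQ _ hzQ
  rw [hA, ← t.θ_smul] at h5
  exact hm3 z hz (t.θ.injective h5)

end Cfsg.Agent.H289.Tri
end

-- part: H289/Tri/CentB
section
/-!
# Triality: no invariant panel of the central type (helper289, task AA-TRI)
-/

set_option autoImplicit false
set_option linter.unusedSectionVars false

open scoped Pointwise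

namespace Cfsg.Agent.H289.Tri

open CoxeterSystem Cfsg.Agent.ChevalleyStructure.CoxeterGeom Cfsg.Agent.Tits.Roots Cfsg.Agent.Tits.Core
  Cfsg.Agent.Tits.RootComb Cfsg.Agent.Nodes Cfsg.Agent.Nodes.Comb Cfsg.Agent.Nodes.Reps Cfsg.Agent.Nodes.BNOf
  Cfsg.Agent.Nodes.BNOf.RGD
  Cfsg.Agent.FixBN Cfsg.Agent.Tits.OfBN Cfsg.Agent.Tits.OppRes Cfsg.Agent.LieExceptional.BNPairCore
  Cfsg.Agent.OddHalf.Table.AutBldg Cfsg.Agent.OddHalf.Table.AutRGD Cfsg.Agent.OddHalf.Table.AutNorm
  Cfsg.Agent.Tits Cfsg.Agent.Nodes.RGDLib Cfsg.Agent.UGT.U2.FOne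
open Cfsg.Agent.Tits.Core.Bldg Cfsg.Agent.H460.AA

section Gen

variable {I W Y : Type*} [Fintype I] [DecidableEq I] [Group W] [Group Y] {M : CoxeterMatrix I}
  {cs : CoxeterSystem M W} {A : I → I → ℤ} {h : IsCartan M A} {p : ℕ} {T : Subgroup Y} {n : I → Y}
  {X : (I → ℤ) → Subgroup Y} [Finite W]

variable (R : RGD cs h p T n X) (hgen : B cs h T X ⊔ NN cs R.nsys = ⊤)
  [hN : (((R.bnPair hgen).B ⊓ (R.bnPair hgen).N).subgroupOf (R.bnPair hgen).N).Normal]
  (cs' : CoxeterSystem M (WP (R.bnPair hgen)))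
  (hcs : ∀ i, cs'.simple i = QuotientGroup.mk
    (⟨(eS R hgen i : Y), (R.bnPair hgen).subset (eS R hgen i).2⟩ : (R.bnPair hgen).N))
  [Finite Y] [Fact p.Prime] (hcore : (B cs h T X).normalCore = ⊥)

theorem X_mem_U {w : W} {k : Y} (hk : Rp cs R.nsys w k) {x : I → ℤ} (hx : IsRoot cs h x)
    (h0 : 0 ≤ rep cs h w⁻¹ x) {u : Y} (hu : u ∈ X x) :
    u ∈ (Sy R hgen cs' hcs hcore).U (ch R hgen k) := by
  rw [mem_Sy]
  exact le_Sup (S := Pos cs h) ⟨hx.act _, h0⟩ (R.conj_mem' hk hx hu)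

include hcore in
/-- a root group fixes a residue of the apartment chamberwise -/
theorem X_fix_res {w : W} {k : Y} (hk : Rp cs R.nsys w k) {x : I → ℤ} (hx : IsRoot cs h x)
    (h0 : 0 ≤ rep cs h w⁻¹ x) {J : Set I} {j : I} (hj : j ∉ J) (hpos : 0 < rep cs h w⁻¹ x j) {u : Y}
    (hu : u ∈ X x) : ∀ z ∈ (Bl R hgen cs' hcs).Res J (ch R hgen k), u • z = z := by
  have hW : Finite (WP (R.bnPair hgen)) := inferInstance
  have hC : Cox cs := inferInstance
  have hC' : Cox cs' := inferInstance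
  have hth : (Bl R hgen cs' hcs).Thick := thick (R.bnPair hgen) (eS R hgen) cs' hcs
  obtain ⟨k', hk'⟩ := exists_rp cs R.nsys (w * wJ cs J)
  refine (Sy R hgen cs' hcs hcore).fixRes hth (X_mem_U R hgen cs' hcs hcore hk hx h0 hu) (x' := ch R hgen k') ?_ ?_
  · rw [δ_rp R hgen cs' hcs hk hk', inv_mul_cancel_left, fw_wJ]
  · refine X_smul_ch R hgen hk' hx ?_ hu
    rw [mul_inv_rev, rep_mul_apply, hC.wJ_inv]
    have h1 : IsRoot cs h (rep cs h (wJ cs J) (rep cs h w⁻¹ x)) := (hx.act _).act _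
    refine StabComb.nonneg_of_pos_apply h1 (k := j) ?_
    rw [RootComb.rep_apply_of_mem cs h (hC.wJ_mem J) _ hj]
    exact hpos

include hcore in
/-- an element of a simple root group moves the other chambers of the panel -/
theorem X_move {i : I} {k : Y} {w : W} (hk : Rp cs R.nsys w k) {u : Y} (hu : u ∈ X (rep cs h w (sr i))) (h1 : u ≠ 1)
    {z : Y ⧸ (R.bnPair hgen).B} (hz : (Bl R hgen cs' hcs).δ (ch R hgen k) z = cs'.simple i) : u • z ≠ z := by
  intro hfix
  have hW : Finite (WP (R.bnPair hgen)) := inferInstance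
  have hC : Cox cs := inferInstance
  have hC' : Cox cs' := inferInstance
  set S := Sy R hgen cs' hcs hcore
  have hr : IsRoot cs h (rep cs h w (sr i)) := ⟨w, i, rfl⟩
  obtain ⟨k1, hk1⟩ := exists_rp cs R.nsys (w * cs.simple i)
  obtain ⟨k2, hk2⟩ := exists_rp cs R.nsys (w * cs.simple i * w0 cs)
  have hU : u ∈ S.U (ch R hgen k) := X_mem_U R hgen cs' hcs hcore hk hr (by
    rw [rep_inv_apply]; exact sr_nonneg i) hu
  have h2 : u • ch R hgen k1 = ch R hgen k1 := by
    refine S.pan _ z i hz u hU hfix _ (Or.inr ?_)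
    rw [δ_rp R hgen cs' hcs hk hk1, inv_mul_cancel_left, fw_simple]
  have h3 := S.mem_U_of_fix hU h2
  apply h1
  refine S.free _ (ch R hgen k2) ?_ u h3 ?_
  · change (Bl R hgen cs' hcs).δ _ _ = wJ cs' Set.univ
    rw [δ_rp R hgen cs' hcs hk1 hk2, inv_mul_cancel_left]
    exact fw_wJ cs cs' Set.univ
  · refine X_smul_ch R hgen hk2 hr ?_ hu
    have h4 : (w * cs.simple i * w0 cs)⁻¹ = (w0 cs)⁻¹ * (cs.simple i * w⁻¹) := by
      rw [mul_inv_rev, mul_inv_rev, cs.inv_simple]
    rw [h4, rep_mul_apply, rep_mul_apply, rep_inv_apply, rep_simple_sr, map_neg, hC.w0_inv]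
    exact neg_nonneg.2 (neg_of_w0 (isRoot_sr cs h i) (sr_nonneg i))

end Gen

variable {W Y : Type*} [Group W] [Group Y]
  {cs : CoxeterSystem (TypeD.M 2) W} {A : Fin 4 → Fin 4 → ℤ} {h : IsCartan (TypeD.M 2) A} {l : ℕ}
  {T : Subgroup Y} {n : Fin 4 → Y} {X : (Fin 4 → ℤ) → Subgroup Y} [Finite W]

variable {R : RGD cs h l T n X} {hgen : B cs h T X ⊔ NN cs R.nsys = ⊤}
  [hN : (((R.bnPair hgen).B ⊓ (R.bnPair hgen).N).subgroupOf (R.bnPair hgen).N).Normal]
  (cs' : CoxeterSystem (TypeD.M 2) (WP (R.bnPair hgen)))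
  (hcs : ∀ i, cs'.simple i = QuotientGroup.mk
    (⟨(eS R hgen i : Y), (R.bnPair hgen).subset (eS R hgen i).2⟩ : (R.bnPair hgen).N))

/-- **No invariant panel of the central type.** -/
theorem no_panel [Fact l.Prime] [Finite Y] (hcore : (B cs h T X).normalCore = ⊥)
    (hc : Subgroup.center Y = ⊥) (hl3 : l ≠ 3) {t : FixOdd.Tw (Bl R hgen cs' hcs) Y} {a b c : Fin 4}
    (D : TriD t a b c) (hPA : PA 3 t.τ) {y : Y ⧸ (R.bnPair hgen).B} (hy : t.Gd {1} y) : False := by
  have hW : Finite (WP (R.bnPair hgen)) := inferInstance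
  have hC : Cox cs := inferInstance
  have hC' : Cox cs' := inferInstance
  have hth : (Bl R hgen cs' hcs).Thick := thick (R.bnPair hgen) (eS R hgen) cs' hcs
  set S := Sy R hgen cs' hcs hcore with hS
  -- standard position
  have hy1 : (Bl R hgen cs' hcs).δ y (t.θ y) = cs'.simple 1 := by
    have h1 := hy.mem
    rw [← Bldg.Pan_eq_Res] at h1
    rcases h1 with h1 | h1
    · exfalso
      have h2 := hy.min y (Bldg.self_mem_Res _ _ _) ∅ (Set.empty_subset _) (fun i hi => hi.elim) (by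
        rw [h1]; exact Bldg.self_mem_Res _ _ _)
      exact absurd h2.symm (Set.singleton_ne_empty _)
    · exact h1
  have r1 := rp_simple cs R.nsys (1 : Fin 4)
  have h0 : (Bl R hgen cs' hcs).δ (ch R hgen 1) (ch R hgen (n 1)) = cs'.simple 1 := by
    rw [δ_rp R hgen cs' hcs rp_one r1, inv_one, one_mul, fw_simple]
  obtain ⟨g, hg1, hg2⟩ := Tits.OfBN.trans (R.bnPair hgen) (ch R hgen 1) (ch R hgen (n 1)) y (t.θ y)
    (h0.trans hy1.symm)
  have D' := D.cj S g
  have hPA' := cj_PA S t g hPA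
  have e1 : (cj S t g).θ (ch R hgen 1) = ch R hgen (n 1) := by
    rw [cj_θ, hg1, ← hg2, inv_smul_smul]
  generalize cj S t g = u at *
  -- the root
  have hroot : ∀ a b c : Fin 4, Out a b c →
      (∀ i, 0 ≤ act [a] (Pi.single 1 1) i) ∧ 0 < act [a] (Pi.single 1 1) a ∧
      (∀ i, 0 ≤ act ([c] ++ [a]) (Pi.single 1 1) i) ∧ 0 < act ([c] ++ [a]) (Pi.single 1 1) c ∧
      (∀ i, act [a] (Pi.single 1 1) i = act [1] (Pi.single a 1) i) := by decide +kernel
  obtain ⟨q1, q2, q3, q4, q5⟩ := hroot a b c D'.out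
  obtain ⟨ha1, hb1, hc1, hab, hac, hbc⟩ := D'.out
  have q5 := funext q5
  set γ := rep cs h (cs.wordProd [a]) (sr 1) with hγ
  have hγr : IsRoot cs h γ := ⟨_, _, rfl⟩
  have hγ1 : γ = act [a] (Pi.single 1 1) := rep_word cs h _ _
  have hγ2 : γ = rep cs h (cs.simple 1) (sr a) := by
    rw [hγ1, q5, ← cs.wordProd_singleton, rep_word cs h]; rfl
  obtain ⟨m, hm, hm1⟩ := Triality.exists_ne_one R hγr
  have rc := rp_simple cs R.nsys c
  refine cent_false S hth hl3 D' (y0 := ch R hgen 1) (yc := ch R hgen (n c)) (m := m) ?_ ?_ ?_ ?_ ?_ ?_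
    (pe_psi D'.τ3 hc hPA' m)
  · rw [e1, h0]
  · rw [δ_rp R hgen cs' hcs rp_one rc, inv_one, one_mul, fw_simple]
  · refine X_mem_U R hgen cs' hcs hcore rp_one hγr ?_ hm
    rw [inv_one, map_one, Module.End.one_apply, hγ1]
    exact q1
  · refine X_fix_res R hgen cs' hcs hcore rp_one hγr (j := a) ?_ ?_ ?_ hm
    · rw [inv_one, map_one, Module.End.one_apply, hγ1]
      exact q1
    · simp [ha1, hab, hac]
    · rw [inv_one, map_one, Module.End.one_apply, hγ1]
      exact q2
  · have h3 : rep cs h (cs.simple c)⁻¹ γ = act ([c] ++ [a]) (Pi.single 1 1) := by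
      rw [cs.inv_simple, hγ, ← rep_mul_apply, ← cs.wordProd_singleton c, ← cs.wordProd_append, rep_word cs h]; rfl
    refine X_fix_res R hgen cs' hcs hcore rc hγr (j := c) ?_ ?_ ?_ hm
    · rw [h3]
      exact q3
    · simp [hc1, Ne.symm hac]
    · rw [h3]
      exact q4
  · intro z hz
    rw [e1] at hz
    rw [hγ2] at hm
    exact X_move R hgen cs' hcs hcore r1 hm hm1 hz

end Cfsg.Agent.H289.Tri
end

-- part: H289/Tri/ThreeA
section
/-!
# Triality in characteristic three, abstract part (helper289, task AA-TRI)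

`θ` fixes the chamber `y0`; `y`, `m1` elements acting on the coordinate `a` of the residue of type `{a, b, c}`.
-/

set_option autoImplicit false
set_option linter.unusedSectionVars false

open scoped Pointwise

namespace Cfsg.Agent.H289.Tri

open CoxeterSystem Cfsg.Agent.ChevalleyStructure.CoxeterGeom Cfsg.Agent.Tits.Roots Cfsg.Agent.Nodes
  Cfsg.Agent.Tits.Core Cfsg.Agent.Tits.Core.Bldg Cfsg.Agent.Tits Cfsg.Agent.Tits.Exchange
open Cfsg.Agent.FixBN (Sys)
open Cfsg.Agent.FixOdd (Tw)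
open Cfsg.Agent.H460.AA

variable {W : Type*} [Group W] {cs : CoxeterSystem (TypeD.M 2) W} {C : Type*} {Δ : Bldg cs C}
  {G : Type*} [Group G] [MulAction G C] {l : ℕ} {t : Tw Δ G} {a b c : Fin 4}

/-- `g` acts on the coordinate `i` of the residue `Q`. -/
def Ty (Δ : Bldg cs C) (Q : Set C) (i : Fin 4) (g : G) : Prop := ∀ d ∈ Q, g • d ∈ Δ.Pan i d

theorem Ty.stab (S : _root_.Cfsg.Agent.FixBN.Sys Δ G l) {J : Set (Fin 4)} {x : C} {i : Fin 4} (hi : i ∈ J) {g : G}
    (h : Ty Δ (Δ.Res J x) i g) : g • Δ.Res J x = Δ.Res J x := by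
  rw [S.smul_Res]
  exact Δ.Res_eq_of_mem (Δ.Pan_subset_Res hi _ (h x (Δ.self_mem_Res _ _)))

theorem Ty.τ (T : TriD t a b c) {Q : Set C} (hQ : ∀ d ∈ Q, t.θ d ∈ Q) {i : Fin 4} {g : G} (h : Ty Δ Q i g) :
    Ty Δ Q (t.σ i) (t.τ g) := by
  intro d hd
  have h1 := h _ (hQ _ (hQ _ hd))
  have h2 : t.θ (g • t.θ (t.θ d)) = t.τ g • d := by rw [t.θ_smul, T.θθθ]
  rw [← h2]
  rcases h1 with h1 | h1
  · left
    rw [h1, T.θθθ]
  · right
    have h3 := t.δ_θ (t.θ (t.θ d)) (g • t.θ (t.θ d))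
    rw [h1, t.φ_simple, T.θθθ] at h3
    exact h3

/-- the classes modulo the coordinates in `L` -/
def Cls (Δ : Bldg cs C) (Q : Set C) (L : Set (Fin 4)) : Set (Set C) := {D | ∃ d ∈ Q, D = Δ.Res L d}

theorem smul_cls (S : _root_.Cfsg.Agent.FixBN.Sys Δ G l) {Q : Set C} {L : Set (Fin 4)} {g : G} (hg : g • Q = Q) {D : Set C}
    (hD : D ∈ Cls Δ Q L) : g • D ∈ Cls Δ Q L := by
  obtain ⟨d, hd, rfl⟩ := hD
  refine ⟨g • d, ?_, S.smul_Res g L d⟩
  rw [← hg]
  exact Set.smul_mem_smul_set hd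

theorem Ty.cls (S : _root_.Cfsg.Agent.FixBN.Sys Δ G l) {Q : Set C} {L : Set (Fin 4)} {i : Fin 4} (hi : i ∈ L) {g : G} (h : Ty Δ Q i g)
    {D : Set C} (hD : D ∈ Cls Δ Q L) : g • D = D := by
  obtain ⟨d, hd, rfl⟩ := hD
  rw [S.smul_Res]
  exact Δ.Res_eq_of_mem (Δ.Pan_subset_Res hi _ (h d hd))

theorem three_false (S : _root_.Cfsg.Agent.FixBN.Sys Δ G l) (T : TriD t a b c) {y0 c1 : C} (hθ : t.θ y0 = y0)
    (h1 : Δ.δ y0 c1 = cs.simple a) {y m1 : G} (hy : Ty Δ (Δ.Res {a, b, c} y0) a y)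
    (hm : Ty Δ (Δ.Res {a, b, c} y0) a m1) (hyf : y • y0 = y0) (hmf : m1 • c1 = c1) (e1 : m1 • y • c1 = y0)
    (e2 : m1 • y⁻¹ • c1 = y • c1) (e3 : y • y • c1 = y⁻¹ • c1) (hPE : PE 3 (Psi t.τ (m1 * t.τ y))) : False := by
  obtain ⟨ha1, hb1, hc1, hab, hac, hbc⟩ := T.out
  set Q := Δ.Res {a, b, c} y0 with hQ
  have hQθ : ∀ d ∈ Q, t.θ d ∈ Q := by
    intro d hd
    have h2 := θ_mem_Res' t (J' := {a, b, c}) (by
      rintro j (rfl | rfl | rfl)
      · rw [T.ab]; simp
      · rw [T.bc]; simp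
      · rw [T.ca]; simp) hd
    rwa [hθ] at h2
  have hyb : Ty Δ Q b (t.τ y) := T.ab ▸ hy.τ T hQθ
  have hyc : Ty Δ Q c (t.τ (t.τ y)) := T.bc ▸ hyb.τ T hQθ
  have hmb : Ty Δ Q b (t.τ m1) := T.ab ▸ hm.τ T hQθ
  have hmc : Ty Δ Q c (t.τ (t.τ m1)) := T.bc ▸ hmb.τ T hQθ
  have hτ3 : t.τ (t.τ (t.τ y)) = y := by
    have := congrArg (fun f : MulAut G => f y) T.τ3
    simpa [pow_succ] using this
  have inv_fix : ∀ {g : G}, (∀ D ∈ Cls Δ Q {b, c}, g • D = D) → ∀ D ∈ Cls Δ Q {b, c}, g⁻¹ • D = D := by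
    intro g h D hD
    rw [inv_smul_eq_iff, h D hD]
  have fyb : ∀ D ∈ Cls Δ Q {b, c}, t.τ y • D = D := fun D hD => hyb.cls S (by simp) hD
  have fyc : ∀ D ∈ Cls Δ Q {b, c}, t.τ (t.τ y) • D = D := fun D hD => hyc.cls S (by simp) hD
  have fmb : ∀ D ∈ Cls Δ Q {b, c}, t.τ m1 • D = D := fun D hD => hmb.cls S (by simp) hD
  have fmc : ∀ D ∈ Cls Δ Q {b, c}, t.τ (t.τ m1) • D = D := fun D hD => hmc.cls S (by simp) hD
  have sy : ∀ D ∈ Cls Δ Q {b, c}, y • D ∈ Cls Δ Q {b, c} := fun D hD => smul_cls S (hy.stab S (by simp)) hD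
  have sm : ∀ D ∈ Cls Δ Q {b, c}, m1 • D ∈ Cls Δ Q {b, c} := fun D hD => smul_cls S (hm.stab S (by simp)) hD
  have sy' : ∀ D ∈ Cls Δ Q {b, c}, y⁻¹ • D ∈ Cls Δ Q {b, c} := fun D hD =>
    smul_cls S (by rw [inv_smul_eq_iff, hy.stab S (by simp)]) hD
  have sm' : ∀ D ∈ Cls Δ Q {b, c}, m1⁻¹ • D ∈ Cls Δ Q {b, c} := fun D hD =>
    smul_cls S (by rw [inv_smul_eq_iff, hm.stab S (by simp)]) hD
  -- the action of `Psi` on the classes
  have hact : ∀ D ∈ Cls Δ Q {b, c}, Psi t.τ (m1 * t.τ y) • D = (y⁻¹ * m1 * y * m1⁻¹) • D := by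
    intro D hD
    have d1 := sm' D hD
    have d2 := sy _ d1
    have d3 := sm _ d2
    have d4 := sy' _ d3
    unfold Psi
    simp only [map_mul, mul_inv_rev, mul_smul, hτ3]
    rw [inv_fix fyb _ d1, fmc _ d2, inv_fix fmb _ d2, inv_fix fyc _ d2, fyb _ d2, inv_fix fmc _ d3, fyc _ d4, fmb _ d4]
  -- the cycle
  set z := y⁻¹ * m1 * y * m1⁻¹ with hz
  have z1 : z • c1 = y0 := by
    rw [hz, mul_smul, mul_smul, mul_smul, inv_smul_eq_iff.2 hmf.symm, e1, inv_smul_eq_iff.2 hyf.symm]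
  have z0 : z • y0 = c1 := by
    have h2 : m1⁻¹ • y0 = y • c1 := by rw [inv_smul_eq_iff, e1]
    rw [hz, mul_smul, mul_smul, mul_smul, h2, e3, e2, inv_smul_smul]
  have hc1Q : c1 ∈ Q := by
    rw [hQ, mem_Res, h1]
    exact simple_mem_WJ cs (by simp)
  have m0 : Δ.Res {b, c} y0 ∈ Cls Δ Q {b, c} := ⟨y0, Δ.self_mem_Res _ _, rfl⟩
  have m1' : Δ.Res {b, c} c1 ∈ Cls Δ Q {b, c} := ⟨c1, hc1Q, rfl⟩
  have p0 : Psi t.τ (m1 * t.τ y) • Δ.Res {b, c} y0 = Δ.Res {b, c} c1 := by
    rw [hact _ m0, S.smul_Res, z0]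
  have p1 : Psi t.τ (m1 * t.τ y) • Δ.Res {b, c} c1 = Δ.Res {b, c} y0 := by
    rw [hact _ m1', S.smul_Res, z1]
  obtain ⟨j, hj⟩ := hPE
  have hodd : Odd (3 ^ j) := Odd.pow (by decide)
  obtain ⟨k, hk⟩ := hodd
  generalize Psi t.τ (m1 * t.τ y) = P at *
  have h2 : P ^ (2 * k + 1) = 1 := by rw [← hk, ← hj]; exact pow_orderOf_eq_one P
  have h3 : ∀ k : ℕ, P ^ (2 * k) • Δ.Res {b, c} y0 = Δ.Res {b, c} y0 := by
    intro k
    induction k with
    | zero => rw [mul_zero, pow_zero, one_smul]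
    | succ k ih => rw [Nat.mul_succ, pow_add, pow_two, mul_smul, mul_smul, p0, p1, ih]
  have h4 := h3 k
  have h5 : Δ.Res {b, c} y0 = Δ.Res {b, c} c1 := by
    have h6 : P ^ (2 * k + 1) • Δ.Res {b, c} y0 = Δ.Res {b, c} c1 := by
      rw [pow_succ', mul_smul, h4, p0]
    rwa [h2, one_smul] at h6
  have h6 : c1 ∈ Δ.Res {b, c} y0 := by rw [h5]; exact Δ.self_mem_Res _ _
  rw [mem_Res, h1] at h6
  -- `s_a` is not in `W_{bc}`
  have h := TypeD.isCartan 2
  have h7 := RootComb.rep_apply_of_mem cs h h6 (Pi.single a 1) (k := a) (by simp [hab, hac])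
  rw [rep_rf cs h] at h7
  have : ∀ a : Fin 4, rf a (Pi.single a 1) a ≠ (Pi.single a 1 : Fin 4 → ℤ) a := by decide
  exact this a h7

end Cfsg.Agent.H289.Tri
end

-- part: H289/Tri/Node3
section
/-!
# Triality in characteristic three: special elements of a node (helper289, task AA-TRI)
-/

set_option autoImplicit false
set_option linter.unusedSectionVars false

namespace Cfsg.Agent.H289.Tri

open Cfsg.Agent.FixBN Cfsg.Agent.FixBN.U3Model Cfsg.Agent.FixBN.UNode Cfsg.Agent.H460.Typed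

/-- `s v s B = u s B` and `s v⁻¹ s B = u⁻¹ s B` for elements `u`, `v` of order three -/
def Sn {K : Type*} [Group K] (P : Cfsg.BNPair K) (U : Subgroup K) (s : K) : Prop :=
  ∃ u ∈ U, ∃ v ∈ U, u * u = u⁻¹ ∧ v * v = v⁻¹ ∧ (u * s)⁻¹ * (s * v * s) ∈ P.B ∧
    (u⁻¹ * s)⁻¹ * (s * v⁻¹ * s) ∈ P.B

variable {K : Type*} [Group K] {P : Cfsg.BNPair K} {U V : Subgroup K} {s : K}

theorem sn_field (hU : IsPGroup 3 U) {F : Type*} [Field F] (N : FieldNode P U s V F) : Sn P U s := by
  have hn : ∀ (k : ℕ) (a : F), N.x (k * a) = N.x a ^ k := by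
    intro k a
    induction k with
    | zero => rw [Nat.cast_zero, zero_mul, pow_zero, N.x_zero]
    | succ k ih => rw [Nat.cast_succ, add_mul, one_mul, N.add, ih, pow_succ]
  have h3 : (3 : F) = 0 := by
    obtain ⟨k, hk⟩ := hU ⟨N.x 1, N.mem 1⟩
    have h1 : N.x 1 ^ 3 ^ k = 1 := by
      have := congrArg Subtype.val hk
      simpa only [_root_.SubmonoidClass.mk_pow, _root_.OneMemClass.coe_one] using this
    rw [← hn] at h1
    have h2 := N.ne _ (by rw [h1]; exact one_mem _)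
    rw [mul_one, Nat.cast_pow] at h2
    have h5 : ((3 : ℕ) : F) = 0 := eq_zero_of_pow_eq_zero h2
    simpa using h5
  have hx : ∀ a : F, N.x a * N.x a = (N.x a)⁻¹ := by
    intro a
    rw [← N.add, ← N.x_neg]
    congr 1
    linear_combination a * h3
  refine ⟨N.x 1, N.mem _, N.x (-1), N.mem _, hx _, hx _, ?_, ?_⟩
  · have := N.inv (-1) (by simp)
    simpa only [_root_.mul_inv_rev, _root_.inv_neg, _root_.inv_one, _root_.neg_neg] using this
  · have := N.inv 1 (by simp)
    rw [N.x_neg, inv_inv, ← N.x_neg]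
    simpa only [_root_.mul_inv_rev, _root_.inv_one] using this

theorem sn_u3 (hU : IsPGroup 3 U) {F : Type*} [Field F] {σ : F →+* F} [Inv2 σ] (hσ : ∃ x, σ x ≠ x)
    (N : UNode P U s V σ) : Sn P U s := by
  obtain ⟨x0, hx0⟩ := hσ
  -- a central point
  set β := x0 - σ x0 with hβ
  have hβ0 : β ≠ 0 := sub_ne_zero.2 (Ne.symm hx0)
  have hβs : σ β = -β := by
    rw [hβ, map_sub, Inv2.invol]; ring
  have hc : ∀ b : F, σ b = -b → b + σ b + 0 * σ 0 = 0 := fun b hb => by rw [hb]; ring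
  let q : Pt σ := ⟨0, β, hc β hβs⟩
  have hq1 : q ≠ 1 := fun h => hβ0 (by
    have := congrArg Pt.b h
    simpa [one_b] using this)
  have hpow : ∀ n : ℕ, (q ^ n).a = 0 ∧ (q ^ n).b = n * β := by
    intro n
    induction n with
    | zero => rw [pow_zero]; exact ⟨one_a, by rw [one_b]; simp⟩
    | succ n ih =>
      rw [pow_succ]
      refine ⟨?_, ?_⟩
      · rw [mul_a, ih.1]
        change (0 : F) + 0 = 0
        ring
      · rw [mul_b, ih.1, ih.2, map_zero]
        change (n : F) * β + β - 0 * 0 = _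
        push_cast
        ring
  let X : Pt σ →* K := ⟨⟨N.x, N.x_one⟩, N.mul⟩
  have h3 : (3 : F) = 0 := by
    obtain ⟨k, hk⟩ := hU ⟨N.x q, N.mem q⟩
    have h1 : X q ^ 3 ^ k = 1 := congrArg Subtype.val hk
    rw [← map_pow] at h1
    have h2 := N.ne _ (by
      change X (q ^ 3 ^ k) ∈ V
      rw [h1]; exact one_mem _)
    have h4 := (hpow (3 ^ k)).2
    rw [h2, one_b] at h4
    have h5 : ((3 ^ k : ℕ) : F) = 0 := by
      rcases mul_eq_zero.1 h4.symm with h | h
      · exact h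
      · exact absurd h hβ0
    rw [Nat.cast_pow] at h5
    have h6 : ((3 : ℕ) : F) = 0 := eq_zero_of_pow_eq_zero h5
    simpa using h6
  have hcen : ∀ r : Pt σ, r.a = 0 → X r * X r = (X r)⁻¹ := by
    intro r hr
    rw [← map_mul, ← map_inv]
    congr 1
    have hb := b_eq r
    apply ext'
    · rw [mul_a, inv_a, hr]; ring
    · rw [mul_b, inv_b, hr, hb, hr]
      simp only [map_zero]
      linear_combination r.b * h3
  have hJa : (J q).a = 0 := by
    rw [J_a hq1]
    change -(0 : F) / _ = 0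
    simp
  have hqi : q⁻¹ ≠ 1 := by simpa using hq1
  have hJi : J q⁻¹ = (J q)⁻¹ := by
    apply ext'
    · rw [J_a hqi, inv_a, inv_a, hJa]
      change -(-(0 : F)) / _ = -0
      simp
    · rw [J_b hqi, inv_b, inv_b, J_b hq1, map_div₀, map_one]
  -- `u = x (J q)`, `v = x q`
  refine ⟨X (J q), N.mem _, X q, N.mem _, hcen _ hJa, hcen _ rfl, N.inv q hq1, ?_⟩
  have h7 := N.inv q⁻¹ hqi
  rw [hJi] at h7
  have e1 : N.x (J q)⁻¹ = (X (J q))⁻¹ := map_inv X _
  have e2 : N.x q⁻¹ = (X q)⁻¹ := map_inv X _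
  rwa [e1, e2] at h7

theorem sn_of_lnode (hU : IsPGroup 3 U) {Q : ℕ} (H : LNode P U s Q) : Sn P U s := by
  obtain ⟨V, -, ⟨F, _, _, -, ⟨N⟩⟩ | ⟨F, _, _, σ, _, q, hσ, -, -, ⟨N⟩⟩⟩ := H
  · exact sn_field hU N
  · exact sn_u3 hU hσ N

end Cfsg.Agent.H289.Tri
end

-- part: H289/Tri/ThreeB
section
/-!
# Triality in characteristic three: no fixed chamber (helper289, task AA-TRI)
-/

set_option autoImplicit false
set_option linter.unusedSectionVars false

open scoped Pointwise

namespace Cfsg.Agent.H289.Tri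

open CoxeterSystem Cfsg.Agent.ChevalleyStructure.CoxeterGeom Cfsg.Agent.Tits.Roots Cfsg.Agent.Tits.Core
  Cfsg.Agent.Tits.RootComb Cfsg.Agent.Nodes Cfsg.Agent.Nodes.Comb Cfsg.Agent.Nodes.Reps Cfsg.Agent.Nodes.BNOf
  Cfsg.Agent.Nodes.BNOf.RGD
  Cfsg.Agent.FixBN Cfsg.Agent.Tits.OfBN Cfsg.Agent.Tits.OppRes Cfsg.Agent.LieExceptional.BNPairCore
  Cfsg.Agent.OddHalf.Table.AutBldg Cfsg.Agent.OddHalf.Table.AutRGD Cfsg.Agent.OddHalf.Table.AutNorm
  Cfsg.Agent.Tits Cfsg.Agent.Nodes.RGDLib Cfsg.Agent.UGT.U2.FOne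
open Cfsg.Agent.Tits.Core.Bldg Cfsg.Agent.H460.AA

section Bl

variable {W : Type*} [Group W] {cs : CoxeterSystem (TypeD.M 2) W} {C : Type*} {Δ : Bldg cs C}
  {G : Type*} [Group G] [MulAction G C] {l : ℕ} {a b c : Fin 4}

theorem comm_out {a b : Fin 4} (ha : a ≠ 1) (hb : b ≠ 1) (hab : a ≠ b) :
    cs.simple a * cs.simple b = cs.simple b * cs.simple a := by
  have h1 := cs.simple_mul_simple_pow a b
  rw [M_eq, if_neg hab, if_neg (by simp [ha, hb]), pow_two] at h1
  have h2 := eq_inv_of_mul_eq_one_left h1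
  rw [h2, mul_inv_rev, cs.inv_simple, cs.inv_simple]

theorem mem_abc (hout : Out a b c) {w : W} (hw : w ∈ WJ cs {a, b, c}) :
    ∃ v ∈ WJ cs {b, c}, w = v ∨ w = v * cs.simple a := by
  obtain ⟨ha1, hb1, hc1, hab, hac, hbc⟩ := hout
  obtain ⟨ω, hω, rfl⟩ := Tits.Exchange.exists_word_of_mem_WJ cs hw
  clear hw
  induction ω using List.reverseRecOn with
  | nil => exact ⟨1, one_mem _, Or.inl cs.wordProd_nil⟩
  | append_singleton ω j ih =>
    obtain ⟨v, hv, h1⟩ := ih fun i hi => hω i (by simp [hi])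
    have hj : j = a ∨ j = b ∨ j = c := hω j (by simp)
    rw [cs.wordProd_append, cs.wordProd_singleton]
    have key : (j = b ∨ j = c) → ∃ v ∈ WJ cs {b, c}, cs.wordProd ω * cs.simple j = v ∨
        cs.wordProd ω * cs.simple j = v * cs.simple a := by
      intro hj
      have hcomm : cs.simple a * cs.simple j = cs.simple j * cs.simple a := by
        rcases hj with rfl | rfl
        · exact comm_out ha1 hb1 hab
        · exact comm_out ha1 hc1 hac
      have hm : v * cs.simple j ∈ WJ cs {b, c} := mul_mem hv (Tits.Exchange.simple_mem_WJ cs (by simpa using hj))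
      refine ⟨_, hm, ?_⟩
      rcases h1 with h1 | h1
      · left; rw [h1]
      · right; rw [h1, mul_assoc, hcomm, mul_assoc]
    rcases hj with rfl | hj
    · rcases h1 with h1 | h1
      · exact ⟨v, hv, Or.inr (by rw [h1])⟩
      · exact ⟨v, hv, Or.inl (by rw [h1, mul_assoc, cs.simple_mul_simple_self, mul_one])⟩
    · exact key hj

/-- an element fixing the residue of type `{b, c}` acts on the coordinate `a` -/
theorem ty_of_fix (S : _root_.Cfsg.Agent.FixBN.Sys Δ G l) (hout : Out a b c) {x : C} {g : G} (hfix : ∀ z ∈ Δ.Res {b, c} x, g • z = z) :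
    Ty Δ (Δ.Res {a, b, c} x) a g := by
  intro d hd
  have h := TypeD.isCartan 2
  obtain ⟨v, hv, h1⟩ := mem_abc hout (Δ.mem_Res.1 hd)
  have key : ∃ q ∈ Δ.Res {b, c} x, d ∈ Δ.Pan a q := by
    rcases h1 with h1 | h1
    · exact ⟨d, by rw [mem_Res, h1]; exact hv, Δ.self_mem_Pan _ _⟩
    · have hl : cs.length (v * cs.simple a) = cs.length v + cs.length (cs.simple a) := by
        have h2 : cs.length v < cs.length (v * cs.simple a) := by
          rw [lt_iff' cs h]
          refine StabComb.nonneg_of_pos_apply (cs := cs) (h := h) (k := a) ⟨v, a, rfl⟩ ?_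
          have h3 := RootComb.rep_apply_of_mem cs h hv (Pi.single a 1) (k := a) (by
            simp [hout.2.2.2.1, hout.2.2.2.2.1])
          change 0 < rep cs h v (Pi.single a 1) a
          rw [h3]
          simp
        have h3 := cs.length_mul_simple v a
        rw [cs.length_simple]
        omega
      obtain ⟨q, hq1, hq2⟩ := Δ.exists_between h1 hl
      exact ⟨q, by rw [mem_Res, hq1]; exact hv, Or.inr hq2⟩
  obtain ⟨q, hq, hdq⟩ := key
  rw [Δ.Pan_eq_of_mem hdq]
  have h2 := hfix q hq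
  rcases hdq with h3 | h3
  · rw [h3, h2]; exact Δ.self_mem_Pan _ _
  · right
    have := S.iso g q d
    rwa [h2, h3] at this

end Bl

variable {W Y : Type*} [Group W] [Group Y]
  {cs : CoxeterSystem (TypeD.M 2) W} {A : Fin 4 → Fin 4 → ℤ} {h : IsCartan (TypeD.M 2) A} {l : ℕ}
  {T : Subgroup Y} {n : Fin 4 → Y} {X : (Fin 4 → ℤ) → Subgroup Y} [Finite W]

variable {R : RGD cs h l T n X} {hgen : B cs h T X ⊔ NN cs R.nsys = ⊤}
  [hN : (((R.bnPair hgen).B ⊓ (R.bnPair hgen).N).subgroupOf (R.bnPair hgen).N).Normal]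
  (cs' : CoxeterSystem (TypeD.M 2) (WP (R.bnPair hgen)))
  (hcs : ∀ i, cs'.simple i = QuotientGroup.mk
    (⟨(eS R hgen i : Y), (R.bnPair hgen).subset (eS R hgen i).2⟩ : (R.bnPair hgen).N))

/-- **No fixed chamber in characteristic three.** -/
theorem no_fixed_three [Fact l.Prime] [Finite Y] (hcore : (B cs h T X).normalCore = ⊥)
    (hc : Subgroup.center Y = ⊥) {t : FixOdd.Tw (Bl R hgen cs' hcs) Y} {a b c : Fin 4}
    (D : TriD t a b c) (hPA : PA 3 t.τ) (hSn : Sn (R.bnPair hgen) (Sup X (Pos cs h)) (n a))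
    {y : Y ⧸ (R.bnPair hgen).B} (hy : t.θ y = y) : False := by
  have hW : Finite (WP (R.bnPair hgen)) := inferInstance
  have hC : Cox cs := inferInstance
  have hC' : Cox cs' := inferInstance
  have hth : (Bl R hgen cs' hcs).Thick := thick (R.bnPair hgen) (eS R hgen) cs' hcs
  set S := Sy R hgen cs' hcs hcore with hS
  -- standard position
  obtain ⟨g, rfl⟩ := QuotientGroup.mk_surjective y
  have D' := D.cj S g
  have hPA' := cj_PA S t g hPA
  have e1 : (cj S t g).θ (ch R hgen 1) = ch R hgen 1 := by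
    rw [cj_θ, smul_ch, mul_one, hy, smul_ch, inv_mul_cancel]
  generalize cj S t g = u at *
  obtain ⟨ha1, hb1, hc1, hab, hac, hbc⟩ := D'.out
  have ra := rp_simple cs R.nsys a
  set c0 := ch R hgen 1 with hc0
  set c1 := ch R hgen (n a) with hc1'
  have h01 : (Bl R hgen cs' hcs).δ c0 c1 = cs'.simple a := by
    rw [δ_rp R hgen cs' hcs rp_one ra, inv_one, one_mul, fw_simple]
  obtain ⟨u0, hu0, v0, hv0, hu3, hv3, k1, k2⟩ := hSn
  have s1 : ch R hgen (u0 * n a) = ch R hgen (n a * v0 * n a) := (FixBN.OfBN.mk_eq).2 k1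
  have s2 : ch R hgen (u0⁻¹ * n a) = ch R hgen (n a * v0⁻¹ * n a) := (FixBN.OfBN.mk_eq).2 k2
  -- replace the elements by elements of the root group
  have hpan : ∀ w ∈ Sup X (PosNe cs h a), ∀ d ∈ (Bl R hgen cs' hcs).Pan a c0, w • d = d := by
    intro w hw
    have hwU : w ∈ S.U c0 := by
      rw [mem_Sy, inv_one, one_mul, mul_one]
      exact Sup_mono (S := PosNe cs h a) (S' := Pos cs h) (fun z hz => ⟨hz.1, hz.2.1⟩) hw
    have hw1 : w ∈ S.U c1 := by
      rw [mem_Sy]
      exact Sup_mono (S := PosNe cs h a) (S' := Pos cs h) (fun z hz => ⟨hz.1, hz.2.1⟩) (NodeRGD.conj_V_mem R a hw)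
    exact S.pan _ c1 a h01 w hwU (S.fix _ _ hw1)
  have hrep : ∀ u ∈ Sup X (Pos cs h), ∃ y ∈ X (sr a), ∀ d ∈ (Bl R hgen cs' hcs).Pan a c0,
      u • d = y • d ∧ u⁻¹ • d = y⁻¹ • d := by
    intro u hu
    obtain ⟨y, hy, hv⟩ := FieldRGD.exists_cover R a hu
    have hyc : y • c0 = c0 := X_smul_ch R hgen rp_one (isRoot_sr cs h a) (by
      rw [inv_one, map_one, Module.End.one_apply]; exact sr_nonneg a) hy
    have h1 : u = y * (y⁻¹ * u) := by group
    have h2 : u⁻¹ = (y⁻¹ * u)⁻¹ * y⁻¹ := by group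
    refine ⟨y, hy, fun d hd => ⟨?_, ?_⟩⟩
    · conv_lhs => rw [h1]
      rw [mul_smul, hpan _ hv d hd]
    · rw [h2, mul_smul]
      refine hpan _ (inv_mem hv) _ ?_
      rcases hd with hd | hd
      · left; rw [hd, inv_smul_eq_iff, hyc]
      · right
        have h3 := S.iso y⁻¹ c0 d
        rwa [inv_smul_eq_iff.2 hyc.symm, hd] at h3
  obtain ⟨y, hy, hyd⟩ := hrep u0 hu0
  obtain ⟨β, hβ, hβd⟩ := hrep v0 hv0
  have hc1P : c1 ∈ (Bl R hgen cs' hcs).Pan a c0 := Or.inr h01
  have hstab : ∀ {g : Y}, g ∈ X (sr a) → g • c0 = c0 := fun {g} hg =>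
    X_smul_ch R hgen rp_one (isRoot_sr cs h a) (by
      rw [inv_one, map_one, Module.End.one_apply]; exact sr_nonneg a) hg
  have hP : ∀ {g : Y}, g ∈ X (sr a) → g • c1 ∈ (Bl R hgen cs' hcs).Pan a c0 := fun {g} hg => by
    right
    have h3 := S.iso g c0 c1
    rwa [hstab hg, h01] at h3
  have hnc : n a • c0 = c1 := by rw [hc0, hc1', smul_ch, mul_one]
  have hnc' : (n a)⁻¹ • c1 = c0 := inv_smul_eq_iff.2 hnc.symm
  -- the relations
  have r1 : y • c1 = n a • β • c1 := by
    rw [← (hyd c1 hc1P).1, ← (hβd c1 hc1P).1, hc1', smul_ch, smul_ch, smul_ch, s1]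
    congr 1
    group
  have r2 : y⁻¹ • c1 = n a • β⁻¹ • c1 := by
    rw [← (hyd c1 hc1P).2, ← (hβd c1 hc1P).2, hc1', smul_ch, smul_ch, smul_ch, s2]
    congr 1
    group
  have r3 : β⁻¹ • β⁻¹ • c1 = β • c1 := by
    rw [← (hβd _ (hP (inv_mem hβ))).2, ← (hβd c1 hc1P).2, smul_smul, ← (hβd c1 hc1P).1, ← mul_inv_rev, hv3,
      inv_inv]
  have r4 : y • y • c1 = y⁻¹ • c1 := by
    rw [← (hyd _ (hP hy)).1, ← (hyd c1 hc1P).1, smul_smul, ← (hyd c1 hc1P).2, hu3]
  have hss : n a • c1 = c0 := by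
    rw [hc0, hc1', smul_ch]
    refine (FixBN.OfBN.mk_eq).2 ?_
    have := inv_mem ((R.bnPair hgen).sq_mem (n a) ⟨a, rfl⟩)
    simpa using this
  -- conclusion
  refine three_false S D' (y0 := c0) (c1 := c1) (y := y) (m1 := n a * β⁻¹ * (n a)⁻¹) e1 h01 ?_ ?_ (hstab hy)
    ?_ ?_ ?_ r4 (pe_psi D'.τ3 hc hPA' _)
  · refine ty_of_fix S D'.out ?_
    refine X_fix_res R hgen cs' hcs hcore rp_one (isRoot_sr cs h a) (j := a) ?_ (by simp [hab, hac]) ?_ hy
    · rw [inv_one, map_one, Module.End.one_apply]; exact sr_nonneg a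
    · rw [inv_one, map_one, Module.End.one_apply]
      simp [sr]
  · have h1 : (Bl R hgen cs' hcs).Res {a, b, c} c0 = (Bl R hgen cs' hcs).Res {a, b, c} c1 := by
      refine (Bldg.Res_eq_of_mem _ ?_).symm
      rw [Bldg.mem_Res, h01]
      exact Tits.Exchange.simple_mem_WJ cs' (by simp)
    rw [h1]
    refine ty_of_fix S D'.out ?_
    have h2 : n a * β⁻¹ * (n a)⁻¹ ∈ X (-sr a) := by
      have := R.conj_mem ra (isRoot_sr cs h a) (inv_mem hβ)
      rwa [rep_simple_sr] at this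
    refine X_fix_res R hgen cs' hcs hcore ra (isRoot_sr cs h a).neg (j := a) ?_ (by simp [hab, hac]) ?_ h2
    · rw [cs.inv_simple, map_neg, rep_simple_sr, neg_neg]; exact sr_nonneg a
    · rw [cs.inv_simple, map_neg, rep_simple_sr, neg_neg]
      simp [sr]
  · rw [mul_smul, mul_smul, hnc', hstab (inv_mem hβ), hnc]
  · rw [r1, mul_smul, mul_smul, inv_smul_smul, inv_smul_smul, hss]
  · rw [r2, mul_smul, mul_smul, inv_smul_smul, r3, r1]

end Cfsg.Agent.H289.Tri
end
end

-- part: H460/FamA_mg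
section
prune_inst 0x4084000000000050000201c468200040000080800080000040480860004800060300000140a08000500310000000000000000000000000000011800800000000480480000200000000080000000000000000000000000000000000000000000000
set_option linter.all false
open scoped Cfsg.Agent.FastGrp

-- part: H521/PFU3
section
/-!
# The rank one unitary panels with a fixed point (AA-PFU3, S3833/S3834/S3840; helper521)

* `pf_u3` : the family of root groups of `PSU₃(q)`, `q > 2`, satisfies `PF r` for all odd primes `r` not dividing `q`.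
-/

set_option autoImplicit false
set_option linter.unusedSectionVars false

namespace Cfsg.Agent.H521.PFU3

open Cfsg.Agent.FixBN Cfsg.Agent.FixBN.U3Model Cfsg.Agent.FixBN.U3Core Cfsg.Agent.FixBN.RankOneU3
  Cfsg.Agent.FixBN.U3One Cfsg.Agent.H223.U3Fin Cfsg.Agent.H223.PanAvg Cfsg.Agent.H223.PanU3
  Cfsg.Agent.H460.AA Cfsg.Agent.H460.Pan

variable {F : Type*} [Field F] {σ : F →+* F} [H : Inv2 σ] {q : ℕ}

local notation "tl" => U3Model.tr
local notation "tp" => RankOneU3.toPt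

theorem conj_iff {G : Type*} [Group G] {K : Subgroup G} [Finite K] {f : G} (h : ∀ k ∈ K, f * k * f⁻¹ ∈ K) (k : G) :
    f * k * f⁻¹ ∈ K ↔ k ∈ K := by
  refine ⟨fun hk => ?_, h k⟩
  have h1 : K.map (MulAut.conj f).toMonoidHom = K := by
    refine Subgroup.eq_of_le_of_card_ge ?_ ?_
    · rintro _ ⟨k, hk, rfl⟩
      exact h k hk
    · exact (Nat.card_congr (Subgroup.equivMapOfInjective K (MulAut.conj f).toMonoidHom
        (MulAut.conj f).injective).toEquiv).le
  rw [← h1] at hk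
  obtain ⟨l, hl, h2⟩ := hk
  have h3 : l = k := (MulAut.conj f).injective h2
  exact h3 ▸ hl

theorem dp_some (c : F) (hc : c ≠ 0) (x : Pt σ) : dp c hc (some x) = some (D c x) := rfl

theorem D_one (c : F) : D c (1 : Pt σ) = 1 := by
  apply ext'
  · rw [D_a, one_a, mul_zero]
  · rw [D_b, one_b, mul_zero]

theorem dp_mul (c d : F) (hc : c ≠ 0) (hd : d ≠ 0) :
    (dp c hc * dp d hd : Equiv.Perm (Om σ)) = dp (c * d) (mul_ne_zero hc hd) := by
  apply Equiv.ext
  rintro (_ | x)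
  · rfl
  · show some (D c (D d x)) = some (D (c * d) x)
    rw [D_D]

theorem dp_one (h : (1 : F) ≠ 0) : dp (σ := σ) 1 h = 1 := by
  apply Equiv.ext
  rintro (_ | x)
  · rfl
  · show some (D 1 x) = some x
    rw [D_one']

theorem dp_inv (c : F) (hc : c ≠ 0) : (dp (σ := σ) c hc)⁻¹ = dp c⁻¹ (inv_ne_zero hc) := by
  rw [inv_eq_iff_mul_eq_one, dp_mul]
  have : c * c⁻¹ = 1 := mul_inv_cancel₀ hc
  simp only [this]
  exact dp_one _

/-- `U ⋊ F_q^*` -/
def KK (σ : F →+* F) [Inv2 σ] : Subgroup (Equiv.Perm (Om σ)) where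
  carrier := {g | ∃ (x : Pt σ) (c : F) (hc : c ≠ 0), σ c = c ∧ g = tl x * dp c hc}
  one_mem' := ⟨1, 1, one_ne_zero, map_one σ, by rw [tl_one, dp_one, one_mul]⟩
  mul_mem' := by
    rintro _ _ ⟨x, c, hc, h1, rfl⟩ ⟨y, d, hd, h2, rfl⟩
    refine ⟨x * D c y, c * d, mul_ne_zero hc hd, by rw [map_mul, h1, h2], ?_⟩
    calc tl x * dp c hc * (tl y * dp d hd) = tl x * (dp c hc * tl y) * dp d hd := by group
      _ = tl x * (tl (D c y) * dp c hc) * dp d hd := by rw [dp_tl]
      _ = tl x * tl (D c y) * (dp c hc * dp d hd) := by group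
      _ = _ := by rw [tl_mul, dp_mul]
  inv_mem' := by
    rintro _ ⟨x, c, hc, h1, rfl⟩
    refine ⟨D c⁻¹ x⁻¹, c⁻¹, inv_ne_zero hc, by rw [map_inv₀, h1], ?_⟩
    rw [mul_inv_rev, tl_inv, dp_inv, dp_tl]

theorem tl_mem_KK (x : Pt σ) : tl x ∈ KK σ := ⟨x, 1, one_ne_zero, map_one σ, by rw [dp_one, mul_one]⟩

theorem dp_mem_KK {c : F} (hc : c ≠ 0) (h : σ c = c) : dp c hc ∈ KK σ := ⟨1, c, hc, h, by rw [tl_one, one_mul]⟩

theorem card_KK [Finite F] (hF : UG σ q) : Nat.card (KK σ) = q ^ 3 * (q - 1) := by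
  classical
  have hfin : Finite (Pt σ) := finite_pt
  have h1 : Nat.card {c : F // σ c = c ∧ c ≠ 0} = q - 1 := by
    have h2 := (card_fix hF).1
    have e : {c : F // σ c = c} ≃ Option {c : F // σ c = c ∧ c ≠ 0} :=
      { toFun := fun c => if h : c.1 = 0 then none else some ⟨c.1, c.2, h⟩
        invFun := fun o => o.elim ⟨0, map_zero σ⟩ fun c => ⟨c.1, c.2.1⟩
        left_inv := by
          rintro ⟨c, hc⟩
          by_cases h : c = 0
          · subst h; simp
          · simp [h]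
        right_inv := by
          rintro (_ | ⟨c, hc, h⟩)
          · simp
          · simp [h] }
    rw [Nat.card_congr e, Finite.card_option] at h2
    omega
  have h2 : Function.Bijective (fun p : Pt σ × {c : F // σ c = c ∧ c ≠ 0} =>
      (⟨tl p.1 * dp p.2.1 p.2.2.2, p.1, p.2.1, p.2.2.2, p.2.2.1, rfl⟩ : KK σ)) := by
    constructor
    · rintro ⟨x, c, hc, h⟩ ⟨y, d, hd, h'⟩ heq
      have h3 : (tl x * dp c h : Equiv.Perm (Om σ)) = tl y * dp d h' := congrArg Subtype.val heq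
      have h4 := congrArg (fun g : Equiv.Perm (Om σ) => g (some 1)) h3
      have h5 : (some (x * D c 1) : Om σ) = some (y * D d 1) := h4
      rw [D_one, D_one, mul_one, mul_one] at h5
      obtain rfl := Option.some_injective _ h5
      have h6 := mul_left_cancel h3
      obtain ⟨w, hw⟩ := H223.U3Fin.exists_pt hF (1 : F)
      have h7 := congrArg (fun g : Equiv.Perm (Om σ) => g (some w)) h6
      have h8 : (some (D c w) : Om σ) = some (D d w) := h7
      have h9 := congrArg Pt.a (Option.some_injective _ h8)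
      rw [D_a, D_a, hw, mul_one, mul_one] at h9
      subst h9
      rfl
    · rintro ⟨_, x, c, hc, h, rfl⟩
      exact ⟨(x, ⟨c, h, hc⟩), rfl⟩
  rw [← Nat.card_congr (Equiv.ofBijective _ h2), Nat.card_prod, h1, card_pt hF]

theorem dp_lam_mem_L (hF : UG σ q) {x : Pt σ} (hx1 : x ≠ 1) : dp (lam x) (lam_ne_zero hx1) ∈ ⨆ y, u3Fam σ y := by
  have h1 : dp (lam x) (lam_ne_zero hx1) * jj ∈ ⨆ y, u3Fam σ y := by
    have h1 := mu_perm hx1
    have h2 : dp (lam x) (lam_ne_zero hx1) * jj = (jj * tl (J x)⁻¹ * jj) * tl x * (jj * tl (J x⁻¹) * jj) := by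
      have h3 : dp (lam x) (lam_ne_zero hx1) =
          jj * (tl (J x))⁻¹ * jj * tl x * jj * tl (J x⁻¹) := by
        rw [h1, inv_mul_cancel_right]
      rw [h3, tl_inv]
      group
    rw [h2]
    exact mul_mem (mul_mem (jtj_mem_L _) (tl_mem_L _)) (jtj_mem_L _)
  have h2 := mul_mem h1 (inv_mem (jj_mem_L hF))
  rwa [mul_inv_cancel_right] at h2

theorem lam_of_fixed {x : Pt σ} {r : F} (hr : σ r = r) (h0 : r ≠ 0) (hx : x.b = r) : lam x = r := by
  unfold lam
  rw [hx, hr, mul_div_assoc, div_self h0, mul_one]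

theorem exists_lam (hF : UG σ q) {r : F} (hr : σ r = r) (h0 : r ≠ 0) : ∃ x : Pt σ, x ≠ 1 ∧ lam x = r := by
  obtain ⟨x, hx⟩ := H223.U3Fin.exists_pt_b hF r
  refine ⟨x, ?_, lam_of_fixed hr h0 hx⟩
  rintro rfl
  exact h0 (by rw [← hx, one_b])

theorem dp_mem_L (hF : UG σ q) {c : F} (hc : c ≠ 0) (h : σ c = c) : dp c hc ∈ ⨆ y, u3Fam σ y := by
  obtain ⟨x, hx, rfl⟩ := exists_lam hF h hc
  exact dp_lam_mem_L hF hx

theorem KK_le (hF : UG σ q) : KK σ ≤ ⨆ y, u3Fam σ y := by
  rintro _ ⟨x, c, hc, h, rfl⟩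
  exact mul_mem (tl_mem_L x) (dp_mem_L hF hc h)

theorem phi_D [Finite F] (hF : UG σ q) {β : Equiv.Perm (Om σ)} {φ φ' : Pt σ → Pt σ} (A : Au β φ φ')
    {c : F} {τ : F →+* F} (hc : c ≠ 0) (ha : ∀ x : Pt σ, (φ x).a = c * τ x.a) {d : F} (hd : d ≠ 0) (hσ : σ d = d)
    (w : Pt σ) : φ (D d w) = D (τ d) (φ w) := by
  obtain ⟨x₁, hx₁, hl₁⟩ := exists_lam hF (map_one σ) one_ne_zero
  obtain ⟨x, hx, hl⟩ := exists_lam hF hσ hd
  have hφ' : ∀ w, φ w = D (lam (φ x₁)) (φ' w) := fun w => by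
    have := A.mu hx₁ w
    rwa [hl₁, D_one'] at this
  have hl0 : lam (φ x₁) ≠ 0 := lam_ne_zero (A.ne_one hx₁)
  have hκ : ∀ w, φ (D d w) = D (lam (φ x) * (lam (φ x₁))⁻¹) (φ w) := by
    intro w
    have h1 := A.mu hx w
    rw [hl] at h1
    rw [h1, hφ' w, D_D, mul_assoc, inv_mul_cancel₀ hl0, mul_one]
  obtain ⟨y, hy⟩ := H223.U3Fin.exists_pt hF (1 : F)
  have h2 := congrArg Pt.a (hκ y)
  rw [ha, D_a, hy, mul_one, D_a, ha, hy, map_one, mul_one] at h2
  have h3 : lam (φ x) * (lam (φ x₁))⁻¹ = τ d := by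
    apply mul_right_cancel₀ hc
    rw [← h2, mul_comm]
  rw [hκ, h3]

theorem key [Finite F] (hF : UG σ q) (hq : 2 < q) {r : ℕ} [hr : Fact r.Prime] (hrq : ¬ r ∣ q)
    (hrq1 : ¬ r ∣ q - 1) {f : Equiv.Perm (Om σ)} (hf : f ∈ famStab (u3Fam σ)) (hn : f none = none)
    (hP : ∀ m ∈ ⨆ y, u3Fam σ y, PE r (f * (m * f * m⁻¹))) : f = 1 := by
  classical
  have hfin : Finite (Pt σ) := finite_pt
  have hfinO : Finite (Om σ) := inferInstance
  -- the decomposition `f = tl x₀ * f₀`
  obtain ⟨x₀, hx₀⟩ : ∃ x₀, f (some 1) = some x₀ := by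
    rcases h : f (some 1) with _ | x
    · exfalso
      have h1 : f (some 1) = f none := by rw [h, hn]
      exact absurd (f.injective h1) (by simp)
    · exact ⟨x, rfl⟩
  obtain ⟨f₀, hf₀⟩ : ∃ f₀, f₀ = tl x₀⁻¹ * f := ⟨_, rfl⟩
  have hff₀ : f = tl x₀ * f₀ := by
    rw [hf₀, ← tl_inv, mul_inv_cancel_left]
  have hf₀S : f₀ ∈ famStab (u3Fam σ) := by rw [hf₀]; exact mul_mem (tl_mem _) hf
  have h00 : f₀ none = none := by
    rw [hf₀]
    show tl x₀⁻¹ (f none) = none
    rw [hn, U3Model.tr_none]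
  have h01 : f₀ (some 1) = some 1 := by
    rw [hf₀]
    show tl x₀⁻¹ (f (some 1)) = some 1
    rw [hx₀, U3Model.tr_some, inv_mul_cancel]
  obtain ⟨φ, φ', A⟩ := exists_au' hf₀S h00 h01
  obtain ⟨c, τ, hc, ha, -⟩ := semi hF hq A
  have htl : ∀ x : Pt σ, f₀ * tl x = tl (φ x) * f₀ := by
    intro x
    apply Equiv.ext
    intro z
    exact A.tr x z
  have hdp : ∀ (d : F) (hd : d ≠ 0) (hτ : τ d ≠ 0), σ d = d → f₀ * dp d hd = dp (τ d) hτ * f₀ := by
    intro d hd hτ hσ
    apply Equiv.ext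
    rintro (_ | x)
    · show f₀ none = dp (τ d) hτ (f₀ none)
      rw [h00]; rfl
    · show f₀ (some (D d x)) = dp (τ d) hτ (f₀ (some x))
      rw [A.val, A.val, dp_some, phi_D hF A hc ha hd hσ]
  have hτ0 : ∀ {d : F}, d ≠ 0 → τ d ≠ 0 := fun h h1 => h ((map_eq_zero τ).1 h1)
  have hτσ : ∀ {d : F}, σ d = d → σ (τ d) = τ d := fun {d} h => by rw [← hF.comm, h]
  -- `K`
  have hK : ¬ r ∣ Nat.card (KK σ) := by
    rw [card_KK hF, hr.out.dvd_mul]
    rintro (h | h)
    · exact hrq (hr.out.dvd_of_dvd_pow h)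
    · exact hrq1 h
  have hKf : ∀ k ∈ KK σ, f * k * f⁻¹ ∈ KK σ := by
    rintro _ ⟨x, d, hd, hσ, rfl⟩
    have e : f * (tl x * dp d hd) * f⁻¹ = tl x₀ * (tl (φ x) * dp (τ d) (hτ0 hd)) * (tl x₀)⁻¹ := by
      rw [hff₀, mul_inv_rev]
      calc tl x₀ * f₀ * (tl x * dp d hd) * (f₀⁻¹ * (tl x₀)⁻¹) =
          tl x₀ * (f₀ * tl x) * dp d hd * f₀⁻¹ * (tl x₀)⁻¹ := by group
        _ = tl x₀ * (tl (φ x) * f₀) * dp d hd * f₀⁻¹ * (tl x₀)⁻¹ := by rw [htl]
        _ = tl x₀ * tl (φ x) * (f₀ * dp d hd) * f₀⁻¹ * (tl x₀)⁻¹ := by group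
        _ = tl x₀ * tl (φ x) * (dp (τ d) (hτ0 hd) * f₀) * f₀⁻¹ * (tl x₀)⁻¹ := by rw [hdp d hd (hτ0 hd) hσ]
        _ = _ := by group
    rw [e]
    exact mul_mem (mul_mem (tl_mem_KK _) (mul_mem (tl_mem_KK _) (dp_mem_KK _ (hτσ hσ)))) (inv_mem (tl_mem_KK _))
  have hfK := conj_iff hKf
  have hPK : ∀ k ∈ KK σ, PE r (f * (k * f * k⁻¹)) := fun k hk => hP k (KK_le hF hk)
  have hff : PE r (f * f) := by
    have := hPK 1 (one_mem _)
    simpa using this
  obtain ⟨k, hk⟩ := PE.pow_eq_one_iff.1 hff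
  -- the centre
  have hcen : ∀ x y : Pt σ, x.a = 0 → x * y = y * x := fun x y h => (H223.U3Fin.central_iff hF x).2 h y
  have hza : ∀ x : Pt σ, x.a = 0 → (φ x).a = 0 := fun x h => H223.U3Fin.a_zero A hF h
  have hfz : ∀ x : Pt σ, x.a = 0 → f * tl x = tl (φ x) * f := by
    intro x hx
    rw [hff₀]
    calc tl x₀ * f₀ * tl x = tl x₀ * (f₀ * tl x) := by group
      _ = tl x₀ * tl (φ x) * f₀ := by rw [htl]; group
      _ = tl (φ x) * tl x₀ * f₀ := by rw [tl_mul, ← hcen _ _ (hza x hx), ← tl_mul]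
      _ = _ := by group
  -- a central element commuting with `f`
  obtain ⟨z, hz0, hz1, hzf⟩ : ∃ z : Pt σ, z.a = 0 ∧ z ≠ 1 ∧ tl z * f = f * tl z := by
    have hinj : Function.Injective (fun x : {x : Pt σ // x.a = 0 ∧ x ≠ 1} =>
        (⟨φ (φ x.1), hza _ (hza _ x.2.1), A.ne_one (A.ne_one x.2.2)⟩ : {x : Pt σ // x.a = 0 ∧ x ≠ 1})) := by
      intro x y h
      exact Subtype.ext (A.inj (A.inj (congrArg Subtype.val h)))
    have := Fintype.ofFinite {x : Pt σ // x.a = 0 ∧ x ≠ 1}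
    obtain ⟨ψ, hψ⟩ : ∃ ψ : Equiv.Perm {x : Pt σ // x.a = 0 ∧ x ≠ 1}, ∀ x, (ψ x).1 = φ (φ x.1) :=
      ⟨Equiv.ofBijective _ (Finite.injective_iff_bijective.1 hinj), fun x => rfl⟩
    have h1 : ∀ (n : ℕ) (x : {x : Pt σ // x.a = 0 ∧ x ≠ 1}), (f * f) ^ n * tl x.1 = tl ((ψ ^ n) x).1 * (f * f) ^ n := by
      intro n
      induction n with
      | zero => intro x; simp only [_root_.pow_zero, _root_.ne_eq, _root_.one_mul, _root_.Equiv.Perm.coe_one, _root_.id_eq, _root_.mul_one]
      | succ n ih =>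
        intro x
        rw [pow_succ (f * f), pow_succ ψ]
        calc (f * f) ^ n * (f * f) * tl x.1 = (f * f) ^ n * (f * (f * tl x.1)) := by group
          _ = (f * f) ^ n * (f * tl (φ x.1) * f) := by rw [hfz _ x.2.1, mul_assoc f]
          _ = (f * f) ^ n * (tl (φ (φ x.1)) * f * f) := by rw [hfz _ (hza _ x.2.1)]
          _ = ((f * f) ^ n * tl (ψ x).1) * (f * f) := by rw [hψ]; group
          _ = _ := by rw [ih]; rw [Equiv.Perm.mul_apply]; group
    have h2 : ψ ^ r ^ k = 1 := by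
      apply Equiv.ext
      intro x
      have h3 := h1 (r ^ k) x
      rw [hk, one_mul, mul_one] at h3
      exact Subtype.ext (tl_injective h3).symm
    have h3 : ¬ r ∣ Fintype.card {x : Pt σ // x.a = 0 ∧ x ≠ 1} := by
      have h4 := card_ker hF
      have e : (pr σ).ker ≃ Option {x : Pt σ // x.a = 0 ∧ x ≠ 1} :=
        { toFun := fun x => if h : x.1 = 1 then none else some ⟨x.1, mem_ker.1 x.2, h⟩
          invFun := fun o => o.elim 1 fun x => ⟨x.1, mem_ker.2 x.2.1⟩
          left_inv := by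
            rintro ⟨x, hx⟩
            by_cases h : x = 1
            · subst h; simp only [_root_.ne_eq, ↓ _root_.reduceDIte, _root_.Option.elim_none]; rfl
            · simp [h]
          right_inv := by
            rintro (_ | ⟨x, hx, h⟩)
            · simp only [_root_.ne_eq, _root_.Option.elim_none, _root_.OneMemClass.coe_one, ↓ _root_.reduceDIte]
            · simp only [h, _root_.ne_eq, _root_.Option.elim_some, ↓ _root_.reduceDIte] }
      rw [Nat.card_congr e, Finite.card_option] at h4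
      rw [← Nat.card_eq_fintype_card]
      have h5 : Nat.card {x : Pt σ // x.a = 0 ∧ x ≠ 1} = q - 1 := by omega
      rwa [h5]
    obtain ⟨x, hx⟩ := Equiv.Perm.exists_fixed_point_of_prime h3 h2
    refine ⟨x.1, x.2.1, x.2.2, ?_⟩
    refine H460.Lem1.comm_of_sq hK hfK hPK (tl_mem_KK _) ?_
    have h4 := h1 1 x
    rw [pow_one, pow_one, hx] at h4
    exact h4.symm
  have hyb : ∀ y : Pt σ, y.a = 0 → σ y.b = -y.b := by
    intro y hy
    have := y.h
    rw [hy, zero_mul, add_zero] at this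
    linear_combination this
  -- `NN ∩ Z(U) = 1`
  have hNZ : ∀ y : Pt σ, y.a = 0 → tl y ∈ H460.Lem1.NN hK hfK hPK → y = 1 := by
    intro y hy hyN
    by_contra hy1
    have hb0 := b_ne_zero hy1
    have hsq : ∀ d : F, σ d = d → ∃ w : Pt σ, w.a = 0 ∧ w.b = d * d * y.b ∧ tl w ∈ H460.Lem1.NN hK hfK hPK := by
      intro d hd
      by_cases h0 : d = 0
      · refine ⟨1, one_a, by rw [one_b, h0]; ring, by rw [tl_one]; exact one_mem _⟩
      · refine ⟨D d y, by rw [D_a, hy, mul_zero], by rw [D_b, hd], ?_⟩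
        have h1 := H460.Lem1.NN_conj hK hfK hPK (dp_mem_KK h0 hd) hyN
        rwa [dp_tl, mul_inv_cancel_right] at h1
    have hdiff : ∀ d e : F, σ d = d → σ e = e → ∃ w : Pt σ, w.a = 0 ∧ w.b = (d * d - e * e) * y.b ∧
        tl w ∈ H460.Lem1.NN hK hfK hPK := by
      intro d e hd he
      obtain ⟨w, h1, h2, h3⟩ := hsq d hd
      obtain ⟨w', h1', h2', h3'⟩ := hsq e he
      refine ⟨w * w'⁻¹, by rw [mul_a, inv_a, h1, h1']; ring, ?_, ?_⟩
      · rw [mul_b, inv_b, inv_a, h1', hyb w' h1', h2, h2']; ring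
      · rw [← tl_mul, ← tl_inv]
        exact mul_mem h3 (inv_mem h3')
    obtain ⟨s, hs, hsb⟩ : ∃ s, σ s = s ∧ z.b = s * y.b := by
      refine ⟨z.b / y.b, ?_, (div_mul_cancel₀ _ hb0).symm⟩
      rw [map_div₀, hyb z hz0, hyb y hy, neg_div_neg_eq]
    obtain ⟨d, e, hd, he, hde⟩ : ∃ d e : F, σ d = d ∧ σ e = e ∧ d * d - e * e = s := by
      by_cases h2 : (2 : F) = 0
      · have : CharP F 2 := by
          refine CharTwo.of_one_ne_zero_of_two_eq_zero one_ne_zero h2
        obtain ⟨t, ht⟩ := FiniteField.isSquare_of_char_two (F := F) (ringChar.eq F 2 ▸ rfl) s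
        refine ⟨t, 0, ?_, map_zero σ, by rw [ht]; ring⟩
        have h3 : (σ t - t) * (σ t - t) = 0 := by
          have h4 : σ t * σ t = t * t := by rw [← map_mul, ← ht, hs]
          linear_combination h4 + (t * t - σ t * t) * h2
        exact sub_eq_zero.1 (mul_self_eq_zero.1 h3)
      · refine ⟨(s + 1) / 2, (s - 1) / 2, ?_, ?_, ?_⟩
        · rw [map_div₀, map_add, hs, map_one, map_ofNat]
        · rw [map_div₀, map_sub, hs, map_one, map_ofNat]
        · field_simp; ring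
    obtain ⟨w, h1, h2, h3⟩ := hdiff d e hd he
    have hwz : w = z := ext' (by rw [h1, hz0]) (by rw [h2, hde, hsb])
    rw [hwz] at h3
    have h4 := H460.Lem1.eq_one_of_comm hK hfK hPK h3 hzf
    rw [← tl_one] at h4
    exact hz1 (tl_injective h4)
  -- `NN ∩ U = 1`
  have hNU : ∀ x : Pt σ, tl x ∈ H460.Lem1.NN hK hfK hPK → x = 1 := by
    intro x hx
    refine hNZ x ?_ hx
    rw [← H223.U3Fin.central_iff hF]
    intro y
    have h1 := H460.Lem1.NN_conj hK hfK hPK (tl_mem_KK y) hx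
    have h2 := mul_mem h1 (inv_mem hx)
    rw [tl_inv, tl_inv, tl_mul, tl_mul, tl_mul] at h2
    have h3 := hNZ _ (by simp only [mul_a, inv_a]; ring) h2
    rw [mul_inv_eq_one, mul_inv_eq_iff_eq_mul] at h3
    exact h3.symm
  -- `f` centralises `U`
  have hfU : ∀ x : Pt σ, f * tl x = tl x * f := by
    intro x
    have h1 := H460.Lem1.comm_mem hK hfK hPK (tl_mem_KK x)
    have h2 : f⁻¹ * tl x * f ∈ u3Fam σ none := by
      refine (hf none _).2 ?_
      rw [hn]
      have e : f * (f⁻¹ * tl x * f) * f⁻¹ = tl x := by group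
      rw [e]
      exact mem_none.2 ⟨x, rfl⟩
    obtain ⟨y, hy⟩ := mem_none.1 h2
    rw [hy, tl_inv, tl_mul] at h1
    have h3 := hNU _ h1
    rw [mul_inv_eq_one] at h3
    rw [h3] at hy
    calc f * tl x = f * (f⁻¹ * tl x * f) := by rw [hy]
      _ = tl x * f := by group
  have hfx : ∀ x : Pt σ, f (some x) = some (x * x₀) := by
    intro x
    have h1 := congrArg (fun g : Equiv.Perm (Om σ) => g (some 1)) (hfU x)
    have h2 : f (tl x (some 1)) = tl x (f (some 1)) := h1
    rwa [U3Model.tr_some, mul_one, hx₀, U3Model.tr_some] at h2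
  -- `x₀ ^ 2 = 1`
  have hx2 : x₀ * x₀ = 1 := by
    have h1 : ∀ (n : ℕ) (x : Pt σ), ((f * f) ^ n) (some x) = some (x * (x₀ * x₀) ^ n) := by
      intro n
      induction n with
      | zero => intro x; simp
      | succ n ih =>
        intro x
        rw [pow_succ (f * f), Equiv.Perm.mul_apply, Equiv.Perm.mul_apply, hfx, hfx, ih, pow_succ']
        simp only [mul_assoc]
    have h2 := h1 (r ^ k) 1
    rw [hk, one_mul] at h2
    have h3 : (x₀ * x₀) ^ r ^ k = 1 := by
      have h4 : (some (1 : Pt σ) : Om σ) = some ((x₀ * x₀) ^ r ^ k) := h2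
      exact (Option.some_injective _ h4).symm
    refine PE.eq_one (PE.pow_eq_one_iff.2 ⟨_, h3⟩) fun hd => ?_
    have h5 := hd.trans (orderOf_dvd_natCard (x₀ * x₀))
    rw [card_pt hF] at h5
    exact hrq (hr.out.dvd_of_dvd_pow h5)
  have hx₀1 : x₀ = 1 := by
    by_cases h2 : (2 : F) = 0
    · -- characteristic two
      have h3 : ∀ x : Pt σ, φ x = x₀⁻¹ * x * x₀ := by
        intro x
        have h4 := hfx x
        rw [hff₀] at h4
        have h5 : tl x₀ (f₀ (some x)) = some (x * x₀) := h4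
        rw [A.val, U3Model.tr_some] at h5
        have h6 := Option.some_injective _ h5
        rw [mul_assoc, ← h6, inv_mul_cancel_left]
      have h4 : ∀ a : F, c * τ a = a := by
        intro a
        obtain ⟨x, hx⟩ := H223.U3Fin.exists_pt hF a
        have h5 := congrArg Pt.a (h3 x)
        rw [ha, mul_a, mul_a, inv_a, hx] at h5
        linear_combination h5
      have hc1 : c = 1 := by
        have := h4 1
        rwa [map_one, mul_one] at this
      have hτ1 : ∀ a, τ a = a := fun a => by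
        have := h4 a
        rwa [hc1, one_mul] at this
      have h5 : ∀ d : F, d ≠ 0 → σ d = d → D d x₀ = x₀ := by
        intro d hd hσ
        have h6 : f⁻¹ * (dp d hd * f * (dp d hd)⁻¹) ∈ H460.Lem1.NN hK hfK hPK :=
          (H460.Lem1.mem_NN' hK hfK hPK).2 ⟨_, dp_mem_KK hd hσ, rfl⟩
        have h7 : dp d hd * f * (dp d hd)⁻¹ = tl (D d x₀ * x₀⁻¹) * f := by
          have h8 : f₀ * (dp d hd)⁻¹ = (dp d hd)⁻¹ * f₀ := by
            have h9 := hdp d hd (hτ0 hd) hσ
            have h10 : dp (σ := σ) (τ d) (hτ0 hd) = dp d hd := by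
              simp only [hτ1]
            rw [h10] at h9
            calc f₀ * (dp d hd)⁻¹ = (dp d hd)⁻¹ * (dp d hd * f₀) * (dp d hd)⁻¹ := by group
              _ = (dp d hd)⁻¹ * (f₀ * dp d hd) * (dp d hd)⁻¹ := by rw [h9]
              _ = _ := by group
          calc dp d hd * f * (dp d hd)⁻¹ = dp d hd * tl x₀ * (f₀ * (dp d hd)⁻¹) := by rw [hff₀]; group
            _ = (dp d hd * tl x₀) * (dp d hd)⁻¹ * f₀ := by rw [h8]; group
            _ = tl (D d x₀) * f₀ := by rw [dp_tl]; group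
            _ = tl (D d x₀) * (tl x₀)⁻¹ * (tl x₀ * f₀) := by group
            _ = _ := by rw [← hff₀, tl_inv, tl_mul]
        rw [h7, ← hfU, inv_mul_cancel_left] at h6
        have h8 := hNU _ h6
        exact mul_inv_eq_one.1 h8
      obtain ⟨d, hd, hd0, hd1⟩ : ∃ d : F, σ d = d ∧ d ≠ 0 ∧ d ≠ 1 := by
        by_contra hcon
        push Not at hcon
        have h6 : Nat.card {x : F // σ x = x} ≤ 2 := by
          have h7 : Function.Injective (fun x : {x : F // σ x = x} => decide (x.1 = 0)) := by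
            rintro ⟨x, hx⟩ ⟨y, hy⟩ hxy
            have h8 : (x = 0) ↔ (y = 0) := by simpa using hxy
            apply Subtype.ext
            show x = y
            by_cases hx0 : x = 0
            · rw [hx0, h8.1 hx0]
            · rw [hcon x hx hx0, hcon y hy fun h => hx0 (h8.2 h)]
          have h8 := Nat.card_le_card_of_injective _ h7
          simpa only [_root_.ge_iff_le, _root_.Nat.card_eq_fintype_card, _root_.Fintype.card_bool] using h8
        rw [(card_fix hF).1] at h6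
        omega
      have h6 := h5 d hd0 hd
      have h7 := congrArg Pt.a h6
      have h8 := congrArg Pt.b h6
      rw [D_a] at h7
      rw [D_b, hd] at h8
      have h9 : d - 1 ≠ 0 := sub_ne_zero.2 hd1
      refine ext' ?_ ?_
      · rw [one_a]
        refine (mul_eq_zero.1 (show (d - 1) * x₀.a = 0 by linear_combination h7)).resolve_left h9
      · rw [one_b]
        have h10 : (d - 1) * ((d - 1) * x₀.b) = 0 := by linear_combination h8 + (x₀.b - d * x₀.b) * h2
        exact ((mul_eq_zero.1 ((mul_eq_zero.1 h10).resolve_left h9))).resolve_left h9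
    · have h3 := congrArg Pt.a hx2
      rw [mul_a, one_a] at h3
      have h4 : x₀.a = 0 := by
        have : (2 : F) * x₀.a = 0 := by linear_combination h3
        exact (mul_eq_zero.1 this).resolve_left h2
      have h5 := congrArg Pt.b hx2
      rw [mul_b, one_b, h4] at h5
      have h6 : x₀.b = 0 := by
        have : (2 : F) * x₀.b = 0 := by linear_combination h5
        exact (mul_eq_zero.1 this).resolve_left h2
      exact ext' h4 h6
  apply Equiv.ext
  rintro (_ | x)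
  · exact hn
  · rw [hfx, hx₀1, mul_one]; rfl

/-- **AA-PFU3.** -/
theorem pf_u3 {F : Type*} [Field F] [Finite F] (σ : F →+* F) [Inv2 σ] (hσ : ∃ x, σ x ≠ x) {q : ℕ}
    (hq : Nat.card F = q ^ 2) (hq2 : q ≠ 2) {r : ℕ} [Fact r.Prime] (hr2 : r ≠ 2) (h1 : ¬ r ∣ q) :
    PF r (u3Fam σ) := by
  have hF : UG σ q := ug_of_card hσ hq
  have hr : r.Prime := Fact.out
  have hq' : 2 < q := by
    have := hF.two_le
    omega
  by_cases h2 : r ∣ q ^ 3 + 1
  · have h3 : ¬ r ∣ q - 1 := by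
      intro h
      have h4 : q ^ 3 + 1 = (q - 1) * (q ^ 2 + q + 1) + 2 := by
        obtain ⟨n, rfl⟩ : ∃ n, q = n + 1 := ⟨q - 1, by omega⟩
        rw [Nat.add_sub_cancel]; ring
      rw [h4] at h2
      have h5 := (Nat.dvd_add_right (dvd_mul_of_dvd_left h _)).1 h2
      exact hr2 ((Nat.prime_dvd_prime_iff_eq hr Nat.prime_two).1 h5)
    intro f hf ⟨y, hy⟩ hP
    have hk := toPt_mem_L hF y
    have h4 : tp y (none : Om σ) = y := U3One.toPt_apply y
    have h5 : (tp y)⁻¹ * f * tp y = 1 := by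
      refine key hF hq' h1 h3 (mul_mem (mul_mem (inv_mem (L_le_famStab hk)) hf) (L_le_famStab hk)) ?_ ?_
      · show (tp y)⁻¹ (f (tp y none)) = none
        rw [h4, hy]
        nth_rewrite 2 [← h4]
        exact (tp y).symm_apply_apply _
      · intro m hm
        have h5 := (hP (tp y * m * (tp y)⁻¹) (mul_mem (mul_mem hk hm) (inv_mem hk))).conj (tp y)⁻¹
        have e : (tp y)⁻¹ * (f * (tp y * m * (tp y)⁻¹ * f * (tp y * m * (tp y)⁻¹)⁻¹)) * (tp y)⁻¹⁻¹ =
            (tp y)⁻¹ * f * tp y * (m * ((tp y)⁻¹ * f * tp y) * m⁻¹) := by group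
        rwa [e] at h5
    have e : f = tp y * ((tp y)⁻¹ * f * tp y) * (tp y)⁻¹ := by group
    rw [e, h5]
    group
  · exact (pn_u3 σ hσ hq hr2 h1 h2).pf

end Cfsg.Agent.H521.PFU3
end

-- part: H594/TypedAE
section
/-!
# `PSL_{n+1}(F)` and the Chevalley groups `D.group K` are typed, all characteristics (helper594, for the AA-engine)
-/

set_option autoImplicit false
set_option linter.unusedSectionVars false

namespace Cfsg.Agent.H594.TypedAE

open Matrix CoxeterSystem Cfsg.Agent.ChevalleyStructure.CoxeterGeom Cfsg.Agent.Tits.Roots Cfsg.Agent.Tits.Core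
  Cfsg.Agent.Tits.RootComb Cfsg.Agent.Nodes.Comb Cfsg.Agent.Nodes.Reps Cfsg.Agent.Nodes.BNOf Cfsg.Agent.Nodes.BNOf.RGD
open Cfsg.Agent.Nodes.RGDLib Cfsg.Agent.FixBN Cfsg.Agent.FixBN.FieldRGD Cfsg.Agent.H460.Typed
open scoped MatrixGroups

section psl

open Cfsg.Agent.Nodes.RootsA Cfsg.Agent.Nodes.RGDTypeA
open Cfsg.Agent.LieRecognition.BNCox (cA)
open Cfsg.Agent.LieClassical.SLGen
open Cfsg.Agent.TitsThree.KSideA (tv tv_of_ne tv_add tv_zero tv_neg)
open Cfsg.Agent.FixBN.PslGood (key isSolvable_T)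

end psl

section sl

variable {I W Y : Type*} [Fintype I] [DecidableEq I] [Group W] [Group Y] {M : CoxeterMatrix I}
variable {cs : CoxeterSystem M W} {A : I → I → ℤ} {h : IsCartan M A} {p : ℕ} {T : Subgroup Y} {n : I → Y}
  {X : (I → ℤ) → Subgroup Y} [Finite W]

/-- A homomorphism of `SL(2, F)` onto the rank one group of the node `i`, normalised, all characteristics. -/
theorem fieldNode_of_sl (R : RGD cs h p T n X) (hgen : RGD.B cs h T X ⊔ NN cs R.nsys = ⊤) {i : I} {F : Type}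
    [Field F] (φ : SL(2, F) →* Y) (b : F) (hb : b ≠ 0) (hr : ∀ y, y ∈ X (sr i) ↔ ∃ a, φ (uu a) = y)
    (hi : ∀ a, φ (uu a) = 1 → a = 0) (hd : ∀ c hc, φ (dd c hc) ∈ RGD.B cs h T X) (hw : φ (ww b hb) = n i) :
    Nonempty (FieldNode (R.bnPair hgen) (Sup X (Pos cs h)) (n i) (Sup X (PosNe cs h i)) F) := by
  refine ⟨fieldNode_of_rgd R hgen i (fun a => φ (uu (b * a))) (fun a c => ?_) (fun y => ?_) (fun a ha => ?_)
    (fun a ha => ?_)⟩
  · rw [mul_add, uu_add, map_mul]
  · rw [hr]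
    constructor
    · rintro ⟨a, rfl⟩
      exact ⟨b⁻¹ * a, by rw [mul_inv_cancel_left₀ hb]⟩
    · rintro ⟨a, rfl⟩
      exact ⟨_, rfl⟩
  · exact (mul_eq_zero.1 (hi _ ha)).resolve_left hb
  · show (φ (uu (b * -a⁻¹)) * n i)⁻¹ * (n i * φ (uu (b * a)) * n i) ∈ _
    rw [← hw, ← map_mul, ← map_mul, ← map_mul, ← map_inv, ← map_mul, inv_key ha hb, map_mul]
    exact mul_mem (hd _ _) (U_le_B (mem_U ((hr _).2 ⟨_, rfl⟩)))

end sl

section chev

open Cfsg.Lie Cfsg.Agent.ChevalleyStructure Cfsg.Agent.ChevalleyStructure.Elts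
  Cfsg.Agent.ChevalleyStructure.NPerm Cfsg.Agent.ChevalleyStructure.CoxeterGeomTypes Cfsg.Agent.Nodes.RGDChev
open Cfsg.Agent.FixBN.ChevGood (isSolvable_T)

variable {D : ChevalleyDatum} {l : ℕ} {M : CoxeterMatrix (Fin l)}

/-- **The Chevalley groups.** -/
theorem typed_chev (hp : IsType D l M) (K : Type) [Field K] [Finite K] (p : ℕ) [CharP K p] :
    HasTyped p ↥(D.group K) M (fun _ => Nat.card K) := by
  have hpp : p.Prime := CharP.char_is_prime K p
  have : Fact p.Prime := ⟨hpp⟩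
  have : Finite M.Group := finite_W hp M.toCoxeterSystem
  refine ⟨_, hp.isCartan, _, _, _, inferInstance, rgd (K := K) hp M.toCoxeterSystem p,
    gen hp M.toCoxeterSystem p, isSolvable_T K hp, fun i => ?_⟩
  refine ⟨_, NodeRGD.node _ _ i, Or.inl ⟨K, inferInstance, inferInstance, rfl, ?_⟩⟩
  have h := simple_lt hp.inList (lt_rank hp i)
  obtain ⟨φ, hφ, hφ'⟩ := Cfsg.Agent.S1030.result (F := K) D hp.inList (D.simple i) h
  have hu : ∀ a, φ (uu a) = xG hp.inList (D.simple i) a := fun a => Units.ext ((hφ' (uu a) a).1 rfl)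
  have hv : ∀ a, φ (vv a) = xG hp.inList (D.neg (D.simple i)) a := fun a => Units.ext ((hφ' (vv a) a).2 rfl)
  have hw : ∀ b (hb : b ≠ 0), φ (ww b hb) = nG hp.inList (D.simple i) b := by
    intro b hb
    have h1 : ww b hb = uu b * (vv (-b⁻¹) * uu b) := by
      apply Subtype.ext
      show !![0, b; -b⁻¹, 0] = !![1, b; 0, 1] * (!![1, 0; -b⁻¹, 1] * !![1, b; 0, 1])
      rw [Matrix.mul_fin_two, Matrix.mul_fin_two]
      congr 1
      ext i j
      (revert i j; simp [hb, _root_.Fin.forall_fin_succ])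
    rw [h1, map_mul, map_mul, hu, hv, nG_def]
  have hd : ∀ c (hc : c ≠ 0), φ (dd c hc) = hG hp.inList (D.simple i) c := by
    intro c hc
    have h1 : dd c hc = ww c hc * ww (-1) (neg_ne_zero.2 one_ne_zero) := by
      apply Subtype.ext
      show !![c, 0; 0, c⁻¹] = !![0, c; -c⁻¹, 0] * !![0, -1; -(-1)⁻¹, 0]
      rw [Matrix.mul_fin_two]
      congr 1
      ext i j
      (revert i j; simp [_root_.Fin.forall_fin_succ])
    rw [h1, map_mul, hw, hw, hG_def]
  have hmem : ∀ g, φ g ∈ D.group K := by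
    intro g
    have h1 : φ g ∈ D.rootSubgroup K (D.simple i) ⊔ D.rootSubgroup K (D.neg (D.simple i)) := by
      rw [← hφ]; exact ⟨g, rfl⟩
    rw [← XV_sr hp, ← XV_neg_sr hp] at h1
    exact sup_le (XV_le_group hp _) (XV_le_group hp _) h1
  refine fieldNode_of_sl _ _ (φ.codRestrict (D.group K) hmem) 1 one_ne_zero ?_ ?_ ?_ ?_
  · rintro ⟨y, hy⟩
    rw [Subgroup.mem_subgroupOf, XV_sr hp]
    show y ∈ D.rootSubgroup K (D.simple i) ↔ _
    rw [mem_rootSubgroup_iff hp.inList]
    constructor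
    · rintro ⟨t, rfl⟩
      exact ⟨t, Subtype.ext (hu t)⟩
    · rintro ⟨t, ht⟩
      have h1 : φ (uu t) = y := congrArg Subtype.val ht
      exact ⟨t, by rw [← h1, hu]⟩
  · intro a ha
    have h1 : φ (uu a) = 1 := congrArg Subtype.val ha
    rw [hu] at h1
    have h3 : xG hp.inList (D.simple i) a = xG hp.inList (D.simple i) 0 := by rw [h1, xG_zero]
    exact xG_injective hp.inList h h3
  · intro c hc
    refine T_le_B ?_
    rw [Subgroup.mem_subgroupOf]
    show φ (dd c hc) ∈ _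
    rw [hd]
    exact hG_mem_diagonal hp.inList h hc
  · apply Subtype.ext
    exact hw 1 one_ne_zero

end chev

end Cfsg.Agent.H594.TypedAE
end

-- part: H826/AASmall/Gen
section
/-!
# The small groups of the `AA`-problem, general lemmas (helper826, for S3833, S3834, S3840)

* `exists_conj_mem` : an element of order `p` has a conjugate in every subgroup of index prime to `p`;
* `false_of_prod` : `M × ⟨t⟩ ≤ K` of index prime to `p`, `M` without solvable normal subgroup, `orderOf t = p`, and a conjugate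
  of `t` normalising but not centralising `M`: no element of order `p` has `RC`.
-/

set_option autoImplicit false

namespace Cfsg.Agent.H826.AASmall

open Subgroup Cfsg Cfsg.Agent.H459.Rad Cfsg.Agent.H460.AA

variable {K : Type*} [Group K] [Finite K]

omit [Finite K] in
/-- an element of order `p` has a conjugate in every subgroup of index prime to `p` -/
theorem exists_conj_mem {p : ℕ} [hp : Fact p.Prime] {H : Subgroup K} (hi : ¬ p ∣ H.index) {a : K}
    (ha : orderOf a = p) : ∃ g : K, g * a * g⁻¹ ∈ H := by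
  have h1 : IsPGroup p (zpowers a) := IsPGroup.of_card (n := 1) (by rw [Nat.card_zpowers, ha, pow_one])
  have h2 : (MulAction.fixedPoints (zpowers a) (K ⧸ H)).Nonempty := by
    refine h1.nonempty_fixed_point_of_prime_not_dvd_card (α := K ⧸ H) ?_
    exact hi
  obtain ⟨y, hy⟩ := h2
  obtain ⟨g, rfl⟩ := QuotientGroup.mk_surjective y
  refine ⟨g⁻¹, ?_⟩
  have h3 := hy ⟨a, mem_zpowers a⟩
  have h4 : ((a * g : K) : K ⧸ H) = (g : K ⧸ H) := h3
  rw [QuotientGroup.eq] at h4
  have h5 := H.inv_mem h4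
  rw [inv_inv]
  have e : ((a * g)⁻¹ * g)⁻¹ = g⁻¹ * a * g := by group
  rwa [e] at h5

/-- a normalising element with `RC` centralises a subgroup without solvable normal subgroups -/
theorem comm_of_norm {a : K} (h : RC (MulAut.conj a)) {M : Subgroup K} (hM : M ≠ ⊤) (hr : solvableRadical M = ⊥)
    (hn : ∀ m ∈ M, a * m * a⁻¹ ∈ M) : ∀ m ∈ M, a * m = m * a := by
  intro m hm
  have h1 := h.eq_of_rad_eq_bot hM (fun m hm => by rw [MulAut.conj_apply]; exact hn m hm) hr hm
  rw [MulAut.conj_apply, mul_inv_eq_iff_eq_mul] at h1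
  exact h1

/-- **Main lemma** -/
theorem false_of_prod {p : ℕ} [hp : Fact p.Prime] {M : Subgroup K} (hM : M ≠ ⊤) (hr : solvableRadical M = ⊥)
    {t : K} (ht : orderOf t = p) (hc : ∀ m ∈ M, t * m = m * t) {N : ℕ} (hcard : Nat.card K = p * Nat.card M * N)
    (hN : ¬ p ∣ N) {s : K} (hs : ∀ m ∈ M, (s * t * s⁻¹) * m * (s * t * s⁻¹)⁻¹ ∈ M) {m₀ : K} (hm₀ : m₀ ∈ M)
    (hne : (s * t * s⁻¹) * m₀ ≠ m₀ * (s * t * s⁻¹)) {a : K} (ha : orderOf a = p) (h : RC (MulAut.conj a)) : False := by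
  -- the centre of `M` is trivial
  have hZ : ∀ z ∈ M, (∀ m ∈ M, z * m = m * z) → z = 1 := by
    intro z hz hzm
    have h1 : (center M : Subgroup M) ≤ solvableRadical M :=
      le_rad inferInstance (Group.isSolvable_of_comm fun a b => Subtype.ext (mem_center_iff.1 b.2 a))
    rw [hr] at h1
    have h2 : (⟨z, hz⟩ : M) ∈ center M := by
      rw [mem_center_iff]
      intro m
      exact Subtype.ext (hzm m m.2).symm
    have h3 := h1 h2
    rw [mem_bot] at h3
    exact congrArg Subtype.val h3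
  have hct : ∀ z ∈ zpowers t, ∀ m ∈ M, z * m = m * z := by
    intro z hz m hm
    obtain ⟨i, rfl⟩ := mem_zpowers_iff.1 hz
    exact (Commute.zpow_left (hc m hm : Commute t m) i)
  have hdis : Disjoint M (zpowers t) := by
    rw [disjoint_iff_inf_le]
    intro z hz
    rw [mem_bot]
    exact hZ z hz.1 (hct z hz.2)
  let f : M × zpowers t →* K := MonoidHom.noncommCoprod M.subtype (zpowers t).subtype fun m z => (hct z z.2 m m.2).symm
  have hfa : ∀ x, f x = x.1 * x.2 := fun x => rfl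
  have hf : Function.Injective f := by
    rw [injective_iff_map_eq_one]
    rintro ⟨m, z⟩ h1
    rw [hfa] at h1
    have h2 : (m : K) = (z : K)⁻¹ := eq_inv_of_mul_eq_one_left h1
    have h3 : (m : K) ∈ M ⊓ zpowers t := ⟨m.2, by rw [h2]; exact (zpowers t).inv_mem z.2⟩
    rw [hdis.eq_bot, mem_bot] at h3
    have h4 : (z : K) = 1 := by rw [h3, one_mul] at h1; exact h1
    exact Prod.ext (Subtype.ext h3) (Subtype.ext h4)
  have hcf : Nat.card f.range = Nat.card M * p := by
    rw [← Nat.card_congr (MonoidHom.ofInjective hf).toEquiv, Nat.card_prod, Nat.card_zpowers, ht]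
  have hidx : f.range.index = N := by
    have h1 := f.range.card_mul_index
    rw [hcf, hcard] at h1
    have h2 : 0 < Nat.card M * p := Nat.mul_pos Nat.card_pos hp.out.pos
    refine Nat.eq_of_mul_eq_mul_left h2 ?_
    rw [h1]; ring
  obtain ⟨g, hg⟩ := exists_conj_mem (K := K) (p := p) (H := f.range) (by rw [hidx]; exact hN) ha
  obtain ⟨⟨m, z⟩, hmz⟩ := hg
  rw [hfa] at hmz
  set b : K := g * a * g⁻¹ with hb
  have hbo : orderOf b = p := by
    rw [← ha]; exact orderOf_injective (MulAut.conj g).toMonoidHom (MulAut.conj g).injective a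
  have hbR : RC (MulAut.conj b) := RC_conj h g
  have hbn : ∀ k ∈ M, b * k * b⁻¹ ∈ M := by
    intro k hk
    rw [← hmz]
    have h1 : (m : K) * (z : K) * k * ((m : K) * (z : K))⁻¹ = (m : K) * k * (m : K)⁻¹ := by
      have h2 := hct z z.2 k hk
      calc (m : K) * (z : K) * k * ((m : K) * (z : K))⁻¹ = (m : K) * ((z : K) * k) * (z : K)⁻¹ * (m : K)⁻¹ := by group
        _ = (m : K) * k * (m : K)⁻¹ := by rw [h2]; group
    rw [h1]
    exact M.mul_mem (M.mul_mem m.2 hk) (M.inv_mem m.2)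
  have hbc := comm_of_norm hbR hM hr hbn
  -- `m = 1`
  have hm1 : (m : K) = 1 := by
    refine hZ m m.2 fun k hk => ?_
    have h1 := hbc k hk
    rw [← hmz] at h1
    have h2 := hct z z.2 k hk
    have h3 : (m : K) * k * (z : K) = k * (m : K) * (z : K) := by
      calc (m : K) * k * (z : K) = (m : K) * ((z : K) * k) := by rw [h2]; group
        _ = k * ((m : K) * (z : K)) := by rw [← h1]; group
        _ = _ := by group
    exact mul_right_cancel h3
  rw [hm1, one_mul] at hmz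
  -- `t` is a power of `b`
  have hbz : b ∈ zpowers t := by rw [← hmz]; exact z.2
  have htb : t ∈ zpowers b := by
    have h1 : zpowers b = zpowers t := by
      apply Subgroup.eq_of_le_of_card_ge
      · rw [zpowers_le]; exact hbz
      · rw [Nat.card_zpowers, Nat.card_zpowers, ht, hbo]
    rw [h1]; exact mem_zpowers t
  -- the conjugate
  have hR := RC_conj hbR s
  have h1 : ∀ k ∈ M, (s * b * s⁻¹) * k * (s * b * s⁻¹)⁻¹ ∈ M := by
    have h2 : s * b * s⁻¹ ∈ zpowers (s * t * s⁻¹) := by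
      obtain ⟨i, hi⟩ := mem_zpowers_iff.1 hbz
      refine mem_zpowers_iff.2 ⟨i, ?_⟩
      rw [← hi, conj_zpow]
    -- the set of elements normalising the finite group `M`
    let S : Subgroup K := normalizer (M : Set K)
    have h3 : s * t * s⁻¹ ∈ S := by
      have h4 : M.map (MulAut.conj (s * t * s⁻¹)).toMonoidHom = M := by
        apply Subgroup.eq_of_le_of_card_ge
        · rintro _ ⟨k, hk, rfl⟩
          exact hs k hk
        · exact (Nat.card_congr (M.equivMapOfInjective _ (MulAut.conj (s * t * s⁻¹)).injective).toEquiv).le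
      show s * t * s⁻¹ ∈ normalizer (M : Set K)
      rw [mem_normalizer_iff]
      intro k
      refine ⟨hs k, fun hk => ?_⟩
      rw [← h4] at hk
      obtain ⟨l, hl, h5⟩ := hk
      have h6 : l = k := (MulAut.conj (s * t * s⁻¹)).injective h5
      rw [← h6]; exact hl
    have h5 : s * b * s⁻¹ ∈ S := (zpowers_le.2 h3) h2
    intro k hk
    exact (mem_normalizer_iff.1 h5 k).1 hk
  have h2 := comm_of_norm hR hM hr h1
  apply hne
  have h3 : s * t * s⁻¹ ∈ zpowers (s * b * s⁻¹) := by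
    obtain ⟨i, hi⟩ := mem_zpowers_iff.1 htb
    refine mem_zpowers_iff.2 ⟨i, ?_⟩
    rw [← hi, conj_zpow]
  obtain ⟨i, hi⟩ := mem_zpowers_iff.1 h3
  rw [← hi]
  exact Commute.zpow_left (h2 m₀ hm₀ : Commute (s * b * s⁻¹) m₀) i

end Cfsg.Agent.H826.AASmall
end

-- part: H826/AASmall/Om
section
/-!
# `Ω⁻₆(2)` and `SU₄(2)` are simple of order 25920 (helper826)
-/

set_option autoImplicit false

namespace Cfsg.Agent.H826.AASmall

open Subgroup Cfsg Cfsg.Agent.H459.Rad Cfsg.Agent.H460.AA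

/-- the form -/
abbrev Q6 : ((Fin 2 ⊕ Fin 2) ⊕ Fin 2 → ZMod 2) → ZMod 2 := quadFormMinus 2 (ZMod 2) 1 1

theorem card_psu4 {F : Type*} [Field F] [Fintype F] (hF : Fintype.card F = 4) : Nat.card (PSU 4 F 2) = 25920 := by
  have h1 := Cfsg.Agent.S0280.result (q := 2) (F := F) (by rw [hF]; norm_num) 4 (by norm_num)
  norm_num only [Finset.prod_range_succ, Nat.even_add_one, _root_.one_mul, _root_.Finset.range_one, _root_.Finset.prod_singleton, _root_.ite_true, _root_.ite_false] at h1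
  omega

theorem card_su4 {F : Type*} [Field F] [Fintype F] (hF : Fintype.card F = 4) : Nat.card (SU 4 F 2) = 25920 := by
  have h1 := Cfsg.Agent.S0278.result (q := 2) (F := F) (by rw [hF]; norm_num) 4 (by norm_num)
  norm_num only [Finset.prod_range_succ, Nat.even_add_one, _root_.Finset.range_one, _root_.Finset.prod_singleton, _root_.ite_true, _root_.ite_false] at h1
  omega

theorem simple_psu4 {F : Type*} [Field F] [Fintype F] (hF : Fintype.card F = 4) : IsSimpleGroup (PSU 4 F 2) :=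
  Cfsg.Agent.S0283.result (q := 2) (by rw [hF]; norm_num) 4 (by norm_num) (by norm_num)

/-- a surjection between groups of the same finite order is an isomorphism -/
noncomputable def equivOfSurj {G H : Type*} [Group G] [Group H] [Finite G] (f : G →* H) (hf : Function.Surjective f)
    (h : Nat.card G = Nat.card H) : G ≃* H :=
  MulEquiv.ofBijective f ((Nat.bijective_iff_surjective_and_card f).2 ⟨hf, h⟩)

theorem not_solvable_of_card {G : Type*} [Group G] [Finite G] [hs : IsSimpleGroup G] (h : ¬ (Nat.card G).Prime) :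
    ¬ Group.IsSolvable G := by
  intro h1
  apply h
  have h2 : ∀ a b : G, a * b = b * a := (IsSimpleGroup.comm_iff_isSolvable).2 h1
  let _ : CommGroup G := { (inferInstance : Group G) with mul_comm := h2 }
  exact IsSimpleGroup.prime_card

theorem rad_of_card {G : Type*} [Group G] [Finite G] [hs : IsSimpleGroup G] (h : ¬ (Nat.card G).Prime) :
    solvableRadical G = ⊥ := rad_eq_bot_of_simple (not_solvable_of_card h)

theorem su4_equiv {F : Type*} [Field F] [Fintype F] (hF : Fintype.card F = 4) : Nonempty (SU 4 F 2 ≃* PSU 4 F 2) :=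
  ⟨equivOfSurj (QuotientGroup.mk' (center (SU 4 F 2))) (QuotientGroup.mk'_surjective _)
    (by rw [card_su4 hF, card_psu4 hF])⟩

theorem rad_congr {G H : Type*} [Group G] [Group H] [Finite G] [Finite H] (e : G ≃* H) (h : solvableRadical H = ⊥) :
    solvableRadical G = ⊥ := by
  rw [eq_bot_iff]
  intro x hx
  have h1 := map_rad_le (f := e.toMonoidHom) e.surjective hx
  rw [h, mem_bot] at h1
  rw [mem_bot]
  exact e.injective (by rw [map_one]; exact h1)

theorem rad_psu4 {F : Type*} [Field F] [Fintype F] (hF : Fintype.card F = 4) : solvableRadical (PSU 4 F 2) = ⊥ := by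
  have := simple_psu4 hF
  exact rad_of_card (by rw [card_psu4 hF]; norm_num)

theorem rad_su4 {F : Type*} [Field F] [Fintype F] (hF : Fintype.card F = 4) : solvableRadical (SU 4 F 2) = ⊥ := by
  obtain ⟨e⟩ := su4_equiv hF
  exact rad_congr e (rad_psu4 hF)

theorem rad_omega : solvableRadical (Omega (ZMod 2) Q6) = ⊥ := by
  let _ : Fintype (GaloisField 2 2) := Fintype.ofFinite _
  have hF : Fintype.card (GaloisField 2 2) = 4 := by
    rw [← Nat.card_eq_fintype_card, GaloisField.card 2 2 (by norm_num)]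
    norm_num
  obtain ⟨e⟩ := Cfsg.Agent.S0303.result (F := ZMod 2) (K := GaloisField 2 2) (q := 2) (ZMod.card 2) (by rw [hF]; norm_num) 1 1
    Cfsg.Agent.LargeExtra.Cards.aniso
  have h1 : Nat.card (POmega (ZMod 2) Q6) = 25920 := by rw [Nat.card_congr e.toEquiv, card_psu4 hF]
  have e2 : Omega (ZMod 2) Q6 ≃* POmega (ZMod 2) Q6 :=
    equivOfSurj (QuotientGroup.mk' (center (Omega (ZMod 2) Q6))) (QuotientGroup.mk'_surjective _)
      (by rw [h1]; exact Cfsg.Agent.LargeExtra.Cards.card_omega_minus_six)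
  exact rad_congr (e2.trans e) (rad_psu4 hF)

/-- the radical of the range of an injective homomorphism -/
theorem rad_range {G H : Type*} [Group G] [Group H] [Finite G] [Finite H] (f : G →* H) (hf : Function.Injective f)
    (h : solvableRadical G = ⊥) : solvableRadical f.range = ⊥ :=
  rad_congr (MonoidHom.ofInjective hf).symm h

end Cfsg.Agent.H826.AASmall
end

-- part: H826/AASmall/UFive
section
/-!
# `U₅(2)` (helper826)

`M = SU₄(2)`, `t = diag(w,w,w,w,w²)`: `M × ⟨t⟩` has index 176, and the conjugate `diag(w²,w,w,w,w)` of `t` normalises `M`.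
-/

set_option autoImplicit false

namespace Cfsg.Agent.H826.AASmall

open Subgroup Cfsg Matrix Cfsg.Agent.H459.Rad Cfsg.Agent.H460.AA
open Cfsg.Agent.LieClassical.HermBasic Cfsg.Agent.LieClassical.HermSiegel Cfsg.Agent.LieClassical.HermGen
open Cfsg.Agent.KFacts.Unit

section gen

variable {F : Type*} [Field F] {n q : ℕ}

/-- diagonal elements -/
def dg (d : Fin n → F) (h : ∀ i, d i * d i ^ q = 1) (hd : ∏ i, d i = 1) : SU n F q :=
  mkSU (diagonal d) (by rw [det_diagonal, hd]) fun u v => by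
    rw [herm_def, herm_def]
    refine Finset.sum_congr rfl fun i _ => ?_
    rw [mulVec_diagonal, mulVec_diagonal, mul_pow]
    calc d i * u i * (d i ^ q * v i ^ q) = (d i * d i ^ q) * (u i * v i ^ q) := by ring
      _ = _ := by rw [h, one_mul]

theorem perm_mulVec (σ : Equiv.Perm (Fin n)) (v : Fin n → F) :
    ((1 : Matrix (Fin n) (Fin n) F).submatrix σ id) *ᵥ v = v ∘ σ := by
  funext i
  simp only [Matrix.mulVec, dotProduct, Matrix.one_apply, _root_.Matrix.submatrix_apply, _root_.id_eq, _root_.ite_mul, _root_.one_mul, _root_.MulZeroClass.zero_mul, _root_.Finset.sum_ite_eq, _root_.Finset.mem_univ, ↓ _root_.reduceIte, _root_.Function.comp_apply]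

/-- permutation matrices -/
def pm (h2 : (2 : F) = 0) (σ : Equiv.Perm (Fin n)) : SU n F q :=
  mkSU ((1 : Matrix (Fin n) (Fin n) F).submatrix σ id) (by
    have h1 : (-1 : F) = 1 := by
      rw [neg_eq_iff_add_eq_zero, one_add_one_eq_two, h2]
    rw [det_permute, det_one, mul_one]
    rcases Int.units_eq_one_or (Equiv.Perm.sign σ) with h | h <;> rw [h] <;> simp [h1]) fun u v => by
    rw [herm_def, herm_def, perm_mulVec, perm_mulVec]
    exact Equiv.sum_comp σ fun i => u i * v i ^ q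

theorem act_pm (h2 : (2 : F) = 0) (σ : Equiv.Perm (Fin n)) (v : Fin n → F) :
    act (pm h2 σ : SU n F q) v = v ∘ σ := perm_mulVec σ v

theorem act_dg (d : Fin n → F) (h : ∀ i, d i * d i ^ q = 1) (hd : ∏ i, d i = 1) (v : Fin n → F) (i : Fin n) :
    act (dg d h hd) v i = d i * v i := mulVec_diagonal _ _ _

/-- conjugation of a diagonal element by a permutation -/
theorem pm_dg (h2 : (2 : F) = 0) (σ : Equiv.Perm (Fin n)) (d : Fin n → F) (h : ∀ i, d i * d i ^ q = 1)
    (hd : ∏ i, d i = 1) : (pm h2 σ : SU n F q) * dg d h hd * (pm h2 σ)⁻¹ =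
      dg (d ∘ σ) (fun i => h _) (by rw [← hd]; exact Equiv.prod_comp σ d) := by
  rw [mul_inv_eq_iff_eq_mul]
  apply ext_act
  intro v
  rw [act_mul, act_mul]
  funext i
  rw [act_dg, act_pm, act_pm, Function.comp_apply, act_dg]
  rfl

end gen

section five

variable {F : Type*} [Field F] [Fintype F] (hF : Fintype.card F = 4)

include hF

omit [Field F] in
theorem hF' : Fintype.card F = 2 ^ 2 := by rw [hF]; norm_num

theorem two_eq : (2 : F) = 0 := by
  have h1 : (Fintype.card F : F) = 0 := FiniteField.cast_card_eq_zero F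
  rw [hF] at h1
  have h3 : (2 : F) * 2 = 0 := by
    have : ((4 : ℕ) : F) = 2 * 2 := by norm_num
    rw [← this]; exact h1
  rcases mul_eq_zero.1 h3 with h | h <;> exact h

theorem exists_w : ∃ w : F, w * w ^ 2 = 1 ∧ w ^ 2 ≠ w ∧ w ≠ 1 := by
  classical
  have h1 : ∃ w : F, w ≠ 0 ∧ w ≠ 1 := by
    by_contra h
    push Not at h
    have h2 : (Finset.univ : Finset F) ⊆ {0, 1} := by
      intro x _
      by_cases hx : x = 0
      · simp only [hx, _root_.Finset.mem_insert, _root_.Finset.mem_singleton, _root_.zero_ne_one, _root_.or_false]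
      · simp only [h x hx, _root_.Finset.mem_insert, _root_.one_ne_zero, _root_.Finset.mem_singleton, _root_.or_true]
    have h3 := Finset.card_le_card h2
    rw [Finset.card_univ, hF] at h3
    have h4 : ({0, 1} : Finset F).card ≤ 2 := Finset.card_le_two
    omega
  obtain ⟨w, h0, h1⟩ := h1
  have h3 : w ^ 4 = w := by
    have := FiniteField.pow_card w
    rwa [hF] at this
  refine ⟨w, ?_, ?_, h1⟩
  · have : w * (w * w ^ 2) = w * 1 := by
      rw [mul_one]
      calc w * (w * w ^ 2) = w ^ 4 := by ring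
        _ = w := h3
    exact mul_left_cancel₀ h0 this
  · intro h2
    apply h1
    have : w * w = w * 1 := by rw [mul_one, ← pow_two, h2]
    exact mul_left_cancel₀ h0 this

theorem card_su5 : Nat.card (SU 5 F 2) = 13685760 := by
  have h1 := Cfsg.Agent.S0278.result (q := 2) (F := F) (hF' hF) 5 (by norm_num)
  norm_num only [Finset.prod_range_succ, Nat.even_add_one, _root_.Finset.range_one, _root_.Finset.prod_singleton, _root_.ite_true, _root_.ite_false] at h1
  omega

theorem card_psu5 : Nat.card (PSU 5 F 2) = 13685760 := by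
  have h1 := Cfsg.Agent.S0280.result (q := 2) (F := F) (hF' hF) 5 (by norm_num)
  norm_num only [Finset.prod_range_succ, Nat.even_add_one, _root_.one_mul, _root_.Finset.range_one, _root_.Finset.prod_singleton, _root_.ite_true, _root_.ite_false] at h1
  omega

/-- **`SU₅(2)`, elements** -/
theorem su5_elt {a : SU 5 F 2} (ha : orderOf a = 3) (h : RC (MulAut.conj a)) : False := by
  have hp : Fact (Nat.Prime 3) := ⟨Nat.prime_three⟩
  have h2 := two_eq hF
  obtain ⟨w, hw, hw2, hw1⟩ := exists_w hF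
  have hww : w ^ 2 * (w ^ 2) ^ 2 = 1 := by
    calc w ^ 2 * (w ^ 2) ^ 2 = (w * w ^ 2) * (w * w ^ 2) := by ring
      _ = 1 := by rw [hw, one_mul]
  let d : Fin 5 → F := ![w, w, w, w, w ^ 2]
  have hd : ∀ i, d i * d i ^ 2 = 1 := by
    intro i
    fin_cases i
    · exact hw
    · exact hw
    · exact hw
    · exact hw
    · exact hww
  have hd1 : ∏ i, d i = 1 := by
    rw [Fin.prod_univ_five]
    show w * w * w * w * w ^ 2 = 1
    calc w * w * w * w * w ^ 2 = (w * w ^ 2) * (w * w ^ 2) := by ring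
      _ = 1 := by rw [hw, one_mul]
  let t : SU 5 F 2 := dg d hd hd1
  let f : SU 4 F 2 →* SU 5 F 2 := emb 1
  have hf : Function.Injective f := emb_injective
  let s : SU 5 F 2 := pm h2 (Equiv.swap 0 4)
  have hst : s * t * s⁻¹ = dg (d ∘ Equiv.swap 0 4) (fun i => hd _)
      (by rw [← hd1]; exact Equiv.prod_comp (Equiv.swap 0 4) d) := pm_dg h2 _ d hd hd1
  have ht1 : t ≠ 1 := by
    intro h1
    have h3 := congrArg (fun g => act g (Pi.single 0 1) 0) h1
    simp only [t, act_dg, act_one, Pi.single_eq_same, mul_one] at h3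
    exact hw1 h3
  have ht : orderOf t = 3 := by
    refine orderOf_eq_prime ?_ ht1
    apply ext_act
    intro v
    funext i
    rw [pow_succ, pow_two, act_mul, act_mul, act_one, act_dg, act_dg, act_dg]
    calc d i * (d i * (d i * v i)) = (d i * d i ^ 2) * v i := by ring
      _ = v i := by rw [hd, one_mul]
  have hcM : Nat.card f.range = 25920 := by
    rw [← Nat.card_congr (MonoidHom.ofInjective hf).toEquiv, card_su4 hF]
  have hlast : ∀ i : Fin 5, 4 ≤ i.val → i = 4 := by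
    intro i hi
    apply Fin.ext
    have := i.2
    show i.val = 4
    omega
  have hmem : ∀ g : SU 5 F 2, g ∈ f.range ↔ act g (Pi.single 4 1) = Pi.single 4 1 := by
    intro g
    constructor
    · rintro ⟨A, rfl⟩
      exact emb_mem (d := 1) A 4 (by decide)
    · intro hg
      have h1 : g ∈ (fixGrp 4 : Subgroup (SU (4 + 1) F 2)) := by
        intro i hi
        have := hlast i hi
        rw [this]
        exact hg
      obtain ⟨A, hA⟩ := exists_emb (m := 4) (d := 1) (hF' hF) h1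
      exact ⟨A, hA⟩
  -- diagonal elements act on the last vector
  have hdl : ∀ (d' : Fin 5 → F) (h1 : ∀ i, d' i * d' i ^ 2 = 1) (h3 : ∏ i, d' i = 1) (c : F),
      act (dg d' h1 h3) (Pi.single 4 c) = Pi.single 4 (d' 4 * c) := by
    intro d' h1 h3 c
    funext i
    rw [act_dg]
    by_cases hi : i = 4
    · subst hi; simp
    · simp [hi]
  have hnorm : ∀ (d' : Fin 5 → F) (h1 : ∀ i, d' i * d' i ^ 2 = 1) (h3 : ∏ i, d' i = 1), ∀ m ∈ f.range,
      dg d' h1 h3 * m * (dg d' h1 h3)⁻¹ ∈ f.range := by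
    intro d' h1 h3 m hm
    rw [hmem] at hm ⊢
    set D := dg d' h1 h3 with hD
    have h0 : d' 4 ≠ 0 := by
      intro h0
      have := h1 4
      rw [h0, zero_mul] at this
      exact zero_ne_one this
    have h4 : act D⁻¹ (Pi.single 4 1) = Pi.single 4 (d' 4)⁻¹ := by
      apply act_injective D
      rw [act_act_inv, hdl, mul_inv_cancel₀ h0]
    have h5 : (Pi.single 4 (d' 4)⁻¹ : Fin 5 → F) = (d' 4)⁻¹ • Pi.single 4 1 := by
      rw [← Pi.single_smul, smul_eq_mul, mul_one]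
    rw [act_mul, act_mul, h4, h5, act_smul, hm, ← h5, hdl, mul_inv_cancel₀ h0]
  refine false_of_prod (p := 3) (M := f.range) (t := t) (N := 176) (s := s) (m₀ := pm h2 (Equiv.swap 0 1)) ?_ ?_ ht ?_ ?_
    (by norm_num) ?_ ?_ ?_ ha h
  · intro h1
    have h3 := hcM
    rw [h1, card_top, card_su5 hF] at h3
    omega
  · exact rad_range f hf (rad_su4 hF)
  · rintro _ ⟨A, rfl⟩
    apply ext_act
    intro v
    rw [act_mul, act_mul]
    apply ext_fin (m := 4) (d := 1)
    · intro i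
      have h1 : ∀ i : Fin 4, d (Fin.castAdd 1 i) = w := by intro i; fin_cases i <;> rfl
      rw [act_dg, h1]
      show w * act (emb 1 A) v (Fin.castAdd 1 i) = act (emb 1 A) (act t v) (Fin.castAdd 1 i)
      rw [act_emb_c, act_emb_c]
      have h3 : (fun j => act t v (Fin.castAdd 1 j)) = w • fun j => v (Fin.castAdd 1 j) := by
        funext j
        rw [act_dg, h1]; rfl
      rw [h3, act_smul]
      rfl
    · intro i
      rw [act_dg]
      show d _ * act (emb 1 A) v (Fin.natAdd 4 i) = act (emb 1 A) (act t v) (Fin.natAdd 4 i)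
      rw [act_emb_n, act_emb_n, act_dg]
  · rw [hcM, card_su5 hF]
  · intro m hm
    rw [hst]
    exact hnorm _ _ _ m hm
  · rw [hmem, act_pm]
    funext i
    fin_cases i <;> rfl
  · rw [hst]
    intro h1
    have h3 := congrArg (fun g => act g (Pi.single 1 1) 0) h1
    simp only [act_mul, act_dg, act_pm, Function.comp_apply] at h3
    have e1 : (Equiv.swap (0 : Fin 5) 4) 0 = 4 := by decide
    have e2 : (Equiv.swap (0 : Fin 5) 1) 0 = 1 := by decide
    have e3 : (Equiv.swap (0 : Fin 5) 4) 1 = 1 := by decide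
    rw [e1, e2, e3, Pi.single_eq_same, mul_one, mul_one] at h3
    exact hw2 h3

/-- `SU₅(2) = PSU₅(2)` -/
theorem su5_equiv : Nonempty (PSU 5 F 2 ≃* SU 5 F 2) :=
  ⟨(equivOfSurj (QuotientGroup.mk' (center (SU 5 F 2))) (QuotientGroup.mk'_surjective _)
    (by rw [card_su5 hF, card_psu5 hF])).symm⟩

/-- **`U₅(2)`** -/
theorem u5 (x : MulAut (PSU 5 F 2)) (hx : orderOf x = 3) (h : RC x) : False := by
  obtain ⟨e⟩ := su5_equiv hF
  have : Finite (PSU 5 F 2) := Finite.of_equiv _ e.symm.toEquiv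
  have hs : IsSimpleGroup (PSU 5 F 2) := Cfsg.Agent.S0283.result (q := 2) (hF' hF) 5 (by norm_num) (by norm_num)
  have hc : center (PSU 5 F 2) = ⊥ := by
    rcases (inferInstance : (center (PSU 5 F 2)).Normal).eq_bot_or_eq_top with h1 | h1
    · exact h1
    · exfalso
      refine not_solvable_of_card (G := PSU 5 F 2) (by rw [card_psu5 hF]; norm_num) ?_
      exact Group.isSolvable_of_comm fun a b => (mem_center_iff.1 (h1 ▸ mem_top b : b ∈ center (PSU 5 F 2)) a)
  -- `x` is inner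
  have hin : ∃ a : PSU 5 F 2, x = MulAut.conj a := by
    have h1 : (MulAut.conj : PSU 5 F 2 →* MulAut (PSU 5 F 2)).range.index = 2 := by
      have h3 := Cfsg.Agent.S0815.result (F := F) 2 1 le_rfl (q := 2) (by norm_num) (hF' hF) 5 (by norm_num) (by norm_num)
      have h4 := (MulAut.conj : PSU 5 F 2 →* MulAut (PSU 5 F 2)).range.card_mul_index
      rw [← Nat.card_congr (MonoidHom.ofInjective (_root_.Cfsg.Agent.H460.AA.conj_injective hc)).toEquiv, h3, card_psu5 hF] at h4
      norm_num at h4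
      omega
    have h3 := mul_self_mem_of_index_two h1 x
    have h4 : x = (x * x) * (x * x) := by
      have h5 : x ^ 3 = 1 := by rw [← hx]; exact pow_orderOf_eq_one x
      calc x = x ^ 3 * x := by rw [h5, one_mul]
        _ = _ := by simp only [pow_succ, pow_zero, one_mul, mul_assoc]
    have h5 : x ∈ (MulAut.conj : PSU 5 F 2 →* MulAut (PSU 5 F 2)).range := by
      rw [h4]; exact mul_mem h3 h3
    obtain ⟨a, ha⟩ := h5
    exact ⟨a, ha.symm⟩
  obtain ⟨a, rfl⟩ := hin
  have h1 := h.tr e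
  have h3 : tr e (MulAut.conj a) = MulAut.conj (e a) := by
    ext l
    rw [tr_apply]
    simp only [_root_.MulAut.conj_apply, _root_.map_mul, _root_.MulEquiv.apply_symm_apply, _root_.map_inv, _root_.Subgroup.coe_mul, _root_.InvMemClass.coe_inv, _root_.Matrix.SpecialLinearGroup.coe_mul, _root_.Matrix.SpecialLinearGroup.coe_inv]
  rw [h3] at h1
  refine su5_elt hF ?_ h1
  have h2 : orderOf (e a) = orderOf a := orderOf_injective e.toMonoidHom e.injective a
  rw [h2, ← hx]
  exact (orderOf_injective _ (_root_.Cfsg.Agent.H460.AA.conj_injective hc) a).symm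

end five

end Cfsg.Agent.H826.AASmall
end

-- part: H826/AASmall/DAbs
section
/-!
# `³D₄(2)`, abstract argument (helper826)

`Six T a b c d e f` : six elements centralising `T` with the commutator relations of the (long) root elements of type `A₂`
in characteristic two (`a, b` opposite, `c, d` opposite, `e, f` opposite).
`main` : no automorphism of order 3 with `RC` normalising a subgroup `H ≥ N(U)` with `|H : N(U)| = 3` and no `N(U')`.
-/

set_option autoImplicit false

namespace Cfsg.Agent.H826.AASmall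

open Subgroup Cfsg Cfsg.Agent.H459.Rad Cfsg.Agent.H460.AA
open scoped commutatorElement Pointwise

variable {K : Type*} [Group K]

/-- the relations -/
structure Six (T : Subgroup K) (a b c d e f : K) : Prop where
  ce : ∀ g ∈ ({a, b, c, d, e, f} : Set K), ∀ t ∈ T, g * t = t * g
  a2 : a * a = 1
  b2 : b * b = 1
  ab : (a * b) ^ 3 = 1
  ne : a * b ≠ 1
  ac : ⁅a, c⁆ = e
  bc : ⁅b, c⁆ = 1
  ed : ⁅e, d⁆ = a
  eb : ⁅e, b⁆ = c
  af : ⁅a, f⁆ = d
  bd : ⁅b, d⁆ = f
  cf : ⁅c, f⁆ = b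

variable {T : Subgroup K} {a b c d e f : K}

/-- a solvable subgroup normalised by the six elements does not contain `a b` -/
theorem Six.not_mem (S : Six T a b c d e f) (R : Subgroup K) (hR : Group.IsSolvable R)
    (hn : ∀ g ∈ ({a, b, c, d, e, f} : Set K), ∀ r ∈ R, g * r * g⁻¹ ∈ R) : a * b ∉ R := by
  intro hab
  have hca : ∀ r ∈ R, ∀ g ∈ ({a, b, c, d, e, f} : Set K), ⁅r, g⁆ ∈ R := by
    intro r hr g hg
    rw [commutatorElement_def]
    have e1 : r * g * r⁻¹ * g⁻¹ = r * (g * r⁻¹ * g⁻¹) := by group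
    rw [e1]
    exact mul_mem hr (hn g hg _ (inv_mem hr))
  -- `e = ⁅a, c⁆ = ⁅(a b) b, c⁆`
  have he : e ∈ R := by
    have h1 : ⁅(a * b) * b, c⁆ = (a * b) * ⁅b, c⁆ * (a * b)⁻¹ * ⁅a * b, c⁆ := by
      simp only [commutatorElement_def]; group
    have h2 : a * b * b = a := by rw [mul_assoc, S.b2, mul_one]
    rw [h2, S.ac, S.bc, mul_one, mul_inv_cancel, one_mul] at h1
    rw [h1]
    exact hca _ hab c (by simp)
  have ha : a ∈ R := by rw [← S.ed]; exact hca e he d (by simp)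
  have hc : c ∈ R := by rw [← S.eb]; exact hca e he b (by simp)
  have hb : b ∈ R := by
    have h1 : b = a⁻¹ * (a * b) := by group
    rw [h1]; exact mul_mem (inv_mem ha) hab
  have hd : d ∈ R := by rw [← S.af]; exact hca a ha f (by simp)
  have hf : f ∈ R := by rw [← S.bd]; exact hca b hb d (by simp)
  set D : Subgroup K := _root_.Subgroup.closure {a, b, c, d, e, f} with hD
  have hDR : D ≤ R := by
    rw [hD, closure_le]
    rintro g (rfl | rfl | rfl | rfl | rfl | rfl) <;> assumption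
  have hmem : ∀ g ∈ ({a, b, c, d, e, f} : Set K), g ∈ D := fun g hg => _root_.Subgroup.subset_closure hg
  have hperf : D ≤ ⁅D, D⁆ := by
    conv_lhs => rw [hD]
    rw [closure_le]
    rintro g (rfl | rfl | rfl | rfl | rfl | rfl)
    · exact S.ed ▸ commutator_mem_commutator (hmem e (by simp)) (hmem d (by simp))
    · exact S.cf ▸ commutator_mem_commutator (hmem c (by simp)) (hmem f (by simp))
    · exact S.eb ▸ commutator_mem_commutator (hmem e (by simp)) (hmem b (by simp))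
    · exact S.af ▸ commutator_mem_commutator (hmem a (by simp)) (hmem f (by simp))
    · exact S.ac ▸ commutator_mem_commutator (hmem a (by simp)) (hmem c (by simp))
    · exact S.bd ▸ commutator_mem_commutator (hmem b (by simp)) (hmem d (by simp))
  have hDs : Group.IsSolvable D := Cfsg.Agent.SignalizersComponents.ComponentExists.isSolvable_of_le hDR hR
  have hD1 : D = ⊥ := by
    by_contra hne
    have : Nontrivial D := (nontrivial_iff_ne_bot D).2 hne
    have h1 : commutator D < ⊤ := Group.IsSolvable.commutator_lt_top_of_nontrivial D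
    apply h1.ne
    rw [eq_top_iff]
    intro z _
    have h2 : (z : K) ∈ ⁅D, D⁆ := hperf z.2
    have h3 : (_root_.commutator D).map D.subtype = ⁅D, D⁆ := by
      rw [_root_.commutator_def, map_commutator, ← MonoidHom.range_eq_map, range_subtype]
    rw [← h3] at h2
    obtain ⟨w, hw, hwz⟩ := h2
    have : w = z := Subtype.ext hwz
    rwa [← this]
  have ha1 : a = 1 := by
    have := hmem a (by simp)
    rwa [hD1, mem_bot] at this
  have hb1 : b = 1 := by
    have := hmem b (by simp)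
    rwa [hD1, mem_bot] at this
  exact S.ne (by rw [ha1, hb1, one_mul])

/-- in a group of order not divisible by 9 a normalising element of order 3 lies in `D` as soon as `3 ∣ |D|` -/
theorem mem_of_nine [Finite K] {H D : Subgroup K} (h9 : ¬ 9 ∣ Nat.card H) (hDH : D ≤ H) {g : K} (hgH : g ∈ H)
    (hg : ∀ r ∈ D, g * r * g⁻¹ ∈ D) (hg3 : g ^ 3 = 1) (h3 : 3 ∣ Nat.card D) : g ∈ D := by
  by_contra hgD
  have hg1 : g ≠ 1 := fun h => hgD (h ▸ D.one_mem)
  have ho : orderOf g = 3 := by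
    have : Fact (Nat.Prime 3) := ⟨Nat.prime_three⟩
    exact orderOf_eq_prime hg3 hg1
  have hgN : g ∈ normalizer (D : Set K) := by
    have h4 : D.map (MulAut.conj g).toMonoidHom = D := by
      apply Subgroup.eq_of_le_of_card_ge
      · rintro _ ⟨k, hk, rfl⟩
        exact hg k hk
      · exact (Nat.card_congr (D.equivMapOfInjective _ (MulAut.conj g).injective).toEquiv).le
    rw [mem_normalizer_iff]
    intro k
    refine ⟨hg k, fun hk => ?_⟩
    rw [← h4] at hk
    obtain ⟨l, hl, h5⟩ := hk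
    have h6 : l = k := (MulAut.conj g).injective h5
    rw [← h6]; exact hl
  -- the subgroup `D ⟨g⟩`
  let Z : Subgroup K := zpowers g
  have hdis : Disjoint D Z := by
    rw [disjoint_iff_inf_le]
    intro z hz
    rw [mem_bot]
    by_contra hz1
    have h1 : orderOf z = 3 := by
      have h2 : orderOf z ∣ 3 := by
        have := _root_.orderOf_dvd_natCard (⟨z, hz.2⟩ : zpowers g)
        rwa [Subgroup.orderOf_mk, Nat.card_zpowers, ho] at this
      rcases (Nat.dvd_prime Nat.prime_three).1 h2 with h3 | h3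
      · exact absurd (orderOf_eq_one_iff.1 h3) hz1
      · exact h3
    have h2 : zpowers z = zpowers g := by
      apply Subgroup.eq_of_le_of_card_ge
      · rw [zpowers_le]; exact hz.2
      · rw [Nat.card_zpowers, Nat.card_zpowers, ho, h1]
    exact hgD ((zpowers_le.2 hz.1) (h2 ▸ mem_zpowers g))
  have hZN : Z ≤ normalizer (D : Set K) := by rw [zpowers_le]; exact hgN
  have hcard : Nat.card (D ⊔ Z : Subgroup K) = Nat.card D * 3 := by
    have h1 : ((D ⊔ Z : Subgroup K) : Set K) = D * Z := Subgroup.coe_mul_of_right_le_normalizer_left _ _ hZN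
    have h2 : Nat.card (D ⊔ Z : Subgroup K) = Nat.card (D × Z) := by
      refine (Nat.card_eq_of_bijective (fun p : D × Z => (⟨p.1 * p.2, ?_⟩ : (D ⊔ Z : Subgroup K))) ⟨?_, ?_⟩).symm
      · exact mul_mem (mem_sup_left p.1.2) (mem_sup_right p.2.2)
      · intro p q h
        exact mul_injective_of_disjoint hdis (congrArg Subtype.val h)
      · rintro ⟨w, hw⟩
        have h3 : w ∈ ((D ⊔ Z : Subgroup K) : Set K) := hw
        rw [h1, Set.mem_mul] at h3
        obtain ⟨u, hu, z, hz, e⟩ := h3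
        exact ⟨⟨⟨u, hu⟩, ⟨z, hz⟩⟩, Subtype.ext e⟩
    rw [h2, Nat.card_prod, Nat.card_zpowers, ho]
  apply h9
  have h1 : (D ⊔ Z : Subgroup K) ≤ H := sup_le hDH (by rw [zpowers_le]; exact hgH)
  have h2 := card_dvd_of_le h1
  rw [hcard] at h2
  obtain ⟨m, hm⟩ := h3
  rw [hm] at h2
  exact (Dvd.intro m (by ring)).trans h2

/-- restriction of an automorphism -/
noncomputable def restr [Finite K] (x : MulAut K) (H : Subgroup K) (h : ∀ m ∈ H, x m ∈ H) : MulAut H :=
  MulEquiv.ofBijective ((x.toMonoidHom.comp H.subtype).codRestrict H fun m => h m m.2)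
    (Finite.injective_iff_bijective.1 fun _ _ e => Subtype.ext (x.injective (congrArg Subtype.val e)))

theorem restr_pow [Finite K] (x : MulAut K) (H : Subgroup K) (h : ∀ m ∈ H, x m ∈ H) (hx : x ^ 3 = 1) :
    restr x H h ^ 3 = 1 := by
  ext m
  have h1 : x (x (x (m : K))) = m := by
    have := DFunLike.congr_fun hx (m : K)
    exact this
  exact h1

theorem perm_three' : ∀ A r t : Equiv.Perm (Fin 3), (A * A * A = 1 ∧ A ≠ 1) ∧ (r * r * r = 1 ∧ r ≠ 1) ∧
    t * r * t⁻¹ = r⁻¹ → (t⁻¹ * (A * t * A⁻¹)) * (t⁻¹ * (A * t * A⁻¹)) * (t⁻¹ * (A * t * A⁻¹)) = 1 ∧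
      t⁻¹ * (A * t * A⁻¹) ≠ 1 := by
  decide +kernel

theorem perm_three {A r t : Equiv.Perm (Fin 3)} (h1 : A ^ 3 = 1) (h2 : A ≠ 1) (h3 : r ^ 3 = 1) (h4 : r ≠ 1)
    (h5 : t * r * t⁻¹ = r⁻¹) : (t⁻¹ * (A * t * A⁻¹)) ^ 3 = 1 ∧ t⁻¹ * (A * t * A⁻¹) ≠ 1 := by
  have hc : ∀ z : Equiv.Perm (Fin 3), z ^ 3 = z * z * z := fun z => by rw [pow_succ, pow_two]
  rw [hc] at h1 h3 ⊢
  exact perm_three' A r t ⟨⟨h1, h2⟩, ⟨h3, h4⟩, h5⟩

/-- an automorphism of order 3 fixes a Sylow subgroup if their number is prime to 3 -/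
theorem exists_fix [Finite K] {p : ℕ} [Fact p.Prime] {α : MulAut K} (hα : α ^ 3 = 1) (hn : ¬ 3 ∣ Nat.card (Sylow p K)) :
    ∃ P : Sylow p K, α • P = P := by
  have : Fact (Nat.Prime 3) := ⟨Nat.prime_three⟩
  have h1 : IsPGroup 3 (zpowers α) := by
    have h2 : orderOf α ∣ 3 ^ 1 := by rw [pow_one]; exact orderOf_dvd_of_pow_eq_one hα
    obtain ⟨k, -, hk⟩ := (Nat.dvd_prime_pow Nat.prime_three).1 h2
    exact IsPGroup.of_card (n := k) (by rw [Nat.card_zpowers, hk])
  obtain ⟨P, hP⟩ := h1.nonempty_fixed_point_of_prime_not_dvd_card (Sylow p K) hn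
  exact ⟨P, hP ⟨α, mem_zpowers α⟩⟩

section core

variable [Finite K]

/-- the situation after conjugation: `x` normalises `T` -/
theorem core (S : Six T a b c d e f) {x : MulAut K} (hx : x ^ 3 = 1) (hR : RC x) (U : Sylow 2 K) {H : Subgroup K}
    (hle : normalizer ((U : Subgroup K) : Set K) ≤ H) (hidx : (normalizer ((U : Subgroup K) : Set K)).relIndex H = 3)
    (hxH : ∀ h ∈ H, x h ∈ H) (hxU : ¬ ∀ u ∈ (U : Subgroup K), x u ∈ (U : Subgroup K))
    (h3 : ¬ 3 ∣ Nat.card (normalizer ((U : Subgroup K) : Set K))) (hTx : ∀ t ∈ T, x t ∈ T)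
    (hC : centralizer (T : Set K) ≠ ⊤) (haH : a ∈ H) (hbH : b ∈ H) : False := by
  have hUH : (U : Subgroup K) ≤ H := le_normalizer.trans hle
  have hcardH : Nat.card H = Nat.card (normalizer ((U : Subgroup K) : Set K)) * 3 := by
    rw [← hidx, relIndex, ← card_mul_index ((normalizer ((U : Subgroup K) : Set K)).subgroupOf H)]
    congr 1
    exact Nat.card_congr (subgroupOfEquivOfLe hle).toEquiv
  have h9 : ¬ 9 ∣ Nat.card H := by
    rw [hcardH]
    intro h
    exact h3 (Nat.dvd_of_mul_dvd_mul_right (k := 3) (by norm_num) (by simpa only [_root_.Nat.reduceMul, _root_.Sylow.coe_coe] using h))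
  -- the action on the three Sylow subgroups of `H`
  let α : MulAut H := restr x H hxH
  let P : Sylow 2 H := U.subtype hUH
  have hP : (P : Subgroup H) = (U : Subgroup K).subgroupOf H := rfl
  have hPn : normalizer (P : Set H) = (normalizer ((U : Subgroup K) : Set K)).subgroupOf H := by
    have hP' : (P : Set H) = (((U : Subgroup K).subgroupOf H : Subgroup H) : Set H) := rfl
    rw [hP']
    ext h
    rw [mem_subgroupOf, mem_normalizer_iff, mem_normalizer_iff]
    constructor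
    · intro h1 k
      constructor
      · intro hk
        have := (h1 ⟨k, hUH hk⟩).1 (mem_subgroupOf.2 hk)
        exact mem_subgroupOf.1 this
      · intro hk
        have hkH : k ∈ H := by
          have := H.mul_mem (H.mul_mem (H.inv_mem h.2) (hUH hk)) h.2
          have e1 : (h : K)⁻¹ * (h * k * (h : K)⁻¹) * h = k := by group
          rwa [e1] at this
        exact mem_subgroupOf.1 ((h1 ⟨k, hkH⟩).2 (mem_subgroupOf.2 hk))
    · intro h1 k
      exact h1 k
  have hcS : Nat.card (Sylow 2 H) = 3 := by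
    rw [Sylow.card_eq_index_normalizer P, hPn]
    exact hidx
  let ε : Sylow 2 H ≃ Fin 3 := Finite.equivFinOfCardEq hcS
  let Ψ : MulAut H →* Equiv.Perm (Fin 3) :=
    (ε.permCongrHom.toMonoidHom).comp (MulAction.toPermHom (MulAut H) (Sylow 2 H))
  have hΨ : ∀ β : MulAut H, Ψ β = 1 → β • P = P := by
    intro β h
    have h1 : MulAction.toPermHom (MulAut H) (Sylow 2 H) β = 1 := ε.permCongrHom.injective (by rw [map_one]; exact h)
    have h2 := DFunLike.congr_fun h1 P
    exact h2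
  have hsm : ∀ (β : MulAut H), β • P = P → ∀ u ∈ (P : Subgroup H), β u ∈ (P : Subgroup H) := by
    intro β h u hu
    have h1 : β • u ∈ ((β • P : Sylow 2 H) : Subgroup H) := by
      rw [Sylow.pointwise_smul_def]
      exact Subgroup.smul_mem_pointwise_smul u β _ hu
    rwa [h] at h1
  have hα3 : Ψ α ^ 3 = 1 := by rw [← map_pow, restr_pow x H hxH hx, map_one]
  have hα1 : Ψ α ≠ 1 := by
    intro h
    apply hxU
    intro u hu
    have h1 := hsm α (hΨ α h) ⟨u, hUH hu⟩ (mem_subgroupOf.2 hu)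
    exact mem_subgroupOf.1 h1
  let aH : H := ⟨a, haH⟩
  let bH : H := ⟨b, hbH⟩
  have hab3 : (aH * bH) ^ 3 = 1 := Subtype.ext S.ab
  have hr3 : Ψ (MulAut.conj (aH * bH)) ^ 3 = 1 := by rw [← map_pow, ← map_pow, hab3, map_one, map_one]
  have hr1 : Ψ (MulAut.conj (aH * bH)) ≠ 1 := by
    intro h
    have h1 : (aH * bH) • P = P := by rw [Sylow.smul_def]; exact hΨ _ h
    rw [Sylow.smul_eq_iff_mem_normalizer] at h1
    have h2 : a * b ∈ normalizer ((U : Subgroup K) : Set K) := by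
      have h4 : aH * bH ∈ normalizer (P : Set H) := h1
      rw [hPn] at h4
      exact mem_subgroupOf.1 h4
    have h4 : orderOf (a * b) = 3 := by
      have : Fact (Nat.Prime 3) := ⟨Nat.prime_three⟩
      exact orderOf_eq_prime S.ab S.ne
    apply h3
    rw [← h4]
    have := _root_.orderOf_dvd_natCard (⟨a * b, h2⟩ : normalizer ((U : Subgroup K) : Set K))
    rwa [Subgroup.orderOf_mk] at this
  have hrt : Ψ (MulAut.conj aH) * Ψ (MulAut.conj (aH * bH)) * (Ψ (MulAut.conj aH))⁻¹ =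
      (Ψ (MulAut.conj (aH * bH)))⁻¹ := by
    rw [← map_inv, ← map_inv, ← map_inv, ← map_inv, ← map_mul, ← map_mul, ← map_mul, ← map_mul]
    congr 2
    apply Subtype.ext
    change a * (a * b) * a⁻¹ = (a * b)⁻¹
    have ha : a⁻¹ = a := inv_eq_of_mul_eq_one_left S.a2
    have hb : b⁻¹ = b := inv_eq_of_mul_eq_one_left S.b2
    rw [mul_inv_rev, ha, hb, ← mul_assoc, S.a2, one_mul]
  obtain ⟨hy3, hy1⟩ := perm_three hα3 hα1 hr3 hr1 hrt
  set yH : H := aH⁻¹ * α aH with hyH
  have hyΨ : Ψ (MulAut.conj yH) = (Ψ (MulAut.conj aH))⁻¹ * (Ψ α * Ψ (MulAut.conj aH) * (Ψ α)⁻¹) := by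
    have e1 : MulAut.conj yH = (MulAut.conj aH)⁻¹ * (α * MulAut.conj aH * α⁻¹) := by
      ext k
      simp only [hyH, mul_assoc, _root_.map_mul, _root_.map_inv, _root_.MulAut.mul_apply, _root_.MulAut.conj_apply, _root_.MulAut.inv_apply, _root_.MulAut.conj_symm_apply, _root_.Subgroup.coe_mul, _root_.InvMemClass.coe_inv, _root_.MulEquiv.apply_symm_apply]
    rw [e1, map_mul, map_mul, map_mul, map_inv, map_inv]
  rw [← hyΨ] at hy3 hy1
  have hoy : 3 ∣ orderOf yH := by
    have : Fact (Nat.Prime 3) := ⟨Nat.prime_three⟩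
    have h1 : orderOf (Ψ (MulAut.conj yH)) = 3 := orderOf_eq_prime hy3 hy1
    rw [← h1]
    exact (orderOf_map_dvd Ψ _).trans (orderOf_map_dvd MulAut.conj _)
  -- the centraliser of `T`
  set C : Subgroup K := centralizer (T : Set K) with hCdef
  have hxC : ∀ m ∈ C, x m ∈ C := by
    intro m hm
    have hTe : T.map x.toMonoidHom = T := by
      apply Subgroup.eq_of_le_of_card_ge
      · rintro _ ⟨k, hk, rfl⟩
        exact hTx k hk
      · exact (Nat.card_congr (T.equivMapOfInjective _ x.injective).toEquiv).le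
    rw [hCdef, mem_centralizer_iff] at hm ⊢
    intro t ht
    have ht' : t ∈ T.map x.toMonoidHom := by rw [hTe]; exact ht
    obtain ⟨s, hs, rfl⟩ := ht'
    have h1 := congrArg x (hm s hs)
    rw [map_mul, map_mul] at h1
    exact h1
  have hmemC : ∀ g ∈ ({a, b, c, d, e, f} : Set K), g ∈ C := by
    intro g hg
    rw [hCdef, mem_centralizer_iff]
    intro t ht
    exact (S.ce g hg t ht).symm
  have hyR : (yH : K) ∈ radIn C := hR C hC hxC a (hmemC a (by simp))
  -- `a b` lies in the radical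
  refine S.not_mem (radIn C) (radIn_solvable C) (fun g hg r hr => radIn_conj_mem (hmemC g hg) hr) ?_
  have h1 : a * b ∈ radIn C ⊓ H := by
    refine mem_of_nine h9 inf_le_right (H.mul_mem haH hbH) ?_ S.ab ?_
    · intro r hr
      refine ⟨radIn_conj_mem (mul_mem (hmemC a (by simp)) (hmemC b (by simp))) hr.1, ?_⟩
      exact H.mul_mem (H.mul_mem (H.mul_mem haH hbH) hr.2) (H.inv_mem (H.mul_mem haH hbH))
    · have h2 := _root_.orderOf_dvd_natCard (⟨(yH : K), ⟨hyR, yH.2⟩⟩ : (radIn C ⊓ H : Subgroup K))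
      rw [← Subgroup.orderOf_coe] at h2
      have h4 : orderOf (yH : K) = orderOf yH := Subgroup.orderOf_coe yH
      rw [← h4] at hoy
      exact hoy.trans h2
  exact h1.1

/-- **Abstract theorem** -/
theorem main (S : Six T a b c d e f) {x : MulAut K} (hx : x ^ 3 = 1) (hR : RC x) (U : Sylow 2 K) {H : Subgroup K}
    (hle : normalizer ((U : Subgroup K) : Set K) ≤ H) (hidx : (normalizer ((U : Subgroup K) : Set K)).relIndex H = 3)
    (hxH : ∀ h ∈ H, x h ∈ H) (hno : ∀ V : Sylow 2 K, ¬ ∀ u ∈ (V : Subgroup K), x u ∈ (V : Subgroup K))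
    (h3 : ¬ 3 ∣ Nat.card (normalizer ((U : Subgroup K) : Set K))) (hTH : T ≤ H) (hT : Nat.card T = 7)
    (h49 : ¬ 49 ∣ Nat.card (normalizer ((U : Subgroup K) : Set K)))
    (hC : centralizer (T : Set K) ≠ ⊤) (haH : a ∈ H) (hbH : b ∈ H) : False := by
  have hcardH : Nat.card H = Nat.card (normalizer ((U : Subgroup K) : Set K)) * 3 := by
    rw [← hidx, relIndex, ← card_mul_index ((normalizer ((U : Subgroup K) : Set K)).subgroupOf H)]
    congr 1
    exact Nat.card_congr (subgroupOfEquivOfLe hle).toEquiv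
  have h9 : ¬ 9 ∣ Nat.card H := by
    rw [hcardH]
    intro h
    exact h3 (Nat.dvd_of_mul_dvd_mul_right (k := 3) (by norm_num) (by simpa only [_root_.Nat.reduceMul, _root_.Sylow.coe_coe] using h))
  have h49H : ¬ 49 ∣ Nat.card H := by
    rw [hcardH]
    intro h
    exact h49 ((Nat.Coprime.dvd_mul_right (by norm_num)).1 h)
  have h7 : Fact (Nat.Prime 7) := ⟨by norm_num⟩
  -- `T` is a Sylow 7-subgroup of `H`
  have hTp : IsPGroup 7 (T.subgroupOf H) := by
    apply IsPGroup.of_card (n := 1)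
    rw [Nat.card_congr (subgroupOfEquivOfLe hTH).toEquiv, hT, pow_one]
  obtain ⟨Q, hQ⟩ := hTp.exists_le_sylow
  have hcQ : Nat.card Q = 7 := by
    obtain ⟨n, hn⟩ := IsPGroup.iff_card.1 Q.2
    have h1 : 7 ∣ Nat.card Q := by
      have := card_dvd_of_le hQ
      rwa [Nat.card_congr (subgroupOfEquivOfLe hTH).toEquiv, hT] at this
    have h2 : Nat.card Q ∣ Nat.card H := card_subgroup_dvd_card _
    rcases Nat.lt_or_ge n 2 with hn2 | hn2
    · interval_cases n
      · rw [hn] at h1; norm_num at h1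
      · rw [hn, pow_one]
    · exfalso
      apply h49H
      have h4 : (49 : ℕ) ∣ 7 ^ n := by
        have : (7 : ℕ) ^ 2 ∣ 7 ^ n := pow_dvd_pow 7 hn2
        simpa using this
      exact (h4.trans (hn ▸ dvd_rfl)).trans h2
  have hQT : (Q : Subgroup H) = T.subgroupOf H := by
    refine (Subgroup.eq_of_le_of_card_ge hQ ?_).symm
    rw [Nat.card_congr (subgroupOfEquivOfLe hTH).toEquiv, hT]
    exact hcQ.le
  -- the number of Sylow 7-subgroups of `H`
  have hn : ¬ 3 ∣ Nat.card (Sylow 7 H) := by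
    rw [Sylow.card_eq_index_normalizer Q]
    intro h
    have h1 : (⟨a * b, H.mul_mem haH hbH⟩ : H) ∈ normalizer (Q : Set H) := by
      have hQ' : (Q : Set H) = ((T.subgroupOf H : Subgroup H) : Set H) := by rw [← hQT]; rfl
      rw [hQ', mem_normalizer_iff]
      intro k
      have hcomm : ∀ t ∈ T, (a * b) * t * (a * b)⁻¹ = t := by
        intro t ht
        have h1 := S.ce a (by simp) t ht
        have h2 := S.ce b (by simp) t ht
        rw [mul_inv_eq_iff_eq_mul]
        calc a * b * t = a * (b * t) := by group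
          _ = a * t * b := by rw [h2]; group
          _ = t * (a * b) := by rw [h1]; group
      constructor
      · intro hk
        have hk' : (k : K) ∈ T := mem_subgroupOf.1 hk
        show (a * b) * (k : K) * (a * b)⁻¹ ∈ T
        rw [hcomm _ hk']; exact hk'
      · intro hk
        have hk' : (a * b) * (k : K) * (a * b)⁻¹ ∈ T := hk
        have h4 : (k : K) ∈ T := by
          have h5 := hcomm _ hk'
          have h6 : (k : K) = (a * b) * (k : K) * (a * b)⁻¹ := by
            have h7 : (a * b) * ((a * b) * (k : K) * (a * b)⁻¹) * (a * b)⁻¹ = (a * b) * (k : K) * (a * b)⁻¹ := h5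
            have h8 := mul_right_cancel h7
            have h9 := mul_left_cancel h8
            exact h9.symm
          rw [h6]; exact hk'
        exact h4
    have h2 : 3 ∣ Nat.card (normalizer (Q : Set H)) := by
      have h4 : orderOf (a * b) = 3 := by
        have : Fact (Nat.Prime 3) := ⟨Nat.prime_three⟩
        exact orderOf_eq_prime S.ab S.ne
      have h5 := _root_.orderOf_dvd_natCard (⟨_, h1⟩ : normalizer (Q : Set H))
      rw [← Subgroup.orderOf_coe, ← Subgroup.orderOf_coe] at h5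
      have h6 : orderOf (((⟨_, h1⟩ : normalizer (Q : Set H)) : H) : K) = 3 := h4
      rwa [h6] at h5
    apply h9
    have h4 := card_mul_index (normalizer (Q : Set H))
    rw [← h4]
    exact (mul_dvd_mul h2 h : 3 * 3 ∣ _)
  obtain ⟨P, hP⟩ := exists_fix (p := 7) (restr_pow x H hxH hx) hn
  obtain ⟨h, hh⟩ := MulAction.exists_smul_eq H Q P
  have hPm : ∀ k : H, k ∈ (P : Subgroup H) ↔ ((h : K)⁻¹ * (k : K) * (h : K)) ∈ T := by
    intro k
    rw [← hh, Sylow.smul_def, Sylow.pointwise_smul_def, Subgroup.mem_pointwise_smul_iff_inv_smul_mem, hQT,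
      mem_subgroupOf]
    have : ((MulAut.conj h)⁻¹ • k : H) = h⁻¹ * k * h := by
      rw [← map_inv]
      change h⁻¹ * k * h⁻¹⁻¹ = _
      rw [inv_inv]
    rw [this]
    rfl
  have hPx : ∀ k : H, k ∈ (P : Subgroup H) → restr x H hxH k ∈ (P : Subgroup H) := by
    intro k hk
    have h1 : restr x H hxH • k ∈ ((restr x H hxH • P : Sylow 7 H) : Subgroup H) := by
      rw [Sylow.pointwise_smul_def]
      exact Subgroup.smul_mem_pointwise_smul k _ _ hk
    rwa [hP] at h1
  -- the conjugate automorphism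
  set y : MulAut K := tr (MulAut.conj (h : K)⁻¹) x with hy
  have hya : ∀ k, y k = (h : K)⁻¹ * x ((h : K) * k * (h : K)⁻¹) * (h : K) := by
    intro k
    rw [hy, tr_apply]
    have h1 : (MulAut.conj (h : K)⁻¹).symm k = (h : K) * k * (h : K)⁻¹ := by
      rw [MulEquiv.symm_apply_eq, MulAut.conj_apply, inv_inv]
      group
    rw [h1]
    simp
  have hy3 : y ^ 3 = 1 := by
    have h1 : orderOf y = orderOf x := orderOf_tr _ x
    exact orderOf_dvd_iff_pow_eq_one.1 (h1 ▸ orderOf_dvd_of_pow_eq_one hx)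
  refine core S hy3 (hR.tr _) U hle hidx ?_ ?_ h3 ?_ hC haH hbH
  · intro k hk
    rw [hya]
    exact H.mul_mem (H.mul_mem (H.inv_mem h.2) (hxH _ (H.mul_mem (H.mul_mem h.2 hk) (H.inv_mem h.2)))) h.2
  · intro hU
    apply hno ((h : K) • U)
    intro v hv
    have hm : ∀ v : K, v ∈ (((h : K) • U : Sylow 2 K) : Subgroup K) ↔ ((h : K)⁻¹ * v * (h : K)) ∈ (U : Subgroup K) := by
      intro v
      rw [Sylow.smul_def, Sylow.pointwise_smul_def, Subgroup.mem_pointwise_smul_iff_inv_smul_mem]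
      have : ((MulAut.conj (h : K))⁻¹ • v : K) = (h : K)⁻¹ * v * (h : K) := by
        rw [← map_inv]
        change (h : K)⁻¹ * v * (h : K)⁻¹⁻¹ = _
        rw [inv_inv]
      rw [this]
    rw [hm] at hv ⊢
    have h1 := hU _ hv
    rw [hya] at h1
    have h2 : (h : K) * ((h : K)⁻¹ * v * (h : K)) * (h : K)⁻¹ = v := by group
    rwa [h2] at h1
  · intro t ht
    rw [hya]
    have htH : (h : K) * t * (h : K)⁻¹ ∈ H := H.mul_mem (H.mul_mem h.2 (hTH ht)) (H.inv_mem h.2)
    have h1 : (⟨_, htH⟩ : H) ∈ (P : Subgroup H) := by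
      rw [hPm]
      have : (h : K)⁻¹ * ((h : K) * t * (h : K)⁻¹) * (h : K) = t := by group
      show (h : K)⁻¹ * ((h : K) * t * (h : K)⁻¹) * (h : K) ∈ T
      rw [this]; exact ht
    exact (hPm _).1 (hPx _ h1)

end core

end Cfsg.Agent.H826.AASmall
end

-- part: H826/AASmall/DRel
section
/-!
# The long root elements of `³D₄(2)` (helper826)
-/

set_option autoImplicit false

namespace Cfsg.Agent.H826.AASmall.DRel

open Cfsg.Lie
open Cfsg.Agent.Schreier.ThreeD4
open Cfsg.Agent.ChevalleyStructure.D4Fixed (sig coe_sig fix mem_fix twisted_le_fix twisted_induction)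
open Cfsg.Agent.ChevalleyStructure
open Cfsg.Agent.ChevalleyStructure.WordCheck
open Cfsg.Agent.ChevalleyStructure.D4Comm
open Cfsg.Agent.ChevalleyStructure.D4CommTab
open Cfsg.Agent.ChevalleyStructure.D4NCheck
open Cfsg.Agent.ChevalleyStructure.D4NConj (nR nR_def nG nG_conj nG_def eta_cases)
open Cfsg.Agent.ChevalleyStructure.D4U
open Cfsg.Agent.ChevalleyStructure.D4RGD
open Cfsg.Agent.ChevalleyStructure.D4Twisted
open scoped commutatorElement

variable {F : Type*} [Field F]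

/-- the commutator formula for an arbitrary pair passing the check -/
theorem comm_of_ok {r s : ℕ} (h0 : commOK r s = true) (t u : F) :
    ⁅(xG r t : GL chevD4.Idx F), xG s u⁆ = cval r s t u := by
  have h := wordMat_eq_of_check chevD4 (fun i => if i = 0 then t else u) 0 0 2
    [(r, .var 0), (s, .var 1), (r, .neg (.var 0)), (s, .neg (.var 1))] (cw r s) h0 (by simp) (by simp)
  apply Units.ext
  rw [commutatorElement_def, ← xG_neg, ← xG_neg]
  have h1 : chevD4.wordMat F (wval (fun i => if i = 0 then t else u)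
      [(r, .var 0), (s, .var 1), (r, .neg (.var 0)), (s, .neg (.var 1))]) =
      ((xG r t * xG s u * xG r (-t) * xG s (-u) : GL chevD4.Idx F) : Matrix chevD4.Idx chevD4.Idx F) := by
    simp [ChevalleyDatum.wordMat, wval, PExpr.denote, coe_xG, mul_assoc]
  rw [← h1, h]
  unfold cw cval
  rcases cm r s with _ | kc
  · simp [ChevalleyDatum.wordMat, wval]
  · simp [ChevalleyDatum.wordMat, wval, PExpr.denote, coe_xG]

/-- the result of the commutator formula, up to sign -/
def res (r s : ℕ) : Option (ℕ × ℕ) := (cm r s).map fun p => (p.1, p.2.natAbs)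

theorem ok_all : (commOK 14 22 = true ∧ commOK 9 22 = true ∧ commOK 23 1 = true ∧ commOK 23 9 = true) ∧
    commOK 14 0 = true ∧ commOK 9 1 = true ∧ commOK 22 0 = true := by decide +kernel

theorem res_all : (res 14 22 = some (23, 1) ∧ res 9 22 = none ∧ res 23 1 = some (14, 1) ∧ res 23 9 = some (22, 1)) ∧
    res 14 0 = some (1, 1) ∧ res 9 1 = some (0, 1) ∧ res 22 0 = some (9, 1) := by decide +kernel

theorem neg_one (h2 : (2 : F) = 0) : (-1 : F) = 1 := by
  rw [neg_eq_iff_add_eq_zero, one_add_one_eq_two, h2]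

theorem cval_of_res (h2 : (2 : F) = 0) {r s k : ℕ} (h : res r s = some (k, 1)) : cval r s (1 : F) 1 = xG k 1 := by
  unfold res at h
  unfold cval
  rcases hc : cm r s with _ | ⟨k', c⟩
  · rw [hc] at h; simp at h
  · rw [hc] at h
    simp only [Option.map_some, Option.some.injEq, Prod.mk.injEq] at h
    obtain ⟨rfl, hc1⟩ := h
    have h3 : ((c : ℤ) : F) = 1 := by
      rcases Int.natAbs_eq c with h4 | h4
      · rw [h4, hc1]; simp
      · rw [h4, hc1]; simp [neg_one h2]
    simp only [h3, one_mul]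

theorem cval_of_none {r s : ℕ} (h : res r s = none) : cval r s (1 : F) 1 = 1 := by
  unfold res at h
  unfold cval
  rcases hc : cm r s with _ | ⟨k', c⟩
  · rfl
  · rw [hc] at h; simp at h

theorem comm_one (h2 : (2 : F) = 0) {r s k : ℕ} (h : commOK r s = true) (h' : res r s = some (k, 1)) :
    ⁅(xG r (1 : F) : GL chevD4.Idx F), (xG s (1 : F) : GL chevD4.Idx F)⁆ = xG k (1 : F) := by
  rw [comm_of_ok h, cval_of_res h2 h']

theorem sq_one (h2 : (2 : F) = 0) (r : ℕ) : (xG r 1 : GL chevD4.Idx F) * xG r 1 = 1 := by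
  rw [← xG_add, one_add_one_eq_two, h2, xG_zero]

theorem eta_one (h2 : (2 : F) = 0) {i s : ℕ} (hi : i < 4) (hs : s < 24) : (eta i s : F) * 1 = 1 := by
  rcases eta_cases hi hs with h | h
  · rw [h]; simp
  · rw [h]; simp [neg_one h2]

/-- `n_a x_a n_a⁻¹ = x_{-a}` -/
theorem na_conj (h2 : (2 : F) = 0) : na F * xG 14 1 * (na F)⁻¹ = xG 9 1 := by
  have h := nG_conj (F := F) (i := 1) (s := 14) (by norm_num) (by norm_num) 1
  have h1 : rfl' 1 14 = 9 := by decide +kernel
  rw [h1, eta_one h2 (by norm_num) (by norm_num)] at h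
  exact h

/-- `n_b x_a n_b⁻¹ = x_c` -/
theorem nb_conj (h2 : (2 : F) = 0) {s k : ℕ} (hs : s < 24) (h0 : rfl' 3 s < 24) (h1 : rfl' 2 (rfl' 3 s) < 24)
    (hk : rfl' 0 (rfl' 2 (rfl' 3 s)) = k) : nb F * xG s 1 * (nb F)⁻¹ = xG k 1 := by
  have a1 := nG_conj (F := F) (i := 3) (s := s) (by norm_num) hs 1
  have a2 := nG_conj (F := F) (i := 2) (s := rfl' 3 s) (by norm_num) h0 1
  have a3 := nG_conj (F := F) (i := 0) (s := rfl' 2 (rfl' 3 s)) (by norm_num) h1 1
  rw [eta_one h2 (by norm_num) (by assumption)] at a1 a2 a3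
  rw [hk] at a3
  have e : nb F * xG s 1 * (nb F)⁻¹ = nG F 0 * (nG F 2 * (nG F 3 * xG s 1 * (nG F 3)⁻¹) * (nG F 2)⁻¹) * (nG F 0)⁻¹ := by
    unfold nb; group
  rw [e, a1, a2, a3]

theorem nb_conj_14 (h2 : (2 : F) = 0) : nb F * xG 14 1 * (nb F)⁻¹ = xG 22 1 :=
  nb_conj h2 (by norm_num) (by decide +kernel) (by decide +kernel) (by decide +kernel)

theorem nb_conj_9 (h2 : (2 : F) = 0) : nb F * xG 9 1 * (nb F)⁻¹ = xG 1 1 :=
  nb_conj h2 (by norm_num) (by decide +kernel) (by decide +kernel) (by decide +kernel)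

/-- `(x_a x_{-a})³ = 1` -/
theorem cube (h2 : (2 : F) = 0) : ((xG 14 1 : GL chevD4.Idx F) * xG 9 1) ^ 3 = 1 := by
  have h1 : na F = xG 14 1 * (xG 9 1 * xG 14 1) := by
    have h3 : na F = nR (sp 1) 1 := rfl
    have h4 : sp 1 = 14 := by decide +kernel
    rw [h3, h4, nR_def, inv_one, neg_one h2]
  have h3 := na_conj h2
  rw [h1] at h3
  have ha : (xG 14 1 : GL chevD4.Idx F)⁻¹ = xG 14 1 := inv_eq_of_mul_eq_one_left (sq_one h2 14)
  have hb : (xG 9 1 : GL chevD4.Idx F)⁻¹ = xG 9 1 := inv_eq_of_mul_eq_one_left (sq_one h2 9)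
  have sa := sq_one h2 (F := F) 14
  have sb := sq_one h2 (F := F) 9
  generalize (xG 14 1 : GL chevD4.Idx F) = a at *
  generalize (xG 9 1 : GL chevD4.Idx F) = b at *
  -- `a b a · a · (a b a)⁻¹ = b`
  have h4 : a * b * a * b * a = b := by
    rw [mul_inv_rev, mul_inv_rev, ha, hb] at h3
    calc a * b * a * b * a = a * b * 1 * a * b * a := by rw [mul_one]
      _ = a * (b * a) * a * (a * b * a) := by rw [← sa]; group
      _ = b := h3
  calc (a * b) ^ 3 = (a * b * a * b * a) * b := by simp only [pow_succ, pow_zero, one_mul, mul_assoc]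
    _ = 1 := by rw [h4, sb]

end Cfsg.Agent.H826.AASmall.DRel
end

-- part: H826/AASmall/DInst
section
/-!
# `³D₄(2)` (helper826)
-/

set_option autoImplicit false

namespace Cfsg.Agent.H826.AASmall

open Cfsg.Lie Cfsg.Agent.H459.Rad Cfsg.Agent.H460.AA
open Cfsg.Agent.Schreier.ThreeD4 Cfsg.Agent.Schreier.BNSch
open Cfsg.Agent.ChevalleyStructure.D4Fixed (fix mem_fix twisted_le_fix)
open Cfsg.Agent.ChevalleyStructure
open Cfsg.Agent.ChevalleyStructure.D4Comm
open Cfsg.Agent.ChevalleyStructure.D4NConj (hR)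
open Cfsg.Agent.ChevalleyStructure.D4U
open Cfsg.Agent.ChevalleyStructure.D4RGD
open Cfsg.Agent.ChevalleyStructure.D4Twisted
open Cfsg.Agent.ChevalleyStructure.TwistedU
open scoped commutatorElement Pointwise

section Inst

variable {F : Type*} [Field F] [Fintype F] (hF : Fintype.card F = 8)

/-- the facts on `³D₄(2)` -/
structure Facts (F : Type*) [Field F] : Prop where
  main : ∃ (P : Cfsg.BNPair ↥(twistedD4 F 2)) (U : Sylow 2 ↥(twistedD4 F 2)) (T : Subgroup ↥(twistedD4 F 2))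
    (a b c d e f : ↥(twistedD4 F 2)), Subgroup.normalizer ((U : Subgroup ↥(twistedD4 F 2)) : Set ↥(twistedD4 F 2)) = P.B ∧
      Nat.card P.B = 4096 * 7 ∧ T ≤ P.B ∧ Nat.card T = 7 ∧ Subgroup.centralizer (T : Set ↥(twistedD4 F 2)) ≠ ⊤ ∧
      Six T a b c d e f ∧ ∀ H : Subgroup ↥(twistedD4 F 2), P.B ≤ H → P.B.relIndex H = 3 → a ∈ H ∧ b ∈ H

include hF in
theorem two_eq8 : (2 : F) = 0 := by
  have h1 : (Fintype.card F : F) = 0 := FiniteField.cast_card_eq_zero F
  rw [hF] at h1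
  have h3 : (2 : F) * (2 * 2) = 0 := by
    have : ((8 : ℕ) : F) = 2 * (2 * 2) := by norm_num
    rw [← this]; exact h1
  rcases mul_eq_zero.1 h3 with h | h
  · exact h
  · rcases mul_eq_zero.1 h with h | h <;> exact h

include hF in
seal _root_.Nat.card _root_.List.foldr _root_.List.filter _root_.Cfsg.Agent.ChevalleyStructure.WordCheck.normC _root_.Cfsg.Agent.ChevalleyStructure.WordCheck.vadd _root_.Cfsg.Agent.ChevalleyStructure.WordCheck.isZ _root_.Cfsg.Agent.ChevalleyStructure.WordCheck.vcons _root_.Cfsg.Agent.ChevalleyStructure.WordCheck.pmul _root_.Cfsg.Agent.ChevalleyStructure.WordCheck.ppow _root_.Cfsg.Agent.ChevalleyStructure.WordCheck.psmul _root_.Cfsg.Agent.ChevalleyStructure.WordCheck.insTerm in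
theorem facts : Facts F := by
  have h2 := two_eq8 hF
  have hK : Fintype.card F = 2 ^ 3 := by rw [hF]; norm_num
  have hq : IsPrimePow 2 := Nat.prime_two.isPrimePow
  obtain ⟨φ, hφ⟩ := D4Fixed.exists_frob hq hK
  have hle := twisted_le_fix hK hφ
  obtain ⟨P, hPB, hPN, hPS⟩ := exists_bnPair_aux hφ hle
  let G := ↥(twistedD4 F 2)
  let U : Subgroup ↥(twistedD4 F 2) := (chevD4.posUnipotent F).subgroupOf (twistedD4 F 2)
  let T : Subgroup ↥(twistedD4 F 2) := (chevD4.diagonalSubgroup F).subgroupOf (twistedD4 F 2)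
  have memB : ∀ g : ↥(twistedD4 F 2), g ∈ P.B ↔ (g : GL chevD4.Idx F) ∈ chevD4.borelSubgroup F := by
    intro g
    rw [hPB, Subgroup.mem_subgroupOf, Subgroup.mem_inf]
    exact ⟨fun h => h.1, fun h => ⟨h, g.2⟩⟩
  have memN : ∀ g : ↥(twistedD4 F 2), g ∈ P.N ↔ (g : GL chevD4.Idx F) ∈ chevD4.monomialSubgroup F := by
    intro g
    rw [hPN, Subgroup.mem_subgroupOf, Subgroup.mem_inf]
    exact ⟨fun h => h.1, fun h => ⟨h, g.2⟩⟩
  have hBUH : ∀ b ∈ P.B, ∃ u ∈ U, ∃ h ∈ T, b = u * h := by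
    intro b hb
    obtain ⟨u, hu, huG, h, hh, hhG, e⟩ := ((tdata hφ hle).mem_B_iff (b : GL chevD4.Idx F) b.2).1 ((memB b).1 hb)
    exact ⟨⟨u, huG⟩, hu, ⟨h, hhG⟩, hh, Subtype.ext e⟩
  have hUB : U ≤ P.B := fun u hu => (memB u).2 (Subgroup.mem_sup_left hu)
  have hTB : T ≤ P.B := fun h hh => (memB h).2 (Subgroup.mem_sup_right hh)
  have hTU : ∀ h ∈ T, ∀ u ∈ U, h * u * h⁻¹ ∈ U := fun h hh u hu => (tdata hφ hle).conj_H_U h hh u hu
  have hBU : ∀ b ∈ P.B, ∀ u ∈ U, b * u * b⁻¹ ∈ U := by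
    intro b hb u hu
    obtain ⟨v, hv, h, hh, rfl⟩ := hBUH b hb
    have e : v * h * u * (v * h)⁻¹ = v * (h * u * h⁻¹) * v⁻¹ := by group
    rw [e]
    exact mul_mem (mul_mem hv (hTU h hh u hu)) (inv_mem hv)
  have hfix : ∀ g : ↥(twistedD4 F 2), (g : GL chevD4.Idx F) ∈ fix φ := fun g => hle g.2
  have h1φ : φ 1 = 1 := map_one φ
  -- the elements
  obtain ⟨a, ha⟩ : ∃ a : ↥(twistedD4 F 2), (a : GL chevD4.Idx F) = xG 14 (1 : F) := ⟨⟨xG 14 1, xG14_mem hφ h1φ⟩, rfl⟩
  have haU : a ∈ U := by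
    rw [Subgroup.mem_subgroupOf, ha]
    exact (RS14_le_U (mem_rspan xG (S := {k | k ∈ [14]}) (by simp) 1))
  obtain ⟨na', hna', hna''⟩ : ∃ n : ↥(twistedD4 F 2), (n : GL chevD4.Idx F) = na F ∧ n = nA hφ := ⟨nA hφ, rfl, rfl⟩
  obtain ⟨nb', hnb', hnb''⟩ : ∃ n : ↥(twistedD4 F 2), (n : GL chevD4.Idx F) = nb F ∧ n = nB hφ := ⟨nB hφ, rfl, rfl⟩
  have hnb : nb' ∈ P.N := P.subset (by rw [hPS, hnb'']; exact Or.inr rfl)
  have hna : na' ∈ P.N := P.subset (by rw [hPS, hna'']; exact Or.inl rfl)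
  obtain ⟨b, hb0⟩ : ∃ b : ↥(twistedD4 F 2), b = na' * a * na'⁻¹ := ⟨_, rfl⟩
  have hb : (b : GL chevD4.Idx F) = xG 9 (1 : F) := by
    rw [hb0, Subgroup.coe_mul, Subgroup.coe_mul, Subgroup.coe_inv, hna', ha]; exact DRel.na_conj h2
  obtain ⟨c, hc0⟩ : ∃ b : ↥(twistedD4 F 2), b = nb' * a * nb'⁻¹ := ⟨_, rfl⟩
  have hc : (c : GL chevD4.Idx F) = xG 22 (1 : F) := by
    rw [hc0, Subgroup.coe_mul, Subgroup.coe_mul, Subgroup.coe_inv, hnb', ha]; exact DRel.nb_conj_14 h2
  obtain ⟨d, hd0⟩ : ∃ b' : ↥(twistedD4 F 2), b' = nb' * b * nb'⁻¹ := ⟨_, rfl⟩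
  have hd : (d : GL chevD4.Idx F) = xG 1 (1 : F) := by
    rw [hd0, Subgroup.coe_mul, Subgroup.coe_mul, Subgroup.coe_inv, hnb', hb]; exact DRel.nb_conj_9 h2
  obtain ⟨⟨k1, k2, k3, k4⟩, k5, k6, k7⟩ := DRel.ok_all
  obtain ⟨⟨r1, r2, r3, r4⟩, r5, r6, r7⟩ := DRel.res_all
  have hco : ∀ g h : ↥(twistedD4 F 2), ((⁅g, h⁆ : ↥(twistedD4 F 2)) : GL chevD4.Idx F) =
      ⁅(g : GL chevD4.Idx F), (h : GL chevD4.Idx F)⁆ := fun g h => map_commutatorElement (twistedD4 F 2).subtype g h
  obtain ⟨e, he0⟩ : ∃ b' : ↥(twistedD4 F 2), b' = ⁅a, c⁆ := ⟨_, rfl⟩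
  have he : (e : GL chevD4.Idx F) = xG 23 (1 : F) := by
    rw [he0, hco, ha, hc]; exact DRel.comm_one h2 k1 r1
  obtain ⟨f, hf0⟩ : ∃ b' : ↥(twistedD4 F 2), b' = ⁅b, d⁆ := ⟨_, rfl⟩
  have hf : (f : GL chevD4.Idx F) = xG 0 (1 : F) := by
    rw [hf0, hco, hb, hd]; exact DRel.comm_one h2 k6 r6
  have a2 : a * a = 1 := Subtype.ext (by rw [Subgroup.coe_mul, ha]; exact DRel.sq_one h2 14)
  -- commuting with `T`
  have hX : ∀ t : F, φ t = t → t = 0 ∨ t = 1 := by
    intro t ht
    rw [hφ] at ht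
    have h3 : t * (t - 1) = 0 := by
      have : t * t = t := by rw [← pow_two]; exact ht
      rw [mul_sub, this, mul_one, sub_self]
    rcases mul_eq_zero.1 h3 with h | h
    · exact Or.inl h
    · exact Or.inr (sub_eq_zero.1 h)
  have ha1 : (xG 14 (1 : F) : GL chevD4.Idx F) ≠ 1 := by
    intro h
    have h3 : (na F)⁻¹ * xG 14 (1 : F) * na F ∈ chevD4.borelSubgroup F := by
      rw [h, mul_one, inv_mul_cancel]; exact one_mem _
    exact one_ne_zero (xa_eq_zero h3)
  have ca : ∀ t ∈ T, a * t = t * a := by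
    intro t ht
    obtain ⟨c', hc', h3⟩ := H_conj_a (φ := φ) (h := (t : GL chevD4.Idx F)) ht (hfix t)
    have h4 := h3 1
    rcases hX c' hc' with rfl | rfl
    · exfalso
      rw [zero_mul, xG_zero] at h4
      apply ha1
      exact mul_eq_left.1 (mul_inv_eq_one.1 h4)
    · rw [one_mul] at h4
      apply Subtype.ext
      rw [Subgroup.coe_mul, Subgroup.coe_mul, ha]
      exact (mul_inv_eq_iff_eq_mul.1 h4).symm
  have cconj : ∀ n ∈ P.N, ∀ g : ↥(twistedD4 F 2), (∀ t ∈ T, g * t = t * g) → ∀ t ∈ T, (n * g * n⁻¹) * t = t * (n * g * n⁻¹) := by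
    intro n hn g hg t ht
    have h3 : n⁻¹ * t * n ∈ T := by
      have h4 := conj_mem_diagonal (g := ((n⁻¹ : ↥(twistedD4 F 2)) : GL chevD4.Idx F)) (h := (t : GL chevD4.Idx F))
        ((memN _).1 (inv_mem hn)) ht
      rw [Subgroup.mem_subgroupOf, Subgroup.coe_mul, Subgroup.coe_mul]
      have h5 : ((n : ↥(twistedD4 F 2)) : GL chevD4.Idx F) = ((n⁻¹ : ↥(twistedD4 F 2)) : GL chevD4.Idx F)⁻¹ := by
        rw [Subgroup.coe_inv, inv_inv]
      rw [h5]; exact h4
    have h4 := hg _ h3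
    calc (n * g * n⁻¹) * t = n * (g * (n⁻¹ * t * n)) * n⁻¹ := by group
      _ = t * (n * g * n⁻¹) := by rw [h4]; group
  have cb : ∀ t ∈ T, b * t = t * b := by rw [hb0]; exact cconj na' hna a ca
  have cc : ∀ t ∈ T, c * t = t * c := by rw [hc0]; exact cconj nb' hnb a ca
  have cd : ∀ t ∈ T, d * t = t * d := by rw [hd0]; exact cconj nb' hnb b cb
  have ccomm : ∀ g h : ↥(twistedD4 F 2), (∀ t ∈ T, g * t = t * g) → (∀ t ∈ T, h * t = t * h) → ∀ t ∈ T,
      ⁅g, h⁆ * t = t * ⁅g, h⁆ := by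
    intro g h hg hh t ht
    have h1 : Commute g t := hg t ht
    have h3 : Commute h t := hh t ht
    rw [commutatorElement_def]
    exact ((h1.mul_left h3).mul_left h1.inv_left).mul_left h3.inv_left
  have ce : ∀ t ∈ T, e * t = t * e := by rw [he0]; exact ccomm a c ca cc
  have cf : ∀ t ∈ T, f * t = t * f := by rw [hf0]; exact ccomm b d cb cd
  have hnab : na'⁻¹ * a * na' ∉ P.B := by
    intro h6
    rw [memB, Subgroup.coe_mul, Subgroup.coe_mul, Subgroup.coe_inv, hna', ha] at h6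
    exact one_ne_zero (xa_eq_zero h6)
  have hab : a * b ≠ 1 := by
    intro h
    have h3 : b = a := by
      calc b = (a * a) * b := by rw [a2, one_mul]
        _ = a * (a * b) := by group
        _ = a := by rw [h, mul_one]
    apply hnab
    have h4 : na'⁻¹ * a * na' = a := by
      have h6 : na' * a = a * na' := mul_inv_eq_iff_eq_mul.1 (hb0.symm.trans h3)
      calc na'⁻¹ * a * na' = na'⁻¹ * (a * na') := by group
        _ = a := by rw [← h6]; group
    rw [h4]; exact hUB haU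
  have six : Six T a b c d e f := by
    refine ⟨?_, a2, Subtype.ext ?_, Subtype.ext ?_, hab, he0.symm, Subtype.ext ?_,
      Subtype.ext ?_, Subtype.ext ?_, Subtype.ext ?_, hf0.symm, Subtype.ext ?_⟩
    · intro g hg
      simp only [Set.mem_insert_iff, Set.mem_singleton_iff] at hg
      rcases hg with h | h | h | h | h | h <;> rw [h] <;> assumption
    · rw [Subgroup.coe_mul, hb]; exact DRel.sq_one h2 9
    · rw [Subgroup.coe_pow, Subgroup.coe_mul, ha, hb]; exact DRel.cube h2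
    · rw [hco, hb, hc, DRel.comm_of_ok k2, DRel.cval_of_none r2]; rfl
    · rw [hco, he, hd, ha]; exact DRel.comm_one h2 k3 r3
    · rw [hco, he, hb, hc]; exact DRel.comm_one h2 k4 r4
    · rw [hco, ha, hf, hd]; exact DRel.comm_one h2 k5 r5
    · rw [hco, hc, hf, hb]; exact DRel.comm_one h2 k7 r7
  -- cards
  have hcU : Nat.card U = 4096 := by
    have h1 : Nat.card U = Nat.card ↥(chevD4.posUnipotent F ⊓ twistedD4 F 2) := by
      show Nat.card ((chevD4.posUnipotent F).subgroupOf (twistedD4 F 2)) = _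
      rw [← Subgroup.inf_subgroupOf_right]
      exact Nat.card_congr (Subgroup.subgroupOfEquivOfLe inf_le_right).toEquiv
    rw [h1, card_U1 hq hK]
    norm_num
  have hcT : Nat.card T = 7 := by
    have h1 : Nat.card T = Nat.card ↥(chevD4.diagonalSubgroup F ⊓ twistedD4 F 2) := by
      show Nat.card ((chevD4.diagonalSubgroup F).subgroupOf (twistedD4 F 2)) = _
      rw [← Subgroup.inf_subgroupOf_right]
      exact Nat.card_congr (Subgroup.subgroupOfEquivOfLe inf_le_right).toEquiv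
    rw [h1, Cfsg.Agent.S1106.result hq hK]
    norm_num
  have hcG : Nat.card ↥(twistedD4 F 2) = 4096 * 51597 := by
    rw [Cfsg.Agent.S1067.result hq hK]
    norm_num
  have hUi : U.index = 51597 := by
    have h1 := U.card_mul_index
    rw [hcU, hcG] at h1
    exact Nat.eq_of_mul_eq_mul_left (by norm_num) h1
  have hUp : IsPGroup 2 U := IsPGroup.of_card (n := 12) (by rw [hcU]; norm_num)
  have hdis : Disjoint U T := by
    rw [disjoint_iff_inf_le]
    intro z hz
    rw [Subgroup.mem_bot]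
    have h1 := orderOf_dvd_natCard (⟨z, hz.1⟩ : U)
    have h3 := orderOf_dvd_natCard (⟨z, hz.2⟩ : T)
    rw [Subgroup.orderOf_mk, hcU] at h1
    rw [Subgroup.orderOf_mk, hcT] at h3
    have h4 : orderOf z ∣ Nat.gcd 4096 7 := Nat.dvd_gcd h1 h3
    have h5 : Nat.gcd 4096 7 = 1 := by norm_num
    rw [h5, Nat.dvd_one] at h4
    exact orderOf_eq_one_iff.1 h4
  have hcB : Nat.card P.B = 4096 * 7 := by
    rw [← hcU, ← hcT, ← Nat.card_prod]
    refine (Nat.card_eq_of_bijective (fun p : U × T => (⟨p.1 * p.2, mul_mem (hUB p.1.2) (hTB p.2.2)⟩ : P.B)) ⟨?_, ?_⟩).symm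
    · intro p p' h
      exact Subgroup.mul_injective_of_disjoint hdis (congrArg Subtype.val h)
    · rintro ⟨w, hw⟩
      obtain ⟨u, hu, h, hh, rfl⟩ := hBUH w hw
      exact ⟨⟨⟨u, hu⟩, ⟨h, hh⟩⟩, rfl⟩
  -- the second node
  obtain ⟨X, hX0⟩ : ∃ X : F → ↥(twistedD4 F 2), ∀ t, (X t : GL chevD4.Idx F) = D4Fixed.X φ t :=
    ⟨fun t => ⟨D4Fixed.X φ t, D4Fixed.X_mem hφ t⟩, fun _ => rfl⟩
  have hXU : ∀ t, X t ∈ U := by
    intro t
    rw [Subgroup.mem_subgroupOf, hX0]
    exact RSouter_le_U (X_mem_RS t)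
  have hXadd : ∀ t u, X (t + u) = X t * X u := fun t u => Subtype.ext (by
    rw [Subgroup.coe_mul, hX0, hX0, hX0]; exact X_add t u)
  have hXb : ∀ t, nb'⁻¹ * X t * nb' ∈ P.B → t = 0 := by
    intro t ht
    rw [memB, Subgroup.coe_mul, Subgroup.coe_mul, Subgroup.coe_inv, hnb', hX0] at ht
    exact xb_eq_zero ht
  have hnorm : Subgroup.normalizer (U : Set ↥(twistedD4 F 2)) = P.B := by
    refine normalizer_eq P U hUB hBU ?_
    intro s hs
    rw [hPS] at hs
    rcases hs with h | h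
    · exact ⟨a, haU, by rw [h, ← hna'']; exact hnab⟩
    · refine ⟨X 1, hXU 1, ?_⟩
      rw [h, ← hnb'']
      exact fun h => one_ne_zero (hXb 1 h)
  refine ⟨⟨P, hUp.toSylow (by rw [hUi]; norm_num), T, a, b, c, d, e, f, hnorm, hcB, hTB, hcT, ?_, six, ?_⟩⟩
  · -- `T` is not central
    intro htop
    obtain ⟨c0, hc0, hc1⟩ : ∃ c0 : F, c0 ≠ 0 ∧ c0 ≠ 1 := by
      classical
      by_contra hcon
      push Not at hcon
      have h3 : (Finset.univ : Finset F) ⊆ {0, 1} := by
        intro x _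
        by_cases hx : x = 0
        · simp only [hx, _root_.Finset.mem_insert, _root_.Finset.mem_singleton, _root_.zero_ne_one, _root_.or_false]
        · simp only [hcon x hx, _root_.Finset.mem_insert, _root_.one_ne_zero, _root_.Finset.mem_singleton, _root_.or_true]
      have h4 := Finset.card_le_card h3
      rw [Finset.card_univ, hF] at h4
      have h5 : ({0, 1} : Finset F).card ≤ 2 := Finset.card_le_two
      omega
    have h3 : (⟨D4Twisted.hb φ c0, hb_mem hφ c0⟩ : ↥(twistedD4 F 2)) ∈ T := hb_mem_diagonal φ hc0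
    have h4 : X 1 ∈ Subgroup.centralizer (T : Set ↥(twistedD4 F 2)) := by rw [htop]; exact Subgroup.mem_top _
    rw [Subgroup.mem_centralizer_iff] at h4
    have h5 := h4 _ h3
    have h6 := congrArg (fun g : ↥(twistedD4 F 2) => (g : GL chevD4.Idx F)) h5
    simp only [Subgroup.coe_mul, hX0] at h6
    have h7 := sq_b (φ := φ) hc0
    rw [h6, mul_inv_cancel_right] at h7
    have h8 := X_inj h7
    have h9 : (c0 - 1) * (c0 - 1) = 0 := by
      calc (c0 - 1) * (c0 - 1) = c0 ^ 2 + 1 - 2 * c0 := by ring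
        _ = 0 := by rw [h2, zero_mul, sub_zero, ← h8, one_add_one_eq_two, h2]
    exact hc1 (sub_eq_zero.1 (mul_self_eq_zero.1 h9))
  · intro H hBH hidx
    have haH : a ∈ H := hBH (hUB haU)
    refine ⟨haH, ?_⟩
    -- some node lies in `H`
    obtain ⟨E, hE⟩ := Cfsg.Agent.S0316.result P
    set J := E.symm ⟨H, hBH⟩ with hJ
    have hHJ : H = P.parabolic (Subtype.val '' J) := by
      rw [← hE J, hJ, OrderIso.apply_symm_apply]
    have hJne : J.Nonempty := by
      rw [Set.nonempty_iff_ne_empty]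
      intro h
      rw [h, Set.image_empty] at hHJ
      have h3 : H = P.B := by rw [hHJ, BNPair.parabolic, Subgroup.closure_empty, sup_bot_eq]
      rw [h3, Subgroup.relIndex_self] at hidx
      omega
    obtain ⟨⟨s, hs⟩, hsJ⟩ := hJne
    have hsH : s ∈ H := by
      rw [hHJ]
      exact Subgroup.mem_sup_right (Subgroup.subset_closure ⟨⟨s, hs⟩, hsJ, rfl⟩)
    rw [hPS] at hs
    rcases hs with h | h
    · rw [hb0, hna'', ← h]
      exact H.mul_mem (H.mul_mem hsH haH) (H.inv_mem hsH)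
    · exfalso
      have hnH : nb' ∈ H := by rw [hnb'', ← h]; exact hsH
      let g : F → ↥H ⧸ (P.B.subgroupOf H) := fun t => ((⟨X t * nb', H.mul_mem (hBH (hUB (hXU t))) hnH⟩ : H) : _)
      have hg : Function.Injective g := by
        intro t t' htt
        have h3 := QuotientGroup.eq.1 htt
        rw [Subgroup.mem_subgroupOf] at h3
        have h4 : (X t * nb')⁻¹ * (X t' * nb') ∈ P.B := h3
        have h5 : (X t * nb')⁻¹ * (X t' * nb') = nb'⁻¹ * X (t' - t) * nb' := by
          have h6 : X t' = X t * X (t' - t) := by rw [← hXadd]; congr 1; ring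
          rw [h6]; group
        rw [h5] at h4
        exact (sub_eq_zero.1 (hXb _ h4)).symm
      have h3 := Nat.card_le_card_of_injective g hg
      rw [Nat.card_eq_fintype_card, hF] at h3
      have h4 : Nat.card (↥H ⧸ (P.B.subgroupOf H)) = 3 := hidx
      omega

/-- **`³D₄(2)`** : `x` normalises a parabolic subgroup `H` with three chambers, but no chamber -/
theorem d4 (hF : Fintype.card F = 8) (x : MulAut ↥(twistedD4 F 2)) (hx : orderOf x = 3) (hR : RC x)
    (V : Sylow 2 ↥(twistedD4 F 2)) (H : Subgroup ↥(twistedD4 F 2))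
    (hle : Subgroup.normalizer ((V : Subgroup ↥(twistedD4 F 2)) : Set ↥(twistedD4 F 2)) ≤ H)
    (hxH : ∀ h ∈ H, x h ∈ H)
    (hidx : (Subgroup.normalizer ((V : Subgroup ↥(twistedD4 F 2)) : Set ↥(twistedD4 F 2))).relIndex H = 3)
    (hno : ∀ W : Sylow 2 ↥(twistedD4 F 2),
      ¬ ∀ b ∈ (Subgroup.normalizer ((W : Subgroup ↥(twistedD4 F 2)) : Set ↥(twistedD4 F 2)) :),
        x b ∈ Subgroup.normalizer ((W : Subgroup ↥(twistedD4 F 2)) : Set ↥(twistedD4 F 2))) : False := by
  obtain ⟨⟨P, U, T, a, b, c, d, e, f, hn, hcB, hTB, hcT, hC, six, hH⟩⟩ := facts hF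
  have hx3 : x ^ 3 = 1 := by rw [← hx]; exact pow_orderOf_eq_one x
  obtain ⟨g, hg⟩ := MulAction.exists_smul_eq ↥(twistedD4 F 2) U V
  -- the conjugate automorphism
  set y : MulAut ↥(twistedD4 F 2) := tr (MulAut.conj g⁻¹) x with hy
  have hya : ∀ k, y k = g⁻¹ * x (g * k * g⁻¹) * g := by
    intro k
    rw [hy, tr_apply]
    have h1 : (MulAut.conj g⁻¹).symm k = g * k * g⁻¹ := by
      rw [MulEquiv.symm_apply_eq, MulAut.conj_apply, inv_inv]
      group
    rw [h1, MulAut.conj_apply, inv_inv]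
  have hy3 : y ^ 3 = 1 := by
    have h1 : orderOf y = orderOf x := orderOf_tr _ x
    exact orderOf_dvd_iff_pow_eq_one.1 (h1 ▸ orderOf_dvd_of_pow_eq_one hx3)
  have hm : ∀ (W : Sylow 2 ↥(twistedD4 F 2)) (v : ↥(twistedD4 F 2)),
      v ∈ ((g • W : Sylow 2 ↥(twistedD4 F 2)) : Subgroup ↥(twistedD4 F 2)) ↔ g⁻¹ * v * g ∈ (W : Subgroup ↥(twistedD4 F 2)) := by
    intro W v
    rw [Sylow.smul_def, Sylow.pointwise_smul_def, Subgroup.mem_pointwise_smul_iff_inv_smul_mem]
    have : ((MulAut.conj g)⁻¹ • v : ↥(twistedD4 F 2)) = g⁻¹ * v * g := by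
      rw [← map_inv]
      change g⁻¹ * v * g⁻¹⁻¹ = _
      rw [inv_inv]
    rw [this]
  have hmN : ∀ v : ↥(twistedD4 F 2), v ∈ (Subgroup.normalizer ((V : Subgroup ↥(twistedD4 F 2)) : Set ↥(twistedD4 F 2)) :) ↔
      g⁻¹ * v * g ∈ (Subgroup.normalizer ((U : Subgroup ↥(twistedD4 F 2)) : Set ↥(twistedD4 F 2)) :) := by
    intro v
    rw [Subgroup.mem_normalizer_iff, Subgroup.mem_normalizer_iff]
    have hV : ∀ w, w ∈ (V : Subgroup ↥(twistedD4 F 2)) ↔ g⁻¹ * w * g ∈ (U : Subgroup ↥(twistedD4 F 2)) := by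
      intro w; rw [← hg]; exact hm U w
    constructor
    · intro h1 k
      have h3 := h1 (g * k * g⁻¹)
      rw [hV, hV] at h3
      have e1 : g⁻¹ * (g * k * g⁻¹) * g = k := by group
      have e2 : g⁻¹ * (v * (g * k * g⁻¹) * v⁻¹) * g = g⁻¹ * v * g * k * (g⁻¹ * v * g)⁻¹ := by group
      rwa [e1, e2] at h3
    · intro h1 k
      rw [hV, hV, h1]
      have e2 : g⁻¹ * (v * k * v⁻¹) * g = g⁻¹ * v * g * (g⁻¹ * k * g) * (g⁻¹ * v * g)⁻¹ := by group
      rw [e2]
  set H' : Subgroup ↥(twistedD4 F 2) := H.comap (MulAut.conj g).toMonoidHom with hH'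
  have hH'm : ∀ v, v ∈ H' ↔ g * v * g⁻¹ ∈ H := fun v => Iff.rfl
  have hNe : Subgroup.normalizer ((U : Subgroup ↥(twistedD4 F 2)) : Set ↥(twistedD4 F 2)) =
      (Subgroup.normalizer ((V : Subgroup ↥(twistedD4 F 2)) : Set ↥(twistedD4 F 2))).comap
        (MulAut.conj g).toMonoidHom := by
    ext v
    rw [Subgroup.mem_comap]
    change _ ↔ g * v * g⁻¹ ∈ _
    rw [hmN]
    have e1 : g⁻¹ * (g * v * g⁻¹) * g = v := by group
    rw [e1]
  have hle' : Subgroup.normalizer ((U : Subgroup ↥(twistedD4 F 2)) : Set ↥(twistedD4 F 2)) ≤ H' := by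
    rw [hNe]; exact Subgroup.comap_mono hle
  have hidx' : (Subgroup.normalizer ((U : Subgroup ↥(twistedD4 F 2)) : Set ↥(twistedD4 F 2))).relIndex H' = 3 := by
    rw [hNe, hH', Subgroup.relIndex_comap, Subgroup.map_comap_eq_self_of_surjective (MulAut.conj g).surjective, hidx]
  have hxH' : ∀ h ∈ H', y h ∈ H' := by
    intro h hh
    rw [hH'm] at hh ⊢
    rw [hya]
    have e1 : g * (g⁻¹ * x (g * h * g⁻¹) * g) * g⁻¹ = x (g * h * g⁻¹) := by group
    rw [e1]
    exact hxH _ hh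
  have hno' : ∀ W : Sylow 2 ↥(twistedD4 F 2), ¬ ∀ u ∈ (W : Subgroup ↥(twistedD4 F 2)), y u ∈ (W : Subgroup ↥(twistedD4 F 2)) := by
    intro W hW
    apply hno (g • W)
    have hW' : ∀ u ∈ ((g • W : Sylow 2 ↥(twistedD4 F 2)) : Subgroup ↥(twistedD4 F 2)),
        x u ∈ ((g • W : Sylow 2 ↥(twistedD4 F 2)) : Subgroup ↥(twistedD4 F 2)) := by
      intro u hu
      rw [hm] at hu ⊢
      have h1 := hW _ hu
      rw [hya] at h1
      have e1 : g * (g⁻¹ * u * g) * g⁻¹ = u := by group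
      rwa [e1] at h1
    set W' : Subgroup ↥(twistedD4 F 2) := ((g • W : Sylow 2 ↥(twistedD4 F 2)) : Subgroup ↥(twistedD4 F 2)) with hWd
    have hWe : W'.map x.toMonoidHom = W' := by
      apply Subgroup.eq_of_le_of_card_ge
      · rintro _ ⟨k, hk, rfl⟩
        exact hW' k hk
      · exact (Nat.card_congr (W'.equivMapOfInjective _ x.injective).toEquiv).le
    intro n hn
    rw [Subgroup.mem_normalizer_iff] at hn ⊢
    have hiff : ∀ k, x k ∈ W' ↔ k ∈ W' := by
      intro k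
      refine ⟨fun hk => ?_, hW' k⟩
      rw [← hWe] at hk
      obtain ⟨l, hl, h5⟩ := hk
      have h6 : l = k := x.injective h5
      rw [← h6]; exact hl
    intro k
    obtain ⟨l, rfl⟩ := x.surjective k
    rw [← map_mul, ← map_inv, ← map_mul, hiff, hiff]
    exact hn l
  have hn3 : ¬ 3 ∣ Nat.card (Subgroup.normalizer ((U : Subgroup ↥(twistedD4 F 2)) : Set ↥(twistedD4 F 2))) := by
    rw [hn, hcB]; norm_num
  have hn49 : ¬ 49 ∣ Nat.card (Subgroup.normalizer ((U : Subgroup ↥(twistedD4 F 2)) : Set ↥(twistedD4 F 2))) := by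
    rw [hn, hcB]; norm_num
  have hBH' : P.B ≤ H' := by rw [← hn]; exact hle'
  obtain ⟨haH, hbH⟩ := hH H' hBH' (by rw [← hn]; exact hidx')
  exact main six hy3 (hR.tr _) U hle' hidx' hxH' hno' hn3 (hTB.trans hBH') hcT hn49 hC haH hbH

end Inst

end Cfsg.Agent.H826.AASmall
end

-- part: H460/FamA
section
/-!
# `Core` for families of Lie type, I (helper460)

Orthogonal groups of odd dimension and of minus type, unitary groups of odd dimension, `F₄`, `E₆`, `E₇`, `E₈`, `²E₆`,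
`³D₄`.
-/

set_option autoImplicit false

namespace Cfsg.Agent.H460.Fam

open Cfsg Subgroup Cfsg.Agent.H460.Engine Cfsg.Agent.H460.AA Cfsg.Agent.H460.Dgs Cfsg.Agent.H538.MFacts
open Cfsg.Agent.H459.Rad Cfsg.Agent.H459.Gallery Cfsg.Agent.H460.Typed Cfsg.Agent.H185.TypedTw
open Cfsg.Agent.LieRecognition.BNCox (cA)
open Cfsg.Agent.Nodes

theorem pfu : PFU := fun _F _ _ σ _ hσ _q hq hq2 _r _ hr2 h1 => H521.PFU3.pf_u3 σ hσ hq hq2 hr2 h1

section General

variable {K : Type*} [Group K] [Finite K] {ℓ : ℕ} [Fact ℓ.Prime] {l : ℕ} {M : CoxeterMatrix (Fin l)} {Q : Fin l → ℕ}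

/-- the engine for a given prime -/
theorem main {E : Eng ℓ K M Q} (hD : Dg M) {r : ℕ} [hr : Fact r.Prime] (hr2 : r ≠ 2) (hA : NoAut M r)
    {x : MulAut K} (hx : orderOf x = r) (hR : RC x) (hP : PA r x) : _root_.Cfsg.Agent.H460.Engine.Star E r x ∨ Own E r :=
  eng_main hD hr2 hA hx hR hP fun h5 hall i y => pf_pan pfu E h5 i (hall i) y

/-- rank at least three, not a star -/
theorem core_of_not_star [IsSimpleGroup K] (H : HasTyped ℓ K M Q) (h3 : 3 ≤ l) (hD : Dg M)
    (hA : ∀ r, r.Prime → r ≠ 2 → NoAut M r)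
    (hs : ¬ ∃ c, ∀ i j, i ≠ c → j ≠ c → i ≠ j → M i j = 2) : Core K := by
  intro r hr hr2 x hx hR hP
  obtain ⟨E⟩ := exists_eng (by omega) H
  rcases main (E := E) hD hr2 (hA r hr.out hr2) hx hR hP with h | h
  · obtain ⟨-, -, c, -, h1⟩ := h.q hr2 hD.two
    exact hs ⟨c, h1⟩
  · obtain ⟨-, -, h1, -⟩ := h.q hr2
    omega

end General

section Chev

open Cfsg.Lie Cfsg.Agent.Nodes.RGDChev

variable (F : Type) [Field F] [Finite F]

theorem core_F4 [IsSimpleGroup ↥(chevF4.group F)] : Core ↥(chevF4.group F) := by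
  obtain ⟨p, hp⟩ := CharP.exists F
  have : Fact p.Prime := ⟨CharP.char_is_prime F p⟩
  exact core_of_not_star (ℓ := p) (H594.TypedAE.typed_chev (l := 4) (M := CoxeterMatrix.F₄) (by simp [IsType, typeList]) F p) (by norm_num) dg_F4
    (fun r hr hr2 σ hσ h => aut_F4 σ hσ r hr hr2 h) star_F4

theorem core_E6 [IsSimpleGroup ↥(chevE6.group F)] : Core ↥(chevE6.group F) := by
  obtain ⟨p, hp⟩ := CharP.exists F
  have : Fact p.Prime := ⟨CharP.char_is_prime F p⟩
  exact core_of_not_star (ℓ := p) (H594.TypedAE.typed_chev (l := 6) (M := CoxeterMatrix.E₆) (by simp [IsType, typeList]) F p) (by norm_num) dg_E6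
    (fun r hr hr2 σ hσ h => aut_E6 σ hσ r hr hr2 h) star_E6

theorem core_E7 [IsSimpleGroup ↥(chevE7.group F)] : Core ↥(chevE7.group F) := by
  obtain ⟨p, hp⟩ := CharP.exists F
  have : Fact p.Prime := ⟨CharP.char_is_prime F p⟩
  exact core_of_not_star (ℓ := p) (H594.TypedAE.typed_chev (l := 7) (M := CoxeterMatrix.E₇) (by simp [IsType, typeList]) F p) (by norm_num) dg_E7
    (fun r hr hr2 σ hσ h => aut_E7 σ hσ r hr hr2 h) star_E7

theorem core_E8 [IsSimpleGroup ↥(chevE8.group F)] : Core ↥(chevE8.group F) := by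
  obtain ⟨p, hp⟩ := CharP.exists F
  have : Fact p.Prime := ⟨CharP.char_is_prime F p⟩
  exact core_of_not_star (ℓ := p) (H594.TypedAE.typed_chev (l := 8) (M := CoxeterMatrix.E₈) (by simp [IsType, typeList]) F p) (by norm_num) dg_E8
    (fun r hr hr2 σ hσ h => aut_E8 σ hσ r hr hr2 h) star_E8

variable {F}

theorem core_2E6 {q : ℕ} (hq : IsPrimePow q) (hF : Nat.card F = q ^ 2) [IsSimpleGroup ↥(twistedE6 F q)] :
    Core ↥(twistedE6 F q) := by
  obtain ⟨p, hp⟩ := CharP.exists F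
  have : Fact p.Prime := ⟨CharP.char_is_prime F p⟩
  exact core_of_not_star (ℓ := p) (ftyped_2E6 F hq hF).typed (by norm_num) dg_F4
    (fun r hr hr2 σ hσ h => aut_F4 σ hσ r hr hr2 h) star_F4

end Chev

section Orth

variable {F : Type} [Field F] [Finite F] {m : ℕ}

/-- orthogonal groups of odd dimension -/
theorem core_odd (hm : 3 ≤ m) (hq : Odd (Nat.card F)) [IsSimpleGroup (POmega F (quadFormOdd m F))] :
    Core (POmega F (quadFormOdd m F)) := by
  obtain ⟨p, hp⟩ := CharP.exists F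
  have : Fact p.Prime := ⟨CharP.char_is_prime F p⟩
  have : Finite (POmega F (quadFormOdd m F)) := Quotient.finite _
  intro r hr hr2 x hx hR hP
  obtain ⟨E⟩ := exists_eng (by omega) (H185.TypedO.typed_odd_card (F := F) (p := p) (m := m) (by omega) hq)
  rcases main (E := E) (dg_B m (by omega)) hr2 (fun σ hσ h => aut_B m σ hσ r hr.out hr2 h) hx hR hP with h | h
  · obtain ⟨-, h2, -⟩ := h.q hr2 (by omega)
    subst h2
    exact H185.TypedO.two_ne_zero_of_card (F := F) hq (CharP.cast_eq_zero F 2)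
  · obtain ⟨-, -, h1, -⟩ := h.q hr2
    omega

/-- orthogonal groups of minus type -/
theorem core_minus (hm : 4 ≤ m) (a b : F)
    (hab : ∀ z₁ z₂ : F, z₁ ^ 2 + a * z₁ * z₂ + b * z₂ ^ 2 = 0 → z₁ = 0 ∧ z₂ = 0)
    [IsSimpleGroup (POmega F (quadFormMinus (m - 1) F a b))] : Core (POmega F (quadFormMinus (m - 1) F a b)) := by
  obtain ⟨p, hp⟩ := CharP.exists F
  have : Fact p.Prime := ⟨CharP.char_is_prime F p⟩
  have : Finite (POmega F (quadFormMinus (m - 1) F a b)) := Quotient.finite _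
  obtain ⟨n, rfl⟩ : ∃ n, m = n + 1 := ⟨m - 1, by omega⟩
  rw [Nat.add_sub_cancel] at *
  intro r hr hr2 x hx hR hP
  obtain ⟨E⟩ := exists_eng (by omega) (H185.TypedO.typed_minus' (F := F) (p := p) (m := n) (by omega) a b hab)
  rcases main (E := E) (dg_B n (by omega)) hr2 (fun σ hσ h => aut_B n σ hσ r hr.out hr2 h) hx hR hP with h | h
  · obtain ⟨-, -, c, h3, h4⟩ := h.q hr2 (by omega)
    rcases Nat.lt_or_ge 3 n with hn | hn
    · exact star_B n hn ⟨c, h4⟩
    · obtain rfl : n = 3 := by omega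
      have hc := mid_B3 h4
      have h5 := h3 2 (by rw [hc]; decide)
      have h6 : Nat.card F ^ 2 = 2 ∨ Nat.card F ^ 2 = 8 := h5
      have h7 : Nat.card F < 3 := by
        by_contra hcon
        have := Nat.pow_le_pow_left (not_lt.1 hcon) 2
        omega
      interval_cases (Nat.card F) <;> omega
  · obtain ⟨-, -, h1, -⟩ := h.q hr2
    omega

end Orth

section Unitary

variable {F : Type} [Field F] [Fintype F] {q m : ℕ}

/-- unitary groups of odd dimension at least five -/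
theorem core_psu_odd (hF : Fintype.card F = q ^ 2) (hm : 2 ≤ m) [IsSimpleGroup (PSU (2 * m + 1) F q)] :
    Core (PSU (2 * m + 1) F q) := by
  obtain ⟨p, hp⟩ := CharP.exists F
  have : Fact p.Prime := ⟨CharP.char_is_prime F p⟩
  have : Finite (PSU (2 * m + 1) F q) := Quotient.finite _
  intro r hr hr2 x hx hR hP
  obtain ⟨E⟩ := exists_eng (by omega) (H14.TypC.typed_psu_odd (F := F) (p := p) hF (m := m) (by omega))
  rcases main (E := E) (dg_B m hm) hr2 (fun σ hσ h => aut_B m σ hσ r hr.out hr2 h) hx hR hP with h | h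
  · obtain ⟨h3r, -, c, h3, h4⟩ := h.q hr2 hm
    have hq2 : ¬ (q ^ 2 = 2 ∨ q ^ 2 = 8) := by
      intro h6
      have h7 : q < 3 := by
        by_contra hcon
        have := Nat.pow_le_pow_left (not_lt.1 hcon) 2
        omega
      interval_cases q <;> omega
    rcases Nat.lt_or_ge 3 m with hn | hn
    · exact star_B m hn ⟨c, h4⟩
    · rcases hn.eq_or_lt with rfl | hn
      · have hc := mid_B3 h4
        exact hq2 (h3 0 (by rw [hc]; decide))
      · obtain rfl : m = 2 := by omega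
        by_cases hc : c = 0
        · have h5 := h3 1 (by rw [hc]; decide)
          have h6 : q ^ 3 = 2 ∨ q ^ 3 = 8 := h5
          have h7 : q < 3 := by
            by_contra hcon
            have := Nat.pow_le_pow_left (not_lt.1 hcon) 3
            omega
          have h8 : q = 2 := by interval_cases q <;> omega
          subst h8
          subst h3r
          exact H826.AASmall.u5 (by rw [hF]; norm_num) x hx hR
        · exact hq2 (h3 0 (Ne.symm hc))
  · obtain ⟨-, -, h1, i, h2⟩ := h.q hr2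
    subst h1
    have h5 : q ^ 2 = 3 ∨ q ^ 3 = 3 := by
      fin_cases i
      · exact Or.inl h2
      · exact Or.inr h2
    have h7 : q < 2 := by
      by_contra hcon
      have h8 := Nat.pow_le_pow_left (not_lt.1 hcon) 2
      have h9 := Nat.pow_le_pow_left (not_lt.1 hcon) 3
      omega
    interval_cases q <;> omega

end Unitary

end Cfsg.Agent.H460.Fam
end

-- part: H289/Tri/Apt
section
/-!
# Triality: no fixed chamber in cross characteristic (helper289, task AA-TRI)

If `t` fixes a chamber it fixes an apartment, acts on it as the diagram automorphism and `Psi t.τ m`, `m` in the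
stabiliser of the apartment mapped to `s_a s_1 s_b`, acts as `-1`: not a `3`-element.
-/

set_option autoImplicit false
set_option linter.unusedSectionVars false

open scoped Pointwise

namespace Cfsg.Agent.H289.Tri

open CoxeterSystem Cfsg.Agent.ChevalleyStructure.CoxeterGeom Cfsg.Agent.Tits.Roots Cfsg.Agent.Tits.Core
  Cfsg.Agent.Tits.RootComb Cfsg.Agent.Nodes Cfsg.Agent.Nodes.Comb Cfsg.Agent.Nodes.Reps Cfsg.Agent.Nodes.BNOf
  Cfsg.Agent.Nodes.BNOf.RGD
  Cfsg.Agent.FixBN Cfsg.Agent.Tits.OfBN Cfsg.Agent.Tits.OppRes Cfsg.Agent.LieExceptional.BNPairCore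
  Cfsg.Agent.OddHalf.Table.AutBldg Cfsg.Agent.OddHalf.Table.AutRGD Cfsg.Agent.OddHalf.Table.AutNorm
  Cfsg.Agent.Tits Cfsg.Agent.Nodes.RGDLib Cfsg.Agent.UGT.U2.FOne
open Cfsg.Agent.Tits.Core.Bldg Cfsg.Agent.H460.AA

variable {W Y : Type*} [Group W] [Group Y]
  {cs : CoxeterSystem (TypeD.M 2) W} {A : Fin 4 → Fin 4 → ℤ} {h : IsCartan (TypeD.M 2) A} {l : ℕ}
  {T : Subgroup Y} {n : Fin 4 → Y} {X : (Fin 4 → ℤ) → Subgroup Y} [Finite W]

variable (R : RGD cs h l T n X) (hgen : B cs h T X ⊔ NN cs R.nsys = ⊤)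
  [hN : (((R.bnPair hgen).B ⊓ (R.bnPair hgen).N).subgroupOf (R.bnPair hgen).N).Normal]
  (cs' : CoxeterSystem (TypeD.M 2) (WP (R.bnPair hgen)))
  (hcs : ∀ i, cs'.simple i = QuotientGroup.mk
    (⟨(eS R hgen i : Y), (R.bnPair hgen).subset (eS R hgen i).2⟩ : (R.bnPair hgen).N))

/-- `g` acts as `w` on the standard apartment. -/
def Ac (g : Y) (w : W) : Prop :=
  ∀ (v : W) (k k' : Y), Rp cs R.nsys v k → Rp cs R.nsys (w * v) k' → g • ch R hgen k = ch R hgen k'

variable {R hgen}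

omit hN in
theorem ac_rp {w : W} {g : Y} (hg : Rp cs R.nsys w g) : Ac R hgen g w := fun _ _ _ hk hk' =>
  ch_rp R hgen (hg.mul hk) hk'

omit hN in
theorem Ac.mul {w w' : W} {g g' : Y} (h1 : Ac R hgen g w) (h2 : Ac R hgen g' w') : Ac R hgen (g * g') (w * w') := by
  intro v k k' hk hk'
  obtain ⟨k1, hk1⟩ := exists_rp cs R.nsys (w' * v)
  rw [mul_smul, h2 v k k1 hk hk1, h1 (w' * v) k1 k' hk1 (by rw [← mul_assoc]; exact hk')]

omit hN in
theorem Ac.inv {w : W} {g : Y} (h1 : Ac R hgen g w) : Ac R hgen g⁻¹ w⁻¹ := by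
  intro v k k' hk hk'
  rw [inv_smul_eq_iff]
  exact (h1 (w⁻¹ * v) k' k hk' (by rw [mul_inv_cancel_left]; exact hk)).symm

omit hN in
theorem ac_one : Ac R hgen (1 : Y) (1 : W) := ac_rp rp_one

omit hN in
theorem Ac.pow {w : W} {g : Y} (h1 : Ac R hgen g w) (m : ℕ) : Ac R hgen (g ^ m) (w ^ m) := by
  induction m with
  | zero => rw [pow_zero, pow_zero]; exact ac_one
  | succ m ih => rw [pow_succ, pow_succ]; exact ih.mul h1

include cs' hcs in
theorem Ac.eq_one {w : W} (h1 : Ac R hgen (1 : Y) w) : w = 1 := by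
  obtain ⟨k, hk⟩ := exists_rp cs R.nsys w
  have h2 := h1 1 1 k rp_one (by rw [mul_one]; exact hk)
  rw [one_smul] at h2
  have h3 := δ_rp R hgen cs' hcs (rp_one) hk
  rw [← h2, Bldg.δ_self, inv_one, one_mul] at h3
  exact (fw cs cs').injective (by rw [← h3, map_one])

/-- **No fixed chamber.** -/
theorem no_fixed [Fact l.Prime] [Finite Y] (hcore : (B cs h T X).normalCore = ⊥)
    (hc : Subgroup.center Y = ⊥) (hl3 : l ≠ 3) {t : FixOdd.Tw (Bl R hgen cs' hcs) Y} {a b c : Fin 4}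
    (D : TriD t a b c) (hPA : PA 3 t.τ) {y : Y ⧸ (R.bnPair hgen).B} (hy : t.θ y = y) : False := by
  have hW : Finite (WP (R.bnPair hgen)) := inferInstance
  have hC : Cox cs := inferInstance
  have hC' : Cox cs' := inferInstance
  set S := Sy R hgen cs' hcs hcore with hS
  -- standard position
  obtain ⟨z, hyz, hz⟩ := exists_opp S hl3 D hy
  obtain ⟨m0, hm0⟩ := exists_rp cs R.nsys (w0 cs)
  have h0 : (Bl R hgen cs' hcs).δ (ch R hgen 1) (ch R hgen m0) = w0 cs' := by
    rw [δ_rp R hgen cs' hcs rp_one hm0, inv_one, one_mul]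
    exact fw_wJ cs cs' Set.univ
  obtain ⟨g, hg1, hg2⟩ := Tits.OfBN.trans (R.bnPair hgen) (ch R hgen 1) (ch R hgen m0) y z
    (h0.trans (show w0 cs' = _ from hyz.symm))
  have D' := D.cj S g
  have hPA' := cj_PA S t g hPA
  have e1 : (cj S t g).θ (ch R hgen 1) = ch R hgen 1 := by
    rw [cj_θ, hg1, hy, ← hg1, inv_smul_smul]
  have e2 : (cj S t g).θ (ch R hgen m0) = ch R hgen m0 := by
    rw [cj_θ, hg2, hz, ← hg2, inv_smul_smul]
  generalize cj S t g = u at *
  -- the action on the apartment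
  let m : Mv (Bl R hgen cs' hcs) Y := ⟨u.τ, u.θ, u.φ, u.σ, u.φ_simple, u.δ_θ, u.θ_smul⟩
  set ψ := _root_.Cfsg.Agent.UGT.U2.FOne.tr cs cs' u.φ with hψ
  have hψs : ∀ ω : List (Fin 4), ψ (cs.wordProd ω) = cs.wordProd (ω.map u.σ) := by
    intro ω
    exact FixBN.Cox.map_wordProd (tr_simple cs cs' u.φ_simple) ω
  have hA : ∀ (w : W) (k k' : Y), Rp cs R.nsys w k → Rp cs R.nsys (ψ w) k' →
      u.θ (ch R hgen k) = ch R hgen k' := by
    intro w k k' hk hk'
    exact map_ch R hgen cs' hcs m (a := 1) (ka := 1) (m0 := m0) (m0' := m0) u.σ.surjective rp_one e1 hm0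
      (by rw [one_mul]; exact hm0) e2 hk (by rw [one_mul]; exact hk')
  have hmap : ∀ {w : W} {g : Y}, Ac R hgen g w → Ac R hgen (u.τ g) (ψ w) := by
    intro w g hg v k k' hk hk'
    obtain ⟨k0, hk0⟩ := exists_rp cs R.nsys (ψ.symm v)
    obtain ⟨k1, hk1⟩ := exists_rp cs R.nsys (w * ψ.symm v)
    rw [← hA _ k0 k hk0 (by rw [ψ.apply_symm_apply]; exact hk), ← u.θ_smul, hg _ k0 k1 hk0 hk1]
    refine hA _ k1 k' hk1 ?_
    rw [map_mul, ψ.apply_symm_apply]
    exact hk'
  -- the element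
  obtain ⟨k, hk⟩ := exists_rp cs R.nsys (cs.wordProd [a, 1, b])
  have a0 : Ac R hgen k (cs.wordProd [a, 1, b]) := ac_rp hk
  have a1 : Ac R hgen (u.τ k) (cs.wordProd [b, 1, c]) := by
    have := hmap a0
    rw [hψs] at this
    simpa [D'.ab, D'.bc, D'.one] using this
  have a2 : Ac R hgen (u.τ (u.τ k)) (cs.wordProd [c, 1, a]) := by
    have := hmap a1
    rw [hψs] at this
    simpa [D'.bc, D'.ca, D'.one] using this
  have hPsi := ((((a1.mul a2.inv).mul a0).mul a1.inv).mul a2).mul a0.inv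
  change Ac R hgen (Psi u.τ k) _ at hPsi
  rw [← cs.wordProd_reverse, ← cs.wordProd_reverse, ← cs.wordProd_reverse, ← cs.wordProd_append,
    ← cs.wordProd_append, ← cs.wordProd_append, ← cs.wordProd_append, ← cs.wordProd_append] at hPsi
  obtain ⟨N, hN3, hN⟩ : ∃ N : ℕ, Odd N ∧ Psi u.τ k ^ N = 1 := by
    obtain ⟨j, hj⟩ := pe_psi D'.τ3 hc hPA' k
    exact ⟨3 ^ j, Odd.pow (by decide), by rw [← hj]; exact pow_orderOf_eq_one _⟩
  have hfin := hPsi.pow N
  rw [hN] at hfin
  have h1 := Ac.eq_one cs' hcs hfin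
  -- `-1`
  have hneg : ∀ a b c : Fin 4, Out a b c → ∀ i, act ([b, 1, c] ++ [c, 1, a].reverse ++ [a, 1, b] ++
      [b, 1, c].reverse ++ [c, 1, a] ++ [a, 1, b].reverse) (Pi.single 1 1) i = (Pi.single 1 (-1) : Fin 4 → ℤ) i := by
    decide +kernel
  have h2 := funext (hneg a b c D'.out)
  rw [← rep_word cs h] at h2
  generalize cs.wordProd _ = w at h1 h2
  have h3 : (Pi.single 1 (-1) : Fin 4 → ℤ) = - Pi.single 1 1 := by
    funext i; fin_cases i <;> rfl
  rw [h3] at h2
  have h4 : ∀ m : ℕ, rep cs h (w ^ m) (Pi.single 1 1) = (-1 : ℤ) ^ m • (Pi.single 1 1 : Fin 4 → ℤ) := by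
    intro m
    induction m with
    | zero => simp only [_root_.Nat.reduceAdd, _root_.pow_zero, _root_.map_one, _root_.Fin.isValue, _root_.Module.End.one_apply, _root_.Int.reduceNeg, _root_.one_smul]
    | succ m ih =>
      rw [pow_succ, rep_mul_apply, h2, map_neg, ih, pow_succ]
      simp only [_root_.Nat.reduceAdd, _root_.Int.reduceNeg, _root_.Fin.isValue, _root_.zsmul_eq_mul, _root_.Int.cast_pow, _root_.Int.cast_neg, _root_.Int.cast_one, _root_.mul_neg, _root_.mul_one, _root_.neg_smul]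
  have h5 := h4 N
  rw [h1, map_one, Module.End.one_apply, hN3.neg_one_pow] at h5
  have h6 := congrFun h5 1
  simp at h6

end Cfsg.Agent.H289.Tri
end

-- part: H289/Tri/Main
section
/-!
# Triality: conclusion (helper289, task AA-TRI)

* `exists_eng_tri`, `exists_engF_tri` : `K` simple with a typed root group datum of type `D₄`: an automorphism `x` with
  `x ^ 3 = 1` and `PA 3 x` preserves the types.
-/

set_option autoImplicit false
set_option linter.unusedSectionVars false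

open scoped Pointwise

namespace Cfsg.Agent.H289.Tri

open CoxeterSystem Cfsg.Agent.ChevalleyStructure.CoxeterGeom Cfsg.Agent.Tits.Roots Cfsg.Agent.Tits.Core
  Cfsg.Agent.Tits.RootComb Cfsg.Agent.Nodes Cfsg.Agent.Nodes.Comb Cfsg.Agent.Nodes.Reps Cfsg.Agent.Nodes.BNOf
  Cfsg.Agent.Nodes.BNOf.RGD
  Cfsg.Agent.FixBN Cfsg.Agent.Tits.OfBN Cfsg.Agent.Tits.OppRes Cfsg.Agent.LieExceptional.BNPairCore
  Cfsg.Agent.OddHalf.Table.AutBldg Cfsg.Agent.OddHalf.Table.AutRGD Cfsg.Agent.OddHalf.Table.AutNorm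
  Cfsg.Agent.Tits Cfsg.Agent.Nodes.RGDLib Cfsg.Agent.UGT.U2.FOne
open Cfsg.Agent.Tits.Core.Bldg Cfsg.Agent.H460.AA Cfsg.Agent.H460.Engine Cfsg.Agent.H460.Typed
  Cfsg.Agent.H185.TypedTw

/-- the Coxeter matrix -/
def Mf (i j : Fin 4) : ℕ := if i = j then 1 else if i = 1 ∨ j = 1 then 3 else 2

theorem comb4 : ∀ x0 x1 x2 x3 : Fin 4, (∀ i j, Mf (![x0, x1, x2, x3] i) (![x0, x1, x2, x3] j) = Mf i j) →
    (∀ i, (![x0, x1, x2, x3] : Fin 4 → Fin 4) (![x0, x1, x2, x3] (![x0, x1, x2, x3] i)) = i) →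
    (∃ i, (![x0, x1, x2, x3] : Fin 4 → Fin 4) i ≠ i) →
    Out 0 x0 (![x0, x1, x2, x3] x0) ∧ x1 = 1 := by
  decide +kernel

theorem comb {f : Fin 4 → Fin 4} (hM : ∀ i j, TypeD.M 2 (f i) (f j) = TypeD.M 2 i j) (h3 : ∀ i, f (f (f i)) = i)
    (hne : ∃ i, f i ≠ i) : Out 0 (f 0) (f (f 0)) ∧ f 1 = 1 := by
  have hf : f = ![f 0, f 1, f 2, f 3] := by
    funext i; fin_cases i <;> rfl
  have h1 := comb4 (f 0) (f 1) (f 2) (f 3)
  rw [← hf] at h1
  refine h1 (fun i j => ?_) h3 hne
  have := hM i j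
  rw [M_eq, M_eq] at this
  exact this

section

variable {W Y : Type*} [Group W] [Group Y]
  {cs : CoxeterSystem (TypeD.M 2) W} {A : Fin 4 → Fin 4 → ℤ} {h : IsCartan (TypeD.M 2) A} {l : ℕ}
  {T : Subgroup Y} {n : Fin 4 → Y} {X : (Fin 4 → ℤ) → Subgroup Y} [Finite W]

variable {R : RGD cs h l T n X} {hgen : B cs h T X ⊔ NN cs R.nsys = ⊤}
  [hN : (((R.bnPair hgen).B ⊓ (R.bnPair hgen).N).subgroupOf (R.bnPair hgen).N).Normal]
  (cs' : CoxeterSystem (TypeD.M 2) (WP (R.bnPair hgen)))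
  (hcs : ∀ i, cs'.simple i = QuotientGroup.mk
    (⟨(eS R hgen i : Y), (R.bnPair hgen).subset (eS R hgen i).2⟩ : (R.bnPair hgen).N))

/-- **No triality.** -/
theorem no_tri [Fact l.Prime] [Finite Y] (hcore : (B cs h T X).normalCore = ⊥)
    (hc : Subgroup.center Y = ⊥) {Q : Fin 4 → ℕ} (hn : ∀ i, LNode (R.bnPair hgen) (Sup X (Pos cs h)) (n i) (Q i))
    {t : FixOdd.Tw (Bl R hgen cs' hcs) Y} (hPA : PA 3 t.τ) (hτ : t.τ ^ 3 = 1) (hθ : t.θ ^ 3 = 1) (i : Fin 4) :
    t.σ i = i := by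
  by_contra hi
  have hW : Finite (WP (R.bnPair hgen)) := inferInstance
  have hC : Cox cs := inferInstance
  have hC' : Cox cs' := inferInstance
  have : Fact (Nat.Prime 3) := ⟨Nat.prime_three⟩
  have hth : (Bl R hgen cs' hcs).Thick := thick (R.bnPair hgen) (eS R hgen) cs' hcs
  have S := Sy R hgen cs' hcs hcore
  -- the type permutation
  have hne : Nonempty (Y ⧸ (R.bnPair hgen).B) := ⟨QuotientGroup.mk 1⟩
  have hσ := FixOdd.Tw.σ_pow (t := t) hθ
  have hσ3 : ∀ i, t.σ (t.σ (t.σ i)) = i := fun i => by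
    have := congrArg (fun f : Equiv.Perm (Fin 4) => f i) hσ
    simpa only [pow_succ, _root_.Nat.reduceAdd, _root_.pow_zero, _root_.one_mul, _root_.Equiv.Perm.coe_mul, _root_.Function.comp_apply, _root_.Equiv.Perm.coe_one, _root_.id_eq] using this
  have hM : ∀ i j, TypeD.M 2 (t.σ i) (t.σ j) = TypeD.M 2 i j := by
    intro i j
    rw [← LieRecognition.CoxForm.orderOf_eq cs', ← LieRecognition.CoxForm.orderOf_eq cs', ← t.φ_simple,
      ← t.φ_simple, ← map_mul]
    exact orderOf_injective t.φ.toMonoidHom t.φ.injective _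
  obtain ⟨hout, h1⟩ := comb (f := t.σ) hM hσ3 ⟨i, hi⟩
  have D : TriD t 0 (t.σ 0) (t.σ (t.σ 0)) := ⟨hout, h1, rfl, rfl, hσ3 0, hθ, hτ⟩
  by_cases hl3 : l = 3
  · subst hl3
    have hcard : ¬ 3 ∣ Nat.card (Y ⧸ (R.bnPair hgen).B) := by
      have h2 := S.card_Res hth Set.univ (QuotientGroup.mk 1)
      rw [Bldg.Res_univ] at h2
      have h3 : Nat.card (Set.univ : Set (Y ⧸ (R.bnPair hgen).B)) = Nat.card (Y ⧸ (R.bnPair hgen).B) :=
        Nat.card_congr (Equiv.Set.univ _)
      rw [h3] at h2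
      intro h4
      rw [(ZMod.natCast_eq_zero_iff _ _).2 h4] at h2
      exact zero_ne_one h2
    obtain ⟨y, hy⟩ := FixOdd.Tw.exists_fixed (r := 3) (fun y => t.θ y) (by
      funext y
      exact D.θθθ y) hcard
    refine no_fixed_three cs' hcs hcore hc D hPA ?_ hy
    exact sn_of_lnode (R.isPGroup_Upos) (hn 0)
  · obtain ⟨J, -, y, -, hJ⟩ := t.exists_gd (J := Set.univ) (x := QuotientGroup.mk 1) (fun _ _ => trivial) (by
      rw [Bldg.Res_univ]; trivial)
    rcases gd_type S hth D hJ with rfl | rfl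
    · have h2 := hJ.mem
      rw [Bldg.Res_empty] at h2
      exact no_fixed cs' hcs hcore hc hl3 D hPA h2
    · exact no_panel cs' hcs hcore hc hl3 D hPA hJ

end

theorem center_bot {K : Type*} [Group K] [IsSimpleGroup K] {B : Subgroup K} (hB : B ≠ ⊥)
    (hcore : B.normalCore = ⊥) : Subgroup.center K = ⊥ := by
  rcases (inferInstance : (Subgroup.center K).Normal).eq_bot_or_eq_top with h1 | h1
  · exact h1
  · exfalso
    apply hB
    rw [← hcore]
    refine le_antisymm ?_ (Subgroup.normalCore_le B)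
    intro b hb g
    have h2 : b ∈ Subgroup.center K := h1 ▸ Subgroup.mem_top b
    rw [Subgroup.mem_center_iff.1 h2 g, mul_inv_cancel_right]
    exact hb

theorem exists_engF_tri {K : Type*} [Group K] [Finite K] [IsSimpleGroup K] {l : ℕ} [Fact l.Prime] {Q : Fin 4 → ℕ}
    (H : HasFTyped l K (TypeD.M 2) Q) :
    ∃ E : Eng l K (TypeD.M 2) Q, (∀ i, FNode E.P E.U (E.e i : K) (Q i)) ∧
      ∀ t : FixOdd.Tw E.Δ K, PA 3 t.τ → t.τ ^ 3 = 1 → t.θ ^ 3 = 1 → ∀ i, t.σ i = i := by
  obtain ⟨A, h, T, n, X, hW, R, hgen, hT, hn⟩ := H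
  have hne : (R.bnPair hgen).S.Nonempty := ⟨n 0, ⟨0, rfl⟩⟩
  have hcore := Cfsg.Agent.Tits.OfBN.normalCore_eq_bot (R.bnPair hgen) hne
  obtain ⟨hN, cs', hcs, hWP, hS⟩ := OddHalf.Table.AutRGD.exists_setup R hgen hcore
  refine ⟨⟨R.bnPair hgen, _, hS, hN, OddHalf.Table.AutRGD.eS R hgen, cs', hcs, hWP, sol_B R hgen hT hS, hcore,
    fun i => (hn i).lnode⟩, hn,
    fun t hPA hτ hθ i => no_tri cs' hcs hcore ?_ (fun i => (hn i).lnode) hPA hτ hθ i⟩
  refine center_bot (B := (R.bnPair hgen).B) ?_ hcore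
  intro hB
  obtain ⟨u, hu, hu1⟩ := Triality.exists_ne_one R (isRoot_sr (TypeD.M 2).toCoxeterSystem h (0 : Fin 4))
  apply hu1
  have h1 : u ∈ (R.bnPair hgen).B := U_le_B (FieldRGD.mem_U hu)
  rwa [hB, Subgroup.mem_bot] at h1

end Cfsg.Agent.H289.Tri
end

private theorem dce_54eb79c0c8bc : _root_.True := by
  try have : _root_.True := by simp only [_root_.Cfsg.Agent.H826.AASmall.dg.congr_simp]
  try have : _root_.True := by simp only [_root_.Cfsg.Agent.H826.AASmall.pm.congr_simp]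
  try have : _root_.True := by simp only [_root_.Cfsg.Agent.H289.Tri.Ac.congr_simp]
  try have : _root_.True := by simp only [_root_.Cfsg.BNPair.parabolic.eq_1]
  exact _root_.True.intro
end

-- part: H460/FamB
section
prune_inst 0x600000040000000000000002000000000000009000000800800002400200600008000800000010000020000800000020010000000200000000000400000100000080000030000000020006000000000000000000000000000000000000000000000000000
set_option linter.all false
open scoped Cfsg.Agent.FastGrp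

-- part: H460/EngMore
section
/-!
# The engine: supplements (helper460)

* `no_par_of_elliptic` : an elliptic automorphism normalises no proper parabolic subgroup;
* `star_two` : the star situation in rank two;
* `inner_of_two` : type preserving automorphisms are inner if all panels have three chambers.
-/

set_option autoImplicit false
set_option linter.unusedSectionVars false

namespace Cfsg.Agent.H460.Engine

open Cfsg Subgroup Cfsg.Agent.LieExceptional.BNPairCore Cfsg.Agent.Tits.Core Cfsg.Agent.Tits.Core.Bldg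
  Cfsg.Agent.Tits.OfBN Cfsg.Agent.Schreier.BNSch Cfsg.Agent.Tits.OppRes Cfsg.Agent.FixBN.OfBN
open Cfsg.Agent.FixBN (Sys Split)
open Cfsg.Agent.FixOdd (Tw)
open Cfsg.Agent.H460.Typed Cfsg.Agent.H460.AA Cfsg.Agent.H460.EllC Cfsg.Agent.H460.PanL
  Cfsg.Agent.H459.Rad Cfsg.Agent.H459.Gallery
open Cfsg.Agent.H694 (PJ PJ_sub mem_PJ)

variable {K : Type*} [Group K] [Finite K] {ℓ : ℕ} [Fact ℓ.Prime] {l : ℕ} {M : CoxeterMatrix (Fin l)} {Q : Fin l → ℕ}
  {E : Eng ℓ K M Q}

/-- the group `U` as a Sylow subgroup -/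
theorem Eng.exists_U (E : Eng ℓ K M Q) : ∃ U' : Sylow ℓ K, (U' : Subgroup K) = E.U ∧
    normalizer ((U' : Subgroup K) : Set K) = E.P.B := by
  obtain ⟨U', hU'⟩ := Cfsg.Agent.H459.RgdRad.exists_sylow E.S
  exact ⟨U', hU', by rw [hU']; exact E.S.normalizer_eq⟩

/-- normalisers of Sylow subgroups are conjugates of `B` -/
theorem Eng.normalizer_sylow (E : Eng ℓ K M Q) (V : Sylow ℓ K) :
    ∃ g : K, normalizer ((V : Subgroup K) : Set K) = E.P.B.map (MulAut.conj g).toMonoidHom := by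
  obtain ⟨U', -, hN⟩ := E.exists_U
  obtain ⟨g, hg⟩ := MulAction.exists_smul_eq K U' V
  refine ⟨g, ?_⟩
  rw [← hN, ← hg, Sylow.coe_subgroup_smul]
  exact (Subgroup.map_equiv_normalizer_eq (U' : Subgroup K) (MulAut.conj g)).symm

/-- **Elliptic automorphisms normalise no proper parabolic subgroup.** -/
theorem no_par_of_elliptic {t : Tw E.Δ K} (hell : Elliptic t) (V : Sylow ℓ K) (H : Subgroup K)
    (hH : H ≠ ⊤) (hle : normalizer ((V : Subgroup K) : Set K) ≤ H) : ∃ h ∈ H, t.τ h ∉ H := by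
  by_contra hcon
  push Not at hcon
  obtain ⟨U', -, hN⟩ := E.exists_U
  obtain ⟨g, hg⟩ := E.normalizer_sylow V
  set H0 : Subgroup K := H.map (MulAut.conj g⁻¹).toMonoidHom with hH0
  have hmem : ∀ k, k ∈ H0 ↔ g * k * g⁻¹ ∈ H := by
    intro k
    constructor
    · rintro ⟨h, hh, rfl⟩
      have e : g * ((MulAut.conj g⁻¹).toMonoidHom h) * g⁻¹ = h := by
        simp [mul_assoc]
      rwa [e]
    · intro h
      refine ⟨_, h, ?_⟩
      simp [mul_assoc]
  have hBH : E.P.B ≤ H0 := by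
    intro b hb
    rw [hmem]
    apply hle
    rw [hg]
    exact ⟨b, hb, by simp⟩
  have hH0t : H0 ≠ ⊤ := by
    intro h
    apply hH
    rw [eq_top_iff]
    intro k _
    have h1 : g⁻¹ * k * g ∈ H0 := by rw [h]; trivial
    rw [hmem] at h1
    have e : g * (g⁻¹ * k * g) * g⁻¹ = k := by group
    rwa [e] at h1
  obtain ⟨J0, hJ0, hJe⟩ := Cfsg.Agent.S0311.result E.P H0 hBH
  set J : Set (Fin l) := {i | (E.e i : K) ∈ J0} with hJ
  have hJJ : (fun i => (E.e i : K)) '' J = J0 := by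
    ext s
    constructor
    · rintro ⟨i, hi, rfl⟩
      exact hi
    · intro hs
      obtain ⟨i, hi⟩ := E.e.surjective ⟨s, hJ0 hs⟩
      have h1 : (E.e i : K) = s := congrArg Subtype.val hi
      exact ⟨i, by rw [hJ, Set.mem_ofPred_eq, h1]; exact hs, h1⟩
  have hPJ : PJ E.P E.e J = H0 := by
    unfold PJ
    rw [hJJ, hJe]
  have hiv : Iv (cx t.τ g) H0 := by
    intro k hk
    rw [hmem] at hk ⊢
    rw [cx_apply]
    have e : g * (g⁻¹ * t.τ (g * k * g⁻¹) * g) * g⁻¹ = t.τ (g * k * g⁻¹) := by group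
    rw [e]
    exact hcon _ hk
  obtain ⟨m, hm, hmB⟩ := exists_conj_fix E.P U' hN hBH hiv
  have h1 : MulAut.conj m * cx t.τ g = (twConj t (m * (g⁻¹ * t.τ g))).τ := by
    show _ = MulAut.conj (m * (g⁻¹ * t.τ g)) * t.τ
    rw [RCStar.cx_eq, ← mul_assoc, ← map_mul]
  have h2 : (twConj t (m * (g⁻¹ * t.τ g))).θ (QuotientGroup.mk 1) = QuotientGroup.mk 1 := by
    rw [fixed_iff, cx_one, ← h1]
    exact hmB
  have h3 : (m * (g⁻¹ * t.τ g)) • t.θ (QuotientGroup.mk 1) = QuotientGroup.mk 1 := h2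
  have h4 : t.θ (QuotientGroup.mk g) = QuotientGroup.mk (g * m⁻¹) := by
    have h5 := theta_smul_mk t 1 g
    rw [mul_one] at h5
    rw [h5]
    have h6 : t.θ (QuotientGroup.mk 1) = (m * (g⁻¹ * t.τ g))⁻¹ • (QuotientGroup.mk 1 : K ⧸ E.P.B) := by
      rw [eq_inv_smul_iff, h3]
    rw [h6, smul_mk, smul_mk]
    congr 1
    group
  have h5 : J = Set.univ := by
    refine hell (QuotientGroup.mk g) J ?_
    rw [h4, mem_Res, bldg_δ_mk, ← mem_PJ E.e E.cs E.hcs, inv_mul_cancel_left, hPJ]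
    exact inv_mem hm
  apply hH0t
  rw [← hPJ, h5, eq_top_iff, ← sup_closure_eq_top E.P]
  unfold PJ
  have h6 : (fun i => (E.e i : K)) '' Set.univ = E.P.S := by
    ext s
    constructor
    · rintro ⟨i, -, rfl⟩
      exact (E.e i).2
    · intro hs
      obtain ⟨i, hi⟩ := E.e.surjective ⟨s, hs⟩
      exact ⟨i, trivial, congrArg Subtype.val hi⟩
  rw [h6]
  exact le_rfl

/-- **The star situation in rank two.** -/
theorem star_two {r : ℕ} {x : MulAut K} (h : Star E r x) (hR : RC x) (hl : l = 2) :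
    ∃ i, Group.IsSolvable ↥(E.P.parabolic {(E.e i : K)}) ∧ ∃ g, Iv (cx x g) (E.P.parabolic {(E.e i : K)}) := by
  obtain ⟨-, hno, ⟨t, rfl, -, hσ, hne⟩, -⟩ := h
  obtain ⟨J, hJ, g, hg⟩ := exists_par hσ hne
  -- `J` is a point
  obtain ⟨i, hi⟩ : ∃ i, J ⊆ {i} := by
    obtain ⟨j, hj⟩ := (Set.ne_univ_iff_exists_notMem J).1 hJ
    subst hl
    refine ⟨1 - j, fun k hk => ?_⟩
    have hkj : k ≠ j := fun h => hj (h ▸ hk)
    rw [Set.mem_singleton_iff]
    have key : ∀ k j : Fin 2, k ≠ j → k = 1 - j := by decide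
    exact key k j hkj
  have hne' : J = {i} := by
    rcases Set.subset_singleton_iff_eq.1 hi with h1 | h1
    · exfalso
      apply hno
      refine ⟨g, ?_⟩
      rw [h1] at hg
      unfold PJ at hg
      rwa [Set.image_empty, parabolic_empty] at hg
    · exact h1
  rw [hne', PJ_singleton] at hg
  refine ⟨i, ?_, g, hg⟩
  obtain ⟨L, hL, hLe, hLs, -⟩ := H459.NonEll.radIn_sup E.P E.sol (Set.singleton_subset_iff.2 (E.e i).2)
  rcases Set.subset_singleton_iff_eq.1 hL with h1 | h1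
  · exfalso
    apply hno
    refine ⟨g, ?_⟩
    have h2 := H459.NonEll.iv_of_sub E.P (hR.cx g) (singleton_ne_top (by omega) (E.e i).2) hL hg
      (by rw [← hLe]; exact le_sup_left)
    rwa [h1, parabolic_empty] at h2
  · rwa [h1] at hLs

/-- **Type preserving automorphisms are inner if all panels have three chambers.** -/
theorem inner_of_two (hQ : ∀ i, Q i = 2) {t : Tw E.Δ K} (hσ : ∀ i, t.σ i = i) : ∃ a, t.τ = MulAut.conj a := by
  classical
  have hC : Cox E.cs := inferInstance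
  obtain ⟨g, hg⟩ := OddHalf.Table.AutBldg.exists_conj_keep E.S t.τ
  have h1 : Iv (cx (twConj t g).τ 1) E.P.B := by
    rw [cx_one]
    exact fun b hb => (hg b).2 hb
  have h2 := (fixed_iff (twConj t g) 1).2 h1
  have hwt : ∀ k, wt E.P ((MulAut.conj g * t.τ) k) = wt E.P k := by
    intro k
    have := wt_cx (t := twConj t g) hσ h2 k
    rwa [cx_one] at this
  have hsg : ∀ i, OddHalf.Table.AutBldg.sg E.e E.cs E.hcs hg i = i := by
    intro i
    apply hC.inj
    rw [← OddHalf.Table.AutBldg.fW_simple' E.e E.cs E.hcs hg]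
    obtain ⟨k, hk⟩ := Cfsg.Agent.FixBN.TwOfBN.exists_wt (P := E.P) (E.cs.simple i)
    rw [← hk, Cfsg.Agent.FixBN.TwOfBN.fW_wt _ hg, hwt]
  have h3 : ∀ i, ∀ x y z, E.Δ.δ (QuotientGroup.mk 1) x = E.cs.simple i →
      E.Δ.δ (QuotientGroup.mk 1) y = E.cs.simple i → E.Δ.δ (QuotientGroup.mk 1) z = E.cs.simple i →
      x = y ∨ x = z ∨ y = z := by
    intro i x y z hx hy hz
    by_contra hcon
    push Not at hcon
    obtain ⟨h4, h5, h6⟩ := hcon
    have h7 := card_pan E.S E.e E.cs E.hcs (E.node i) (QuotientGroup.mk 1)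
    rw [hQ] at h7
    have hfin : Finite (E.Δ.Pan i (QuotientGroup.mk 1)) := Nat.finite_of_card_ne_zero (by rw [h7]; norm_num)
    have := Fintype.ofFinite (E.Δ.Pan i (QuotientGroup.mk 1))
    have hne : ∀ w, E.Δ.δ (QuotientGroup.mk 1) w = E.cs.simple i → w ≠ QuotientGroup.mk 1 := by
      rintro w hw rfl
      rw [Bldg.δ_self] at hw
      have h8 := E.cs.length_simple i
      rw [← hw, E.cs.length_one] at h8
      omega
    have h8 : Fintype.card (Fin 4) ≤ Fintype.card (E.Δ.Pan i (QuotientGroup.mk 1)) := by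
      refine Fintype.card_le_of_injective (fun n : Fin 4 => match n with
        | 0 => ⟨QuotientGroup.mk 1, E.Δ.self_mem_Pan i _⟩
        | 1 => ⟨x, Or.inr hx⟩
        | 2 => ⟨y, Or.inr hy⟩
        | 3 => ⟨z, Or.inr hz⟩) ?_
      intro a b hab
      have hx' := hne x hx
      have hy' := hne y hy
      have hz' := hne z hz
      fin_cases a <;> fin_cases b <;> [rfl; (exfalso; have h9 := congrArg Subtype.val hab; simp only at h9; (exact hx' h9.symm));
                                       (exfalso; have h9 := congrArg Subtype.val hab; simp only at h9; (exact hy' h9.symm));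
                                       (exfalso; have h9 := congrArg Subtype.val hab; simp only at h9; (exact hz' h9.symm));
                                       (exfalso; have h9 := congrArg Subtype.val hab; simp only at h9; (exact hx' h9)); rfl;
                                       (exfalso; have h9 := congrArg Subtype.val hab; simp only at h9; (exact h4 h9));
                                       (exfalso; have h9 := congrArg Subtype.val hab; simp only at h9; (exact h5 h9));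
                                       (exfalso; have h9 := congrArg Subtype.val hab; simp only at h9; (exact hy' h9));
                                       (exfalso; have h9 := congrArg Subtype.val hab; simp only at h9; (exact h4 h9.symm)); rfl;
                                       (exfalso; have h9 := congrArg Subtype.val hab; simp only at h9; (exact h6 h9));
                                       (exfalso; have h9 := congrArg Subtype.val hab; simp only at h9; (exact hz' h9));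
                                       (exfalso; have h9 := congrArg Subtype.val hab; simp only at h9; (exact h5 h9.symm));
                                       (exfalso; have h9 := congrArg Subtype.val hab; simp only at h9; (exact h6 h9.symm)); rfl]
    rw [← Nat.card_eq_fintype_card (α := E.Δ.Pan i (QuotientGroup.mk 1)), h7, Fintype.card_fin] at h8
    omega
  obtain ⟨u, -, hu⟩ := OddHalf.Table.AutBldg.exists_eq_conj E.e E.cs E.hcs E.S h3 hg hsg
  refine ⟨g⁻¹ * u, ?_⟩
  rw [map_mul, ← hu, map_inv]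
  group

end Cfsg.Agent.H460.Engine
end

-- part: H491/AA/Alt
section
/-!
# The `AA` problem: alternating groups (task AA-ALT)
-/

set_option autoImplicit false

namespace Cfsg.Agent.H491.AA

open Cfsg Cfsg.Agent Cfsg.Agent.H460.AA Cfsg.Agent.H459.Rad Subgroup Equiv Equiv.Perm

theorem ais {α : Type*} (a : Perm α) (x : α) : a (a⁻¹ x) = x := Equiv.apply_symm_apply a x

theorem ias {α : Type*} (a : Perm α) (x : α) : a⁻¹ (a x) = x := Equiv.symm_apply_apply a x

/-- an element with `RC` acts trivially on every invariant set of size at least five -/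
theorem fix_of_RC {n : ℕ} {a : alternatingGroup (Fin n)} (h : RC (MulAut.conj a)) {Δ : Finset (Fin n)}
    (h5 : 5 ≤ Δ.card) (hn : Δ.card < n) (hinv : ∀ x ∈ Δ, (a : Perm (Fin n)) x ∈ Δ) :
    ∀ x ∈ Δ, (a : Perm (Fin n)) x = x := by
  classical
  obtain ⟨M, hM⟩ : ∃ M, M = (alternatingGroup.ofSubtype Δ).range := ⟨_, rfl⟩
  have hmem : ∀ k : alternatingGroup (Fin n), k ∈ M ↔ (k : Perm (Fin n)).support ⊆ Δ := fun k => by
    rw [hM]; exact alternatingGroup.mem_range_ofSubtype_iff Δ k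
  -- three-cycles
  have h3 : ∀ x y z : Fin n, x ≠ y → y ≠ z → sign (swap x y * swap y z) = 1 := by
    intro x y z hxy hyz
    rw [Perm.sign_mul, sign_swap hxy, sign_swap hyz]; rfl
  have hMtop : M ≠ ⊤ := by
    intro h1
    obtain ⟨y, hy⟩ : ∃ y, y ∉ Δ := by
      by_contra hcon
      push Not at hcon
      have h2 : Δ = Finset.univ := Finset.eq_univ_iff_forall.2 hcon
      rw [h2, Finset.card_univ, Fintype.card_fin] at hn
      exact lt_irrefl _ hn
    obtain ⟨x, z, hx, hz, hxz⟩ := Finset.one_lt_card_iff.1 (show 1 < Δ.card by omega)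
    have hyx : y ≠ x := fun h => hy (h ▸ hx)
    have hyz : y ≠ z := fun h => hy (h ▸ hz)
    have h2 := (hmem ⟨swap y x * swap x z, mem_alternatingGroup.2 (h3 y x z hyx hxz)⟩).1 (by rw [h1]; exact mem_top _)
    apply hy
    apply h2
    rw [mem_support]
    change (swap y x * swap x z) y ≠ y
    rw [Perm.mul_apply, swap_apply_of_ne_of_ne hyx hyz, swap_apply_left]
    exact hyx.symm
  have hinvM : ∀ m ∈ M, MulAut.conj a m ∈ M := by
    intro m hm
    rw [hmem] at hm ⊢
    intro z hz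
    rw [mem_support] at hz
    have h1 : (a : Perm (Fin n))⁻¹ z ∈ Δ := by
      apply hm
      rw [mem_support]
      intro h2
      apply hz
      change ((a : Perm (Fin n)) * m * (a : Perm (Fin n))⁻¹) z = z
      rw [Perm.mul_apply, Perm.mul_apply, h2, ais]
    have h2 := hinv _ h1
    rwa [ais] at h2
  have hq : IsQuasisimple M := by
    rw [hM]
    exact S1323.isQuasisimple_of_mulEquiv_alternating (α := Δ) (by simpa using h5)
      (MonoidHom.ofInjective alternatingGroup.ofSubtype_injective)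
  have hcent : ∀ m ∈ M, a * m * a⁻¹ = m := fun m hm => h.eq_of_quasisimple hMtop hinvM hq hm
  intro x hx
  by_contra hax
  obtain ⟨y, hy⟩ : ((Δ.erase x).erase ((a : Perm (Fin n)) x)).Nonempty := by
    rw [← Finset.card_pos, Finset.card_erase_of_mem (Finset.mem_erase.2 ⟨hax, hinv x hx⟩), Finset.card_erase_of_mem hx]
    omega
  obtain ⟨z, hz⟩ : (((Δ.erase x).erase ((a : Perm (Fin n)) x)).erase y).Nonempty := by
    rw [← Finset.card_pos, Finset.card_erase_of_mem hy, Finset.card_erase_of_mem (Finset.mem_erase.2 ⟨hax, hinv x hx⟩),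
      Finset.card_erase_of_mem hx]
    omega
  simp only [Finset.mem_erase] at hy hz
  obtain ⟨hy1, hy2, hy3⟩ := hy
  obtain ⟨hz1, hz2, hz3, hz4⟩ := hz
  obtain ⟨m, hm⟩ : ∃ m : alternatingGroup (Fin n), (m : Perm (Fin n)) = swap ((a : Perm (Fin n)) x) y * swap y z :=
    ⟨⟨_, mem_alternatingGroup.2 (h3 _ _ _ (Ne.symm hy1) (Ne.symm hz1))⟩, rfl⟩
  have hmM : m ∈ M := by
    rw [hmem, hm]
    intro w hw
    rw [mem_support, Perm.mul_apply] at hw
    by_contra hwΔ
    apply hw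
    have e1 : w ≠ y := fun h => hwΔ (h ▸ hy3)
    have e2 : w ≠ z := fun h => hwΔ (h ▸ hz4)
    have e3 : w ≠ (a : Perm (Fin n)) x := fun h => hwΔ (h ▸ hinv x hx)
    rw [swap_apply_of_ne_of_ne e1 e2, swap_apply_of_ne_of_ne e3 e1]
  have h1 := congrArg (fun g : alternatingGroup (Fin n) => (g : Perm (Fin n)) ((a : Perm (Fin n)) x)) (hcent m hmM)
  simp only [Subgroup.coe_mul, InvMemClass.coe_inv, Perm.mul_apply, ias] at h1
  rw [hm, Perm.mul_apply, swap_apply_of_ne_of_ne (Ne.symm hy2) (Ne.symm hz3), swap_apply_of_ne_of_ne (Ne.symm hax)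
    (Ne.symm hy2), Perm.mul_apply, swap_apply_of_ne_of_ne (Ne.symm hy1) (Ne.symm hz2), swap_apply_left] at h1
  exact hy1 h1.symm

/-- a `p`-element of the symmetric group of degree `p` with a fixed point is trivial -/
theorem eq_one_of_fixed {p : ℕ} [hp : Fact p.Prime] {b : Perm (Fin p)} (hb : PE p b) {x : Fin p} (hx : b x = x) : b = 1 := by
  classical
  obtain ⟨k, hk⟩ := PE.pow_eq_one_iff.1 hb
  obtain ⟨F, hF⟩ : ∃ F : Function.End (Fin p), F = (b : Fin p → Fin p) := ⟨_, rfl⟩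
  have hk' : F ^ p ^ k = 1 := by
    rw [hF]
    funext y
    change (b^[p ^ k]) y = y
    rw [Equiv.Perm.iterate_eq_pow, hk]; rfl
  have h1 : Fintype.card (Fin p) ≡ Fintype.card (Function.fixedPoints b) [MOD p] := by
    have h0 := Equiv.Perm.card_fixedPoints_modEq hk'
    subst hF
    convert h0
  rw [Fintype.card_fin] at h1
  have h2 : p ∣ Fintype.card (Function.fixedPoints b) := by
    rw [← Nat.modEq_zero_iff_dvd]
    exact h1.symm.trans ((Nat.modEq_zero_iff_dvd).2 dvd_rfl)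
  have h3 : 0 < Fintype.card (Function.fixedPoints b) := Fintype.card_pos_iff.2 ⟨⟨x, hx⟩⟩
  have h4 := Nat.le_of_dvd h3 h2
  have h5 : Fintype.card (Function.fixedPoints b) = Fintype.card (Fin p) := by
    apply le_antisymm
    · exact Fintype.card_subtype_le _
    · rw [Fintype.card_fin]; exact h4
  ext y
  rw [Perm.one_apply]
  congr 1
  by_contra hy
  have h6 : Fintype.card (Function.fixedPoints b) < Fintype.card (Fin p) :=
    Fintype.card_subtype_lt (p := fun y => y ∈ Function.fixedPoints b) (x := y) hy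
  omega

section moved

variable {n p : ℕ} [hp : Fact p.Prime] {a : Perm (Fin n)}

theorem period (ha : orderOf a = p) {x : Fin n} (hx : a x ≠ x) : Function.minimalPeriod a x = p := by
  have h1 : a ^ p = 1 := by rw [← ha]; exact pow_orderOf_eq_one a
  have h2 : Function.IsPeriodicPt a p x := by
    have : (a ^ p) x = x := by rw [h1]; rfl
    rwa [← Equiv.Perm.iterate_eq_pow] at this
  rcases (Nat.dvd_prime hp.out).1 h2.minimalPeriod_dvd with h3 | h3
  · rw [Function.minimalPeriod_eq_one_iff_isFixedPt] at h3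
    exact absurd h3 hx
  · exact h3

theorem pow_apply_ne (ha : orderOf a = p) {x : Fin n} (hx : a x ≠ x) {i j : ℕ} (hij : i < j) (hjp : j - i < p) :
    (a ^ j) x ≠ (a ^ i) x := by
  intro h
  have h1 : (a ^ (j - i)) x = x := by
    apply (a ^ i).injective
    rw [← Perm.mul_apply, ← pow_add, Nat.add_sub_cancel' hij.le]
    exact h
  have h2 : Function.IsPeriodicPt a (j - i) x := by rwa [← Equiv.Perm.iterate_eq_pow] at h1
  have h3 := h2.minimalPeriod_dvd
  rw [period ha hx] at h3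
  have := Nat.le_of_dvd (by omega) h3
  omega

theorem exists_orbit (ha : orderOf a = p) {x : Fin n} (hx : a x ≠ x) :
    ∃ Δ : Finset (Fin n), Δ.card = p ∧ x ∈ Δ ∧ ∀ y, y ∈ Δ ↔ a y ∈ Δ := by
  classical
  refine ⟨(Finset.range p).image fun i => (a ^ i) x, ?_, ?_, ?_⟩
  · rw [Finset.card_image_of_injOn, Finset.card_range]
    intro i hi j hj hij
    simp only [Finset.coe_range, Set.mem_Iio] at hi hj
    rcases lt_trichotomy i j with h | h | h
    · exact absurd hij.symm (pow_apply_ne ha hx h (by omega))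
    · exact h
    · exact absurd hij (pow_apply_ne ha hx h (by omega))
  · exact Finset.mem_image.2 ⟨0, Finset.mem_range.2 hp.out.pos, rfl⟩
  · have h1 : a ^ p = 1 := by rw [← ha]; exact pow_orderOf_eq_one a
    have key : ∀ y, y ∈ (Finset.range p).image (fun i => (a ^ i) x) ↔ ∃ i : ℕ, (a ^ i) x = y := by
      intro y
      rw [Finset.mem_image]
      constructor
      · rintro ⟨i, -, h⟩; exact ⟨i, h⟩
      · rintro ⟨i, h⟩
        refine ⟨i % p, Finset.mem_range.2 (Nat.mod_lt _ hp.out.pos), ?_⟩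
        rw [← h]
        have : a ^ i = a ^ (i % p) := by
          conv_lhs => rw [← Nat.div_add_mod i p, pow_add, pow_mul, h1, one_pow, one_mul]
        rw [this]
    intro y
    rw [key, key]
    constructor
    · rintro ⟨i, rfl⟩; exact ⟨i + 1, by rw [pow_succ']; rfl⟩
    · rintro ⟨i, h⟩
      refine ⟨i + (p - 1), a.injective ?_⟩
      rw [← h, ← Perm.mul_apply, ← pow_succ']
      have : i + (p - 1) + 1 = i + p := by have := hp.out.pos; omega
      rw [this, pow_add, h1, mul_one]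

/-- `p`-cycles in `A_p`, `p ≥ 5` -/
theorem cycle_case {a : Perm (Fin p)} (ha : orderOf a = p) (h5 : 5 ≤ p) {w : Fin p} (hw : a w ≠ w) :
    ∃ g ∈ alternatingGroup (Fin p), ¬ PE p (a * (g * a * g⁻¹)) := by
  obtain ⟨y, hy⟩ : ∃ y : ℕ → Fin p, ∀ i, y i = (a ^ i) w := ⟨fun i => (a ^ i) w, fun i => rfl⟩
  have hay : ∀ i, a (y i) = y (i + 1) := fun i => by rw [hy, hy, pow_succ']; rfl
  have hne : ∀ i j, i < j → j - i < p → y j ≠ y i := fun i j hij hjp => by
    rw [hy, hy]; exact pow_apply_ne ha hw hij hjp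
  have h31 : y 3 ≠ y 1 := hne 1 3 (by omega) (by omega)
  have h10 : y 1 ≠ y 0 := hne 0 1 (by omega) (by omega)
  have h30 : y 3 ≠ y 0 := hne 0 3 (by omega) (by omega)
  have h20 : y 2 ≠ y 0 := hne 0 2 (by omega) (by omega)
  have h21 : y 2 ≠ y 1 := hne 1 2 (by omega) (by omega)
  have h32 : y 3 ≠ y 2 := hne 2 3 (by omega) (by omega)
  have h40 : y 4 ≠ y 0 := hne 0 4 (by omega) (by omega)
  have h41 : y 4 ≠ y 1 := hne 1 4 (by omega) (by omega)
  have h43 : y 4 ≠ y 3 := hne 3 4 (by omega) (by omega)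
  have h51 : y 5 ≠ y 1 := hne 1 5 (by omega) (by omega)
  refine ⟨swap (y 3) (y 1) * swap (y 1) (y 0), ?_, ?_⟩
  · rw [mem_alternatingGroup, Perm.sign_mul, sign_swap h31, sign_swap h10]; rfl
  · intro hPE
    have hinv : (swap (y 3) (y 1) * swap (y 1) (y 0))⁻¹ = swap (y 1) (y 0) * swap (y 3) (y 1) := by
      rw [mul_inv_rev, swap_inv, swap_inv]
    rw [hinv] at hPE
    have h1 := eq_one_of_fixed hPE (x := y 2) (by
      simp only [Perm.mul_apply]
      rw [swap_apply_of_ne_of_ne h32.symm h21, swap_apply_of_ne_of_ne h21 h20, hay 2,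
        swap_apply_of_ne_of_ne h31 h30, swap_apply_left, hay 1])
    have h2 : (a * (swap (y 3) (y 1) * swap (y 1) (y 0) * a * (swap (y 1) (y 0) * swap (y 3) (y 1)))) (y 1) = y 5 := by
      simp only [Perm.mul_apply]
      rw [swap_apply_right, swap_apply_of_ne_of_ne h31 h30, hay 3, swap_apply_of_ne_of_ne h41 h40,
        swap_apply_of_ne_of_ne h43 h41, hay 4]
    rw [h1, Perm.one_apply] at h2
    exact h51 h2.symm

end moved

section three

theorem conj_of_support {n : ℕ} {a b : Perm (Fin n)} (ha : orderOf a = 3) (hb : orderOf b = 3)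
    (h : a.support.card = b.support.card) : ∃ σ : Perm (Fin n), a = σ * b * σ⁻¹ := by
  have key : ∀ c : Perm (Fin n), orderOf c = 3 → ∃ m, c.cycleType = Multiset.replicate m 3 ∧ c.support.card = 3 * m := by
    intro c hc
    obtain ⟨m, hm⟩ := cycleType_prime_order (σ := c) (by rw [hc]; exact Nat.prime_three)
    rw [hc] at hm
    refine ⟨m + 1, hm, ?_⟩
    rw [← sum_cycleType, hm, Multiset.sum_replicate, smul_eq_mul, mul_comm]
  obtain ⟨m, hm, hm'⟩ := key a ha
  obtain ⟨k, hk, hk'⟩ := key b hb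
  have hmk : m = k := by omega
  have h1 : IsConj b a := by
    rw [isConj_iff_cycleType_eq, hm, hk, hmk]
  obtain ⟨σ, hσ⟩ := isConj_iff.1 h1
  exact ⟨σ, hσ.symm⟩

theorem exists_of_conj {n : ℕ} {a a0 σ : Perm (Fin n)} (hσ : a = σ * a0 * σ⁻¹) {g0 : Perm (Fin n)}
    (hg0 : g0 ∈ alternatingGroup (Fin n)) (hq : (a0 * (g0 * a0 * g0⁻¹)) ^ 5 = 1) (h1 : a0 * (g0 * a0 * g0⁻¹) ≠ 1) :
    ∃ g ∈ alternatingGroup (Fin n), ¬ PE 3 (a * (g * a * g⁻¹)) := by
  refine ⟨σ * g0 * σ⁻¹, ?_, ?_⟩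
  · rw [mem_alternatingGroup] at hg0 ⊢
    rw [Perm.sign_mul, Perm.sign_mul, hg0, Perm.sign_inv, mul_one]
    exact Int.units_mul_self _
  · have e : a * (σ * g0 * σ⁻¹ * a * (σ * g0 * σ⁻¹)⁻¹) = σ * (a0 * (g0 * a0 * g0⁻¹)) * σ⁻¹ := by
      rw [hσ]; group
    rw [e]
    intro hPE
    have : Fact (Nat.Prime 3) := ⟨Nat.prime_three⟩
    have h2 := hPE.conj σ⁻¹
    have e2 : σ⁻¹ * (σ * (a0 * (g0 * a0 * g0⁻¹)) * σ⁻¹) * σ⁻¹⁻¹ = a0 * (g0 * a0 * g0⁻¹) := by group
    rw [e2] at h2
    apply h1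
    refine h2.eq_one fun h3 => ?_
    have h4 := h3.trans (orderOf_dvd_of_pow_eq_one hq)
    revert h4
    decide

theorem case_five {a : Perm (Fin 5)} (ha : orderOf a = 3) :
    ∃ g ∈ alternatingGroup (Fin 5), ¬ PE 3 (a * (g * a * g⁻¹)) := by
  have : Fact (Nat.Prime 3) := ⟨Nat.prime_three⟩
  obtain ⟨a0, ha0⟩ : ∃ a0 : Perm (Fin 5), a0 = swap (0 : Fin 5) 1 * swap (1 : Fin 5) 2 := ⟨_, rfl⟩
  have h0 : orderOf a0 = 3 := by
    rw [ha0]; exact orderOf_eq_prime (by decide) (by decide)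
  have h1 : a0.support.card = 3 := by rw [ha0]; decide
  have h2 : a.support.card = 3 := by
    obtain ⟨m, hm⟩ := cycleType_prime_order (σ := a) (by rw [ha]; exact Nat.prime_three)
    rw [ha] at hm
    have h3 : a.support.card = 3 * (m + 1) := by
      rw [← sum_cycleType, hm, Multiset.sum_replicate, smul_eq_mul, mul_comm]
    have h4 : a.support.card ≤ 5 := by
      have := Finset.card_le_univ a.support
      rwa [Fintype.card_fin] at this
    omega
  obtain ⟨σ, hσ⟩ := conj_of_support ha h0 (by rw [h1, h2])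
  rw [ha0] at hσ
  exact exists_of_conj hσ (g0 := swap (0 : Fin 5) 3 * swap (1 : Fin 5) 4) (by rw [mem_alternatingGroup]; decide) (by decide +kernel)
    (by decide +kernel)

theorem case_six {a : Perm (Fin 6)} (ha : orderOf a = 3) (hf : ∀ x, a x ≠ x) :
    ∃ g ∈ alternatingGroup (Fin 6), ¬ PE 3 (a * (g * a * g⁻¹)) := by
  have : Fact (Nat.Prime 3) := ⟨Nat.prime_three⟩
  obtain ⟨a0, ha0⟩ : ∃ a0 : Perm (Fin 6), a0 = swap (0 : Fin 6) 1 * swap (1 : Fin 6) 2 * (swap (3 : Fin 6) 4 * swap (4 : Fin 6) 5) := ⟨_, rfl⟩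
  have h0 : orderOf a0 = 3 := by
    rw [ha0]; exact orderOf_eq_prime (by decide) (by decide)
  have h1 : a0.support.card = 6 := by rw [ha0]; decide
  have h2 : a.support.card = 6 := by
    have h3 : a.support = Finset.univ := Finset.eq_univ_iff_forall.2 fun x => mem_support.2 (hf x)
    rw [h3, Finset.card_univ, Fintype.card_fin]
  obtain ⟨σ, hσ⟩ := conj_of_support ha h0 (by rw [h1, h2])
  rw [ha0] at hσ
  exact exists_of_conj hσ (g0 := swap (0 : Fin 6) 1 * swap (0 : Fin 6) 3) (by rw [mem_alternatingGroup]; decide) (by decide +kernel)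
    (by decide +kernel)

end three

/-- **The `AA` problem for the alternating groups.** -/
theorem core_alt (n : ℕ) (hn : 5 ≤ n) : Core (alternatingGroup (Fin n)) := by
  classical
  have hc : Subgroup.center (alternatingGroup (Fin n)) = ⊥ :=
    alternatingGroup.center_eq_bot (by rw [Nat.card_eq_fintype_card, Fintype.card_fin]; omega)
  refine core_of_inner hc ?_ ?_
  · intro p hp hp2 x hx
    obtain ⟨g, hg⟩ := H256.RowAlt.four_inner hn x
    have h4 : Nat.Coprime 4 p := by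
      have h2 : Nat.Coprime 2 p := (Nat.coprime_primes Nat.prime_two hp.out).2 (Ne.symm hp2)
      exact Nat.Coprime.pow_left 2 h2
    obtain ⟨m, hm⟩ := Nat.exists_mul_mod_eq_one_of_coprime h4 hp.out.one_lt
    refine ⟨g ^ m, ?_⟩
    rw [map_pow, ← hg, ← pow_mul]
    rw [← pow_mod_orderOf, hx]
    rw [show (4 * m) % p = 1 from hm.2, pow_one]
  · intro p hp hp2 a ha hR hP
    have ha' : orderOf (a : Perm (Fin n)) = p := by rw [Subgroup.orderOf_coe, ha]
    -- it is enough to find a bad conjugate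
    have bad : ¬ ∃ g ∈ alternatingGroup (Fin n), ¬ PE p ((a : Perm (Fin n)) * (g * a * g⁻¹)) := by
      rintro ⟨g, hg, h⟩
      exact h (PE.coe.2 (hP ⟨g, hg⟩))
    have ha1 : (a : Perm (Fin n)) ≠ 1 := by
      intro h
      rw [h, orderOf_one] at ha'
      exact hp.out.one_lt.ne ha'
    obtain ⟨w, hw⟩ : ∃ w, (a : Perm (Fin n)) w ≠ w := by
      by_contra hcon
      push Not at hcon
      exact ha1 (Equiv.ext hcon)
    have hp3 : 3 ≤ p := by have := hp.out.two_le; omega
    rcases Nat.lt_or_ge 3 p with h3 | h3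
    · -- `p ≥ 5`
      have h5 : 5 ≤ p := by
        rcases Nat.lt_or_ge p 5 with h | h
        · have : p = 4 := by omega
          subst this
          exact absurd hp.out (by decide)
        · exact h
      obtain ⟨Δ, hΔ, hwΔ, hinv⟩ := exists_orbit ha' hw
      have hle : Δ.card ≤ n := by
        have := Finset.card_le_univ Δ
        rwa [Fintype.card_fin] at this
      rcases Nat.lt_or_ge p n with hlt | hge
      · exact hw (fix_of_RC hR (by omega) (by omega) (fun x hx => (hinv x).1 hx) w hwΔ)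
      · have : p = n := by omega
        subst this
        exact bad (cycle_case ha' h5 hw)
    · have : p = 3 := by omega
      subst this
      rcases Nat.lt_or_ge n 6 with h6 | h6
      · have : n = 5 := by omega
        subst this
        exact bad (case_five ha')
      · -- no fixed points
        have hfix : ∀ x, (a : Perm (Fin n)) x ≠ x := by
          intro x hx
          have hwx : w ≠ x := fun h => hw (h ▸ hx)
          refine hw (fix_of_RC hR (Δ := Finset.univ.erase x) ?_ ?_ ?_ w ?_)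
          · rw [Finset.card_erase_of_mem (Finset.mem_univ _), Finset.card_univ, Fintype.card_fin]; omega
          · rw [Finset.card_erase_of_mem (Finset.mem_univ _), Finset.card_univ, Fintype.card_fin]; omega
          · intro y hy
            refine Finset.mem_erase.2 ⟨fun h => (Finset.ne_of_mem_erase hy) ?_, Finset.mem_univ _⟩
            exact (a : Perm (Fin n)).injective (h.trans hx.symm)
          · exact Finset.mem_erase.2 ⟨hwx, Finset.mem_univ _⟩
        obtain ⟨Δ, hΔ, hwΔ, hinv⟩ := exists_orbit ha' hw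
        rcases Nat.lt_or_ge n 8 with h8 | h8
        · have h67 : n = 6 ∨ n = 7 := by omega
          rcases h67 with h67 | h67
          · subst h67
            exact bad (case_six ha' hfix)
          · subst h67
            -- `7` is not divisible by `3`
            have h1 : (a : Perm (Fin 7)).support.card = 7 := by
              have h3 : (a : Perm (Fin 7)).support = Finset.univ :=
                Finset.eq_univ_iff_forall.2 fun x => mem_support.2 (hfix x)
              rw [h3, Finset.card_univ, Fintype.card_fin]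
            obtain ⟨m, hm⟩ := cycleType_prime_order (σ := (a : Perm (Fin 7))) (by rw [ha']; exact Nat.prime_three)
            rw [ha'] at hm
            have h3 : (a : Perm (Fin 7)).support.card = 3 * (m + 1) := by
              rw [← sum_cycleType, hm, Multiset.sum_replicate, smul_eq_mul, mul_comm]
            omega
        · obtain ⟨v, hv⟩ : ∃ v, v ∉ Δ := by
            by_contra hcon
            push Not at hcon
            rw [Finset.eq_univ_iff_forall.2 hcon, Finset.card_univ, Fintype.card_fin] at hΔ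
            omega
          refine hfix v (fix_of_RC hR (Δ := Finset.univ \ Δ) ?_ ?_ ?_ v ?_)
          · rw [Finset.card_sdiff_of_subset (Finset.subset_univ _), Finset.card_univ, Fintype.card_fin, hΔ]; omega
          · rw [Finset.card_sdiff_of_subset (Finset.subset_univ _), Finset.card_univ, Fintype.card_fin, hΔ]; omega
          · intro y hy
            rw [Finset.mem_sdiff] at hy ⊢
            exact ⟨Finset.mem_univ _, fun h => hy.2 ((hinv y).2 h)⟩
          · exact Finset.mem_sdiff.2 ⟨Finset.mem_univ _, hv⟩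

end Cfsg.Agent.H491.AA
end

-- part: H826/AASmall/Low
section
/-!
# `AA`: the small linear and unitary groups `L_4(2) = A_8`, `L_3(2)`, `U_4(2) = S_4(3)` (helper826)
-/

set_option autoImplicit false

namespace Cfsg.Agent.H826.AASmall.Low

open Cfsg Matrix Cfsg.Agent.H460.AA Cfsg.Agent.H235.AA.Tools

variable {F : Type} [Field F] [Fintype F]

theorem core_psl4_two (hF : Fintype.card F = 2) : Core (Matrix.ProjectiveSpecialLinearGroup (Fin 4) F) := by
  obtain ⟨e⟩ := Cfsg.Agent.S0256.result hF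
  exact Core.of_equiv e (Cfsg.Agent.H491.AA.core_alt 8 (by norm_num))

/-- an automorphism of odd order is inner if the inner automorphisms have index 2 -/
theorem inner_of_card {K : Type*} [Group K] [Finite K] (hc : Subgroup.center K = ⊥)
    (h2 : Nat.card (MulAut K) = 2 * Nat.card K) (p : ℕ) [hp : Fact p.Prime] (hp2 : p ≠ 2) (x : MulAut K)
    (hx : orderOf x = p) : ∃ a : K, x = MulAut.conj a := by
  have h3 : Nat.card (MulAut.conj (G := K)).range = Nat.card K := by
    refine (Nat.card_congr (MonoidHom.ofInjective (f := MulAut.conj (G := K)) ?_).toEquiv).symm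
    rw [← MonoidHom.ker_eq_bot_iff, eq_bot_iff, ← hc]
    intro a ha
    rw [Subgroup.mem_center_iff]
    intro g
    have h4 : MulAut.conj a g = g := by rw [MonoidHom.mem_ker.1 ha]; rfl
    rw [MulAut.conj_apply] at h4
    calc g * a = a * g * a⁻¹ * a := by rw [h4]
      _ = a * g := by group
  have h4 : (MulAut.conj (G := K)).range.index = 2 := by
    have h5 := Subgroup.card_mul_index (MulAut.conj (G := K)).range
    rw [h3, h2, mul_comm 2] at h5
    exact Nat.eq_of_mul_eq_mul_left Nat.card_pos h5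
  have h5 : x * x ∈ (MulAut.conj (G := K)).range := Subgroup.mul_self_mem_of_index_two h4 x
  have h6 : x = (x * x) ^ ((p + 1) / 2) := by
    have h7 : (x * x) ^ ((p + 1) / 2) = x ^ (p + 1) := by
      rw [← sq, ← pow_mul]
      congr 1
      have := hp.out.odd_of_ne_two hp2
      rcases this with ⟨k, hk⟩
      omega
    rw [h7, pow_succ, ← hx, pow_orderOf_eq_one, one_mul]
  have h7 : x ∈ (MulAut.conj (G := K)).range := by
    rw [h6]
    exact Subgroup.pow_mem _ h5 _
  obtain ⟨a, ha⟩ := h7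
  exact ⟨a, ha.symm⟩

theorem core_psl3_two (hF : Fintype.card F = 2) : Core (Matrix.ProjectiveSpecialLinearGroup (Fin 3) F) := by
  have hc : Nat.card (Matrix.ProjectiveSpecialLinearGroup (Fin 3) F) = 168 := by
    have h := Cfsg.Agent.S0243.result hF 3 (by norm_num)
    rw [Fin.prod_univ_three] at h
    norm_num at h
    omega
  have : Finite (Matrix.ProjectiveSpecialLinearGroup (Fin 3) F) := Nat.finite_of_card_ne_zero (by rw [hc]; norm_num)
  have : IsSimpleGroup (Matrix.ProjectiveSpecialLinearGroup (Fin 3) F) := Cfsg.Agent.S0249.result 3 le_rfl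
  have hna := not_comm_of_card (K := Matrix.ProjectiveSpecialLinearGroup (Fin 3) F) (by rw [hc]; norm_num)
  have hz := center_eq_bot hna
  have ha : Nat.card (MulAut (Matrix.ProjectiveSpecialLinearGroup (Fin 3) F)) = 2 * 168 := by
    have : Fact (Nat.Prime 2) := ⟨Nat.prime_two⟩
    have h1 := Cfsg.Agent.S0813.result (F := F) 2 1 le_rfl (by rw [hF]; norm_num) 3 (by norm_num) (by norm_num)
    have h2 := Cfsg.Agent.ClassicalGeometry.PSL2Basic.card_PGL_mul (Fin 3) F
    have h3 := Cfsg.Agent.S0243.result hF 3 (by norm_num)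
    rw [Matrix.card_GL_field, hF, ← h3, hc] at h2
    norm_num at h1 h2
    rw [h1, h2]
  refine core_of_NP hz (inner_of_card hz (by rw [ha, hc])) fun p hp hp2 => ?_
  refine NP.of_not_sq hna hp2 ?_
  rw [hc]
  intro h
  have h1 : p * p ∣ 2 ^ 3 * 21 := by rw [← sq]; exact h
  have h2 : Nat.Coprime (p * p) (2 ^ 3) := by
    have : Nat.Coprime p 2 := (Nat.coprime_primes hp.out Nat.prime_two).2 hp2
    exact Nat.Coprime.pow_right 3 (Nat.Coprime.mul_left this this)
  have h3 : p * p ∣ 21 := h2.dvd_of_dvd_mul_left h1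
  have h4 : p * p ≤ 21 := Nat.le_of_dvd (by norm_num) h3
  have h5 : p ≤ 4 := by nlinarith
  have := hp.out.two_le
  interval_cases p <;> revert h3 <;> decide

end Cfsg.Agent.H826.AASmall.Low
end

-- part: H826/AASmall/Sp
section
/-!
# `Sp₆(2)` (helper826)

`Ω⁻₆(2)` is a subgroup of index 56.
-/

set_option autoImplicit false

namespace Cfsg.Agent.H826.AASmall

open Subgroup Cfsg Matrix Cfsg.Agent.H459.Rad Cfsg.Agent.H460.AA

abbrev I6 : Type := (Fin 2 ⊕ Fin 2) ⊕ Fin 2

/-- the coordinates -/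
def e6 : I6 ≃ Fin 3 ⊕ Fin 3 where
  toFun := Sum.elim (Sum.elim (fun i => .inl i.castSucc) (fun i => .inr i.castSucc)) ![.inl 2, .inr 2]
  invFun := Sum.elim ![.inl (.inl 0), .inl (.inl 1), .inr 0] ![.inl (.inr 0), .inl (.inr 1), .inr 1]
  left_inv := by unfold Function.LeftInverse; decide
  right_inv := by unfold Function.RightInverse Function.LeftInverse; decide

/-- the polar form -/
def J6 : Matrix I6 I6 (ZMod 2) := (J (Fin 3) (ZMod 2)).submatrix e6 e6

private theorem J6_mulVec : ∀ (w : I6 → ZMod 2) (i : I6), (J6 *ᵥ w) i =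
    w (Sum.elim (Sum.elim (fun a => .inl (.inr a)) (fun a => .inl (.inl a))) (fun a => .inr a.rev) i) := by
  decide +kernel

theorem polar (v w : I6 → ZMod 2) : v ⬝ᵥ (J6 *ᵥ w) = Q6 (v + w) - Q6 v - Q6 w := by
  have h2 : (2 : ZMod 2) = 0 := rfl
  have hQ : ∀ u : I6 → ZMod 2, Q6 u = u (.inl (.inl 0)) * u (.inl (.inr 0)) + u (.inl (.inl 1)) * u (.inl (.inr 1)) +
      (u (.inr 0) ^ 2 + 1 * u (.inr 0) * u (.inr 1) + 1 * u (.inr 1) ^ 2) := fun u =>
    congrArg (· + _) (Fin.sum_univ_two fun i => u (.inl (.inl i)) * u (.inl (.inr i)))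
  have h1 : v ⬝ᵥ (J6 *ᵥ w) = v (.inl (.inl 0)) * w (.inl (.inr 0)) + v (.inl (.inl 1)) * w (.inl (.inr 1)) +
      (v (.inl (.inr 0)) * w (.inl (.inl 0)) + v (.inl (.inr 1)) * w (.inl (.inl 1))) +
      (v (.inr 0) * w (.inr 1) + v (.inr 1) * w (.inr 0)) := by
    show ∑ i, v i * (J6 *ᵥ w) i = _
    rw [Fintype.sum_sum_type, Fintype.sum_sum_type, Fin.sum_univ_two, Fin.sum_univ_two, Fin.sum_univ_two, J6_mulVec, J6_mulVec,
      J6_mulVec, J6_mulVec, J6_mulVec, J6_mulVec]
    rfl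
  rw [h1, hQ, hQ, hQ]
  simp only [Pi.add_apply]
  linear_combination (-(v (.inr 0) * w (.inr 0)) - v (.inr 1) * w (.inr 1)) * h2

theorem isom_J (A : isometryGroup (ZMod 2) Q6) :
    ((A : GL I6 (ZMod 2)) : Matrix I6 I6 (ZMod 2))ᵀ * J6 * ((A : GL I6 (ZMod 2)) : Matrix I6 I6 (ZMod 2)) = J6 := by
  set B := ((A : GL I6 (ZMod 2)) : Matrix I6 I6 (ZMod 2)) with hB
  have hA : ∀ v, Q6 (B *ᵥ v) = Q6 v := fun v => A.2 v v
  have h1 : ∀ v w, (B *ᵥ v) ⬝ᵥ (J6 *ᵥ (B *ᵥ w)) = v ⬝ᵥ (J6 *ᵥ w) := by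
    intro v w
    rw [polar, polar, ← mulVec_add, hA, hA, hA]
  ext i j
  have h2 := h1 (Pi.single i 1) (Pi.single j 1)
  have h3 : ∀ M : Matrix I6 I6 (ZMod 2), (Pi.single i (1 : ZMod 2) : I6 → ZMod 2) ⬝ᵥ (M *ᵥ Pi.single j 1) = M i j := by
    intro M
    rw [single_dotProduct, one_mul, mulVec_single, MulOpposite.op_one, one_smul, col_apply]
  rw [h3, ← vecMul_transpose, ← dotProduct_mulVec, mulVec_mulVec, mulVec_mulVec, h3] at h2
  exact h2

/-- `Ω⁻₆(2) → Sp₆(2)` -/
def toSp : isometryGroup (ZMod 2) Q6 →* symplecticGroup (Fin 3) (ZMod 2) where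
  toFun A := ⟨reindexAlgEquiv (ZMod 2) (ZMod 2) e6 ((A : GL I6 (ZMod 2)) : Matrix I6 I6 (ZMod 2)), by
    rw [SymplecticGroup.mem_iff']
    have h1 := congrArg (reindexAlgEquiv (ZMod 2) (ZMod 2) e6) (isom_J A)
    rw [map_mul, map_mul] at h1
    have h2 : reindexAlgEquiv (ZMod 2) (ZMod 2) e6 J6 = J (Fin 3) (ZMod 2) := by
      ext i j
      simp [J6]
    rw [h2] at h1
    exact h1⟩
  map_one' := Subtype.ext (by simp)
  map_mul' A B := Subtype.ext (by simp)

theorem toSp_injective : Function.Injective toSp := by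
  intro A B h
  have h1 := congrArg Subtype.val h
  exact Subtype.ext (Units.ext ((reindexAlgEquiv (ZMod 2) (ZMod 2) e6).injective h1))

theorem card_sp : Nat.card (symplecticGroup (Fin 3) (ZMod 2)) = 1451520 := by
  rw [Cfsg.Agent.S0245.result (F := ZMod 2) (q := 2) (ZMod.card 2) 3]
  decide

/-- **`Sp₆(2)`, elements** -/
theorem sp_elt {a : symplecticGroup (Fin 3) (ZMod 2)} (ha : orderOf a = 3) (h : RC (MulAut.conj a)) : False := by
  have : Fact (Nat.Prime 3) := ⟨Nat.prime_three⟩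
  let f : Omega (ZMod 2) Q6 →* symplecticGroup (Fin 3) (ZMod 2) := toSp.comp (Omega (ZMod 2) Q6).subtype
  have hf : Function.Injective f := toSp_injective.comp Subtype.val_injective
  have hc : Nat.card f.range = 25920 := by
    rw [← Nat.card_congr (MonoidHom.ofInjective hf).toEquiv]
    exact Cfsg.Agent.LargeExtra.Cards.card_omega_minus_six
  have hi : f.range.index = 56 := by
    have h1 := f.range.card_mul_index
    rw [hc, card_sp] at h1
    omega
  refine false_of_index (p := 3) (H := f.range) ?_ (by rw [hi]; norm_num) ?_ ha h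
  · intro h1
    rw [h1, index_top] at hi
    omega
  · rw [rad_range f hf rad_omega, card_bot]
    norm_num

/-- **`Sp₆(2)`** -/
theorem sp6 {F : Type*} [Field F] [Fintype F] (hF : Fintype.card F = 2) (x : MulAut (PSp 3 F)) (hx : orderOf x = 3)
    (h : RC x) : False := by
  obtain ⟨e⟩ := Cfsg.Agent.StandardComponent.SpTwoAut.exists_equiv hF
  have : Finite (PSp 3 F) := Finite.of_equiv _ e.symm.toEquiv
  have h1 := h.tr e
  obtain ⟨a, ha⟩ := Cfsg.Agent.StandardComponent.SpTwoAut.inner (tr e x)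
  rw [ha] at h1
  refine sp_elt ?_ h1
  have h2 : orderOf a = orderOf (MulAut.conj a) :=
    (orderOf_injective _ (conj_injective Cfsg.Agent.StandardComponent.SpTwoAut.center_eq_bot) a).symm
  rw [h2, ← ha, orderOf_tr, hx]

end Cfsg.Agent.H826.AASmall
end

-- part: H826/AASmall/OEight
section
/-!
# `Ω⁺₈(2)`, elements (helper826)

`V = W₆ ⊥ W₂`, both of minus type, `M = Ω(W₆)`, `t` of order 3 on `W₂`: `M × ⟨t⟩` has index 2240, and `t` has a conjugate
in `M`.
-/

set_option autoImplicit false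

namespace Cfsg.Agent.H826.AASmall

open Subgroup Cfsg Matrix Cfsg.Agent.H459.Rad Cfsg.Agent.H460.AA
open scoped commutatorElement

abbrev J6' : Type := (Fin 2 ⊕ Fin 2) ⊕ Fin 2
abbrev I8 : Type := Fin 4 ⊕ Fin 4
abbrev IW : Type := J6' ⊕ Fin 2

abbrev Q8 : (I8 → ZMod 2) → ZMod 2 := quadFormPlus 4 (ZMod 2)
def N2 (u : Fin 2 → ZMod 2) : ZMod 2 := u 0 ^ 2 + u 0 * u 1 + u 1 ^ 2

def p6 (r : J6') : ℕ := Sum.elim (Sum.elim (fun i : Fin 2 => i.1) (fun i : Fin 2 => i.1 + 2)) (fun i : Fin 2 => i.1 + 4) r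
def p8 (r : I8) : ℕ := Sum.elim (fun i : Fin 4 => i.1) (fun i : Fin 4 => i.1 + 4) r
def pw (r : IW) : ℕ := Sum.elim p6 (fun i : Fin 2 => i.1 + 6) r
def bt (n k i j : ℕ) : ZMod 2 := ((n / 2 ^ (k * i + j) % 2 : ℕ) : ZMod 2)

/-- change of coordinates -/
def CC : Matrix I8 IW (ZMod 2) := fun i j => bt 12740692161793622529 8 (p8 i) (pw j)
def CI : Matrix IW I8 (ZMod 2) := fun i j => bt 4939407038855774721 8 (pw i) (p8 j)
def m8 (n : ℕ) : Matrix I8 I8 (ZMod 2) := fun i j => bt n 8 (p8 i) (p8 j)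
def m6 (n : ℕ) : Matrix J6' J6' (ZMod 2) := fun i j => bt n 6 (p6 i) (p6 j)

theorem CC_CI : CC * CI = 1 := by decide +kernel
theorem CI_CC : CI * CC = 1 := by decide +kernel

/-- two sums of products of linear forms with the same coefficients -/
private theorem qeq {τ σ κ : Type} [Fintype τ] [Fintype σ] [Fintype κ] (a b : τ → κ → ZMod 2) (c d : σ → κ → ZMod 2)
    (h : ∀ i, ∑ t, a t i * b t i = ∑ s, c s i * d s i ∧
      ∀ j, ∑ t, a t i * b t j + ∑ t, a t j * b t i = ∑ s, c s i * d s j + ∑ s, c s j * d s i) (v : κ → ZMod 2) :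
    ∑ t, (a t ⬝ᵥ v) * (b t ⬝ᵥ v) = ∑ s, (c s ⬝ᵥ v) * (d s ⬝ᵥ v) := by
  have e : ∀ {ρ : Type} [Fintype ρ] (a b : ρ → κ → ZMod 2), ∑ t, (a t ⬝ᵥ v) * (b t ⬝ᵥ v) =
      ∑ p : κ × κ, (∑ t, a t p.1 * b t p.2) * (v p.1 * v p.2) := by
    intro ρ _ a b
    simp only [Finset.sum_mul]
    rw [Finset.sum_comm]
    refine Finset.sum_congr rfl fun t _ => ?_
    show (∑ i, a t i * v i) * (∑ j, b t j * v j) = _
    rw [Finset.sum_mul_sum, Fintype.sum_prod_type]
    exact Finset.sum_congr rfl fun i _ => Finset.sum_congr rfl fun j _ => mul_mul_mul_comm _ _ _ _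
  rw [e, e, ← sub_eq_zero, ← Finset.sum_sub_distrib]
  refine Finset.sum_involution (fun p _ => p.swap) (fun p _ => ?_) (fun p _ hp he => hp ?_) (fun _ _ => Finset.mem_univ _)
    fun _ _ => rfl
  · have := (h p.1).2 p.2
    simp only [Prod.fst_swap, Prod.snd_swap]
    linear_combination (v p.1 * v p.2) * this
  · obtain ⟨i, j⟩ := p
    obtain rfl : j = i := congrArg Prod.fst he
    rw [(h j).1, sub_self]

private theorem q8_eq {κ : Type} [Fintype κ] (M : Matrix I8 κ (ZMod 2)) (v : κ → ZMod 2) :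
    Q8 (M *ᵥ v) = ∑ t : Fin 4, (M (.inl t) ⬝ᵥ v) * (M (.inr t) ⬝ᵥ v) := rfl

private theorem q8_inv (M : Matrix I8 I8 (ZMod 2))
    (h : ∀ i, ∑ t : Fin 4, M (.inl t) i * M (.inr t) i = 0 ∧ ∀ j, ∑ t : Fin 4, M (.inl t) i * M (.inr t) j +
      ∑ t : Fin 4, M (.inl t) j * M (.inr t) i = cond (Nat.beq (Nat.xor (p8 i) (p8 j)) 4) 1 0) (v : I8 → ZMod 2) :
    Q8 (M *ᵥ v) = Q8 v := by
  have h1 : ∀ i, ∑ t : Fin 4, (1 : Matrix I8 I8 (ZMod 2)) (.inl t) i * (1 : Matrix I8 I8 (ZMod 2)) (.inr t) i = 0 ∧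
      ∀ j, ∑ t : Fin 4, (1 : Matrix I8 I8 (ZMod 2)) (.inl t) i * (1 : Matrix I8 I8 (ZMod 2)) (.inr t) j +
      ∑ t : Fin 4, (1 : Matrix I8 I8 (ZMod 2)) (.inl t) j * (1 : Matrix I8 I8 (ZMod 2)) (.inr t) i =
        cond (Nat.beq (Nat.xor (p8 i) (p8 j)) 4) 1 0 := by decide +kernel
  refine Eq.trans ?_ (congrArg Q8 (one_mulVec v))
  rw [q8_eq, q8_eq]
  exact qeq (fun t : Fin 4 => M (.inl t)) (fun t => M (.inr t)) (fun t : Fin 4 => (1 : Matrix I8 I8 (ZMod 2)) (.inl t))
    (fun t => (1 : Matrix I8 I8 (ZMod 2)) (.inr t))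
    (fun i => ⟨(h i).1.trans (h1 i).1.symm, fun j => ((h i).2 j).trans ((h1 i).2 j).symm⟩) v

private def cw : Fin 8 → IW :=
  ![.inl (.inl (.inl 0)), .inl (.inl (.inl 1)), .inl (.inr 0), .inl (.inr 0), .inl (.inr 1), .inr 0, .inr 0, .inr 1]
private def dw : Fin 8 → IW :=
  ![.inl (.inl (.inr 0)), .inl (.inl (.inr 1)), .inl (.inr 0), .inl (.inr 1), .inl (.inr 1), .inr 0, .inr 1, .inr 1]

private theorem qw_eq (w : IW → ZMod 2) :
    ∑ s, (Pi.single (cw s) 1 ⬝ᵥ w) * (Pi.single (dw s) 1 ⬝ᵥ w) = Q6 (w ∘ Sum.inl) + N2 (w ∘ Sum.inr) := by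
  have hQ : ∀ u : J6' → ZMod 2, Q6 u = u (.inl (.inl 0)) * u (.inl (.inr 0)) + u (.inl (.inl 1)) * u (.inl (.inr 1)) +
      (u (.inr 0) ^ 2 + 1 * u (.inr 0) * u (.inr 1) + 1 * u (.inr 1) ^ 2) := fun u =>
    congrArg (· + _) (Fin.sum_univ_two fun i => u (.inl (.inl i)) * u (.inl (.inr i)))
  have hN : ∀ u : Fin 2 → ZMod 2, N2 u = u 0 ^ 2 + u 0 * u 1 + u 1 ^ 2 := fun _ => rfl
  simp only [single_dotProduct, one_mul]
  rw [hQ, hN, Fin.sum_univ_eight, show cw 0 = .inl (.inl (.inl 0)) from rfl, show cw 1 = .inl (.inl (.inl 1)) from rfl,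
    show cw 2 = .inl (.inr 0) from rfl, show cw 3 = .inl (.inr 0) from rfl, show cw 4 = .inl (.inr 1) from rfl,
    show cw 5 = .inr 0 from rfl, show cw 6 = .inr 0 from rfl, show cw 7 = .inr 1 from rfl,
    show dw 0 = .inl (.inl (.inr 0)) from rfl, show dw 1 = .inl (.inl (.inr 1)) from rfl,
    show dw 2 = .inl (.inr 0) from rfl, show dw 3 = .inl (.inr 1) from rfl, show dw 4 = .inl (.inr 1) from rfl,
    show dw 5 = .inr 0 from rfl, show dw 6 = .inr 1 from rfl, show dw 7 = .inr 1 from rfl]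
  simp only [Function.comp_apply]
  ring

theorem Q_CC : ∀ w : IW → ZMod 2, Q8 (CC *ᵥ w) = Q6 (w ∘ Sum.inl) + N2 (w ∘ Sum.inr) := fun w =>
  (q8_eq CC w).trans ((qeq (fun t : Fin 4 => CC (.inl t)) (fun t => CC (.inr t)) (fun s => Pi.single (cw s) 1)
    (fun s => Pi.single (dw s) 1) (by decide +kernel) w).trans (qw_eq w))

attribute [irreducible] CC CI m8 m6

theorem Q_eq (v : I8 → ZMod 2) : Q8 v = Q6 ((CI *ᵥ v) ∘ Sum.inl) + N2 ((CI *ᵥ v) ∘ Sum.inr) := by
  rw [← Q_CC, mulVec_mulVec, CC_CI, one_mulVec]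

/-- block matrices in the coordinates -/
def blk (g : Matrix J6' J6' (ZMod 2)) (h : Matrix (Fin 2) (Fin 2) (ZMod 2)) : Matrix I8 I8 (ZMod 2) :=
  CC * fromBlocks g 0 0 h * CI

theorem blk_mul (g g' : Matrix J6' J6' (ZMod 2)) (h h' : Matrix (Fin 2) (Fin 2) (ZMod 2)) :
    blk g h * blk g' h' = blk (g * g') (h * h') := by
  unfold blk
  calc CC * fromBlocks g 0 0 h * CI * (CC * fromBlocks g' 0 0 h' * CI) =
      CC * fromBlocks g 0 0 h * (CI * CC) * fromBlocks g' 0 0 h' * CI := by simp only [Matrix.mul_assoc]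
    _ = _ := by
      rw [CI_CC, Matrix.mul_one, Matrix.mul_assoc CC, fromBlocks_multiply]
      simp

theorem blk_one : blk 1 1 = 1 := by
  rw [blk, fromBlocks_one, Matrix.mul_one, CC_CI]

theorem blk_inj {g g' : Matrix J6' J6' (ZMod 2)} {h h' : Matrix (Fin 2) (Fin 2) (ZMod 2)} (e : blk g h = blk g' h') :
    g = g' ∧ h = h' := by
  have h1 : ∀ (g : Matrix J6' J6' (ZMod 2)) (h : Matrix (Fin 2) (Fin 2) (ZMod 2)),
      CI * blk g h * CC = fromBlocks g 0 0 h := by
    intro g h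
    unfold blk
    calc CI * (CC * fromBlocks g 0 0 h * CI) * CC = (CI * CC) * fromBlocks g 0 0 h * (CI * CC) := by
          simp only [Matrix.mul_assoc]
      _ = _ := by rw [CI_CC, Matrix.one_mul, Matrix.mul_one]
  have h2 : fromBlocks g 0 0 h = fromBlocks g' 0 0 h' := by rw [← h1, ← h1, e]
  rw [fromBlocks_inj] at h2
  exact ⟨h2.1, h2.2.2.2⟩

theorem blk_mulVec (g : Matrix J6' J6' (ZMod 2)) (h : Matrix (Fin 2) (Fin 2) (ZMod 2)) (v : I8 → ZMod 2) :
    Q8 (blk g h *ᵥ v) = Q6 (g *ᵥ ((CI *ᵥ v) ∘ Sum.inl)) + N2 (h *ᵥ ((CI *ᵥ v) ∘ Sum.inr)) := by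
  rw [Q_eq]
  have h1 : CI *ᵥ (blk g h *ᵥ v) = fromBlocks g 0 0 h *ᵥ (CI *ᵥ v) := by
    have h2 : CI * blk g h = fromBlocks g 0 0 h * CI := by
      unfold blk
      rw [Matrix.mul_assoc CC, ← Matrix.mul_assoc CI, CI_CC, Matrix.one_mul]
    rw [mulVec_mulVec, mulVec_mulVec, h2]
  rw [h1, fromBlocks_mulVec]
  simp

attribute [irreducible] blk

/-- block matrices, as a homomorphism -/
def blkHom : Matrix J6' J6' (ZMod 2) →* Matrix I8 I8 (ZMod 2) where
  toFun g := blk g 1
  map_one' := blk_one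
  map_mul' g h := by rw [blk_mul, mul_one]

/-- `O⁻₆(2) → O⁺₈(2)` -/
def Phi : isometryGroup (ZMod 2) Q6 →* isometryGroup (ZMod 2) Q8 :=
  ((Units.map blkHom).comp (isometryGroup (ZMod 2) Q6).subtype).codRestrict _ (by
    intro g u v
    have h1 : Q6 (((g : GL J6' (ZMod 2)) : Matrix J6' J6' (ZMod 2)) *ᵥ ((CI *ᵥ u) ∘ Sum.inl)) =
      Q6 ((CI *ᵥ u) ∘ Sum.inl) := g.2 _ ((CI *ᵥ u) ∘ Sum.inl)
    change Q8 (blk ((g : GL J6' (ZMod 2)) : Matrix J6' J6' (ZMod 2)) 1 *ᵥ u) = Q8 u
    rw [blk_mulVec, one_mulVec, Q_eq u, h1])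

theorem Phi_val (g : isometryGroup (ZMod 2) Q6) : ((Phi g : GL I8 (ZMod 2)) : Matrix I8 I8 (ZMod 2)) =
    blk ((g : GL J6' (ZMod 2)) : Matrix J6' J6' (ZMod 2)) 1 := rfl

theorem Phi_injective : Function.Injective Phi := by
  intro g h e
  have h1 := congrArg (fun x : isometryGroup (ZMod 2) Q8 => ((x : GL I8 (ZMod 2)) : Matrix I8 I8 (ZMod 2))) e
  simp only [Phi_val] at h1
  exact Subtype.ext (Units.ext (blk_inj h1).1)

/-- an involution in the isometry group -/
def mkI {ι : Type} [Fintype ι] [DecidableEq ι] (Q : (ι → ZMod 2) → ZMod 2) (M : Matrix ι ι (ZMod 2)) (h : M * M = 1)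
    (hQ : ∀ v, Q (M *ᵥ v) = Q v) : isometryGroup (ZMod 2) Q := ⟨⟨M, M, h, h⟩, fun u _ => hQ u⟩

def pp : isometryGroup (ZMod 2) Q8 := mkI Q8 (m8 9531903864555700737) (by unfold m8; decide +kernel)
  (q8_inv _ (by unfold m8; decide +kernel))
def qq : isometryGroup (ZMod 2) Q8 := mkI Q8 (m8 8569081144236007338) (by unfold m8; decide +kernel)
  (q8_inv _ (by unfold m8; decide +kernel))
def r1 : isometryGroup (ZMod 2) Q8 := mkI Q8 (m8 5206196425566454273) (by unfold m8; decide +kernel)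
  (q8_inv _ (by unfold m8; decide +kernel))
def r2 : isometryGroup (ZMod 2) Q8 := mkI Q8 (m8 9224533189991596545) (by unfold m8; decide +kernel)
  (q8_inv _ (by unfold m8; decide +kernel))
def rho1 : isometryGroup (ZMod 2) Q6 := mkI Q6 (m6 34629763855) (by unfold m6; decide +kernel) (by unfold m6; decide +kernel)
def rho2 : isometryGroup (ZMod 2) Q6 := mkI Q6 (m6 34630275204) (by unfold m6; decide +kernel) (by unfold m6; decide +kernel)

theorem r1_eq : m8 5206196425566454273 = blk 1 !![0, 1; 1, 0] := by decide +kernel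
theorem r2_eq : m8 9224533189991596545 = blk 1 !![1, 1; 0, 1] := by decide +kernel
theorem x1_eq : m8 9241406295427526707 = blk (m6 34629763855) 1 := by decide +kernel
theorem x2_eq : m8 9241421624165794320 = blk (m6 34630275204) 1 := by decide +kernel

theorem pq : m8 9531903864555700737 * m8 8569081144236007338 = m8 15690116580038893482 := by decide +kernel
theorem pq2 : m8 15690116580038893482 * m8 15690116580038893482 = m8 9144407217853388718 := by decide +kernel
theorem rr : m8 5206196425566454273 * m8 9224533189991596545 = m8 865852283681505793 := by decide +kernel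
theorem rr2 : m8 865852283681505793 * m8 865852283681505793 = m8 5245602922296771073 := by decide +kernel
theorem tt2 : m8 5245602922296771073 * m8 5245602922296771073 = m8 865852283681505793 := by decide +kernel
theorem tt3 : m8 5245602922296771073 * m8 865852283681505793 = 1 := by decide +kernel
theorem tt1 : m8 5245602922296771073 ≠ 1 := by decide +kernel
theorem sr1 : m8 9144407217853388718 * m8 5206196425566454273 = m8 9241406295427526707 * m8 9144407217853388718 := by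
  decide +kernel
theorem sr2 : m8 9144407217853388718 * m8 9224533189991596545 = m8 9241421624165794320 * m8 9144407217853388718 := by
  decide +kernel

/-- the matrix of an isometry -/
def mt (g : isometryGroup (ZMod 2) Q8) : Matrix I8 I8 (ZMod 2) := ((g : GL I8 (ZMod 2)) : Matrix I8 I8 (ZMod 2))

theorem mt_mul (g h : isometryGroup (ZMod 2) Q8) : mt (g * h) = mt g * mt h := rfl

theorem mt_inj {g h : isometryGroup (ZMod 2) Q8} (e : mt g = mt h) : g = h := Subtype.ext (Units.ext e)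

/-- the conjugating element -/
def s8 : isometryGroup (ZMod 2) Q8 := ⁅pp, qq⁆

theorem mt_s8 : mt s8 = m8 9144407217853388718 := by
  rw [← pq2, ← pq]
  have h : s8 = pp * qq * pp * qq := rfl
  rw [h, mt_mul, mt_mul, mt_mul, Matrix.mul_assoc (mt pp * mt qq)]
  rfl

/-- the element of order 3 -/
def t8 : isometryGroup (ZMod 2) Q8 := ⁅r1, r2⁆

theorem mt_t8 : mt t8 = m8 5245602922296771073 := by
  rw [← rr2, ← rr]
  have h : t8 = r1 * r2 * r1 * r2 := rfl
  rw [h, mt_mul, mt_mul, mt_mul, Matrix.mul_assoc (mt r1 * mt r2)]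
  rfl

theorem conj_r1 : s8 * r1 * s8⁻¹ = Phi rho1 := by
  rw [mul_inv_eq_iff_eq_mul]
  apply mt_inj
  rw [mt_mul, mt_mul, mt_s8]
  have h1 : mt r1 = m8 5206196425566454273 := rfl
  have h2 : mt (Phi rho1) = m8 9241406295427526707 := by rw [x1_eq]; rfl
  rw [h1, h2, sr1]

theorem conj_r2 : s8 * r2 * s8⁻¹ = Phi rho2 := by
  rw [mul_inv_eq_iff_eq_mul]
  apply mt_inj
  rw [mt_mul, mt_mul, mt_s8]
  have h1 : mt r2 = m8 9224533189991596545 := rfl
  have h2 : mt (Phi rho2) = m8 9241421624165794320 := by rw [x2_eq]; rfl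
  rw [h1, h2, sr2]

theorem comm_r (g : isometryGroup (ZMod 2) Q6) : Commute r1 (Phi g) ∧ Commute r2 (Phi g) := by
  have h0 : ∀ g, mt (Phi g) = blk ((g : GL J6' (ZMod 2)) : Matrix J6' J6' (ZMod 2)) 1 := fun g => rfl
  constructor
  · apply mt_inj
    have h1 : mt r1 = blk 1 !![0, 1; 1, 0] := r1_eq
    rw [mt_mul, mt_mul, h0, h1, blk_mul, blk_mul, mul_one, mul_one, one_mul, one_mul]
  · apply mt_inj
    have h1 : mt r2 = blk 1 !![1, 1; 0, 1] := r2_eq
    rw [mt_mul, mt_mul, h0, h1, blk_mul, blk_mul, mul_one, mul_one, one_mul, one_mul]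

theorem comm_t8 (g : isometryGroup (ZMod 2) Q6) : Commute t8 (Phi g) := by
  obtain ⟨h1, h2⟩ := comm_r g
  unfold t8
  rw [commutatorElement_def]
  exact ((h1.mul_left h2).mul_left h1.inv_left).mul_left h2.inv_left

theorem orderOf_t8 : orderOf t8 = 3 := by
  refine orderOf_eq_prime ?_ ?_
  · apply mt_inj
    rw [pow_succ, pow_two, mul_assoc, mt_mul, mt_mul, mt_t8, tt2, tt3]
    rfl
  · intro h
    apply tt1
    rw [← mt_t8, h]
    rfl

theorem conj_t8 : s8 * t8 * s8⁻¹ = Phi ⁅rho1, rho2⁆ := by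
  rw [map_commutatorElement, ← conj_r1, ← conj_r2]
  unfold t8
  simp only [commutatorElement_def]
  group

theorem card_pom8 : Nat.card (POmega (ZMod 2) Q8) = 174182400 := by
  have h := Cfsg.Agent.S0293.result (F := ZMod 2) (q := 2) (ZMod.card 2) 4 le_rfl
  norm_num [Finset.prod_range_succ] at h
  exact h

/-- **`Ω⁺₈(2)`, elements** -/
theorem omega8_elt {a : Omega (ZMod 2) Q8} (ha : orderOf a = 3) (h : RC (MulAut.conj a)) : False := by
  have hp : Fact (Nat.Prime 3) := ⟨Nat.prime_three⟩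
  have hmap : ∀ g ∈ Omega (ZMod 2) Q6, Phi g ∈ Omega (ZMod 2) Q8 := by
    intro g hg
    have h1 : (Omega (ZMod 2) Q6).map Phi ≤ Omega (ZMod 2) Q8 := by
      unfold Omega
      rw [commutator_def, Subgroup.map_commutator]
      exact Subgroup.commutator_mono le_top le_top
    exact h1 ⟨g, hg, rfl⟩
  let f : Omega (ZMod 2) Q6 →* Omega (ZMod 2) Q8 :=
    (Phi.comp (Omega (ZMod 2) Q6).subtype).codRestrict _ fun g => hmap g g.2
  have hf : Function.Injective f := by
    intro g g' e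
    exact Subtype.ext (Phi_injective (congrArg Subtype.val e))
  have hcm : ∀ {G : Type} [Group G] (x y : G), ⁅x, y⁆ ∈ commutator G := fun x y =>
    Subgroup.commutator_mem_commutator (mem_top x) (mem_top y)
  obtain ⟨t, htv⟩ : ∃ t : Omega (ZMod 2) Q8, (t : isometryGroup (ZMod 2) Q8) = t8 := ⟨⟨t8, hcm r1 r2⟩, rfl⟩
  obtain ⟨s, hsv⟩ : ∃ s : Omega (ZMod 2) Q8, (s : isometryGroup (ZMod 2) Q8) = s8 := ⟨⟨s8, hcm pp qq⟩, rfl⟩
  have ht : orderOf t = 3 := by rw [← Subgroup.orderOf_coe, htv, orderOf_t8]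
  have hst : s * t * s⁻¹ = f ⟨⁅rho1, rho2⁆, hcm rho1 rho2⟩ := Subtype.ext (by
    rw [Subgroup.coe_mul, Subgroup.coe_mul, Subgroup.coe_inv, htv, hsv]
    exact conj_t8)
  have hstM : s * t * s⁻¹ ∈ f.range := by rw [hst]; exact ⟨_, rfl⟩
  have hcM : Nat.card f.range = 25920 := by
    rw [← Nat.card_congr (MonoidHom.ofInjective hf).toEquiv]
    exact Cfsg.Agent.LargeExtra.Cards.card_omega_minus_six
  have hrad := rad_range f hf rad_omega
  have hne : ∃ m₀ ∈ f.range, (s * t * s⁻¹) * m₀ ≠ m₀ * (s * t * s⁻¹) := by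
    by_contra hcon
    push Not at hcon
    have h1 : (center f.range : Subgroup f.range) ≤ solvableRadical f.range :=
      le_rad inferInstance (Group.isSolvable_of_comm fun a b => Subtype.ext (mem_center_iff.1 b.2 a))
    rw [hrad] at h1
    have h2 : (⟨s * t * s⁻¹, hstM⟩ : f.range) ∈ center f.range := by
      rw [mem_center_iff]
      intro m
      exact Subtype.ext (hcon m m.2).symm
    have h3 := h1 h2
    rw [mem_bot] at h3
    have h4 : s * t * s⁻¹ = 1 := congrArg Subtype.val h3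
    have h5 : t = 1 := by
      have h6 : s * t = s := mul_inv_eq_one.1 h4
      exact mul_eq_left.1 h6
    rw [h5, orderOf_one] at ht
    omega
  obtain ⟨m₀, hm₀, hne⟩ := hne
  refine false_of_prod (p := 3) (M := f.range) (t := t) (N := 2240) (s := s) (m₀ := m₀) ?_ hrad ht ?_ ?_
    (by norm_num) ?_ hm₀ hne ha h
  · intro h1
    have h3 := hcM
    rw [h1, card_top, Cfsg.Agent.LargeExtra.Cards.card_omega_plus_eight] at h3
    omega
  · rintro _ ⟨g, rfl⟩
    refine Subtype.ext ?_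
    rw [Subgroup.coe_mul, Subgroup.coe_mul, htv]
    exact comm_t8 g
  · rw [hcM, Cfsg.Agent.LargeExtra.Cards.card_omega_plus_eight]
  · intro m hm
    exact mul_mem (mul_mem hstM hm) (inv_mem hstM)

/-- **`Ω⁺₈(2)`, inner automorphisms** -/
theorem o8 {F : Type*} [Field F] [Fintype F] (hF : Fintype.card F = 2) {a : POmega F (quadFormPlus 4 F)}
    (ha : orderOf a = 3) (h : RC (MulAut.conj a)) : False := by
  have h0 : Fintype.card F = Fintype.card (ZMod 2) := by rw [hF, ZMod.card]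
  obtain ⟨σ⟩ : Nonempty (F ≃+* ZMod 2) := ⟨FiniteField.ringEquivOfCardEq h0⟩
  obtain ⟨e1⟩ := Cfsg.Agent.UGT.U2.Rec.Congr.nonempty_POmega (ι := I8) σ (Q := quadFormPlus 4 F) (Q' := Q8)
    (fun v => by simp [quadFormPlus, map_sum])
  let e2 : Omega (ZMod 2) Q8 ≃* POmega (ZMod 2) Q8 :=
    equivOfSurj (QuotientGroup.mk' (center (Omega (ZMod 2) Q8))) (QuotientGroup.mk'_surjective _)
      (by rw [card_pom8]; exact Cfsg.Agent.LargeExtra.Cards.card_omega_plus_eight)
  let e := e1.trans e2.symm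
  have : Finite (POmega F (quadFormPlus 4 F)) := Finite.of_equiv _ e.symm.toEquiv
  have h1 := h.tr e
  have h3 : tr e (MulAut.conj a) = MulAut.conj (e a) := by
    ext l
    rw [tr_apply]
    simp
  rw [h3] at h1
  refine omega8_elt ?_ h1
  rw [← ha]
  exact orderOf_injective e.toMonoidHom e.injective a

end Cfsg.Agent.H826.AASmall
end

-- part: H953/EllPsl3
section
/-!
# `PSL_3(q)`: elliptic automorphisms (helper953, task 862, for S3833, S3834, S3840)
-/

set_option autoImplicit false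
set_option linter.unusedSectionVars false

namespace Cfsg.Agent.H953.EllPsl3

open Subgroup Cfsg Matrix Cfsg.Agent.H460.AA
open Cfsg.Agent.ClassicalGeometry.AutPSL.Root Cfsg.Agent.ClassicalGeometry.AutPSL.Auto
  Cfsg.Agent.ClassicalGeometry.AutPSL.SylowU Cfsg.Agent.ClassicalGeometry.AutPSL.Main

section Alg

variable {F : Type*} [Field F]

/-- the companion matrix -/
def cm (a b c : F) : Matrix (Fin 3) (Fin 3) F := !![0, 0, a; 1, 0, b; 0, 1, c]

/-- the conjugating matrix -/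
def gg (a b c : F) : Matrix (Fin 3) (Fin 3) F :=
  !![1, -b, a + 1 + c - b - b * c; 0, -c, -1 - c - c ^ 2; 0, 1, 1 + c]

theorem det_gg (a b c : F) : (gg a b c).det = 1 := by
  rw [gg, Matrix.det_fin_three]
  simp
  ring

/-- the inverse -/
def gi (a b c : F) : Matrix (Fin 3) (Fin 3) F := (gg a b c).adjugate

/-- the product -/
def yy (a b c : F) : Matrix (Fin 3) (Fin 3) F := cm a b c * gg a b c * cm a b c * gi a b c

theorem row_yy (a b c : F) : yy a b c 2 0 = 0 ∧ yy a b c 2 1 = -1 ∧ yy a b c 2 2 = -1 - c := by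
  have h : yy a b c * gg a b c = cm a b c * gg a b c * cm a b c := by
    have h1 : gi a b c * gg a b c = 1 := by rw [gi, Matrix.adjugate_mul, det_gg, one_smul]
    rw [yy, Matrix.mul_assoc, h1, Matrix.mul_one]
  have h0 := congrFun (congrFun h 2) 0
  have h1 := congrFun (congrFun h 2) 1
  have h2 := congrFun (congrFun h 2) 2
  simp [Matrix.mul_apply, Fin.sum_univ_three, cm, gg] at h0 h1 h2
  refine ⟨h0, ?_, ?_⟩
  · rw [h0] at h1 h2
    linear_combination (1 + c) * h1 - h2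
  · rw [h0] at h1 h2
    linear_combination (1 + c + c ^ 2) * h1 - c * h2

theorem row_yy_one (a b c : F) : yy a b c 1 0 = 0 ∧ yy a b c 1 1 = 1 + c := by
  have h : yy a b c * gg a b c = cm a b c * gg a b c * cm a b c := by
    have h1 : gi a b c * gg a b c = 1 := by rw [gi, Matrix.adjugate_mul, det_gg, one_smul]
    rw [yy, Matrix.mul_assoc, h1, Matrix.mul_one]
  have h0 := congrFun (congrFun h 1) 0
  have h1 := congrFun (congrFun h 1) 1
  have h2 := congrFun (congrFun h 1) 2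
  simp [Matrix.mul_apply, Fin.sum_univ_three, cm, gg] at h0 h1 h2
  refine ⟨h0, ?_⟩
  rw [h0] at h1 h2
  linear_combination (1 + c) * h1 - h2

/-- the last coordinate function -/
def ph (F : Type*) [Field F] : Fin 3 → F := ![0, 0, 1]

theorem sq_yy (a b c : F) : ∃ d : F, ph F ᵥ* (yy a b c * yy a b c) = d • ph F := by
  obtain ⟨h0, h1, h2⟩ := row_yy a b c
  obtain ⟨h3, h4⟩ := row_yy_one a b c
  refine ⟨(yy a b c * yy a b c) 2 2, ?_⟩
  ext j
  fin_cases j
  · simp [Matrix.vecMul, dotProduct, Matrix.mul_apply, Fin.sum_univ_three, h0, h1, h3, ph]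
  · simp [Matrix.vecMul, dotProduct, Matrix.mul_apply, Fin.sum_univ_three, h0, h1, h2, h4, ph]
    ring
  · simp [Matrix.vecMul, dotProduct, Fin.sum_univ_three, ph]

theorem pow_row {Y : Matrix (Fin 3) (Fin 3) F} {φ : Fin 3 → F} {d : F} (h : φ ᵥ* (Y * Y) = d • φ) (k : ℕ) :
    φ ᵥ* (Y ^ (2 * k)) = d ^ k • φ := by
  induction k with
  | zero => rw [mul_zero, pow_zero, pow_zero, vecMul_one, one_smul]
  | succ k ih => rw [mul_add, mul_one, pow_add, pow_two Y, ← vecMul_vecMul, ih, smul_vecMul, h, smul_smul, pow_succ]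

/-- an odd power of `yy` is not a scalar -/
theorem not_scalar (a b c : F) (ha : a ≠ 0) {m : ℕ} (hm : Odd m) {κ : F} (h : yy a b c ^ m = κ • 1) : False := by
  obtain ⟨k, rfl⟩ := hm
  obtain ⟨d, hd⟩ := sq_yy a b c
  obtain ⟨h0, h1, h2⟩ := row_yy a b c
  have h3 : ph F ᵥ* (yy a b c ^ (2 * k + 1)) = d ^ k • (ph F ᵥ* yy a b c) := by
    rw [pow_succ, ← vecMul_vecMul, pow_row hd, smul_vecMul]
  have h4 := congrFun h3 1
  have h6 := congrFun h3 2
  rw [h] at h4 h6
  simp only [Matrix.vecMul, dotProduct, Fin.sum_univ_three, ph, Pi.smul_apply, smul_eq_mul, Matrix.smul_apply,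
    Matrix.cons_val_zero, Matrix.cons_val_one, Matrix.cons_val, zero_mul, zero_add, one_mul, h1, h2] at h4 h6
  have h7 : (1 : Matrix (Fin 3) (Fin 3) F) 2 1 = 0 := rfl
  have h8 : (1 : Matrix (Fin 3) (Fin 3) F) 2 2 = 1 := rfl
  rw [h7, mul_zero] at h4
  rw [h8, mul_one] at h6
  have h9 : κ = 0 := by linear_combination h6 - (1 + c) * h4
  -- the matrix is invertible
  have hdet : (yy a b c).det ≠ 0 := by
    have h4 : (cm a b c).det = a := by
      rw [cm, Matrix.det_fin_three]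
      simp
    rw [yy, det_mul, det_mul, det_mul, h4, det_gg, gi, Matrix.det_adjugate, det_gg]
    simp [ha]
  have h6 := congrArg Matrix.det h
  rw [h9, zero_smul, det_pow, Matrix.det_zero] at h6
  exact hdet (pow_eq_zero_iff (Nat.succ_ne_zero _) |>.1 h6)

/-! ### cyclic vectors -/

theorem indep {A : Matrix (Fin 3) (Fin 3) F} (hA : ∀ v : Fin 3 → F, v ≠ 0 → ∀ c : F, A *ᵥ v ≠ c • v)
    {v : Fin 3 → F} (hv : v ≠ 0) {a b c : F} (h : a • v + b • (A *ᵥ v) + c • (A *ᵥ (A *ᵥ v)) = 0) :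
    a = 0 ∧ b = 0 ∧ c = 0 := by
  open Polynomial in
  obtain ⟨m, hm⟩ : ∃ m : F[X], m = C a + C b * X + C c * X ^ 2 := ⟨_, rfl⟩
  have hm0 : m = 0 := by
    by_contra hm0
    have hdeg : m.natDegree < 3 := by
      rw [hm]
      compute_degree
      norm_num
    have hnr : A.charpoly.roots = 0 := by
      rw [Multiset.eq_zero_iff_forall_notMem]
      intro c hc
      rw [mem_roots (Matrix.charpoly_monic A).ne_zero] at hc
      have h1 : (Matrix.scalar (Fin 3) c - A).det = 0 := by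
        rw [← Matrix.eval_charpoly]
        exact hc
      obtain ⟨w, hw0, hw⟩ := Matrix.exists_mulVec_eq_zero_iff.2 h1
      apply hA w hw0 c
      rw [sub_mulVec, sub_eq_zero] at hw
      rw [← hw]
      funext i
      simp [Matrix.scalar_apply, mulVec_diagonal]
    have hnd : A.charpoly.natDegree = 3 := by rw [Matrix.charpoly_natDegree_eq_dim, Fintype.card_fin]
    have hirr : Irreducible A.charpoly :=
      ((Matrix.charpoly_monic A).irreducible_iff_roots_eq_zero_of_degree_le_three (by rw [hnd]; norm_num)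
        (by rw [hnd])).2 hnr
    have hcop : IsCoprime A.charpoly m := by
      rw [hirr.coprime_iff_not_dvd]
      intro hd
      have := natDegree_le_of_dvd hd hm0
      omega
    obtain ⟨s, t, hst⟩ := hcop
    have h1 := congrArg (fun f => aeval A f *ᵥ v) hst
    simp only [map_add, map_mul, Matrix.aeval_self_charpoly, mul_zero, zero_add, map_one, one_mulVec] at h1
    have h2 : aeval A m *ᵥ v = 0 := by
      rw [hm, ← h]
      simp only [map_add, map_mul, aeval_C, aeval_X, map_pow, add_mulVec, Algebra.algebraMap_eq_smul_one,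
        smul_mul_assoc, one_mul, smul_mulVec, one_mulVec, pow_two, mulVec_mulVec]
    rw [← mulVec_mulVec, h2, mulVec_zero] at h1
    exact hv h1.symm
  rw [hm] at hm0
  have e0 := congrArg (fun f => Polynomial.coeff f 0) hm0
  have e1 := congrArg (fun f => Polynomial.coeff f 1) hm0
  have e2 := congrArg (fun f => Polynomial.coeff f 2) hm0
  simp [Polynomial.coeff_X, Polynomial.coeff_one, Polynomial.coeff_X_pow, Polynomial.coeff_C] at e0 e1 e2
  exact ⟨e0, e1, e2⟩

end Alg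

section Lin

variable {F : Type*} [Field F] [Finite F]

/-- inner automorphisms -/
theorem conj_pr (g : Matrix.SpecialLinearGroup (Fin 3) F) :
    MulAut.conj (pr g) = lift (cj (Matrix.SpecialLinearGroup.toGL g)) := by
  ext x
  obtain ⟨y, rfl⟩ := QuotientGroup.mk'_surjective _ x
  change pr g * pr y * (pr g)⁻¹ = pr (cj (Matrix.SpecialLinearGroup.toGL g) y)
  rw [← map_inv, ← map_mul, ← map_mul]
  congr 1

/-- **The linear case.** -/
theorem lin_false {A : GL (Fin 3) F} (hA : ∀ v : Fin 3 → F, v ≠ 0 → ∀ c : F, (A : Matrix (Fin 3) (Fin 3) F) *ᵥ v ≠ c • v)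
    {p : ℕ} [hp : Fact p.Prime] (hp2 : p ≠ 2) (h : PA p (lift (cj A))) : False := by
  obtain ⟨M, hM⟩ : ∃ M, M = (A : Matrix (Fin 3) (Fin 3) F) := ⟨_, rfl⟩
  rw [← hM] at hA
  obtain ⟨v, hv⟩ : ∃ v : Fin 3 → F, v ≠ 0 := ⟨fun _ => 1, fun h => one_ne_zero (congrFun h 0)⟩
  have hli : LinearIndependent F ![v, M *ᵥ v, M *ᵥ (M *ᵥ v)] := by
    rw [Fintype.linearIndependent_iff]
    intro g hg
    rw [Fin.sum_univ_three] at hg
    obtain ⟨h0, h1, h2⟩ := indep hA hv (a := g 0) (b := g 1) (c := g 2) hg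
    intro i
    fin_cases i
    · exact h0
    · exact h1
    · exact h2
  let bs : Module.Basis (Fin 3) F (Fin 3 → F) := basisOfLinearIndependentOfCardEqFinrank hli (by simp)
  have hbs : ∀ i, bs i = ![v, M *ᵥ v, M *ᵥ (M *ᵥ v)] i := fun i => by
    rw [coe_basisOfLinearIndependentOfCardEqFinrank]
  obtain ⟨B, hB⟩ := Cfsg.Agent.CpAut.Psl.exists_gl bs
  obtain ⟨a, b, c, habc⟩ : ∃ a b c : F, M *ᵥ (M *ᵥ (M *ᵥ v)) = a • v + b • (M *ᵥ v) + c • (M *ᵥ (M *ᵥ v)) := by
    have h1 := bs.sum_repr (M *ᵥ (M *ᵥ (M *ᵥ v)))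
    rw [Fin.sum_univ_three, hbs, hbs, hbs] at h1
    exact ⟨_, _, _, h1.symm⟩
  have ha : a ≠ 0 := by
    rintro rfl
    rw [zero_smul, zero_add, ← mulVec_smul, ← mulVec_smul M c, ← mulVec_add] at habc
    have h1 := congrArg (fun w => ((A⁻¹ : GL (Fin 3) F) : Matrix (Fin 3) (Fin 3) F) *ᵥ w) habc
    simp only [mulVec_mulVec, ← Matrix.mul_assoc] at h1
    have h2 : ((A⁻¹ : GL (Fin 3) F) : Matrix (Fin 3) (Fin 3) F) * M = 1 := by
      rw [hM, ← Units.val_mul, inv_mul_cancel, Units.val_one]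
    rw [h2, Matrix.one_mul, one_mulVec] at h1
    obtain ⟨-, -, h3⟩ := indep hA hv (a := -b) (b := -c) (c := 1) (by
      rw [one_smul, mulVec_mulVec, h1, neg_smul, neg_smul]
      abel)
    exact one_ne_zero h3
  have hAB : M * (B : Matrix (Fin 3) (Fin 3) F) = (B : Matrix (Fin 3) (Fin 3) F) * cm a b c := by
    have hc : ∀ i j, (cm a b c *ᵥ (Pi.single j 1 : Fin 3 → F)) i = cm a b c i j := by
      intro i j
      rw [mulVec_single_one]
      rfl
    apply Matrix.ext_of_mulVec_single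
    intro j
    rw [← mulVec_mulVec, ← mulVec_mulVec, hB, hB, Fin.sum_univ_three, Fin.sum_univ_three, hbs, hbs, hbs, mulVec_add,
      mulVec_add, mulVec_smul, mulVec_smul, mulVec_smul, hc, hc, hc]
    fin_cases j
    · simp [cm]
    · simp [cm]
    · simpa [cm] using habc
  have hBB : (B : Matrix (Fin 3) (Fin 3) F) * ((B⁻¹ : GL (Fin 3) F) : Matrix (Fin 3) (Fin 3) F) = 1 := by
    rw [← Units.val_mul, mul_inv_cancel, Units.val_one]
  have hBB' : ((B⁻¹ : GL (Fin 3) F) : Matrix (Fin 3) (Fin 3) F) * (B : Matrix (Fin 3) (Fin 3) F) = 1 := by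
    rw [← Units.val_mul, inv_mul_cancel, Units.val_one]
  -- the conjugating element
  let g0 : Matrix.SpecialLinearGroup (Fin 3) F := ⟨gg a b c, det_gg a b c⟩
  have hg0 : (g0 : Matrix (Fin 3) (Fin 3) F) = gg a b c := rfl
  have hg0i : ((g0⁻¹ : Matrix.SpecialLinearGroup (Fin 3) F) : Matrix (Fin 3) (Fin 3) F) = gi a b c := by
    rw [Matrix.SpecialLinearGroup.coe_inv, hg0, gi]
  obtain ⟨g, hg⟩ : ∃ g, g = cj B g0 := ⟨_, rfl⟩
  have hgc : (g : Matrix (Fin 3) (Fin 3) F) = B * gg a b c * ((B⁻¹ : GL (Fin 3) F) : Matrix (Fin 3) (Fin 3) F) := by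
    rw [hg, coe_cj]
  have hgi : ((g⁻¹ : Matrix.SpecialLinearGroup (Fin 3) F) : Matrix (Fin 3) (Fin 3) F) =
      B * gi a b c * ((B⁻¹ : GL (Fin 3) F) : Matrix (Fin 3) (Fin 3) F) := by
    rw [hg, ← map_inv, coe_cj, hg0i]
  obtain ⟨k, hk⟩ := PE.pow_eq_one_iff.1 (h (pr g))
  obtain ⟨C, hC⟩ : ∃ C : GL (Fin 3) F, C = A * (Matrix.SpecialLinearGroup.toGL g) * A *
    (Matrix.SpecialLinearGroup.toGL g)⁻¹ := ⟨_, rfl⟩
  have hCl : lift (cj A) * (MulAut.conj (pr g) * lift (cj A) * (MulAut.conj (pr g))⁻¹) = lift (cj C) := by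
    rw [conj_pr, ← map_inv, ← map_mul, ← map_mul, ← map_mul, hC]
    simp only [map_mul, map_inv, mul_assoc]
  rw [hCl, ← map_pow, ← map_pow] at hk
  have h1 : lift (cj (C ^ p ^ k) * fld (1 : F ≃+* F)) = lift (fld (1 : F ≃+* F)) := by
    rw [map_one, mul_one, hk, map_one]
  obtain ⟨⟨r, hr⟩, -⟩ := injective_aux h1
  -- the matrix of `C`
  have hCm : (C : Matrix (Fin 3) (Fin 3) F) =
      B * yy a b c * ((B⁻¹ : GL (Fin 3) F) : Matrix (Fin 3) (Fin 3) F) := by
    have hMB : M = (B : Matrix (Fin 3) (Fin 3) F) * cm a b c * ((B⁻¹ : GL (Fin 3) F) : Matrix (Fin 3) (Fin 3) F) := by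
      rw [← hAB, Matrix.mul_assoc, hBB, Matrix.mul_one]
    have e1 : (C : Matrix (Fin 3) (Fin 3) F) = M * (g : Matrix (Fin 3) (Fin 3) F) * M *
        ((g⁻¹ : Matrix.SpecialLinearGroup (Fin 3) F) : Matrix (Fin 3) (Fin 3) F) := by
      rw [hC, ← map_inv, hM]
      rfl
    rw [e1, hMB, hgc, hgi, yy]
    calc _ = (B : Matrix (Fin 3) (Fin 3) F) * cm a b c * (((B⁻¹ : GL (Fin 3) F) : Matrix (Fin 3) (Fin 3) F) * B) *
        gg a b c * (((B⁻¹ : GL (Fin 3) F) : Matrix (Fin 3) (Fin 3) F) * B) * cm a b c *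
        (((B⁻¹ : GL (Fin 3) F) : Matrix (Fin 3) (Fin 3) F) * B) * gi a b c *
        ((B⁻¹ : GL (Fin 3) F) : Matrix (Fin 3) (Fin 3) F) := by
          simp only [Matrix.mul_assoc]
      _ = _ := by
          rw [hBB']
          simp only [Matrix.mul_assoc, Matrix.one_mul, Matrix.mul_one]
  have hpow : ∀ m : ℕ, (C : Matrix (Fin 3) (Fin 3) F) ^ m =
      B * yy a b c ^ m * ((B⁻¹ : GL (Fin 3) F) : Matrix (Fin 3) (Fin 3) F) := by
    intro m
    induction m with
    | zero => rw [pow_zero, pow_zero, Matrix.mul_one, hBB]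
    | succ m ih =>
      rw [pow_succ, ih, hCm, pow_succ]
      calc _ = (B : Matrix (Fin 3) (Fin 3) F) * yy a b c ^ m *
          (((B⁻¹ : GL (Fin 3) F) : Matrix (Fin 3) (Fin 3) F) * B) * yy a b c *
          ((B⁻¹ : GL (Fin 3) F) : Matrix (Fin 3) (Fin 3) F) := by simp only [Matrix.mul_assoc]
        _ = _ := by
          rw [hBB']
          simp only [Matrix.mul_assoc, Matrix.one_mul]
  have hr' : (C : Matrix (Fin 3) (Fin 3) F) ^ p ^ k = r • 1 := by
    rw [← Units.val_pow_eq_pow_val, ← hr]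
    ext i j
    simp [Matrix.scalar_apply, Matrix.diagonal_apply, Matrix.one_apply]
  have hfin : yy a b c ^ p ^ k = r • 1 := by
    have e1 := hpow (p ^ k)
    rw [hr'] at e1
    calc yy a b c ^ p ^ k = ((B⁻¹ : GL (Fin 3) F) : Matrix (Fin 3) (Fin 3) F) * (B * yy a b c ^ p ^ k *
        ((B⁻¹ : GL (Fin 3) F) : Matrix (Fin 3) (Fin 3) F)) * B := by
          rw [← Matrix.mul_assoc, ← Matrix.mul_assoc, hBB', Matrix.one_mul, Matrix.mul_assoc, hBB', Matrix.mul_one]
      _ = _ := by rw [← e1, Matrix.mul_smul, Matrix.smul_mul, Matrix.mul_one, hBB']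
  exact not_scalar a b c ha ((hp.out.odd_of_ne_two hp2).pow) hfin

end Lin

/-! ### parabolic subgroups -/

section Par

variable {F : Type*} [Field F]

/-- the stabiliser of a line -/
def st (v : Fin 3 → F) : Subgroup (Matrix.SpecialLinearGroup (Fin 3) F) where
  carrier := {g | ∃ c : F, c ≠ 0 ∧ g.1 *ᵥ v = c • v}
  one_mem' := ⟨1, one_ne_zero, by rw [Matrix.SpecialLinearGroup.coe_one, one_mulVec, one_smul]⟩
  mul_mem' := by
    rintro g h ⟨a, ha, h1⟩ ⟨b, hb, h2⟩
    exact ⟨b * a, mul_ne_zero hb ha, by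
      rw [Matrix.SpecialLinearGroup.coe_mul, ← mulVec_mulVec, h2, mulVec_smul, h1, smul_smul]⟩
  inv_mem' := by
    rintro g ⟨a, ha, h1⟩
    refine ⟨a⁻¹, inv_ne_zero ha, ?_⟩
    have h2 : (g⁻¹).1 *ᵥ (g.1 *ᵥ v) = v := by
      rw [mulVec_mulVec, ← Matrix.SpecialLinearGroup.coe_mul, inv_mul_cancel, Matrix.SpecialLinearGroup.coe_one,
        one_mulVec]
    rw [h1, mulVec_smul] at h2
    conv_rhs => rw [← h2]
    rw [smul_smul, inv_mul_cancel₀ ha, one_smul]

theorem mulVec_ne {v : Fin 3 → F} (hv : v ≠ 0) (g : Matrix.SpecialLinearGroup (Fin 3) F) : g.1 *ᵥ v ≠ 0 := by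
  intro h
  apply hv
  have h2 : (g⁻¹).1 *ᵥ (g.1 *ᵥ v) = v := by
    rw [mulVec_mulVec, ← Matrix.SpecialLinearGroup.coe_mul, inv_mul_cancel, Matrix.SpecialLinearGroup.coe_one,
      one_mulVec]
  rw [← h2, h, mulVec_zero]

theorem mem_st' {v : Fin 3 → F} (hv : v ≠ 0) {g : Matrix.SpecialLinearGroup (Fin 3) F} {c : F}
    (h : g.1 *ᵥ v = c • v) : g ∈ st v := by
  refine ⟨c, ?_, h⟩
  rintro rfl
  exact mulVec_ne hv g (by rw [h, zero_smul])

/-- the stabiliser of a line in `PSL` -/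
def hh (v : Fin 3 → F) : Subgroup (Matrix.ProjectiveSpecialLinearGroup (Fin 3) F) := (st v).map pr

theorem pr_mem_hh {v : Fin 3 → F} (hv : v ≠ 0) {g : Matrix.SpecialLinearGroup (Fin 3) F} :
    pr g ∈ hh v ↔ g ∈ st v := by
  constructor
  · rintro ⟨g', ⟨c, -, hc⟩, h⟩
    obtain ⟨d, hd⟩ := exists_smul_of_pr_eq h
    exact mem_st' hv (c := d * c) (by rw [hd, smul_mulVec, hc, smul_smul])
  · exact fun h => ⟨g, h, rfl⟩

/-- the first basis vector -/
def e0 (F : Type*) [Field F] : Fin 3 → F := Pi.single 0 1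

theorem e0_ne : e0 F ≠ 0 := by
  intro h
  have := congrFun h 0
  simp [e0] at this

theorem hh_ne_top {v : Fin 3 → F} (hv : v ≠ 0) : hh v ≠ ⊤ := by
  intro h
  obtain ⟨w, hw0, hw⟩ : ∃ w : Fin 3 → F, w ≠ 0 ∧ ∀ c : F, w ≠ c • v := by
    by_contra hcon
    push Not at hcon
    obtain ⟨a, ha⟩ := hcon (Pi.single 0 1) (by intro h; simpa using congrFun h 0)
    obtain ⟨b, hb⟩ := hcon (Pi.single 1 1) (by intro h; simpa using congrFun h 1)
    have h1 := congrFun ha 0
    have h2 := congrFun ha 1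
    have h3 := congrFun hb 0
    have h4 := congrFun hb 1
    simp at h1 h2 h3 h4
    rcases h2 with h2 | h2
    · rw [h2, zero_mul] at h1; exact one_ne_zero h1
    · rw [h2, mul_zero] at h4; exact one_ne_zero h4
  obtain ⟨g, hg⟩ := Cfsg.Agent.H119.SLVec.exists_map_one (n := 3) (by norm_num) hv hw0
  have h1 : pr g ∈ hh v := by rw [h]; trivial
  rw [pr_mem_hh hv] at h1
  obtain ⟨c, -, hc⟩ := h1
  exact hw c (by rw [← hg, hc])

theorem e0_line [Finite F] {w : Fin 3 → F} (h : ∀ u ∈ upper 3 F, ∃ c : F, u.1 *ᵥ w = c • w) : ∃ c : F, w = c • e0 F := by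
  obtain ⟨c, hc⟩ := h _ (transvection_mem_upper (show (0 : Fin 3) < 1 by decide) 1)
  obtain ⟨d, hd⟩ := h _ (transvection_mem_upper (show (1 : Fin 3) < 2 by decide) 1)
  have ht : ∀ (i j : Fin 3) (hij : i ≠ j) (k : Fin 3),
      ((Matrix.SpecialLinearGroup.transvection hij (1 : F)).1 *ᵥ w) k = w k + if k = i then w j else 0 := by
    intro i j hij k
    change (((1 : Matrix (Fin 3) (Fin 3) F) + single i j 1) *ᵥ w) k = _
    rw [add_mulVec, one_mulVec, Pi.add_apply]
    congr 1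
    simp only [Matrix.mulVec, dotProduct, Matrix.single_apply, ite_mul, one_mul, zero_mul]
    by_cases hk : k = i
    · subst hk
      simp
    · simp [hk, Ne.symm hk]
  have c1 := congrFun hc 1
  have c2 := congrFun hc 2
  have d0 := congrFun hd 0
  have d1 := congrFun hd 1
  have d2 := congrFun hd 2
  have c0 := congrFun hc 0
  rw [ht] at c0 c1 c2 d0 d1 d2
  simp at c0 c1 c2 d0 d1 d2
  have hw2 : w 2 = 0 := by
    by_contra hw
    have h1 : (d - 1) * w 2 = 0 := by linear_combination -d2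
    have h2 : d - 1 = 0 := (mul_eq_zero.1 h1).resolve_right hw
    apply hw
    linear_combination d1 + h2 * w 1
  have hw1 : w 1 = 0 := by
    by_contra hw
    have h1 : (c - 1) * w 1 = 0 := by linear_combination -c1
    have h2 : c - 1 = 0 := (mul_eq_zero.1 h1).resolve_right hw
    apply hw
    linear_combination c0 + h2 * w 0
  refine ⟨w 0, ?_⟩
  ext i
  fin_cases i
  · simp [e0]
  · simp [e0, hw1]
  · simp [e0, hw2]

theorem upper_e0 [Finite F] {u : Matrix.SpecialLinearGroup (Fin 3) F} (hu : u ∈ upper 3 F) : u.1 *ᵥ e0 F = e0 F := by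
  rw [e0, mulVec_single_one]
  ext i
  have h1 := mem_upper.1 hu i 0 (Fin.zero_le i)
  rw [Matrix.col_apply, h1, Pi.single_apply]

theorem norm_le [Fintype F] {U : Subgroup (Matrix.ProjectiveSpecialLinearGroup (Fin 3) F)}
    (hU : U = (upper 3 F).map pr) : Subgroup.normalizer (U : Set (Matrix.ProjectiveSpecialLinearGroup (Fin 3) F)) ≤ hh (e0 F) := by
  intro n hn
  obtain ⟨m, rfl⟩ := QuotientGroup.mk'_surjective _ n
  change pr m ∈ hh (e0 F)
  have hn' := (Subgroup.normalizer _).inv_mem hn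
  change (pr m)⁻¹ ∈ _ at hn'
  rw [pr_mem_hh e0_ne]
  obtain ⟨c, hc⟩ := e0_line (w := m.1 *ᵥ e0 F) (by
    intro u hu
    have h1 : pr u ∈ U := by rw [hU]; exact ⟨u, hu, rfl⟩
    have h2 := (Subgroup.mem_normalizer_iff.1 hn' (pr u)).1 h1
    rw [inv_inv, ← map_inv, ← map_mul, ← map_mul, hU] at h2
    obtain ⟨u', hu', h3⟩ := h2
    obtain ⟨c, hc⟩ := exists_smul_of_pr_eq h3
    refine ⟨c, ?_⟩
    have h4 : u * m = m * (m⁻¹ * u * m) := by group
    have h5 : u.1 *ᵥ (m.1 *ᵥ e0 F) = m.1 *ᵥ ((m⁻¹ * u * m).1 *ᵥ e0 F) := by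
      rw [mulVec_mulVec, mulVec_mulVec, ← Matrix.SpecialLinearGroup.coe_mul, ← Matrix.SpecialLinearGroup.coe_mul, h4]
    rw [h5, hc, smul_mulVec, upper_e0 hu', mulVec_smul])
  exact mem_st' e0_ne hc

/-- The stabiliser of a line contains the normaliser of a Sylow subgroup. -/
theorem exists_sylow_le [Fintype F] (l : ℕ) [Fact l.Prime] [CharP F l] {v : Fin 3 → F} (hv : v ≠ 0) :
    ∃ U : Sylow l (Matrix.ProjectiveSpecialLinearGroup (Fin 3) F),
      Subgroup.normalizer ((U : Subgroup (Matrix.ProjectiveSpecialLinearGroup (Fin 3) F)) : Set _) ≤ hh v := by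
  obtain ⟨U, hU⟩ := exists_sylow (F := F) 3 l
  obtain ⟨m, hm⟩ := Cfsg.Agent.H119.SLVec.exists_map_one (n := 3) (by norm_num) (e0_ne (F := F)) hv
  refine ⟨pr m • U, ?_⟩
  intro n hn
  have h1 : (pr m)⁻¹ * n * pr m ∈ Subgroup.normalizer ((U : Subgroup (Matrix.ProjectiveSpecialLinearGroup (Fin 3) F)) : Set _) := by
    rw [Subgroup.mem_normalizer_iff] at hn ⊢
    have key : ∀ h, h ∈ ((pr m • U : Sylow l _) : Subgroup (Matrix.ProjectiveSpecialLinearGroup (Fin 3) F)) ↔
        (pr m)⁻¹ * h * pr m ∈ (U : Subgroup (Matrix.ProjectiveSpecialLinearGroup (Fin 3) F)) := by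
      intro h
      rw [Sylow.coe_subgroup_smul, Subgroup.mem_pointwise_smul_iff_inv_smul_mem, ← map_inv, MulAut.smul_def,
        MulAut.conj_apply, inv_inv]
    intro h
    have h2 := hn (pr m * h * (pr m)⁻¹)
    rw [key, key] at h2
    have e1 : (pr m)⁻¹ * (pr m * h * (pr m)⁻¹) * pr m = h := by group
    have e2 : (pr m)⁻¹ * (n * (pr m * h * (pr m)⁻¹) * n⁻¹) * pr m =
      (pr m)⁻¹ * n * pr m * h * ((pr m)⁻¹ * n * pr m)⁻¹ := by group
    rw [e1, e2] at h2
    exact h2
  obtain ⟨n', rfl⟩ := QuotientGroup.mk'_surjective _ n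
  change pr n' ∈ hh v
  change (pr m)⁻¹ * pr n' * pr m ∈ _ at h1
  have h2 := norm_le hU h1
  rw [← map_inv, ← map_mul, ← map_mul, pr_mem_hh e0_ne] at h2
  rw [pr_mem_hh hv]
  obtain ⟨c, hc0, hc⟩ := h2
  refine mem_st' hv (c := c) ?_
  have h3 : n' * m = m * (m⁻¹ * n' * m) := by group
  rw [← hm, mulVec_mulVec, ← Matrix.SpecialLinearGroup.coe_mul, h3, Matrix.SpecialLinearGroup.coe_mul,
    ← mulVec_mulVec, hc, mulVec_smul]

end Par

/-- **Elliptic automorphisms of `PSL_3(F)`.** -/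
theorem psl3_elliptic (F : Type) [Field F] [Finite F] {l : ℕ} [Fact l.Prime] [CharP F l] {p : ℕ} [Fact p.Prime]
    (hp2 : p ≠ 2) (_hpl : p ≠ l) (x : MulAut (Matrix.ProjectiveSpecialLinearGroup (Fin 3) F)) (hx : orderOf x = p)
    (hPA : PA p x)
    (hel : ∀ (U : Sylow l (Matrix.ProjectiveSpecialLinearGroup (Fin 3) F))
      (H : Subgroup (Matrix.ProjectiveSpecialLinearGroup (Fin 3) F)), H ≠ ⊤ →
      Subgroup.normalizer ((U : Subgroup (Matrix.ProjectiveSpecialLinearGroup (Fin 3) F)) : Set _) ≤ H →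
      ∃ h ∈ H, x h ∉ H) : False := by
  have : Fintype F := Fintype.ofFinite F
  have hp : p.Prime := Fact.out
  have hxp : x ^ p = 1 := by rw [← hx]; exact pow_orderOf_eq_one x
  obtain ⟨A, σ, rfl⟩ := Cfsg.Agent.CpAut.Psl.exists_of_odd (n := 3) (by norm_num) (hp.odd_of_ne_two hp2) hxp
  have hel' : ∀ v : Fin 3 → F, v ≠ 0 → ∃ g ∈ st v,
      (cj A * fld σ : MulAut (Matrix.SpecialLinearGroup (Fin 3) F)) g ∉ st v := by
    intro v hv
    obtain ⟨U, hU⟩ := exists_sylow_le l hv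
    obtain ⟨h, hh1, hh2⟩ := hel U (hh v) (hh_ne_top hv) hU
    obtain ⟨g, hg, rfl⟩ := hh1
    refine ⟨g, hg, fun h3 => hh2 ?_⟩
    rw [lift_pr, pr_mem_hh hv]
    exact h3
  by_cases hσ : σ = 1
  · subst hσ
    rw [map_one, mul_one] at hPA hel'
    refine lin_false ?_ hp2 hPA
    intro v hv c hc
    obtain ⟨g, ⟨d, hd0, hd⟩, h2⟩ := hel' v hv
    apply h2
    have hc0 : c ≠ 0 := by
      rintro rfl
      apply hv
      have h3 : ((A⁻¹ : GL (Fin 3) F) : Matrix (Fin 3) (Fin 3) F) *ᵥ ((A : Matrix (Fin 3) (Fin 3) F) *ᵥ v) = v := by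
        rw [mulVec_mulVec, ← Units.val_mul, inv_mul_cancel, Units.val_one, one_mulVec]
      rw [← h3, hc, zero_smul, mulVec_zero]
    have hi : ((A⁻¹ : GL (Fin 3) F) : Matrix (Fin 3) (Fin 3) F) *ᵥ v = c⁻¹ • v := by
      have h3 : v = (A : Matrix (Fin 3) (Fin 3) F) *ᵥ (c⁻¹ • v) := by
        rw [mulVec_smul, hc, smul_smul, inv_mul_cancel₀ hc0, one_smul]
      conv_lhs => rw [h3]
      rw [mulVec_mulVec, ← Units.val_mul, inv_mul_cancel, Units.val_one, one_mulVec]
    refine mem_st' hv (c := d) ?_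
    show ((A : Matrix (Fin 3) (Fin 3) F) * g.1 * ((A⁻¹ : GL (Fin 3) F) : Matrix (Fin 3) (Fin 3) F)) *ᵥ v = _
    rw [← mulVec_mulVec, hi, ← mulVec_mulVec, mulVec_smul, hd, mulVec_smul, mulVec_smul, hc, smul_smul, smul_smul]
    congr 1
    field_simp
  · obtain ⟨-, B, hB⟩ := Cfsg.Agent.CpAut.Psl.exists_conj hp hxp hσ
    have hBv : (B : Matrix (Fin 3) (Fin 3) F) *ᵥ e0 F ≠ 0 := by
      intro h
      apply e0_ne (F := F)
      have h3 : ((B⁻¹ : GL (Fin 3) F) : Matrix (Fin 3) (Fin 3) F) *ᵥ ((B : Matrix (Fin 3) (Fin 3) F) *ᵥ e0 F) = e0 F := by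
        rw [mulVec_mulVec, ← Units.val_mul, inv_mul_cancel, Units.val_one, one_mulVec]
      rw [← h3, h, mulVec_zero]
    have hBB : ((B⁻¹ : GL (Fin 3) F) : Matrix (Fin 3) (Fin 3) F) *ᵥ ((B : Matrix (Fin 3) (Fin 3) F) *ᵥ e0 F) = e0 F := by
      rw [mulVec_mulVec, ← Units.val_mul, inv_mul_cancel, Units.val_one, one_mulVec]
    obtain ⟨g, ⟨d, hd0, hd⟩, h2⟩ := hel' _ hBv
    apply h2
    rw [hB]
    have h1 : (cj B * fld σ * (cj B)⁻¹ : MulAut (Matrix.SpecialLinearGroup (Fin 3) F)) g = cj B (fld σ (cj B⁻¹ g)) := by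
      rw [map_inv]; rfl
    rw [h1]
    refine mem_st' hBv (c := σ d) ?_
    have h3 : (cj B⁻¹ g).1 *ᵥ e0 F = d • e0 F := by
      show (((B⁻¹ : GL (Fin 3) F) : Matrix (Fin 3) (Fin 3) F) * g.1 *
        (((B⁻¹)⁻¹ : GL (Fin 3) F) : Matrix (Fin 3) (Fin 3) F)) *ᵥ e0 F = _
      rw [inv_inv, ← mulVec_mulVec, ← mulVec_mulVec, hd, mulVec_smul, hBB]
    have h4 : (fld σ (cj B⁻¹ g)).1 *ᵥ e0 F = σ d • e0 F := by
      rw [e0, mulVec_single_one] at h3 ⊢
      ext i
      have h5 := congrFun h3 i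
      rw [Matrix.col_apply, Pi.smul_apply, smul_eq_mul] at h5 ⊢
      rw [show (fld σ (cj B⁻¹ g)).1 i 0 = σ ((cj B⁻¹ g).1 i 0) from rfl, h5, map_mul]
      congr 1
      rw [Pi.single_apply]
      split_ifs
      · exact map_one σ
      · exact map_zero σ
    show ((B : Matrix (Fin 3) (Fin 3) F) * (fld σ (cj B⁻¹ g)).1 * ((B⁻¹ : GL (Fin 3) F) : Matrix (Fin 3) (Fin 3) F)) *ᵥ
      ((B : Matrix (Fin 3) (Fin 3) F) *ᵥ e0 F) = _
    rw [← mulVec_mulVec, hBB, ← mulVec_mulVec, h4, mulVec_smul]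

end Cfsg.Agent.H953.EllPsl3
end

-- part: H460/FamB
section
/-!
# `Core` for families of Lie type, II (helper460)

Linear, symplectic, unitary groups of even dimension, orthogonal groups of plus type, `G₂`, `³D₄`; the groups of rank two
over the field with three elements at the prime `3` are hypotheses (`Own3`).
-/

set_option autoImplicit false

namespace Cfsg.Agent.H460.Fam

open Cfsg Subgroup Cfsg.Agent.H460.Engine Cfsg.Agent.H460.AA Cfsg.Agent.H460.Dgs Cfsg.Agent.H538.MFacts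
open Cfsg.Agent.H459.Rad Cfsg.Agent.H459.Gallery Cfsg.Agent.H460.Typed Cfsg.Agent.H185.TypedTw
open Cfsg.Agent.LieRecognition.BNCox (cA)
open Cfsg.Agent.Nodes
open Cfsg.Agent.FixOdd (Tw)

/-- the statement for the prime `3` only -/
def Own3 (K : Type*) [Group K] : Prop := ∀ x : MulAut K, orderOf x = 3 → RC x → PA 3 x → False

section Chev

open Cfsg.Lie Cfsg.Agent.Nodes.RGDChev

/-- `G₂(q)`, `q ≥ 3` -/
theorem core_G2 (F : Type) [Field F] [Finite F] (h3 : 3 ≤ Nat.card F) [IsSimpleGroup ↥(chevG2.group F)]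
    (own : Nat.card F = 3 → Own3 ↥(chevG2.group F)) : Core ↥(chevG2.group F) := by
  obtain ⟨p, hp⟩ := CharP.exists F
  have : Fact p.Prime := ⟨CharP.char_is_prime F p⟩
  intro r hr hr2 x hx hR hP
  obtain ⟨E, hF⟩ := exists_engF (by norm_num)
    (FTypedAE.ftyped_chev (D := chevG2) (l := 2) (M := CoxeterMatrix.G₂) (by simp [IsType, typeList]) F p)
  rcases main (E := E) dg_G2 hr2 (fun σ hσ h => aut_G2 σ hσ r hr.out hr2 h) hx hR hP with h | h
  · obtain ⟨-, -, c, h4, -⟩ := h.qF hF hr2 le_rfl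
    have h5 : Nat.card F = 2 := by
      rcases eq_or_ne (0 : Fin 2) c with h6 | h6
      · exact h4 1 (by rw [← h6]; decide)
      · exact h4 0 h6
    omega
  · obtain ⟨h4, -, -, i, h5⟩ := h.q hr2
    subst h4
    exact own h5 x hx hR hP

/-- `³D₄(q)` -/
theorem core_3D4 {F : Type} [Field F] [Fintype F] {q : ℕ} (hq : IsPrimePow q) (hF : Fintype.card F = q ^ 3)
    [IsSimpleGroup ↥(twistedD4 F q)] (own : q = 3 → Own3 ↥(twistedD4 F q)) : Core ↥(twistedD4 F q) := by
  obtain ⟨p, hp⟩ := CharP.exists F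
  have : Fact p.Prime := ⟨CharP.char_is_prime F p⟩
  intro r hr hr2 x hx hR hP
  have hF' : Nat.card F = q ^ 3 := by rw [Nat.card_eq_fintype_card, hF]
  obtain ⟨E, hFN⟩ := exists_engF (ℓ := p) (by norm_num) (ftyped_3D4 F hq hF')
  rcases main (E := E) dg_G2 hr2 (fun σ hσ h => aut_G2 σ hσ r hr.out hr2 h) hx hR hP with h | h
  · have hstar := h
    obtain ⟨hr3, hp2, c, h4, -⟩ := h.qF hFN hr2 le_rfl
    have hq2 : q = 2 := by
      rcases eq_or_ne (0 : Fin 2) c with h6 | h6
      · have h7 : q ^ 3 = 2 := h4 1 (by rw [← h6]; decide)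
        have h8 : q < 2 := by
          by_contra hcon
          have := Nat.pow_le_pow_left (not_lt.1 hcon) 3
          omega
        interval_cases q <;> omega
      · exact h4 0 h6
    subst hr3 hp2 hq2
    obtain ⟨i, hsol, g, hg⟩ := star_two hstar hR rfl
    have hQi : (![2, 2 ^ 3] : Fin 2 → ℕ) i = 2 := by
      have := PanL.q_of_fsol E.S E.e (hFN i) hsol
      fin_cases i
      · rfl
      · rcases this with h | h
        · exact h
        · exact absurd h (by norm_num)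
    obtain ⟨U', hU', hN⟩ := E.exists_U
    -- the Sylow subgroup and the parabolic subgroup
    set V : Sylow 2 ↥(twistedD4 F 2) := g • U' with hV
    have hNV : normalizer ((V : Subgroup ↥(twistedD4 F 2)) : Set ↥(twistedD4 F 2)) =
        E.P.B.map (MulAut.conj g).toMonoidHom := by
      rw [← hN, hV, Sylow.coe_subgroup_smul]
      exact (Subgroup.map_equiv_normalizer_eq (U' : Subgroup ↥(twistedD4 F 2)) (MulAut.conj g)).symm
    have hmem : ∀ (A : Subgroup ↥(twistedD4 F 2)) k, k ∈ A.map (MulAut.conj g).toMonoidHom ↔ g⁻¹ * k * g ∈ A := by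
      intro A k
      constructor
      · rintro ⟨h, hh, rfl⟩
        have e : g⁻¹ * ((MulAut.conj g).toMonoidHom h) * g = h := by
          simp [mul_assoc]
        rwa [e]
      · intro h
        refine ⟨_, h, ?_⟩
        simp [mul_assoc]
    refine H826.AASmall.d4 (by rw [hF]; norm_num) x hx hR V ((E.P.parabolic {(E.e i : ↥(twistedD4 F 2))}).map
      (MulAut.conj g).toMonoidHom) ?_ ?_ ?_ ?_
    · rw [hNV]
      exact Subgroup.map_mono le_sup_left
    · intro h hh
      rw [hmem] at hh ⊢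
      have h1 := hg _ hh
      rw [cx_apply] at h1
      have e : g * (g⁻¹ * h * g) * g⁻¹ = h := by group
      rwa [e] at h1
    · rw [hNV, Subgroup.relIndex_map_map_of_injective _ _ (MulAut.conj g).injective,
        PanL.relIndex_eq E.S E.e (E.node i), hQi]
    · intro W hW
      obtain ⟨w, hw⟩ := E.normalizer_sylow W
      refine hstar.2.1 ⟨w, fun b hb => ?_⟩
      have h1 : w * b * w⁻¹ ∈ normalizer ((W : Subgroup ↥(twistedD4 F 2)) : Set ↥(twistedD4 F 2)) := by
        rw [hw]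
        exact ⟨b, hb, rfl⟩
      have h2 := hW _ h1
      rw [hw] at h2
      obtain ⟨c, hc, h3⟩ := h2
      rw [cx_apply, ← h3]
      have e : w⁻¹ * ((MulAut.conj w).toMonoidHom c) * w = c := by
        simp [mul_assoc]
      rwa [e]
  · obtain ⟨h4, -, -, i, h5⟩ := h.q hr2
    subst h4
    refine own ?_ x hx hR hP
    fin_cases i
    · exact h5
    · have h7 : q ^ 3 = 3 := h5
      have h8 : q < 2 := by
        by_contra hcon
        have := Nat.pow_le_pow_left (not_lt.1 hcon) 3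
        omega
      interval_cases q <;> omega

end Chev

section Linear

open Matrix

/-- `PSL_{n+1}(F)`, `n ≥ 3` -/
theorem core_psl_ge {F : Type} [Field F] [Fintype F] {n : ℕ} (hn : 3 ≤ n)
    [IsSimpleGroup (ProjectiveSpecialLinearGroup (Fin (n + 1)) F)] :
    Core (ProjectiveSpecialLinearGroup (Fin (n + 1)) F) := by
  obtain ⟨p, hp⟩ := CharP.exists F
  have : Fact p.Prime := ⟨CharP.char_is_prime F p⟩
  have : Finite (ProjectiveSpecialLinearGroup (Fin (n + 1)) F) := Quotient.finite _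
  intro r hr hr2 x hx hR hP
  obtain ⟨E, hF⟩ := exists_engF (ℓ := p) (by omega) (FTypedAE.ftyped_psl F (n := n) (by omega))
  rcases main (E := E) (dg_A n hn) hr2 (fun σ hσ h => aut_A n σ hσ r hr.out hr2 h) hx hR hP with h | h
  · obtain ⟨-, -, c, h4, h5⟩ := h.qF hF hr2 (by omega)
    rcases Nat.lt_or_ge 3 n with h6 | h6
    · exact star_A n h6 ⟨c, h5⟩
    · obtain rfl : n = 3 := by omega
      have hc := mid_A3 h5
      have h7 : Nat.card F = 2 := h4 0 (by rw [hc]; decide)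
      rw [Nat.card_eq_fintype_card] at h7
      exact H826.AASmall.Low.core_psl4_two h7 r hr2 x hx hR hP
  · obtain ⟨-, -, h1, -⟩ := h.q hr2
    omega

/-- `PSL_3(F)` -/
theorem core_psl3 {F : Type} [Field F] [Fintype F]
    [IsSimpleGroup (ProjectiveSpecialLinearGroup (Fin 3) F)]
    (own : Fintype.card F = 3 → Own3 (ProjectiveSpecialLinearGroup (Fin 3) F)) :
    Core (ProjectiveSpecialLinearGroup (Fin 3) F) := by
  obtain ⟨p, hp⟩ := CharP.exists F
  have : Fact p.Prime := ⟨CharP.char_is_prime F p⟩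
  have : Finite (ProjectiveSpecialLinearGroup (Fin 3) F) := Quotient.finite _
  intro r hr hr2 x hx hR hP
  obtain ⟨E, hF⟩ := exists_engF (ℓ := p) (by norm_num) (FTypedAE.ftyped_psl F (n := 2) (by omega))
  obtain ⟨t, ht, h1⟩ := E.exists_t x
  have hxr : x ^ r = 1 := by rw [← hx]; exact pow_orderOf_eq_one _
  have hθ := h1 r hxr
  have hσ : t.σ = 1 := aut_A 2 t.σ (E.sigma_M t) r hr.out hr2 (E.sigma_pow hθ)
  have hσ' : ∀ i, t.σ i = i := fun i => by rw [hσ]; rfl
  subst ht
  by_cases hne : r = p ∨ ¬ EllC.Elliptic t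
  · have key : Star E r t.τ ∨ Own E r := by
      rcases fix_main (irr_A 2) le_rfl hr2 hx hR hP hθ hσ' hne with ⟨h1, h2, h3⟩ | h
      · exact Or.inl ⟨h1, h2, ⟨t, rfl, hθ, hσ', hne.resolve_left h1⟩, h3⟩
      · exact Or.inr h
    rcases key with h | h
    · obtain ⟨-, -, c, h4, -⟩ := h.qF hF hr2 le_rfl
      have h5 : Nat.card F = 2 := by
        rcases eq_or_ne (0 : Fin 2) c with h6 | h6
        · exact h4 1 (by rw [← h6]; decide)
        · exact h4 0 h6
      rw [Nat.card_eq_fintype_card] at h5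
      exact H826.AASmall.Low.core_psl3_two h5 r hr2 t.τ hx hR hP
    · obtain ⟨h4, -, -, i, h5⟩ := h.q hr2
      subst h4
      rw [Nat.card_eq_fintype_card] at h5
      exact own h5 t.τ hx hR hP
  · push Not at hne
    exact H953.EllPsl3.psl3_elliptic F hr2 hne.1 t.τ hx hP fun V H hH hle => no_par_of_elliptic hne.2 V H hH hle

end Linear

section Symplectic

/-- `PSp_{2m}(F)` -/
theorem core_psp {F : Type} [Field F] [Fintype F] {m : ℕ} (hm : 2 ≤ m) (h2 : m = 2 → 3 ≤ Fintype.card F)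
    [IsSimpleGroup (PSp m F)] (own : m = 2 → Fintype.card F = 3 → Own3 (PSp m F)) : Core (PSp m F) := by
  obtain ⟨p, hp⟩ := CharP.exists F
  have : Fact p.Prime := ⟨CharP.char_is_prime F p⟩
  have : Finite (PSp m F) := Quotient.finite _
  intro r hr hr2 x hx hR hP
  obtain ⟨E, hF⟩ := exists_engF (ℓ := p) (by omega) (FTypC.ftyped_psp F (m := m) (by omega))
  rcases main (E := E) (dg_B m hm) hr2 (fun σ hσ h => aut_B m σ hσ r hr.out hr2 h) hx hR hP with h | h
  · obtain ⟨h3, -, c, h4, h5⟩ := h.qF hF hr2 (by omega)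
    have h6 : Nat.card F = 2 := by
      rcases eq_or_ne (⟨0, by omega⟩ : Fin m) c with h6 | h6
      · refine h4 ⟨1, by omega⟩ ?_
        rw [← h6]
        intro h
        exact absurd (congrArg Fin.val h) (by norm_num)
      · exact h4 _ h6
    rw [Nat.card_eq_fintype_card] at h6
    rcases Nat.lt_or_ge 3 m with hn | hn
    · exact star_B m hn ⟨c, h5⟩
    · rcases hn.eq_or_lt with rfl | hn
      · subst h3
        exact H826.AASmall.sp6 h6 x hx hR
      · have := h2 (by omega)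
        omega
  · obtain ⟨h4, -, h5, i, h6⟩ := h.q hr2
    subst h4
    rw [Nat.card_eq_fintype_card] at h6
    exact own h5 h6 x hx hR hP

end Symplectic

section Unitary2

/-- `PSU_{2m}(q)`, `m ≥ 2` -/
theorem core_psu_even {F : Type} [Field F] [Fintype F] {q m : ℕ} (hF : Fintype.card F = q ^ 2) (hm : 2 ≤ m)
    [IsSimpleGroup (PSU (2 * m) F q)] (own : m = 2 → q = 2 ∨ q = 3 → Own3 (PSU (2 * m) F q)) :
    Core (PSU (2 * m) F q) := by
  obtain ⟨p, hp⟩ := CharP.exists F
  have : Fact p.Prime := ⟨CharP.char_is_prime F p⟩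
  have : Finite (PSU (2 * m) F q) := Quotient.finite _
  intro r hr hr2 x hx hR hP
  obtain ⟨E, hFN⟩ := exists_engF (ℓ := p) (by omega) (FTypC.ftyped_psu_even (p := p) hF hm)
  rcases main (E := E) (dg_B m hm) hr2 (fun σ hσ h => aut_B m σ hσ r hr.out hr2 h) hx hR hP with h | h
  · obtain ⟨h3, -, c, h4, h5⟩ := h.qF hFN hr2 (by omega)
    have hq2 : ¬ q ^ 2 = 2 := by
      intro h6
      have h7 : q < 2 := by
        by_contra hcon
        have := Nat.pow_le_pow_left (not_lt.1 hcon) 2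
        omega
      interval_cases q <;> omega
    rcases Nat.lt_or_ge 3 m with hn | hn
    · exact star_B m hn ⟨c, h5⟩
    · rcases hn.eq_or_lt with rfl | hn
      · have hc := mid_B3 h5
        exact hq2 (h4 0 (by rw [hc]; decide))
      · obtain rfl : m = 2 := by omega
        by_cases hc : c = 0
        · have h6 : q = 2 := h4 1 (by rw [hc]; decide)
          subst h3
          exact own rfl (Or.inl h6) x hx hR hP
        · exact absurd (h4 0 (Ne.symm hc)) hq2
  · obtain ⟨h4, -, h1, i, h2⟩ := h.q hr2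
    subst h1 h4
    have h5 : q ^ 2 = 3 ∨ q = 3 := by
      fin_cases i
      · exact Or.inl h2
      · exact Or.inr h2
    refine own rfl (Or.inr (h5.resolve_left fun h6 => ?_)) x hx hR hP
    have h7 : q < 2 := by
      by_contra hcon
      have h8 := Nat.pow_le_pow_left (not_lt.1 hcon) 2
      omega
    interval_cases q <;> omega

end Unitary2

section Plus

/-- orthogonal groups of plus type -/
theorem core_plus {F : Type} [Field F] [Fintype F] {m : ℕ} (hm : 4 ≤ m)
    [IsSimpleGroup (POmega F (quadFormPlus m F))] : Core (POmega F (quadFormPlus m F)) := by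
  obtain ⟨p, hp⟩ := CharP.exists F
  have : Fact p.Prime := ⟨CharP.char_is_prime F p⟩
  have : Finite (POmega F (quadFormPlus m F)) := Quotient.finite _
  obtain ⟨n, rfl⟩ : ∃ n, m = n + 2 := ⟨m - 2, by omega⟩
  intro r hr hr2 x hx hR hP
  have H := FTypO.ftyped_plus' (F := F) (p := p) (m := n) (by omega)
  rcases Nat.lt_or_ge 2 n with hn | hn
  · obtain ⟨E, hF⟩ := exists_engF (ℓ := p) (by omega) H
    rcases main (E := E) (dg_D n (by omega)) hr2 (fun σ hσ h => aut_D n hn σ hσ r hr.out hr2 h) hx hR hP with h | h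
    · obtain ⟨-, -, c, h4, h5⟩ := h.qF hF hr2 (by omega)
      exact star_D n hn ⟨c, h5⟩
    · obtain ⟨-, -, h1, -⟩ := h.q hr2
      omega
  · obtain rfl : n = 2 := by omega
    obtain ⟨E, hF, htri⟩ := H289.Tri.exists_engF_tri H
    have hxr : x ^ r = 1 := by rw [← hx]; exact pow_orderOf_eq_one _
    obtain ⟨t, ht, h1⟩ := E.exists_t x
    have hθ := h1 r hxr
    have hσ : ∀ i, t.σ i = i := by
      by_cases h3 : r = 3
      · subst h3
        subst ht
        exact htri t hP hxr hθ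
      · intro i
        rw [aut_D4 t.σ (E.sigma_M t) r hr.out hr2 h3 (E.sigma_pow hθ)]
        rfl
    rcases eng_sigma (dg_D 2 (by norm_num)) hr2 hx hR hP ht hθ hσ
      (fun h5 hall i y => pf_pan pfu E h5 i (hall i) y) with h | h
    · obtain ⟨h3, -, c, h4, h5⟩ := h.qF hF hr2 (by norm_num)
      have h6 : Nat.card F = 2 := by
        rcases eq_or_ne (0 : Fin 4) c with h6 | h6
        · exact h4 1 (by rw [← h6]; decide)
        · exact h4 0 h6
      subst h3 ht
      obtain ⟨a, ha⟩ := inner_of_two (fun _ => h6) hσ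
      rw [Nat.card_eq_fintype_card] at h6
      rw [ha] at hR hx
      refine H826.AASmall.o8 h6 (a := a) ?_ hR
      have hc : center (POmega F (quadFormPlus 4 F)) = ⊥ := by
        rcases (inferInstance : (center (POmega F (quadFormPlus 4 F))).Normal).eq_bot_or_eq_top with h7 | h7
        · exact h7
        · have h8 : MulAut.conj a = 1 := by
            ext k
            have h9 : k ∈ center (POmega F (quadFormPlus 4 F)) := h7 ▸ mem_top k
            rw [MulAut.conj_apply, mem_center_iff.1 h9 a, mul_inv_cancel_right]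
            rfl
          rw [h8, orderOf_one] at hx
          exact absurd hx (by norm_num)
      rw [← hx]
      exact (orderOf_injective MulAut.conj (conj_injective hc) a).symm
    · obtain ⟨-, -, h1, -⟩ := h.q hr2
      omega

end Plus

end Cfsg.Agent.H460.Fam
end

private theorem dce_ab5fd7f1d80e : _root_.True := by
  try have : _root_.True := by simp only [_root_.Cfsg.Agent.H953.EllPsl3.ph.eq_1]
  try have : _root_.True := by simp only [_root_.Cfsg.Agent.H953.EllPsl3.gi.eq_1]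
  try have : _root_.True := by simp only [_root_.Cfsg.Agent.H953.EllPsl3.yy.eq_1]
  try have : _root_.True := by simp only [_root_.Cfsg.Agent.H826.AASmall.J6.eq_1]
  try have : _root_.True := by simp only [_root_.Cfsg.POmega.congr_simp]
  try have : _root_.True := by simp only [_root_.Cfsg.Agent.H826.AASmall.blk.eq_1]
  try have : _root_.True := by simp only [_root_.Cfsg.Agent.H953.EllPsl3.e0.eq_1]
  try have : _root_.True := by simp only [_root_.Cfsg.Agent.H953.EllPsl3.cm.eq_1]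
  try have : _root_.True := by simp only [_root_.Cfsg.Agent.H953.EllPsl3.gg.eq_1]
  try have : _root_.True := by simp only [_root_.Matrix.ProjGenLinGroup.congr_simp]
  exact _root_.True.intro
end
end
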