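import Mathlib
import Cfsg.Prelude.Def_KGroupFacts
import Cfsg.Agent.H478.RadTools_m3
import Cfsg.Agent.H724.UThree
import Cfsg.Agent.H521.AARee_m3
import Cfsg.Agent.H70.SzAutThm
import Cfsg.Agent.StdL2.FGal
import Cfsg.Agent.S0331
import Cfsg.Agent.OddCyclic.ClaimC.SzIso
import Cfsg.Agent.S0813
import Cfsg.Agent.S0242
import Cfsg.Agent.S0249
import Cfsg.Agent.S0265
import Cfsg.Agent.S0814
import Cfsg.Agent.S0245
import Cfsg.Agent.S0270
import Cfsg.Agent.LieClassical.SympCenter
import Cfsg.Agent.H422.UFour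
import Cfsg.Agent.S0278
import Cfsg.Agent.S0815
import Cfsg.Agent.LieClassical.SUBasic
import Cfsg.Agent.H459.Gallery
import Cfsg.Agent.FixBN.Split
import Cfsg.Agent.SmallSimple.SylowMaxInter
import Cfsg.Agent.FixBN.FieldRGD
import Cfsg.Agent.FixBN.ChevGood
import Cfsg.Agent.S1032
import Cfsg.Agent.H185.TypedTw
import Cfsg.Agent.H460.PanL
import Cfsg.Agent.ChevalleyStructure.D4HConj
import Cfsg.Agent.LieClassical.FieldTransfer
import Cfsg.Agent.S0822
import Cfsg.Agent.Lib.FinFast
import Cfsg.Agent.Lib.MatRng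
import Cfsg.Agent.Lib.MatQ9a
import Cfsg.Agent.H465.Red
import Cfsg.Agent.H978.RadRu
import Cfsg.Agent.H235.AA.Row_m3
import Cfsg.Agent.H235.AA.He_m3
import Cfsg.Agent.SporadicB.RuTits
import Cfsg.Agent.OddHalf.Table.OutRu
import Cfsg.Agent.H561.AATool
import Cfsg.Agent.H256.SporC
import Cfsg.Agent.CTwoTab.Fi22
import Cfsg.Agent.LThreeFi22.Inst
import Cfsg.Agent.S1685
import Cfsg.Agent.S1686
import Cfsg.Agent.S1696
import Cfsg.Agent.H561.AAB
import Cfsg.Agent.H755.CC.Fi24
import Cfsg.Agent.S1258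
import Cfsg.Agent.S1695
import Cfsg.Agent.Fischer.Fi24Real
import Cfsg.Agent.H633.ElJ4
import Cfsg.Agent.H865.RhoEleven
import Cfsg.Agent.KFacts.J4.SheetJ4
import Cfsg.Agent.S0365
import Cfsg.Agent.H169.PSLTwoAut
import Cfsg.Agent.H654.AAField
import Cfsg.Agent.H84.CoreTwFD
import Cfsg.Agent.H84.CoreTwFB
import Cfsg.Agent.H743.TwF4OutConj
import Cfsg.Agent.S2131
import Cfsg.Agent.H389.JFacts
import Cfsg.Agent.H505.OddInn
import Cfsg.Agent.H961.SevM
import Cfsg.Agent.H235.AA.Transv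
import Cfsg.Agent.H109.NrM
import Cfsg.Agent.H561.AAM3
import Cfsg.Agent.H109.NrThirteen
import Cfsg.Agent.H961.CRM.Base
import Cfsg.Agent.H839.Rad.HNFive
import Cfsg.Agent.H478.HN3E
import Cfsg.Agent.CpAutHN.Main
import Cfsg.Agent.H177.AARow
import Cfsg.Agent.H177.AACo3b_m3
import Cfsg.Agent.H235.AA.CycFull
import Cfsg.Agent.H681.NoBadSuz
import Cfsg.Agent.H149.Sp.Conway
import Cfsg.Agent.BpSpor.Row.Tits_m3
import Cfsg.Agent.H460.FamB
import Cfsg.Agent.H235.AA.Th3
import Cfsg.Agent.H177.AAHS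
import Cfsg.Agent.H164.AATits
import Cfsg.Agent.H177.AAMcL
import Cfsg.Agent.FastGrp
import Cfsg.Agent.Prune
set_option linter.all false

section
prune_inst 0x7f00000000000000000000000000000000000000000000000000000000000000000000000000000000000000000000000000000000000000000000000000000000000000000000000000000000000000003fffffffffffffffffffffffffffbeffbdffffffff

section
prune_inst 0xfcbcfbaff83ddedfff7e77fedddffdfdb87fffafdff9cbbfe021ef2fdf6b0889c57bad8de810fc0fe2429410b87b53fb7eeeffe86bdc7ffffd5ff45ffbee0fb5e7bd0851968c340fbc0ff703f07f8e7f000000000000000000000000000000004000000000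

-- part: H422/OwnMat
section
set_option linter.all false
open scoped Cfsg.Agent.FastGrp

/-!
# Products of two conjugates of an element of order 3 in characteristic 3 (S3833): a criterion for matrix groups
-/

set_option autoImplicit false

namespace Cfsg.Agent.H422.OwnMat

open Subgroup Cfsg Cfsg.Agent.H460.AA Matrix

section Mat

variable {ι : Type} [Fintype ι] [DecidableEq ι] {F : Type} [Field F] [Finite F] [CharP F 3]

theorem exists_nil {M : Matrix ι ι F} {k : ℕ} {c : F}
    (h : M ^ 3 ^ k = c • (1 : Matrix ι ι F)) : ∃ e : F, IsNilpotent (M - e • (1 : Matrix ι ι F)) := by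
  have hp : Fact (Nat.Prime 3) := ⟨Nat.prime_three⟩
  rcases isEmpty_or_nonempty ι with hι | hι
  · exact ⟨1, 1, by ext i; exact (IsEmpty.false i).elim⟩
  have : CharP (Matrix ι ι F) 3 := Matrix.charP 3
  obtain ⟨e, he⟩ : ∃ e : F, e ^ 3 ^ k = c := by
    have h1 : Function.Bijective (iterateFrobenius F 3 k) :=
      Finite.injective_iff_bijective.1 (iterateFrobenius F 3 k).injective
    obtain ⟨e, he⟩ := h1.2 c
    exact ⟨e, he⟩
  have hc : Commute M (e • (1 : Matrix ι ι F)) := by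
    rw [Commute, SemiconjBy, Matrix.mul_smul, Matrix.smul_mul, mul_one, one_mul]
  refine ⟨e, 3 ^ k, ?_⟩
  rw [sub_pow_char_pow_of_commute _ _ hc, h, smul_pow, one_pow, he, sub_self]

omit [Finite F] in
theorem pow_nine_of_nil {M : Matrix ι ι F} (hn : Fintype.card ι ≤ 9) {e : F}
    (h : IsNilpotent (M - e • (1 : Matrix ι ι F))) : M ^ 9 = (e ^ 9) • (1 : Matrix ι ι F) := by
  have hp : Fact (Nat.Prime 3) := ⟨Nat.prime_three⟩
  rcases isEmpty_or_nonempty ι with hι | hι
  · ext i; exact (IsEmpty.false i).elim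
  have : CharP (Matrix ι ι F) 3 := Matrix.charP 3
  set N := M - e • (1 : Matrix ι ι F) with hN
  have h3 : N ^ Fintype.card ι = 0 := by
    have h4 := Matrix.isNilpotent_charpoly_sub_pow_of_isNilpotent (M := N) h
    have h5 := h4.eq_zero
    have h6 := Matrix.aeval_self_charpoly N
    rw [sub_eq_zero.1 h5, map_pow, Polynomial.aeval_X] at h6
    exact h6
  have h4 : N ^ 9 = 0 := by
    rw [show 9 = Fintype.card ι + (9 - Fintype.card ι) by omega, pow_add, h3, zero_mul]
  have h5 : M = N + e • (1 : Matrix ι ι F) := by rw [hN, sub_add_cancel]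
  have hc2 : Commute N (e • (1 : Matrix ι ι F)) := by
    rw [Commute, SemiconjBy, Matrix.mul_smul, Matrix.smul_mul, mul_one, one_mul]
  have h6 := add_pow_char_pow_of_commute (p := 3) 2 hc2
  rw [show 3 ^ 2 = 9 from rfl, h4, smul_pow, one_pow, zero_add, ← h5] at h6
  exact h6

theorem pow_nine {M : Matrix ι ι F} (hn : Fintype.card ι ≤ 9) {k : ℕ} {c : F}
    (h : M ^ 3 ^ k = c • (1 : Matrix ι ι F)) : ∃ d : F, M ^ 9 = d • (1 : Matrix ι ι F) := by
  obtain ⟨e, he⟩ := exists_nil h
  exact ⟨_, pow_nine_of_nil hn he⟩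

end Mat

section Crit

variable {G : Type} [Group G] [Finite G]

/-- a finite set closed under multiplication is a subgroup -/
def mkU (S : Set G) (h1 : (1 : G) ∈ S) (hm : ∀ a ∈ S, ∀ b ∈ S, a * b ∈ S) : Subgroup G where
  carrier := S
  one_mem' := h1
  mul_mem' := fun {a b} ha hb => hm a ha b hb
  inv_mem' := fun {a} ha => by
    have h2 : ∀ n : ℕ, a ^ n ∈ S := fun n => by
      induction n with
      | zero => rw [pow_zero]; exact h1
      | succ n ih => rw [pow_succ]; exact hm _ ih _ ha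
    have h3 : a⁻¹ = a ^ (orderOf a - 1) := by
      rw [inv_eq_iff_mul_eq_one, ← pow_succ', Nat.sub_add_cancel (orderOf_pos a), pow_orderOf_eq_one]
    rw [h3]
    exact h2 _

/-- every element of order three is conjugate into a given Sylow subgroup (as a set) -/
theorem exists_conj {T : Type} [Finite T] (f : T → G) (hf : Function.Injective f) (t0 : T) (h0 : f t0 = 1)
    (hm : ∀ s t, ∃ w, f s * f t = f w) {n m : ℕ} (hT : Nat.card T = 3 ^ n) (hG : Nat.card G = 3 ^ n * m) (hm3 : ¬ 3 ∣ m)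
    {a : G} (ha : a ^ 3 = 1) : ∃ (g : G) (t : T), g * a * g⁻¹ = f t := by
  have hp : Fact (Nat.Prime 3) := ⟨Nat.prime_three⟩
  let U : Subgroup G := mkU (Set.range f) ⟨t0, h0⟩ (by
    rintro _ ⟨s, rfl⟩ _ ⟨t, rfl⟩
    obtain ⟨w, hw⟩ := hm s t
    exact ⟨w, hw.symm⟩)
  have hU : Nat.card U = 3 ^ n := by
    rw [← hT]
    exact Nat.card_congr (Equiv.ofInjective f hf).symm
  have hi : ¬ 3 ∣ U.index := by
    intro h
    have h1 := U.card_mul_index
    rw [hU, hG] at h1
    exact hm3 ((Nat.eq_of_mul_eq_mul_left (by positivity) h1) ▸ h)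
  have h1 : IsPGroup 3 (zpowers a) := by
    have h2 : orderOf a ∣ 3 := orderOf_dvd_of_pow_eq_one ha
    rcases (Nat.dvd_prime Nat.prime_three).1 h2 with h | h
    · exact IsPGroup.of_card (n := 0) (by rw [Nat.card_zpowers, h, pow_zero])
    · exact IsPGroup.of_card (n := 1) (by rw [Nat.card_zpowers, h, pow_one])
  have h2 : (MulAction.fixedPoints (zpowers a) (G ⧸ U)).Nonempty :=
    h1.nonempty_fixed_point_of_prime_not_dvd_card (α := G ⧸ U) hi
  obtain ⟨y, hy⟩ := h2
  obtain ⟨g, rfl⟩ := QuotientGroup.mk_surjective y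
  have h3 := hy ⟨a, mem_zpowers a⟩
  have h4 : ((a * g : G) : G ⧸ U) = (g : G ⧸ U) := h3
  rw [QuotientGroup.eq] at h4
  have h5 := U.inv_mem h4
  have e : ((a * g)⁻¹ * g)⁻¹ = g⁻¹ * a * g := by group
  rw [e] at h5
  obtain ⟨t, ht⟩ := h5
  exact ⟨g⁻¹, t, by rw [inv_inv]; exact ht.symm⟩

omit [Finite G] in
/-- products in a semidirect product -/
theorem mul_mem_prod {V W : Type} [Add V] [Add W] (N : V → G) (H : W → G) (act : W → V → V)
    (hN : ∀ v w, N v * N w = N (v + w)) (hH : ∀ v w, H v * H w = H (v + w)) (hc : ∀ w v, H w * N v = N (act w v) * H w)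
    (s t : V × W) : ∃ w : V × W, (N s.1 * H s.2) * (N t.1 * H t.2) = N w.1 * H w.2 := by
  refine ⟨(s.1 + act s.2 t.1, s.2 + t.2), ?_⟩
  change _ = N (s.1 + act s.2 t.1) * H (s.2 + t.2)
  rw [← hN, ← hH, mul_assoc, ← mul_assoc (H s.2), hc]
  simp only [mul_assoc]

variable {ι : Type} [Fintype ι] [DecidableEq ι] {F : Type} [Field F] [Finite F] [CharP F 3]

omit [Finite F] [CharP F 3] in
/-- The criterion for `G ⧸ Z(G)`, `G` a matrix group. -/
theorem false_of_check' (mat : G →* Matrix ι ι F)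
    (hZ4 : ∀ z ∈ center G, z ^ 4 = 1) (hZs : ∀ z ∈ center G, ∃ r : F, mat z = r • (1 : Matrix ι ι F))
    {T : Type} [Finite T] (f : T → G) (hf : Function.Injective f) (t0 : T) (h0 : f t0 = 1)
    (hm : ∀ s t, ∃ w, f s * f t = f w) {n m : ℕ} (hT : Nat.card T = 3 ^ n) (hG : Nat.card G = 3 ^ n * m) (hm3 : ¬ 3 ∣ m)
    (chk : ∀ t, t ≠ t0 → ∃ g : G, ∀ (k : ℕ) (r : F), (mat (f t * (g * f t * g⁻¹))) ^ 3 ^ k ≠ r • (1 : Matrix ι ι F))
    (a : G ⧸ center G) (ha : orderOf a = 3) (hP : ∀ g, PE 3 (a * (g * a * g⁻¹))) : False := by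
  have hp : Fact (Nat.Prime 3) := ⟨Nat.prime_three⟩
  obtain ⟨b, hb⟩ := QuotientGroup.mk_surjective a
  have hb3 : b ^ 3 ∈ center G := by
    rw [← QuotientGroup.eq_one_iff, QuotientGroup.mk_pow, hb, ← ha]
    exact pow_orderOf_eq_one a
  have hc3 : (b ^ 4) ^ 3 = 1 := by
    rw [← pow_mul, mul_comm, pow_mul]
    exact hZ4 _ hb3
  have hc : ((b ^ 4 : G) : G ⧸ center G) = a := by
    rw [QuotientGroup.mk_pow, hb, pow_succ, ← ha, pow_orderOf_eq_one, one_mul]
  obtain ⟨g, t, hg⟩ := exists_conj f hf t0 h0 hm hT hG hm3 hc3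
  have ht : t ≠ t0 := by
    rintro rfl
    rw [h0] at hg
    have h1 : b ^ 4 = 1 := by
      have h2 := congrArg (fun z => g⁻¹ * z * g) hg
      simpa [mul_assoc] using h2
    rw [h1] at hc
    rw [← hc] at ha
    simp at ha
  obtain ⟨k, hk⟩ := chk t ht
  -- the product in `G ⧸ Z`
  have h1 : PE 3 ((f t * (k * f t * k⁻¹) : G) : G ⧸ center G) := by
    have h2 := (hP ((g⁻¹ * k * g : G) : G ⧸ center G)).conj (g : G ⧸ center G)
    have h3 : ((f t * (k * f t * k⁻¹) : G) : G ⧸ center G) =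
        (g : G ⧸ center G) * (a * (((g⁻¹ * k * g : G) : G ⧸ center G) * a * ((g⁻¹ * k * g : G) : G ⧸ center G)⁻¹)) *
          (g : G ⧸ center G)⁻¹ := by
      rw [← hg, ← hc]
      simp only [← QuotientGroup.mk_mul, ← QuotientGroup.mk_inv]
      congr 1
      group
    rw [h3]
    exact h2
  obtain ⟨j, hj⟩ := PE.pow_eq_one_iff.1 h1
  rw [← QuotientGroup.mk_pow, QuotientGroup.eq_one_iff] at hj
  obtain ⟨r, hr⟩ := hZs _ hj
  rw [map_pow] at hr
  exact hk j r hr

/-- The criterion for `G ⧸ Z(G)`, `G` a matrix group. -/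
theorem false_of_check (mat : G →* Matrix ι ι F) (hn : Fintype.card ι ≤ 9)
    (hZ4 : ∀ z ∈ center G, z ^ 4 = 1) (hZs : ∀ z ∈ center G, ∃ r : F, mat z = r • (1 : Matrix ι ι F))
    {T : Type} [Finite T] (f : T → G) (hf : Function.Injective f) (t0 : T) (h0 : f t0 = 1)
    (hm : ∀ s t, ∃ w, f s * f t = f w) {n m : ℕ} (hT : Nat.card T = 3 ^ n) (hG : Nat.card G = 3 ^ n * m) (hm3 : ¬ 3 ∣ m)
    (chk : ∀ t, t ≠ t0 → ∃ g : G, ∀ r : F, (mat (f t * (g * f t * g⁻¹))) ^ 9 ≠ r • (1 : Matrix ι ι F))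
    (a : G ⧸ center G) (ha : orderOf a = 3) (hP : ∀ g, PE 3 (a * (g * a * g⁻¹))) : False := by
  refine false_of_check' mat hZ4 hZs f hf t0 h0 hm hT hG hm3 (fun t ht => ?_) a ha hP
  obtain ⟨g, hg⟩ := chk t ht
  refine ⟨g, fun k r h => ?_⟩
  obtain ⟨d, hd⟩ := pow_nine hn h
  exact hg d hd

end Crit

section Aut

universe u

variable {K : Type u} [Group K] [Finite K]

omit [Finite K] in
theorem center_eq_bot (hs : IsSimpleGroup K) (hna : ¬ IsMulCommutative K) : center K = ⊥ := by
  have h1 : (center K).Normal := inferInstance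
  rcases h1.eq_bot_or_eq_top with h | h
  · exact h
  · exact absurd ⟨⟨fun a b => (mem_center_iff.1 (h ▸ mem_top b : b ∈ center K) a)⟩⟩ hna

theorem card_out (hs : IsSimpleGroup K) (hna : ¬ IsMulCommutative K) {o : ℕ}
    (h : Nat.card (MulAut K) = o * Nat.card K) : Nat.card (Out K) = o := by
  have h1 : Nat.card (Inn K) = Nat.card K :=
    (Nat.card_congr (MonoidHom.ofInjective (conj_injective (center_eq_bot hs hna))).toEquiv).symm
  have h2 := Subgroup.card_eq_card_quotient_mul_card_subgroup (Inn K)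
  rw [h, h1] at h2
  exact (Nat.eq_of_mul_eq_mul_right Nat.card_pos h2).symm

/-- automorphisms of order `3` are inner if `3` does not divide the number of outer automorphisms -/
theorem inner_of_card (hs : IsSimpleGroup K) (hna : ¬ IsMulCommutative K) {o : ℕ} (ho : Nat.card (MulAut K) = o * Nat.card K)
    (h3 : ¬ 3 ∣ o) {x : MulAut K} (hx : orderOf x = 3) : ∃ a : K, x = MulAut.conj a := by
  have h1 := card_out hs hna ho
  have h2 : x ∈ Inn K := by
    rw [← QuotientGroup.eq_one_iff]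
    have h3' : ((x : MulAut K) : Out K) ^ 3 = 1 := by
      rw [← QuotientGroup.mk_pow, ← hx, pow_orderOf_eq_one]; rfl
    have h4 : orderOf ((x : MulAut K) : Out K) ∣ 3 := orderOf_dvd_of_pow_eq_one h3'
    rcases (Nat.dvd_prime Nat.prime_three).1 h4 with h | h
    · exact orderOf_eq_one_iff.1 h
    · exfalso
      apply h3
      rw [← h1, ← h]
      exact orderOf_dvd_natCard _
  obtain ⟨a, ha⟩ := h2
  exact ⟨a, ha.symm⟩

/-- from elements to automorphisms -/
theorem false_of_inner (hs : IsSimpleGroup K) (hna : ¬ IsMulCommutative K) {o : ℕ}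
    (ho : Nat.card (MulAut K) = o * Nat.card K) (h3 : ¬ 3 ∣ o)
    (h : ∀ a : K, orderOf a = 3 → (∀ g, PE 3 (a * (g * a * g⁻¹))) → False)
    (x : MulAut K) (hx : orderOf x = 3) (hP : PA 3 x) : False := by
  obtain ⟨a, rfl⟩ := inner_of_card hs hna ho h3 hx
  have hc : center K = ⊥ := center_eq_bot hs hna
  have ha : orderOf a = 3 := by rw [← hx]; exact (orderOf_injective _ (conj_injective hc) a).symm
  exact h a ha (pe_of_PA hc hP)

end Aut

end Cfsg.Agent.H422.OwnMat
end

-- part: H953/CorePsu3_mg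
section
prune_inst 0x100000000000000000000000040000000000000000000000000000000000000000000200000000000000000000000000000000000000000000000000000000000000000000000000000000000000000000000000000000000000000000000
set_option linter.all false
open scoped Cfsg.Agent.FastGrp

-- part: H953/CorePsu3
section
/-!
# `PSU_3(q)`, `q ≥ 3`: `Core` (helper953, task 572, for S3833, S3834, S3840)
-/

set_option autoImplicit false
set_option linter.unusedSectionVars false

namespace Cfsg.Agent.H953.CorePsu3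

open Subgroup Cfsg Cfsg.Agent.H459.Rad Matrix Cfsg.Agent.H460.AA
open Cfsg.Agent.LieClassical.HermBasic Cfsg.Agent.LieClassical.HermSiegel Cfsg.Agent.LieClassical.HermGen
open Cfsg.Agent.ClassicalGeometry.PSUAutCount (gm semiConj toAut gm_mul gm_one gm_mul_inv gm_inv_mul eq_of_toAut_eq
  sc gm_sc_mul toAut_sc_mul herm_gm gm_mulVec_inv gm_inv_mulVec gm_inj scalar_of_isotropic)
open Cfsg.Agent.ClassicalGeometry.UnitAutBasic (pr pr_surjective T act_T c0 c0_ne_zero)
open Cfsg.Agent.Schreier.PSU (f₁)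
open Cfsg.Agent.H724.UThree (toGU gm_toGU f₁_toGU gm_pow coords exists_lin exists_vec eq_one_of_fix field_false Hst
  RC_conj mat_ext)

variable {F : Type*} [Field F] [Fintype F] {q : ℕ}

theorem f₁_def (A : GU 3 F q) : f₁ A = toAut A 1 := rfl

/-- `p`-elements of the linear automorphism group -/
theorem pe_f₁ (hF : Fintype.card F = q ^ 2) {p : ℕ} [Fact p.Prime] {A : GU 3 F q} (h : PE p (f₁ A)) :
    ∃ (k : ℕ) (c : F), c * c ^ q = 1 ∧ gm A ^ p ^ k = c • (1 : Matrix (Fin 3) (Fin 3) F) := by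
  obtain ⟨k, hk⟩ := PE.pow_eq_one_iff.1 h
  have h1 : toAut (1 : GU 3 F q) 1 = toAut (A ^ p ^ k) 1 := by
    rw [← f₁_def, ← f₁_def, map_pow, hk, map_one]
  obtain ⟨-, c, hc, hc'⟩ := eq_of_toAut_eq hF le_rfl h1
  exact ⟨k, c, hc, by rw [← gm_pow, hc', gm_one]⟩

theorem pa_lin (hF : Fintype.card F = q ^ 2) {p : ℕ} [Fact p.Prime] {A : GU 3 F q} (h : PA p (f₁ A)) (g : SU 3 F q) :
    ∃ (k : ℕ) (c : F), c * c ^ q = 1 ∧
      (gm A * mat g * gm A * mat g⁻¹) ^ p ^ k = c • (1 : Matrix (Fin 3) (Fin 3) F) := by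
  have h1 := h (pr 3 F q g)
  rw [← f₁_toGU, ← map_inv, ← map_mul, ← map_mul, ← map_mul] at h1
  obtain ⟨k, c, hc, hk⟩ := pe_f₁ hF h1
  refine ⟨k, c, hc, ?_⟩
  rw [← hk, gm_mul, gm_mul, gm_mul, mul_assoc, mul_assoc, mul_assoc]
  rfl

/-- a scalar acts trivially -/
theorem f₁_eq_one (hF : Fintype.card F = q ^ 2) {A : GU 3 F q} {b : F} (h : gm A = b • 1) : f₁ A = 1 := by
  have h1 := herm_gm A (Pi.single 0 1) (Pi.single 0 1)
  rw [h, smul_mulVec, one_mulVec, herm_smul_left, herm_smul_right, herm_single_left, Pi.single_eq_same, one_pow] at h1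
  have hb : b * b ^ q = 1 := by linear_combination h1
  have h2 : A = sc 3 ⟨b, hb⟩ * 1 := by
    apply gm_inj
    rw [gm_sc_mul, gm_one, h]
  rw [h2, f₁_def, toAut_sc_mul, ← f₁_def, map_one]

/-- isotropic vectors orthogonal to an isotropic vector are multiples of it -/
theorem parallel (hF : Fintype.card F = q ^ 2) {u v : Fin 3 → F} (hu : hermForm 3 F q u u = 0) (hu0 : u ≠ 0)
    (hv : hermForm 3 F q v v = 0) (huv : hermForm 3 F q u v = 0) : ∃ c : F, v = c • u := by
  obtain ⟨z, hz⟩ := exists_herm_ne_zero hF hu0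
  have hz' : hermForm 3 F q z u ≠ 0 := by
    rw [herm_swap hF u z]
    exact pow_ne_zero _ hz
  have hvu : hermForm 3 F q v u = 0 := herm_eq_zero_swap hF huv
  refine ⟨hermForm 3 F q v z / hermForm 3 F q u z, ?_⟩
  obtain ⟨c, hc⟩ : ∃ c, c = hermForm 3 F q v z / hermForm 3 F q u z := ⟨_, rfl⟩
  rw [← hc]
  obtain ⟨w, hw⟩ : ∃ w, w = v - c • u := ⟨_, rfl⟩
  suffices h : w = 0 by
    rw [hw, sub_eq_zero] at h
    exact h
  by_contra hw0
  have hwz : hermForm 3 F q w z = 0 := by
    rw [hw, herm_sub_left, herm_smul_left, hc, div_mul_cancel₀ _ hz, sub_self]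
  have hwu : hermForm 3 F q w u = 0 := by
    rw [hw, herm_sub_left, herm_smul_left, hvu, hu, mul_zero, sub_zero]
  have hww : hermForm 3 F q w w = 0 := by
    have h1 : hermForm 3 F q u w = 0 := herm_eq_zero_swap hF hwu
    have h2 : hermForm 3 F q v w = 0 := by
      rw [hw, herm_sub_right hF, herm_smul_right, hv, hvu, mul_zero, sub_zero]
    conv_lhs => rw [hw]
    rw [herm_sub_left, herm_smul_left, ← hw, h2, h1, mul_zero, sub_zero]
  apply hw0
  apply herm_nondeg hF
  intro x
  obtain ⟨a, b, d, rfl⟩ := coords (a := u) (b := w) (c := z) (by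
    intro x y t h
    have h1 := congrArg (fun v => hermForm 3 F q v u) h
    simp only [herm_add_left, herm_smul_left, herm_zero_left, hu, hwu, mul_zero, zero_add] at h1
    have ht : t = 0 := (mul_eq_zero.1 h1).resolve_right hz'
    have h2 := congrArg (fun v => hermForm 3 F q v z) h
    simp only [herm_add_left, herm_smul_left, herm_zero_left, hwz, mul_zero, add_zero, ht, zero_mul] at h2
    have hx : x = 0 := (mul_eq_zero.1 h2).resolve_right hz
    rw [hx, ht, zero_smul, zero_smul, zero_add, add_zero] at h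
    exact ⟨hx, (smul_eq_zero.1 h).resolve_right hw0, ht⟩) x
  rw [herm_add_right hF, herm_add_right hF, herm_smul_right, herm_smul_right, herm_smul_right, hwu, hww, hwz, mul_zero,
    mul_zero, mul_zero, add_zero, add_zero]

/-- some isotropic vector is moved -/
theorem exists_moved (hF : Fintype.card F = q ^ 2) {A : GU 3 F q} (hA : f₁ A ≠ 1) :
    ∃ u : Fin 3 → F, hermForm 3 F q u u = 0 ∧ hermForm 3 F q u (gm A *ᵥ u) ≠ 0 := by
  by_contra hcon
  push Not at hcon
  have hne : gm A ≠ 0 := by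
    intro h0
    have h1 := gm_mul_inv A
    rw [h0, Matrix.zero_mul] at h1
    have := congrFun (congrFun h1 0) 0
    simp at this
  obtain ⟨-, b, -, hb⟩ := scalar_of_isotropic hF le_rfl (B := gm A) (ψ := 1) hne (by
    intro u hu hu0
    obtain ⟨c, hc⟩ := parallel hF hu hu0 (by rw [herm_gm, hu]) (hcon u hu)
    exact ⟨c, hc⟩)
  exact hA (f₁_eq_one hF hb)

/-- moving a pair -/
theorem exists_move (hF : Fintype.card F = q ^ 2) {A : GU 3 F q} {u : Fin 3 → F} (hu : hermForm 3 F q u u = 0)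
    (hz0 : hermForm 3 F q u (gm A *ᵥ u) ≠ 0) {a : F} (ha : a ≠ 0) :
    ∃ (g : SU 3 F q) (b : F), act g u = a • u ∧ act g (gm A *ᵥ u) = b • (gm A⁻¹ *ᵥ u) ∧
      a * b ^ q * hermForm 3 F q u (gm A *ᵥ u) ^ q = hermForm 3 F q u (gm A *ᵥ u) := by
  obtain ⟨z, hz⟩ : ∃ z, z = hermForm 3 F q u (gm A *ᵥ u) := ⟨_, rfl⟩
  rw [← hz] at hz0 ⊢
  have hzq : z ^ q ≠ 0 := pow_ne_zero _ hz0
  have hA : hermForm 3 F q (gm A *ᵥ u) (gm A *ᵥ u) = 0 := by rw [herm_gm, hu]
  have hA' : hermForm 3 F q (gm A⁻¹ *ᵥ u) (gm A⁻¹ *ᵥ u) = 0 := by rw [herm_gm, hu]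
  have hz' : hermForm 3 F q u (gm A⁻¹ *ᵥ u) = z ^ q := by
    have h1 := herm_gm A u (gm A⁻¹ *ᵥ u)
    rw [gm_mulVec_inv] at h1
    rw [← h1, herm_swap hF u, ← hz]
  have haz : a * z ^ q ≠ 0 := mul_ne_zero ha hzq
  obtain ⟨g, -, hg1, hg2⟩ := exists_map_hyp hF (k := 3) le_rfl le_rfl (u := u) (u' := (z⁻¹) ^ q • (gm A *ᵥ u))
    (v := a • u) (v' := ((a * z ^ q)⁻¹) ^ q • (gm A⁻¹ *ᵥ u)) (mem_coordSub_top _) (mem_coordSub_top _)
    (mem_coordSub_top _) (mem_coordSub_top _) hu (by rw [herm_smul_left, herm_smul_right, hA, mul_zero, mul_zero])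
    (by rw [herm_smul_right, pow_q_pow_q hF, ← hz, inv_mul_cancel₀ hz0])
    (by rw [herm_smul_left, herm_smul_right, hu, mul_zero, mul_zero])
    (by rw [herm_smul_left, herm_smul_right, hA', mul_zero, mul_zero])
    (by
      rw [herm_smul_left, herm_smul_right, pow_q_pow_q hF, hz']
      field_simp)
  refine ⟨g, z ^ q * ((a * z ^ q)⁻¹) ^ q, hg1, ?_, ?_⟩
  · have h1 : gm A *ᵥ u = z ^ q • ((z⁻¹) ^ q • (gm A *ᵥ u)) := by
      rw [smul_smul, ← mul_pow, mul_inv_cancel₀ hz0, one_pow, one_smul]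
    rw [h1, act_smul, hg2, smul_smul]
  · rw [mul_pow (z ^ q), pow_q_pow_q hF, pow_q_pow_q hF]
    field_simp

theorem eig {A : GU 3 F q} {u : Fin 3 → F} {a b : F} {g : SU 3 F q} (ha : a ≠ 0) (h1 : act g u = a • u)
    (h2 : act g (gm A *ᵥ u) = b • (gm A⁻¹ *ᵥ u)) :
    (gm A * mat g * gm A * mat g⁻¹) *ᵥ u = (b / a) • u := by
  have h3 : mat g⁻¹ *ᵥ u = a⁻¹ • u := by
    have h4 : u = act g (a⁻¹ • u) := by rw [act_smul, h1, smul_smul, inv_mul_cancel₀ ha, one_smul]
    conv_lhs => rw [h4]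
    rw [← act_def, act_inv_act]
  rw [← mulVec_mulVec, h3, ← mulVec_mulVec, ← mulVec_mulVec, mulVec_smul, mulVec_smul, ← act_def, h2, mulVec_smul,
    mulVec_smul, gm_mulVec_inv, smul_smul, div_eq_inv_mul]

theorem pow_mulVec {M : Matrix (Fin 3) (Fin 3) F} {u : Fin 3 → F} {b : F} (h : M *ᵥ u = b • u) (k : ℕ) :
    (M ^ k) *ᵥ u = b ^ k • u := by
  induction k with
  | zero => rw [pow_zero, pow_zero, one_mulVec, one_smul]
  | succ k ih => rw [pow_succ, ← mulVec_mulVec, h, mulVec_smul, ih, smul_smul, pow_succ, mul_comm]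

theorem pow_eig {M : Matrix (Fin 3) (Fin 3) F} {u : Fin 3 → F} {b κ : F} {k : ℕ} (h : M *ᵥ u = b • u) (hu : u ≠ 0)
    (hM : M ^ k = κ • 1) : b ^ k = κ := by
  have h1 := pow_mulVec h k
  rw [hM, smul_mulVec, one_mulVec] at h1
  have h2 : (κ - b ^ k) • u = 0 := by rw [sub_smul, h1, sub_self]
  exact (sub_eq_zero.1 ((smul_eq_zero.1 h2).resolve_right hu)).symm

theorem ne_zero_of_moved {A : GU 3 F q} {u : Fin 3 → F} (hz0 : hermForm 3 F q u (gm A *ᵥ u) ≠ 0) : u ≠ 0 := by
  rintro rfl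
  exact hz0 (herm_zero_left _)

/-- **The norm condition.** -/
theorem norm_cond (hF : Fintype.card F = q ^ 2) {p : ℕ} [Fact p.Prime] {A : GU 3 F q} (h : PA p (f₁ A))
    (hA : f₁ A ≠ 1) {a : F} (ha : a ≠ 0) : ∃ k, (a * a ^ q) ^ (2 * p ^ k) = 1 := by
  obtain ⟨u, hu, hz0⟩ := exists_moved hF hA
  obtain ⟨g, b, h1, h2, h3⟩ := exists_move hF hu hz0 ha
  obtain ⟨k, κ, hκ, hy⟩ := pa_lin hF h g
  have h4 := pow_eig (eig ha h1 h2) (ne_zero_of_moved hz0) hy
  refine ⟨k, ?_⟩
  obtain ⟨z, hz⟩ : ∃ z, z = hermForm 3 F q u (gm A *ᵥ u) := ⟨_, rfl⟩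
  rw [← hz] at hz0 h3
  have hzq : z ^ q ≠ 0 := pow_ne_zero _ hz0
  have haq : a ^ q ≠ 0 := pow_ne_zero _ ha
  -- `N(a) N(b) = 1`
  have h5 : (a * a ^ q) * (b * b ^ q) = 1 := by
    have h6 := congrArg (fun x => x ^ q) h3
    simp only [mul_pow, pow_q_pow_q hF] at h6
    have h7 : (a * a ^ q) * (b * b ^ q) * (z * z ^ q) = z * z ^ q := by
      calc (a * a ^ q) * (b * b ^ q) * (z * z ^ q) = (a * b ^ q * z ^ q) * (a ^ q * b * z) := by ring
        _ = z * z ^ q := by rw [h3, h6]
    exact mul_right_cancel₀ (mul_ne_zero hz0 hzq) (by rw [h7, one_mul])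
  have h8 : (b / a) * (b / a) ^ q * ((a * a ^ q) * (a * a ^ q)) = 1 := by
    rw [div_pow, ← h5]
    field_simp
  have h9 : ((b / a) * (b / a) ^ q) ^ p ^ k = 1 := by
    rw [mul_pow, ← pow_mul, mul_comm q, pow_mul, h4, hκ]
  have h10 : ((b / a) * (b / a) ^ q * ((a * a ^ q) * (a * a ^ q))) ^ p ^ k = 1 := by rw [h8, one_pow]
  rw [mul_pow, h9, one_mul] at h10
  rw [pow_mul, pow_two]
  exact h10

theorem dvd_of_four (hF : Fintype.card F = q ^ 2) (hq : 4 ≤ q) {p : ℕ} [hp : Fact p.Prime] {A : GU 3 F q}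
    (h : PA p (f₁ A)) (hA : f₁ A ≠ 1) : p ∣ q - 1 := by
  by_contra hpq
  classical
  obtain ⟨g, hg⟩ := IsCyclic.exists_generator (α := Fˣ)
  have hord : orderOf g = q ^ 2 - 1 := by
    rw [orderOf_eq_card_of_forall_mem_zpowers hg, Nat.card_eq_fintype_card, Fintype.card_units, hF]
  have hfac : q ^ 2 - 1 = (q + 1) * (q - 1) := by
    have := Nat.sq_sub_sq q 1
    simpa using this
  obtain ⟨k, hk⟩ := norm_cond hF h hA (a := (g : F)) g.ne_zero
  have h1 : g ^ ((q + 1) * (2 * p ^ k)) = 1 := by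
    apply Units.ext
    rw [Units.val_pow_eq_pow_val, Units.val_one, pow_mul, pow_succ' (g : F) q]
    exact hk
  have h2 := orderOf_dvd_of_pow_eq_one h1
  rw [hord, hfac] at h2
  have h3 : q - 1 ∣ 2 * p ^ k := Nat.dvd_of_mul_dvd_mul_left (by omega) h2
  have h4 : Nat.Coprime (q - 1) (p ^ k) :=
    ((hp.out.coprime_iff_not_dvd.2 hpq).symm).pow_right k
  have h5 : q - 1 ∣ 2 := h4.dvd_of_dvd_mul_right h3
  have h6 := Nat.le_of_dvd (by norm_num) h5
  omega

/-- taking `p`-th roots in the group of norm one elements -/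
theorem exists_root (hF : Fintype.card F = q ^ 2) {p : ℕ} (hc : Nat.Coprime p (q + 1)) {c : F} (hc1 : c * c ^ q = 1) :
    ∃ d : F, d * d ^ q = 1 ∧ d ^ p = c := by
  obtain ⟨m, hm⟩ := Nat.exists_mul_mod_eq_one_of_coprime hc (by have := q_pos hF; omega)
  refine ⟨c ^ m, ?_, ?_⟩
  · rw [← pow_mul, mul_comm m q, pow_mul, ← mul_pow, hc1, one_pow]
  · have h1 : c ^ (q + 1) = 1 := by rw [pow_succ', hc1]
    rw [← pow_mul, mul_comm m p, ← Nat.div_add_mod (p * m) (q + 1), pow_add, pow_mul, h1, one_pow, one_mul, hm.2, pow_one]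

/-- **Linear automorphisms, `q ≥ 4`.** -/
theorem lin_four (hF : Fintype.card F = q ^ 2) (hq : 4 ≤ q) {p : ℕ} [hp : Fact p.Prime] (hp2 : p ≠ 2) {A : GU 3 F q}
    (hx : f₁ A ^ p = 1) (hR : RC (f₁ A)) (h : PA p (f₁ A)) : f₁ A = 1 := by
  by_contra hA
  have hd := dvd_of_four hF hq h hA
  have hd1 : ¬ p ∣ q + 1 := by
    intro h1
    have h2 : p ∣ 2 := by
      have h3 := Nat.dvd_sub h1 hd
      have h4 : q + 1 - (q - 1) = 2 := by omega
      rwa [h4] at h3
    exact hp2 ((Nat.prime_dvd_prime_iff_eq hp.out Nat.prime_two).1 h2)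
  -- `A ^ p` is a scalar
  have h1 : toAut (1 : GU 3 F q) 1 = toAut (A ^ p) 1 := by
    rw [← f₁_def, ← f₁_def, map_pow, hx, map_one]
  obtain ⟨-, c, hc, hc'⟩ := eq_of_toAut_eq hF le_rfl h1
  obtain ⟨d, hd1', hdc⟩ := exists_root hF (hp.out.coprime_iff_not_dvd.2 hd1) hc
  have hd0 : d ≠ 0 := left_ne_zero_of_mul_eq_one hd1'
  obtain ⟨A', hA'⟩ : ∃ A', A' = sc 3 ⟨d⁻¹, by rw [inv_pow, ← mul_inv, hd1', inv_one]⟩ * A := ⟨_, rfl⟩
  have hfA : f₁ A' = f₁ A := by rw [hA', f₁_def, toAut_sc_mul, f₁_def]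
  have hAp : A' ^ p = 1 := by
    apply gm_inj
    rw [gm_pow, hA', gm_sc_mul, smul_pow, ← gm_pow, hc', gm_one, smul_smul, inv_pow, hdc,
      inv_mul_cancel₀ (left_ne_zero_of_mul_eq_one hc), one_smul]
  have hnd : ¬ p ∣ q ^ 2 * (q ^ 2 - q + 1) := by
    intro h2
    rcases (Nat.Prime.dvd_mul hp.out).1 h2 with h3 | h3
    · have h4 := hp.out.dvd_of_dvd_pow h3
      have h5 := Nat.dvd_sub h4 hd
      have h6 : q - (q - 1) = 1 := by omega
      rw [h6] at h5
      exact hp.out.one_lt.ne' (Nat.dvd_one.1 h5)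
    · have h4 : p ∣ q * (q - 1) := hd.mul_left q
      have h5 : q ^ 2 - q + 1 = q * (q - 1) + 1 := by
        have h6 : q ≤ q ^ 2 := Nat.le_self_pow (by norm_num) q
        zify [h6, (by omega : 1 ≤ q)]
        ring
      rw [h5] at h3
      exact hp.out.one_lt.ne' (Nat.dvd_one.1 ((Nat.dvd_add_right h4).1 h3))
  obtain ⟨B, hB⟩ := exists_vec hF hnd hAp
  have hR2 : RC (f₁ (B⁻¹ * A' * B)) := by
    have := RC_conj (f₁ B)⁻¹ hR
    rwa [inv_inv, ← hfA, ← map_inv, ← map_mul, ← map_mul] at this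
  have h2 := eq_one_of_fix hF hq hB hR2
  apply hA
  rw [← hfA]
  rw [map_mul, map_mul, map_inv] at h2
  calc f₁ A' = f₁ B * ((f₁ B)⁻¹ * f₁ A' * f₁ B) * (f₁ B)⁻¹ := by group
    _ = 1 := by rw [h2]; group

/-! ### `q = 3` -/

theorem perp_span (hF : Fintype.card F = q ^ 2) {u w v : Fin 3 → F} (hu : hermForm 3 F q u u = 0) (hu0 : u ≠ 0)
    (hw : hermForm 3 F q w u = 0) (hwu : ∀ c : F, w ≠ c • u) (hv : hermForm 3 F q v u = 0) :
    ∃ s b : F, v = s • u + b • w := by
  obtain ⟨z, hz⟩ := exists_herm_ne_zero hF hu0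
  have hz' : hermForm 3 F q z u ≠ 0 := by
    rw [herm_swap hF u z]
    exact pow_ne_zero _ hz
  obtain ⟨a, b, d, h⟩ := coords (a := u) (b := w) (c := z) (by
    intro x y t h
    have h1 := congrArg (fun v => hermForm 3 F q v u) h
    simp only [herm_add_left, herm_smul_left, herm_zero_left, hu, hw, mul_zero, zero_add] at h1
    have ht : t = 0 := (mul_eq_zero.1 h1).resolve_right hz'
    rw [ht, zero_smul, add_zero] at h
    have hy : y = 0 := by
      by_contra hy
      apply hwu (-(y⁻¹ * x))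
      have h2 : y⁻¹ • (x • u + y • w) = 0 := by rw [h, smul_zero]
      rw [smul_add, smul_smul, smul_smul, inv_mul_cancel₀ hy, one_smul] at h2
      rw [neg_smul]
      exact eq_neg_of_add_eq_zero_right h2
    rw [hy, zero_smul, add_zero] at h
    exact ⟨(smul_eq_zero.1 h).resolve_right hu0, hy, ht⟩) v
  refine ⟨a, b, ?_⟩
  have h1 := hv
  rw [h, herm_add_left, herm_add_left, herm_smul_left, herm_smul_left, herm_smul_left, hu, hw, mul_zero, mul_zero,
    add_zero, zero_add] at h1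
  have hd : d = 0 := (mul_eq_zero.1 h1).resolve_right hz'
  rw [h, hd, zero_smul, add_zero]

section Three

variable (hF : Fintype.card F = 3 ^ 2) [CharP F 3]

include hF

omit [CharP F 3] in
theorem pow_eight {a : F} (ha : a ≠ 0) : a ^ 8 = 1 := by
  have h := FiniteField.pow_card_sub_one_eq_one a ha
  rwa [hF] at h

omit [CharP F 3] in
theorem nil_perp {y : GU 3 F 3} {u : Fin 3 → F} {a : F} (hu : hermForm 3 F 3 u u = 0) (hu0 : u ≠ 0)
    (hy : gm y *ᵥ u = a • u) {w : Fin 3 → F} (hw : hermForm 3 F 3 w u = 0) :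
    ∃ c : F, (gm y ^ 8) *ᵥ w = w + c • u := by
  have ha : a ≠ 0 := by
    rintro rfl
    rw [zero_smul] at hy
    apply hu0
    rw [← gm_inv_mulVec y u, hy, mulVec_zero]
  by_cases hwu : ∀ c : F, w ≠ c • u
  · have hyw : hermForm 3 F 3 (gm y *ᵥ w) u = 0 := by
      have h1 := herm_gm y w u
      rw [hy, herm_smul_right, hw] at h1
      exact (mul_eq_zero.1 h1).resolve_left (pow_ne_zero _ ha)
    obtain ⟨s, b, h⟩ := perp_span hF hu hu0 hw hwu hyw
    have hb : b ≠ 0 := by
      rintro rfl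
      rw [zero_smul, add_zero] at h
      apply hwu (s * a⁻¹)
      have h2 : gm y *ᵥ w = gm y *ᵥ ((s * a⁻¹) • u) := by
        rw [mulVec_smul, hy, h, smul_smul, mul_assoc, inv_mul_cancel₀ ha, mul_one]
      have h3 := congrArg (fun v => gm y⁻¹ *ᵥ v) h2
      simpa only [gm_inv_mulVec] using h3
    have hk : ∀ k : ℕ, ∃ c : F, (gm y ^ k) *ᵥ w = b ^ k • w + c • u := by
      intro k
      induction k with
      | zero => exact ⟨0, by rw [pow_zero, pow_zero, one_mulVec, one_smul, zero_smul, add_zero]⟩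
      | succ k ih =>
        obtain ⟨c, hc⟩ := ih
        refine ⟨b ^ k * s + c * a, ?_⟩
        rw [pow_succ', ← mulVec_mulVec, hc, mulVec_add, mulVec_smul, mulVec_smul, hy, h, smul_add, smul_smul,
          smul_smul, smul_smul, add_smul, pow_succ]
        abel
    obtain ⟨c, hc⟩ := hk 8
    refine ⟨c, ?_⟩
    rw [hc, pow_eight hF hb, one_smul]
  · push Not at hwu
    obtain ⟨c, rfl⟩ := hwu
    refine ⟨0, ?_⟩
    rw [mulVec_smul, pow_mulVec hy, pow_eight hF ha, one_smul, zero_smul, add_zero]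

theorem pow_24 {y : GU 3 F 3} {u : Fin 3 → F} {a : F} (hu : hermForm 3 F 3 u u = 0) (hu0 : u ≠ 0)
    (hy : gm y *ᵥ u = a • u) : gm y ^ 24 = 1 := by
  have ha : a ≠ 0 := by
    rintro rfl
    rw [zero_smul] at hy
    apply hu0
    rw [← gm_inv_mulVec y u, hy, mulVec_zero]
  have hYu : (gm y ^ 8) *ᵥ u = u := by rw [pow_mulVec hy, pow_eight hF ha, one_smul]
  have h1 : (gm y ^ 8 - 1) ^ 3 = 0 := by
    apply Matrix.ext_of_mulVec_single
    intro i
    rw [zero_mulVec]
    generalize (Pi.single i 1 : Fin 3 → F) = v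
    have hperp : hermForm 3 F 3 ((gm y ^ 8 - 1) *ᵥ v) u = 0 := by
      rw [sub_mulVec, one_mulVec, herm_sub_left]
      conv_lhs =>
        enter [1]
        rw [← hYu]
      rw [← gm_pow, herm_gm, sub_self]
    obtain ⟨c, hc⟩ := nil_perp hF hu hu0 hy hperp
    have h2 : (gm y ^ 8 - 1) *ᵥ ((gm y ^ 8 - 1) *ᵥ v) = c • u := by
      rw [sub_mulVec, hc, one_mulVec, add_sub_cancel_left]
    rw [pow_succ', pow_two, ← mulVec_mulVec, ← mulVec_mulVec, h2, mulVec_smul, sub_mulVec, one_mulVec, hYu, sub_self,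
      smul_zero]
  have h2 : (gm y ^ 8 - 1) ^ 3 = (gm y ^ 8) ^ 3 - 1 ^ 3 :=
    sub_pow_char_of_commute 3 (Commute.one_right _)
  rw [h1, one_pow, ← pow_mul] at h2
  exact (sub_eq_zero.1 h2.symm)

theorem scalar_of_eig {y : GU 3 F 3} {u : Fin 3 → F} {a κ : F} (hu : hermForm 3 F 3 u u = 0) (hu0 : u ≠ 0)
    (hy : gm y *ᵥ u = a • u) {m : ℕ} (hm : Nat.Coprime m 24) (h : gm y ^ m = κ • 1) :
    ∃ c : F, gm y = c • 1 := by
  obtain ⟨s, hs⟩ := Nat.exists_mul_mod_eq_one_of_coprime hm (by norm_num)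
  refine ⟨κ ^ s, ?_⟩
  have h1 : gm y ^ (m * s) = κ ^ s • (1 : Matrix (Fin 3) (Fin 3) F) := by rw [pow_mul, h, smul_pow, one_pow]
  rw [← Nat.div_add_mod (m * s) 24, pow_add, pow_mul, pow_24 hF hu hu0 hy, one_pow, one_mul, hs.2, pow_one] at h1
  exact h1

theorem three_five {p : ℕ} [hp : Fact p.Prime] (hp2 : p ≠ 2) (hp3 : p ≠ 3) {A : GU 3 F 3} (h : PA p (f₁ A)) :
    f₁ A = 1 := by
  by_contra hA
  obtain ⟨u, hu, hz0⟩ := exists_moved hF hA
  have hu0 := ne_zero_of_moved hz0
  obtain ⟨z, hz⟩ : ∃ z, z = hermForm 3 F 3 u (gm A *ᵥ u) := ⟨_, rfl⟩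
  have hz0' : z ≠ 0 := by rw [hz]; exact hz0
  have key : ∀ a : F, a ≠ 0 → ∃ c : F, c ^ 3 = (gm A).det ^ 2 ∧ a * a ^ 3 * c ^ 3 * z ^ 3 = z := by
    intro a ha
    obtain ⟨g, b, h1, h2, h3⟩ := exists_move hF hu hz0 ha
    obtain ⟨k, κ, hκ, hy⟩ := pa_lin hF h g
    have h4 := eig ha h1 h2
    have hY : gm (A * toGU g * A * toGU g⁻¹) = gm A * mat g * gm A * mat g⁻¹ := rfl
    have hcop : Nat.Coprime (p ^ k) 24 := by
      apply Nat.Coprime.pow_left
      rw [hp.out.coprime_iff_not_dvd]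
      intro hd
      have h5 : p ∣ 2 ^ 3 * 3 := hd
      rcases (Nat.Prime.dvd_mul hp.out).1 h5 with h6 | h6
      · exact hp2 ((Nat.prime_dvd_prime_iff_eq hp.out Nat.prime_two).1 (hp.out.dvd_of_dvd_pow h6))
      · exact hp3 ((Nat.prime_dvd_prime_iff_eq hp.out Nat.prime_three).1 h6)
    obtain ⟨c, hc⟩ := scalar_of_eig hF (y := A * toGU g * A * toGU g⁻¹) hu hu0 (by rw [hY]; exact h4) hcop
      (by rw [hY]; exact hy)
    rw [hY] at hc
    have hcb : b = a * c := by
      rw [hc, smul_mulVec, one_mulVec] at h4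
      have h5 : (c - b / a) • u = 0 := by rw [sub_smul, h4, sub_self]
      have h6 := sub_eq_zero.1 ((smul_eq_zero.1 h5).resolve_right hu0)
      rw [h6, mul_div_cancel₀ _ ha]
    refine ⟨c, ?_, ?_⟩
    · have h5 := congrArg Matrix.det hc
      rw [det_mul, det_mul, det_mul, det_mat, det_mat, Matrix.det_smul, Matrix.det_one, Fintype.card_fin] at h5
      linear_combination -h5
    · rw [← hz, hcb] at h3
      linear_combination h3
  obtain ⟨c1, hc1, h1⟩ := key 1 one_ne_zero
  obtain ⟨a, ha⟩ := exists_norm_eq hF (c := (-1 : F)) (by ring)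
  have ha0 : a ≠ 0 := by
    rintro rfl
    rw [zero_mul] at ha
    exact one_ne_zero (neg_eq_zero.1 ha.symm)
  obtain ⟨c2, hc2, h2⟩ := key a ha0
  rw [hc1] at h1
  rw [ha, hc2] at h2
  apply hz0'
  have h3 : (3 : F) = 0 := by
    have := CharP.cast_eq_zero F 3
    exact_mod_cast this
  linear_combination z * h3 + h1 + h2

omit hF in
theorem trace_zero [Finite F] {M : Matrix (Fin 3) (Fin 3) F} {κ : F} {k : ℕ} (h : M ^ 3 ^ k = κ • 1) : M.trace = 0 := by
  have h3 : (3 : F) = 0 := by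
    have := CharP.cast_eq_zero F 3
    exact_mod_cast this
  obtain ⟨c, hc⟩ : ∃ c : F, c ^ 3 ^ k = κ := by
    have h1 : Function.Surjective (iterateFrobenius F 3 k) :=
      Finite.surjective_of_injective (iterateFrobenius F 3 k).injective
    obtain ⟨c, hc⟩ := h1 κ
    exact ⟨c, by rw [← hc, iterateFrobenius_def]⟩
  have hnil : IsNilpotent (M - c • (1 : Matrix (Fin 3) (Fin 3) F)) := by
    refine ⟨3 ^ k, ?_⟩
    have hcomm : Commute M (c • (1 : Matrix (Fin 3) (Fin 3) F)) := (Commute.one_right M).smul_right c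
    rw [sub_pow_char_pow_of_commute 3 k hcomm, h, smul_pow, one_pow, hc, sub_self]
  have h4 := (Matrix.isNilpotent_trace_of_isNilpotent hnil).eq_zero
  rw [Matrix.trace_sub, Matrix.trace_smul, Matrix.trace_one, Fintype.card_fin] at h4
  have h5 : M.trace = c * 3 := by
    have := sub_eq_zero.1 h4
    rw [this, smul_eq_mul]
    norm_num
  rw [h5, h3, mul_zero]

/-- rank one matrices -/
def rk (v : Fin 3 → F) : Matrix (Fin 3) (Fin 3) F := vecMulVec v (fun j => v j ^ 3)

omit [Fintype F] [CharP F 3] hF in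
theorem rk_mulVec (v x : Fin 3 → F) : rk v *ᵥ x = hermForm 3 F 3 x v • v := by
  ext i
  rw [rk, Matrix.mulVec, dotProduct, Fin.sum_univ_three, herm_def, Fin.sum_univ_three, Pi.smul_apply, smul_eq_mul]
  simp only [vecMulVec_apply]
  ring

theorem mat_T {v : Fin 3 → F} (hv : hermForm 3 F 3 v v = 0) : mat (T hF v) = 1 + c0 hF • rk v := by
  apply Matrix.ext_of_mulVec_single
  intro i
  rw [← act_def, act_T hF hv, add_mulVec, one_mulVec, smul_mulVec, rk_mulVec, smul_smul]

theorem mat_T_inv {v : Fin 3 → F} (hv : hermForm 3 F 3 v v = 0) : mat (T hF v)⁻¹ = 1 - c0 hF • rk v := by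
  have h1 : mat (T hF v) * (1 - c0 hF • rk v) = 1 := by
    rw [mat_T hF hv]
    have h2 : rk v * rk v = 0 := by
      apply Matrix.ext_of_mulVec_single
      intro i
      rw [← mulVec_mulVec, rk_mulVec, rk_mulVec, herm_smul_left, hv, mul_zero, zero_smul, zero_mulVec]
    rw [add_mul, one_mul, mul_sub, mul_one, Matrix.smul_mul, Matrix.mul_smul, h2, smul_zero, smul_zero, sub_zero]
    abel
  have h2 : mat (T hF v)⁻¹ * (mat (T hF v) * (1 - c0 hF • rk v)) = mat (T hF v)⁻¹ := by rw [h1, mul_one]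
  rw [← mul_assoc, ← mat_mul, inv_mul_cancel, mat_one, one_mul] at h2
  exact h2.symm

theorem three_three {A : GU 3 F 3} (hx : f₁ A ^ 3 = 1) (h : PA 3 (f₁ A)) : f₁ A = 1 := by
  by_contra hA
  obtain ⟨v, hv, hz0⟩ := exists_moved hF hA
  -- `A ^ 3` is a scalar
  have h1 : toAut (1 : GU 3 F 3) 1 = toAut (A ^ 3) 1 := by
    rw [← f₁_def, ← f₁_def, map_pow, hx, map_one]
  obtain ⟨-, c, hc, hc'⟩ := eq_of_toAut_eq hF le_rfl h1
  have ht0 : (gm A * gm A).trace = 0 := by
    apply trace_zero (κ := c ^ 2) (k := 1)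
    rw [← gm_mul, pow_one, ← gm_pow]
    have : (A * A) ^ 3 = A ^ 3 * A ^ 3 := (Commute.refl A).mul_pow 3
    rw [this, gm_mul, hc', gm_one, Matrix.smul_mul, Matrix.mul_smul, smul_smul, mul_one, pow_two]
  obtain ⟨k, κ, -, hy⟩ := pa_lin hF h (T hF v)
  have ht := trace_zero hy
  rw [mat_T hF hv, mat_T_inv hF hv] at ht
  obtain ⟨D, hD⟩ : ∃ D, D = gm A := ⟨_, rfl⟩
  obtain ⟨R, hR⟩ : ∃ R : Matrix (Fin 3) (Fin 3) F, R = rk v := ⟨_, rfl⟩
  obtain ⟨l, hl⟩ : ∃ l : F, l = c0 hF := ⟨_, rfl⟩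
  have hRDR : R * D * R = hermForm 3 F 3 (D *ᵥ v) v • R := by
    apply Matrix.ext_of_mulVec_single
    intro i
    rw [← mulVec_mulVec, ← mulVec_mulVec, hR, rk_mulVec, rk_mulVec, mulVec_smul, herm_smul_left, smul_mulVec, rk_mulVec,
      smul_smul, mul_comm]
  have hDR : (D * R).trace = hermForm 3 F 3 (D *ᵥ v) v := by
    rw [hR, rk, Matrix.mul_vecMulVec, Matrix.trace_vecMulVec]
    rfl
  rw [← hD, ← hR, ← hl] at ht
  have hexp : D * (1 + l • R) * D * (1 - l • R) = D * D + l • (D * R * D) - l • (D * D * R) - (l * l) • (D * (R * D * R)) := by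
    simp only [mul_add, mul_sub, add_mul, mul_one, Matrix.mul_smul, Matrix.smul_mul, smul_smul, mul_assoc]
    abel
  rw [hexp, hRDR, Matrix.trace_sub, Matrix.trace_sub, Matrix.trace_add, Matrix.trace_smul, Matrix.trace_smul,
    Matrix.trace_smul, Matrix.mul_smul, Matrix.trace_smul, hDR, Matrix.trace_mul_cycle D R D, hD, ht0] at ht
  have h2 : hermForm 3 F 3 (gm A *ᵥ v) v ≠ 0 := by
    rw [herm_swap hF v]
    exact pow_ne_zero _ hz0
  have hl0 : l ≠ 0 := by rw [hl]; exact c0_ne_zero hF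
  simp only [smul_eq_mul] at ht
  apply mul_ne_zero (mul_ne_zero hl0 hl0) (mul_ne_zero h2 h2)
  linear_combination -ht

end Three

/-- **`PSU_3(q)`, `q ≥ 3`.** -/
theorem core_psu3 {F : Type*} [Field F] [Fintype F] {q : ℕ} (hF : Fintype.card F = q ^ 2) (hq : 3 ≤ q) :
    Core (Cfsg.PSU 3 F q) := by
  intro p hp hp2 x hx hR hP
  have hp3 : 3 ≤ p := by
    have := hp.out.two_le
    omega
  have hxp : x ^ p = 1 := by rw [← hx]; exact pow_orderOf_eq_one x
  have hx1 : x ≠ 1 := by
    rintro rfl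
    rw [orderOf_one] at hx
    exact hp.out.one_lt.ne' hx.symm
  obtain ⟨A, ρ, rfl⟩ := ClassicalGeometry.PSUAutMain.exists_toAut hF le_rfl (by omega) x
  by_cases hρ : ρ = 1
  · subst hρ
    rw [← f₁_def] at hxp hR hP hx1
    by_cases hq4 : 4 ≤ q
    · exact hx1 (lin_four hF hq4 hp2 hxp hR hP)
    · obtain rfl : q = 3 := by omega
      have hch : CharP F 3 := by
        obtain ⟨l, hl⟩ := CharP.exists F
        have hlp : l.Prime := CharP.char_is_prime F l
        have : Fact l.Prime := ⟨hlp⟩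
        obtain ⟨n, -, hn⟩ := FiniteField.card F l
        have h1 : l ∣ 3 ^ 2 := by
          rw [← hF, hn]
          exact dvd_pow_self l n.ne_zero
        have h2 : l = 3 := (Nat.prime_dvd_prime_iff_eq hlp Nat.prime_three).1 (hlp.dvd_of_dvd_pow h1)
        rwa [h2] at hl
      by_cases h3 : p = 3
      · subst h3
        exact hx1 (three_three hF hxp hP)
      · exact hx1 (three_five hF hp2 h3 hP)
  · exact field_false hF hp.out hp3 hxp hρ hR

end Cfsg.Agent.H953.CorePsu3
end

-- part: H521/AALem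
section
/-!
# Lemma 1 of project AA (helper521, S3833)

`lemma1` : `a` of odd prime order `p` normalises the `p'`-group `B` and all `a a^b` (`b ∈ B`) are `p`-elements: the
set `{a⁻¹ a^b}` is a subgroup in which `a` has no fixed points.
-/

set_option autoImplicit false

namespace Cfsg.Agent.H521.AALem

open Subgroup Cfsg.Agent.H460.AA

variable {G : Type*} [Group G]

theorem card_conj [Finite G] (B : Subgroup G) {a a' : G} (h : ∀ b ∈ B, b * a = a * b ↔ b * a' = a' * b) :
    Nat.card {y : G // ∃ b ∈ B, y = b * a * b⁻¹} = Nat.card {y : G // ∃ b ∈ B, y = b * a' * b⁻¹} := by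
  classical
  have key : ∀ a a' : G, (∀ b ∈ B, b * a = a * b → b * a' = a' * b) →
      Nat.card {y : G // ∃ b ∈ B, y = b * a' * b⁻¹} ≤ Nat.card {y : G // ∃ b ∈ B, y = b * a * b⁻¹} := by
    intro a a' h
    let f : {y : G // ∃ b ∈ B, y = b * a * b⁻¹} → {y : G // ∃ b ∈ B, y = b * a' * b⁻¹} :=
      fun y => ⟨y.2.choose * a' * y.2.choose⁻¹, _, y.2.choose_spec.1, rfl⟩
    refine Nat.card_le_card_of_surjective f ?_
    rintro ⟨_, b, hb, rfl⟩
    refine ⟨⟨b * a * b⁻¹, b, hb, rfl⟩, Subtype.ext ?_⟩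
    have hy : ∃ c ∈ B, b * a * b⁻¹ = c * a * c⁻¹ := ⟨b, hb, rfl⟩
    obtain ⟨c, hc, hc1, hc2⟩ : ∃ c, c = hy.choose ∧ c ∈ B ∧ b * a * b⁻¹ = c * a * c⁻¹ :=
      ⟨_, rfl, hy.choose_spec.1, hy.choose_spec.2⟩
    show hy.choose * a' * hy.choose⁻¹ = b * a' * b⁻¹
    rw [← hc]
    have h1 : (c⁻¹ * b) * a = a * (c⁻¹ * b) := by
      calc (c⁻¹ * b) * a = c⁻¹ * (b * a * b⁻¹) * b := by group
        _ = c⁻¹ * (c * a * c⁻¹) * b := by rw [hc2]
        _ = a * (c⁻¹ * b) := by group
    have h2 := h _ (mul_mem (inv_mem hc1) hb) h1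
    calc c * a' * c⁻¹ = c * (a' * (c⁻¹ * b)) * b⁻¹ := by group
      _ = c * ((c⁻¹ * b) * a') * b⁻¹ := by rw [h2]
      _ = b * a' * b⁻¹ := by group
  exact le_antisymm (key a' a fun b hb => (h b hb).2) (key a a' fun b hb => (h b hb).1)

/-- a `p`-element of the coset `a² B` is conjugate to `a²` under `B` -/
theorem conj_sq [Finite G] {p : ℕ} [hp : Fact p.Prime] (hp2 : p ≠ 2) {a : G} (ha : orderOf a = p) {B : Subgroup G}
    (hB : ¬ p ∣ Nat.card B) (hn : ∀ b ∈ B, a * b * a⁻¹ ∈ B) {y : G} (hy : PE p y) (hyB : (a * a)⁻¹ * y ∈ B) :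
    ∃ b ∈ B, y = b * (a * a) * b⁻¹ := by
  classical
  have hnz : ∀ j : ℤ, ∀ b ∈ B, a ^ j * b * (a ^ j)⁻¹ ∈ B := by
    have h1 : a ∈ normalizer (B : Set G) := by
      rw [mem_normalizer_iff]
      intro b
      refine ⟨hn b, fun hb => ?_⟩
      have h2 : ∀ k : ℕ, ∀ b ∈ B, a ^ k * b * (a ^ k)⁻¹ ∈ B := by
        intro k
        induction k with
        | zero => intro b hb; simpa using hb
        | succ k ih =>
          intro b hb
          have h3 := hn _ (ih b hb)
          have e : a ^ (k + 1) * b * (a ^ (k + 1))⁻¹ = a * (a ^ k * b * (a ^ k)⁻¹) * a⁻¹ := by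
            rw [pow_succ']; group
          rwa [e]
      have h3 := h2 (p - 1) _ hb
      have e : a ^ (p - 1) * (a * b * a⁻¹) * (a ^ (p - 1))⁻¹ = a ^ (p - 1 + 1) * b * (a ^ (p - 1 + 1))⁻¹ := by
        rw [pow_succ]; group
      rw [e, Nat.sub_add_cancel hp.out.one_lt.le, ← ha, pow_orderOf_eq_one] at h3
      simpa using h3
    intro j b hb
    have h2 := zpow_mem h1 j
    exact (mem_normalizer_iff.1 h2 b).1 hb
  have haB : a ∈ normalizer (B : Set G) := by
    rw [mem_normalizer_iff]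
    intro b
    refine ⟨hn b, fun hb => ?_⟩
    have h1 := hnz (-1) _ hb
    have e : a ^ (-1 : ℤ) * (a * b * a⁻¹) * (a ^ (-1 : ℤ))⁻¹ = b := by group
    rwa [e] at h1
  obtain ⟨E, hE⟩ : ∃ E : Subgroup G, E = B ⊔ zpowers a := ⟨_, rfl⟩
  have hmemE : ∀ e ∈ E, ∃ b ∈ B, ∃ j : ℤ, e = b * a ^ j := by
    intro e he
    have he' : e ∈ ((B ⊔ zpowers a : Subgroup G) : Set G) := by rw [← hE]; exact he
    rw [Subgroup.coe_mul_of_right_le_normalizer_left B (zpowers a) (zpowers_le.2 haB)] at he'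
    obtain ⟨b, hb, _, ⟨j, rfl⟩, rfl⟩ := he'
    exact ⟨b, hb, j, rfl⟩
  have haE : a ∈ E := by rw [hE]; exact mem_sup_right (mem_zpowers a)
  have hBE : B ≤ E := by rw [hE]; exact le_sup_left
  have haB' : ∀ j : ℤ, a ^ j ∈ B → a ^ j = 1 := by
    intro j hj
    have h1 : orderOf (a ^ j) ∣ Nat.card B := by
      have := orderOf_dvd_natCard (⟨_, hj⟩ : B)
      rwa [Subgroup.orderOf_mk] at this
    have h2 : orderOf (a ^ j) ∣ p := by
      rw [← ha]; exact orderOf_dvd_of_mem_zpowers ⟨j, rfl⟩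
    rcases (Nat.dvd_prime hp.out).1 h2 with h | h
    · exact orderOf_eq_one_iff.1 h
    · rw [h] at h1; exact absurd h1 hB
  have hyE : y ∈ E := by
    have e : y = a * a * ((a * a)⁻¹ * y) := by group
    rw [e]; exact mul_mem (mul_mem haE haE) (hBE hyB)
  -- the order of `E`
  have hcardE : Nat.card E = Nat.card B * p := by
    have h1 : Nat.card E = Nat.card (B × zpowers a) := by
      refine (Nat.card_congr (Equiv.ofBijective (fun x : B × zpowers a => (⟨x.1 * x.2, mul_mem (hBE x.1.2)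
        ((zpowers_le.2 haE) x.2.2)⟩ : E)) ⟨?_, ?_⟩)).symm
      · rintro ⟨⟨b, hb⟩, ⟨_, j, rfl⟩⟩ ⟨⟨b', hb'⟩, ⟨_, j', rfl⟩⟩ h
        have h2 : b * a ^ j = b' * a ^ j' := congrArg Subtype.val h
        have h3 : b'⁻¹ * b = a ^ (j' - j) := by
          rw [zpow_sub, ← mul_inv_eq_iff_eq_mul.2 h2]
          group
        have h4 := haB' (j' - j) (h3 ▸ mul_mem (inv_mem hb') hb)
        have h5 : b = b' := by rw [h4] at h3; exact (inv_mul_eq_one.1 h3).symm
        subst h5
        have h6 := mul_left_cancel h2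
        exact Prod.ext rfl (Subtype.ext h6)
      · rintro ⟨e, he⟩
        obtain ⟨b, hb, j, rfl⟩ := hmemE e he
        exact ⟨(⟨b, hb⟩, ⟨_, j, rfl⟩), rfl⟩
    rw [h1, Nat.card_prod, Nat.card_zpowers, ha]
  -- Sylow subgroups of `E`
  have hy1 : y ≠ 1 := by
    rintro rfl
    rw [mul_one] at hyB
    have h1 := inv_mem hyB
    rw [inv_inv] at h1
    have h2 := haB' 2 (by rw [zpow_two]; exact h1)
    have h3 : orderOf a ∣ 2 := orderOf_dvd_of_pow_eq_one (by exact_mod_cast h2)
    rw [ha] at h3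
    exact hp2 ((Nat.prime_dvd_prime_iff_eq hp.out Nat.prime_two).1 h3)
  obtain ⟨k, hk⟩ := hy
  have hyo : orderOf y = p := by
    have h1 : orderOf y ∣ Nat.card B * p := by
      rw [← hcardE]
      have := orderOf_dvd_natCard (⟨y, hyE⟩ : E)
      rwa [Subgroup.orderOf_mk] at this
    have h2 : orderOf y ∣ p := by
      rw [hk] at h1 ⊢
      exact Nat.Coprime.dvd_of_dvd_mul_left (Nat.Coprime.pow_left k ((Nat.Prime.coprime_iff_not_dvd hp.out).2 hB)) h1
    rcases (Nat.dvd_prime hp.out).1 h2 with h | h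
    · exact absurd (orderOf_eq_one_iff.1 h) hy1
    · exact h
  have hfac : (Nat.card E).factorization p = 1 := by
    rw [hcardE, Nat.factorization_mul Nat.card_pos.ne' hp.out.ne_zero, Finsupp.add_apply,
      Nat.factorization_eq_zero_of_not_dvd hB, hp.out.factorization_self]
  have hcard : ∀ z : E, orderOf z = p → Nat.card (zpowers z) = p ^ (Nat.card E).factorization p := by
    intro z hz
    rw [Nat.card_zpowers, hz, hfac, pow_one]
  have hao' : orderOf (⟨a, haE⟩ : E) = p := by rw [Subgroup.orderOf_mk, ha]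
  have hyo' : orderOf (⟨y, hyE⟩ : E) = p := by rw [Subgroup.orderOf_mk, hyo]
  obtain ⟨e, he⟩ := MulAction.exists_smul_eq E (Sylow.ofCard _ (hcard _ hao')) (Sylow.ofCard _ (hcard _ hyo'))
  have he' : ((e • (Sylow.ofCard _ (hcard _ hao')) : Sylow p E) : Subgroup E) = zpowers ⟨y, hyE⟩ := by rw [he]; rfl
  have h1 : (⟨y, hyE⟩ : E) ∈ ((e • (Sylow.ofCard _ (hcard _ hao')) : Sylow p E) : Subgroup E) := by
    rw [he']; exact mem_zpowers _
  obtain ⟨z, hz, hz'⟩ := h1
  obtain ⟨j, rfl⟩ := hz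
  obtain ⟨b, hb, l, hl⟩ := hmemE e e.2
  have h2 : y = b * a ^ j * b⁻¹ := by
    have h3 : (e : G) * a ^ j * (e : G)⁻¹ = y := congrArg Subtype.val hz'
    rw [← h3, hl]
    have h4 : a ^ l * a ^ j * (a ^ l)⁻¹ = a ^ j := by
      rw [← zpow_add, ← zpow_neg, ← zpow_add]; congr 1; ring
    calc b * a ^ l * a ^ j * (b * a ^ l)⁻¹ = b * (a ^ l * a ^ j * (a ^ l)⁻¹) * b⁻¹ := by group
      _ = _ := by rw [h4]
  -- compare modulo `B`
  have h3 : a ^ (j - 2) ∈ B := by
    have e1 : a ^ (j - 2) = (a ^ (-2 : ℤ) * b * (a ^ (-2 : ℤ))⁻¹)⁻¹ * ((a * a)⁻¹ * y) * b := by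
      have e2 : a * a = a ^ (2 : ℤ) := (zpow_two a).symm
      rw [h2, e2]
      have e3 : a ^ (j - 2) = a ^ (-2 : ℤ) * a ^ j := by rw [← zpow_add]; congr 1; ring
      rw [e3]
      group
    rw [e1]
    exact mul_mem (mul_mem (inv_mem (hnz _ _ hb)) hyB) hb
  have h4 := haB' _ h3
  have h5 : a ^ j = a * a := by
    have : a ^ (j - 2) * a ^ (2 : ℤ) = a ^ j := by rw [← zpow_add]; congr 1; ring
    rw [← this, h4, one_mul, zpow_two]
  exact ⟨b, hb, by rw [h2, h5]⟩

/-- **Lemma 1** -/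
theorem lemma1 [Finite G] {p : ℕ} [hp : Fact p.Prime] (hp2 : p ≠ 2) {a : G} (ha : orderOf a = p) {B : Subgroup G}
    (hB : ¬ p ∣ Nat.card B) (hn : ∀ b ∈ B, a * b * a⁻¹ ∈ B) (hpe : ∀ b ∈ B, PE p (a * (b * a * b⁻¹))) :
    ∃ N : Subgroup G, (∀ y, y ∈ N ↔ ∃ b ∈ B, y = a⁻¹ * (b * a * b⁻¹)) ∧ N ≤ B ∧
      (∀ b ∈ B, ∀ y ∈ N, b * y * b⁻¹ ∈ N) ∧ ∀ y ∈ N, y * a = a * y → y = 1 := by
  classical
  have hninv : ∀ b ∈ B, a⁻¹ * b * a ∈ B := by
    have h2 : ∀ k : ℕ, ∀ b ∈ B, a ^ k * b * (a ^ k)⁻¹ ∈ B := by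
      intro k
      induction k with
      | zero => intro b hb; simpa using hb
      | succ k ih =>
        intro b hb
        have h3 := hn _ (ih b hb)
        have e : a ^ (k + 1) * b * (a ^ (k + 1))⁻¹ = a * (a ^ k * b * (a ^ k)⁻¹) * a⁻¹ := by
          rw [pow_succ']; group
        rwa [e]
    intro b hb
    have h3 := h2 (p - 1) _ hb
    have e : a ^ (p - 1) = a⁻¹ := by
      rw [eq_inv_iff_mul_eq_one, ← pow_succ, Nat.sub_add_cancel hp.out.one_lt.le, ← ha, pow_orderOf_eq_one]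
    rwa [e, inv_inv] at h3
  -- `y = a⁻¹ a^b` lies in `B`
  have hNB : ∀ b ∈ B, a⁻¹ * (b * a * b⁻¹) ∈ B := by
    intro b hb
    have e : a⁻¹ * (b * a * b⁻¹) = (a⁻¹ * b * a) * b⁻¹ := by group
    rw [e]; exact mul_mem (hninv b hb) (inv_mem hb)
  -- the two sets
  let X : Set G := {y | ∃ b ∈ B, y = b * a * b⁻¹}
  let Y : Set G := {y | ∃ b ∈ B, y = b * (a * a) * b⁻¹}
  have hsub : ∀ y ∈ X, a * y ∈ Y := by
    rintro _ ⟨b, hb, rfl⟩
    refine conj_sq hp2 ha hB hn (hpe b hb) ?_
    have e : (a * a)⁻¹ * (a * (b * a * b⁻¹)) = a⁻¹ * (b * a * b⁻¹) := by group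
    rw [e]; exact hNB b hb
  have hcomm : ∀ b ∈ B, b * a = a * b ↔ b * (a * a) = (a * a) * b := by
    intro b _
    constructor
    · intro h
      calc b * (a * a) = (b * a) * a := by group
        _ = (a * b) * a := by rw [h]
        _ = a * (b * a) := by group
        _ = a * (a * b) := by rw [h]
        _ = a * a * b := by group
    · intro h
      -- `a` is a power of `a * a`
      obtain ⟨k, hk⟩ : ∃ k : ℕ, p + 1 = 2 * k := by
        obtain ⟨j, hj⟩ := hp.out.odd_of_ne_two hp2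
        exact ⟨j + 1, by omega⟩
      have h1 : Commute b (a * a) := h
      have h2 := h1.pow_right k
      have h3 : (a * a) ^ k = a := by
        rw [← pow_two, ← pow_mul, ← hk, pow_succ, ← ha, pow_orderOf_eq_one, one_mul]
      rw [h3] at h2
      exact h2
  have hXY : Nat.card X = Nat.card Y := card_conj B hcomm
  have hsurj : ∀ y ∈ Y, ∃ x ∈ X, y = a * x := by
    let f : X → Y := fun x => ⟨a * x, hsub x x.2⟩
    have hf : Function.Injective f := fun x x' h => Subtype.ext (mul_left_cancel (congrArg Subtype.val h))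
    have hb : Function.Bijective f := (Nat.bijective_iff_injective_and_card f).2 ⟨hf, hXY⟩
    intro y hy
    obtain ⟨x, hx⟩ := hb.2 ⟨y, hy⟩
    exact ⟨x, x.2, (congrArg Subtype.val hx).symm⟩
  -- products
  let N : Set G := {y | ∃ b ∈ B, y = a⁻¹ * (b * a * b⁻¹)}
  have h1N : (1 : G) ∈ N := ⟨1, one_mem _, by group⟩
  have hprod : ∀ y ∈ N, ∀ y' ∈ N, (a⁻¹ * y * a) * y' ∈ N := by
    rintro _ ⟨b, hb, rfl⟩ _ ⟨c, hc, rfl⟩
    have h1 := hsub _ ⟨b⁻¹ * c, mul_mem (inv_mem hb) hc, rfl⟩
    have h2 : (b * a * b⁻¹) * (c * a * c⁻¹) ∈ Y := by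
      obtain ⟨d, hd, h3⟩ := h1
      refine ⟨b * d, mul_mem hb hd, ?_⟩
      have e : (b * a * b⁻¹) * (c * a * c⁻¹) = b * (a * (b⁻¹ * c * a * (b⁻¹ * c)⁻¹)) * b⁻¹ := by group
      rw [e, h3]; group
    obtain ⟨_, ⟨d, hd, rfl⟩, h3⟩ := hsurj _ h2
    refine ⟨d, hd, ?_⟩
    calc a⁻¹ * (a⁻¹ * (b * a * b⁻¹)) * a * (a⁻¹ * (c * a * c⁻¹)) = a⁻¹ * a⁻¹ * ((b * a * b⁻¹) * (c * a * c⁻¹)) := by group
      _ = a⁻¹ * (d * a * d⁻¹) := by rw [h3]; group
  have hconj : ∀ y ∈ N, a⁻¹ * y * a ∈ N := by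
    intro y hy
    have := hprod y hy 1 h1N
    rwa [mul_one] at this
  have hconj' : ∀ y ∈ N, a * y * a⁻¹ ∈ N := by
    intro y hy
    have h2 : ∀ k : ℕ, (a ^ k)⁻¹ * y * a ^ k ∈ N := by
      intro k
      induction k with
      | zero => simpa using hy
      | succ k ih =>
        have h3 := hconj _ ih
        have e : (a ^ (k + 1))⁻¹ * y * a ^ (k + 1) = a⁻¹ * ((a ^ k)⁻¹ * y * a ^ k) * a := by
          rw [pow_succ]; group
        rwa [e]
    have h3 := h2 (p - 1)
    have e : a ^ (p - 1) = a⁻¹ := by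
      rw [eq_inv_iff_mul_eq_one, ← pow_succ, Nat.sub_add_cancel hp.out.one_lt.le, ← ha, pow_orderOf_eq_one]
    rwa [e, inv_inv] at h3
  have hmul : ∀ y ∈ N, ∀ y' ∈ N, y * y' ∈ N := by
    intro y hy y' hy'
    have h3 := hprod _ (hconj' y hy) y' hy'
    have e : a⁻¹ * (a * y * a⁻¹) * a * y' = y * y' := by group
    rwa [e] at h3
  let N' : Subgroup G :=
    { carrier := N
      mul_mem' := fun {y y'} hy hy' => hmul y hy y' hy'
      one_mem' := h1N
      inv_mem' := fun {y} hy => by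
        have h2 : ∀ k : ℕ, y ^ k ∈ N := by
          intro k
          induction k with
          | zero => simpa using h1N
          | succ k ih => rw [pow_succ]; exact hmul _ ih _ hy
        have h3 := h2 (orderOf y - 1)
        have e : y ^ (orderOf y - 1) = y⁻¹ := by
          rw [eq_inv_iff_mul_eq_one, ← pow_succ, Nat.sub_add_cancel (orderOf_pos y), pow_orderOf_eq_one]
        rwa [e] at h3 }
  refine ⟨N', fun y => Iff.rfl, ?_, ?_, ?_⟩
  · rintro _ ⟨b, hb, rfl⟩
    exact hNB b hb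
  · rintro b hb _ ⟨c, hc, rfl⟩
    have h2 : a⁻¹ * (b * c * a * (b * c)⁻¹) ∈ N' := ⟨b * c, mul_mem hb hc, rfl⟩
    have h3 : a⁻¹ * (b * a * b⁻¹) ∈ N' := ⟨b, hb, rfl⟩
    have h4 := mul_mem (inv_mem h3) h2
    have e : b * (a⁻¹ * (c * a * c⁻¹)) * b⁻¹ = (a⁻¹ * (b * a * b⁻¹))⁻¹ * (a⁻¹ * (b * c * a * (b * c)⁻¹)) := by group
    rw [e]; exact h4
  · rintro y hy hya
    have hyB : y ∈ B := by obtain ⟨b, hb, rfl⟩ := hy; exact hNB b hb
    obtain ⟨b, hb, h2⟩ := hy
    have h3 : a * y = b * a * b⁻¹ := by rw [h2]; group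
    have h4 : (a * y) ^ p = 1 := by
      rw [h3, conj_pow, ← ha, pow_orderOf_eq_one]; group
    have h5 : (a * y) ^ p = a ^ p * y ^ p := (show Commute a y from hya.symm).mul_pow p
    have h6 : y ^ p = 1 := by
      rw [h5] at h4
      have : a ^ p = 1 := by rw [← ha, pow_orderOf_eq_one]
      rwa [this, one_mul] at h4
    have h7 : orderOf y ∣ p := orderOf_dvd_of_pow_eq_one h6
    have h8 : orderOf y ∣ Nat.card B := by
      have := orderOf_dvd_natCard (⟨y, hyB⟩ : B)
      rwa [Subgroup.orderOf_mk] at this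
    rcases (Nat.dvd_prime hp.out).1 h7 with h | h
    · exact orderOf_eq_one_iff.1 h
    · rw [h] at h8; exact absurd h8 hB

end Cfsg.Agent.H521.AALem
end

-- part: H521/AASz
section
/-!
# Project AA: the Suzuki groups (helper521, S3833)

`core_sz` : `Core` for `Sz(q)`.
-/

set_option autoImplicit false

namespace Cfsg.Agent.H521.AASz

open MulAction Subgroup Cfsg Cfsg.Agent.H459.Rad Cfsg.Agent.H460.AA Cfsg.Agent.H521.AAAvg Cfsg.Agent.H521.AAOne
open Cfsg.Agent.ThreePrime Cfsg.Agent.ThreePrime.SzRel Cfsg.Agent.LieRecognition.SzMatrix Cfsg.Agent.H70.SzOut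
open scoped Pointwise

section Rel

variable {J : Type*} [Group J] {F : Type*} [Field F] (R : SzRel.Rel J F)

/-- the rank one structure -/
def ofRel [Finite J] (S : Sylow 2 J) (hS : (S : Subgroup J) = R.T) : RO J 2 where
  S := S
  w := R.w
  br := by
    intro P
    obtain ⟨g, rfl⟩ := MulAction.exists_smul_eq J S P
    rcases R.bruhat g with ⟨a, b, k, rfl⟩ | ⟨a, b, c, e, k, rfl⟩
    · left; exact (smul_eq_self_iff _ _).2 (by rw [hS]; exact R.ud_mem_normalizer a b k)
    · right
      refine ⟨R.u a b, by rw [hS]; exact R.u_mem a b, ?_⟩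
      rw [mul_smul]
      congr 1
      exact (smul_eq_self_iff _ _).2 (by rw [hS]; exact R.ud_mem_normalizer c e k)
  ne := by
    intro h
    apply R.w_not_mem_normalizer
    have := (smul_eq_self_iff _ _).1 h
    rwa [hS] at this
  inj := by
    intro u hu h
    rw [hS] at hu
    obtain ⟨a, b, rfl⟩ := hu
    have h1 : (R.w * R.u a b * R.w) • S = S := by
      rw [mul_assoc, mul_smul, h, ← mul_smul, R.w_mul_w, one_smul]
    have h2 := (smul_eq_self_iff _ _).1 h1
    rw [hS] at h2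
    obtain ⟨c, e, k, h3⟩ := R.norm h2
    obtain ⟨rfl, rfl⟩ := R.inter _ _ _ _ _ h3
    exact R.u_zero

theorem card_T : Nat.card R.T = Nat.card F ^ 2 := by
  have h : Function.Bijective (fun x : F × F => (⟨R.u x.1 x.2, R.u_mem _ _⟩ : R.T)) := by
    constructor
    · rintro ⟨a, b⟩ ⟨a', b'⟩ h
      obtain ⟨h1, h2⟩ := R.u_inj (congrArg Subtype.val h)
      exact Prod.ext h1 h2
    · rintro ⟨_, a, b, rfl⟩
      exact ⟨(a, b), rfl⟩
  rw [← Nat.card_congr (Equiv.ofBijective _ h), Nat.card_prod, sq]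

theorem card_N [Finite F] : Nat.card (normalizer (R.T : Set J)) = Nat.card F ^ 2 * (Nat.card F - 1) := by
  have h : Function.Bijective (fun x : (F × F) × Fˣ =>
      (⟨R.u x.1.1 x.1.2 * R.d x.2, R.ud_mem_normalizer _ _ _⟩ : normalizer (R.T : Set J))) := by
    constructor
    · rintro ⟨⟨a, b⟩, k⟩ ⟨⟨a', b'⟩, k'⟩ h
      obtain ⟨h1, h2, h3⟩ := R.ud_inj (congrArg Subtype.val h)
      exact Prod.ext (Prod.ext h1 h2) h3
    · rintro ⟨g, hg⟩
      obtain ⟨a, b, k, rfl⟩ := R.norm hg
      exact ⟨((a, b), k), rfl⟩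
  rw [← Nat.card_congr (Equiv.ofBijective _ h), Nat.card_prod, Nat.card_prod, sq, Nat.card_units]

include R in
theorem center_eq_bot : Subgroup.center J = ⊥ := by
  rw [eq_bot_iff]
  intro c hc
  rw [mem_center_iff] at hc
  have h1 : c ∈ normalizer (R.T : Set J) := by
    refine R.ti (R.u_mem 0 1) (R.u_ne_one one_ne_zero) ?_
    rw [← hc, mul_inv_cancel_right]
    exact R.u_mem 0 1
  obtain ⟨a, b, k, rfl⟩ := R.norm h1
  have h2 := hc R.w
  have h3 : R.w * R.u a b * R.w = R.u a b * R.d (k * k) := by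
    calc R.w * R.u a b * R.w = R.w * (R.u a b * R.d k) * ((R.d k)⁻¹ * R.w) := by group
      _ = (R.u a b * R.d k) * R.w * (R.w * R.d k) := by rw [h2, R.d_inv, ← R.w_mul_d]
      _ = (R.u a b * R.d k) * (R.w * R.w) * R.d k := by group
      _ = R.u a b * (R.d k * R.d k) := by rw [R.w_mul_w]; group
      _ = _ := by rw [R.d_mul]
  obtain ⟨rfl, rfl⟩ := R.inter _ _ _ _ _ h3
  rw [R.u_zero, one_mul] at hc ⊢
  have h4 : R.d k * R.u 0 1 * (R.d k)⁻¹ = R.u 0 1 := by rw [← hc, mul_inv_cancel_right]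
  rcases R.fpf h4 with rfl | ⟨-, h⟩
  · rw [R.d_one]; exact one_mem _
  · exact absurd h one_ne_zero

/-- an element with three fixed points is trivial -/
theorem eq_one_of_three [Finite J] (S : Sylow 2 J) (hS : (S : Subgroup J) = R.T) {c : J} {P₁ P₂ P₃ : Sylow 2 J}
    (h12 : P₁ ≠ P₂) (h13 : P₁ ≠ P₃) (h23 : P₂ ≠ P₃) (h1 : c • P₁ = P₁) (h2 : c • P₂ = P₂) (h3 : c • P₃ = P₃) :
    c = 1 := by
  have htr : ∀ P Q : Sylow 2 J, ∃ g : J, g • P = Q := fun P Q => MulAction.exists_smul_eq J P Q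
  obtain ⟨g, hg1, hg2⟩ := (ofRel R S hS).exists_std P₁ P₂ h12 htr
  obtain ⟨c', hc'⟩ : ∃ c', c' = g * c * g⁻¹ := ⟨_, rfl⟩
  have hfix : ∀ P : Sylow 2 J, c • P = P → c' • (g • P) = g • P := by
    intro P hP
    rw [hc', mul_smul, mul_smul, inv_smul_smul, hP]
  have e1 := hfix _ h1
  have e2 := hfix _ h2
  have e3 := hfix _ h3
  rw [hg1] at e1
  rw [hg2] at e2
  have e1' := (smul_eq_self_iff _ _).1 e1
  change c' ∈ normalizer ((S : Subgroup J) : Set J) at e1'
  rw [hS] at e1'
  have e2' : (R.w * c' * R.w⁻¹) • S = S := by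
    have e4 : c' • (R.w • S) = R.w • S := e2
    rw [R.w_inv, mul_smul, mul_smul, e4, ← mul_smul, R.w_mul_w, one_smul]
  have e2'' := (smul_eq_self_iff _ _).1 e2'
  rw [hS, R.w_inv] at e2''
  have e5 : c' ∈ R.D := R.mem_D_of e1' e2''
  obtain ⟨k, hk⟩ := e5
  rcases (ofRel R S hS).br (g • P₃) with h | ⟨u, hu, h⟩
  · exact absurd (smul_left_cancel g (hg1.trans h.symm)) h13
  · rw [h] at e3
    have hu' : u ∈ R.T := by rw [← hS]; exact hu
    have hcu : c' * u * c'⁻¹ ∈ R.T := by
      obtain ⟨a, b, rfl⟩ := hu'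
      rw [hk, R.conj_d]
      exact R.u_mem _ _
    have e6 : ((c' * u * c'⁻¹) * (ofRel R S hS).w) • (ofRel R S hS).S = (u * (ofRel R S hS).w) • (ofRel R S hS).S := by
      rw [← e3]
      simp only [mul_smul]
      congr 2
      rw [inv_smul_eq_iff]
      exact e2.symm
    have e7 := (ofRel R S hS).inj' (by show _ ∈ (S : Subgroup J); rw [hS]; exact hcu) hu e6
    obtain ⟨a, b, rfl⟩ := hu'
    rw [hk] at e7
    rcases R.fpf e7 with rfl | ⟨rfl, rfl⟩
    · rw [R.d_one] at hk
      rw [hk] at hc'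
      have : c = g⁻¹ * 1 * g := by rw [hc']; group
      simpa using this
    · exfalso
      apply h23
      apply smul_left_cancel g
      rw [hg2, h, R.u_zero, one_mul]

theorem smul_of_fix [Finite J] (S : Sylow 2 J) (hS : (S : Subgroup J) = R.T) {ψ : MulAut J} (h : Fix R ψ) :
    ψ • S = S ∧ ψ • (R.w • S) = R.w • S := by
  have h1 : ψ • S = S := by
    apply Sylow.ext
    have h2 : ((ψ • S : Sylow 2 J) : Subgroup J) = ψ • (S : Subgroup J) := rfl
    rw [h2]
    refine Subgroup.eq_of_le_of_card_ge ?_ ?_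
    · rintro _ ⟨y, hy, rfl⟩
      have hy' : y ∈ R.T := by rw [← hS]; exact hy
      have := h.T y hy'
      rw [← hS] at this
      exact this
    · exact (Nat.card_congr (Subgroup.equivSMul ψ (S : Subgroup J)).toEquiv).le
  refine ⟨h1, ?_⟩
  rw [aut_smul, h1]
  have h2 := h.w
  rw [← hS] at h2
  have h3 := (smul_eq_self_iff _ _).2 h2
  rw [mul_smul, smul_eq_iff_eq_inv_smul, R.w_inv] at h3
  exact h3

theorem fix_of_smul [Finite J] (S : Sylow 2 J) (hS : (S : Subgroup J) = R.T) {ψ : MulAut J} (h1 : ψ • S = S)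
    (h2 : ψ • (R.w • S) = R.w • S) : Fix R ψ where
  T x hx := by
    rw [← hS] at hx ⊢
    have h3 : ψ x ∈ ((ψ • S : Sylow 2 J) : Subgroup J) := Subgroup.smul_mem_pointwise_smul x ψ _ hx
    rwa [h1] at h3
  w := by
    rw [← hS]
    refine (smul_eq_self_iff _ _).1 ?_
    rw [aut_smul, h1] at h2
    rw [mul_smul, h2, ← mul_smul, R.w_mul_w, one_smul]

end Rel

section Field

variable {F : Type*} [Field F] [Fintype F]

/-- solutions of `σ a * c = a` -/
theorem card_semi_le (σ : F ≃+* F) (c : F) : Nat.card {a : F // σ a * c = a} ≤ Nat.card {a : F // σ a = a} := by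
  by_cases h : ∃ a₀ : F, a₀ ≠ 0 ∧ σ a₀ * c = a₀
  · obtain ⟨a₀, h0, h1⟩ := h
    refine Nat.card_le_card_of_injective (fun a => ⟨a.1 / a₀, ?_⟩) ?_
    · have h3 : σ a₀ ≠ 0 := fun h => h0 (by rw [h, zero_mul] at h1; exact h1.symm)
      rw [map_div₀, div_eq_div_iff h3 h0]
      calc σ a.1 * a₀ = σ a.1 * (σ a₀ * c) := by rw [h1]
        _ = (σ a.1 * c) * σ a₀ := by ring
        _ = a.1 * σ a₀ := by rw [a.2]
    · intro a b hab
      have h2 : a.1 / a₀ = b.1 / a₀ := congrArg Subtype.val hab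
      exact Subtype.ext ((div_left_inj' h0).1 h2)
  · push Not at h
    have : Subsingleton {a : F // σ a * c = a} := by
      refine ⟨fun a b => Subtype.ext ?_⟩
      have h1 : ∀ a : {a : F // σ a * c = a}, a.1 = 0 := fun a => by
        by_contra hne
        exact h _ hne a.2
      rw [h1 a, h1 b]
    refine le_trans (Nat.card_le_card_of_injective (fun _ => (⟨0, map_zero σ⟩ : {a : F // σ a = a}))
      (Function.injective_of_subsingleton _)) le_rfl

end Field

section Main

variable {F : Type*} [Field F] [Fintype F] {m : ℕ}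

theorem isCyclic_sylow (hm : 1 ≤ m) (hF : Fintype.card F = 2 ^ (2 * m + 1)) {p : ℕ} [Fact p.Prime] (hp2 : p ≠ 2)
    (P : Sylow p ↥(Cfsg.Lie.Sz F (2 ^ (m + 1)))) : IsCyclic (P : Subgroup ↥(Cfsg.Lie.Sz F (2 ^ (m + 1)))) := by
  obtain ⟨e⟩ := OddCyclic.ClaimC.SzIso.iso hm hF
  have hfin : Finite ↥(Cfsg.Sz F m) := Finite.of_equiv _ e.symm.toEquiv
  have hP : IsPGroup p ((P : Subgroup ↥(Cfsg.Lie.Sz F (2 ^ (m + 1)))).comap e.toMonoidHom) :=
    P.isPGroup'.comap_of_injective _ e.injective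
  obtain ⟨Q, hQ⟩ := hP.exists_le_sylow
  have h1 := S0331.result hm hF hp2 Q
  have h2 : IsCyclic ↥((P : Subgroup ↥(Cfsg.Lie.Sz F (2 ^ (m + 1)))).comap e.toMonoidHom) :=
    isCyclic_of_injective (Subgroup.inclusion hQ) (Subgroup.inclusion_injective hQ)
  let f : ↥((P : Subgroup ↥(Cfsg.Lie.Sz F (2 ^ (m + 1)))).comap e.toMonoidHom) →* ↥(P : Subgroup ↥(Cfsg.Lie.Sz F (2 ^ (m + 1)))) :=
    (e.toMonoidHom.comp (Subgroup.subtype _)).codRestrict _ fun k => k.2
  refine isCyclic_of_surjective f ?_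
  rintro ⟨a, ha⟩
  refine ⟨⟨e.symm a, ?_⟩, Subtype.ext (e.apply_symm_apply a)⟩
  show e (e.symm a) ∈ (P : Subgroup ↥(Cfsg.Lie.Sz F (2 ^ (m + 1))))
  rw [e.apply_symm_apply]
  exact ha

/-- the field part of an automorphism of order `p` -/
theorem pow_field (hF : Fintype.card F = 2 ^ (2 * m + 1)) {p : ℕ} {x : MulAut ↥(Cfsg.Lie.Sz F (2 ^ (m + 1)))}
    (hx : x ^ p = 1) {g : ↥(Cfsg.Lie.Sz F (2 ^ (m + 1)))} {σ : F ≃+* F} (h : x = MulAut.conj g * fieldAut (good hF) σ) :
    σ ^ p = 1 := by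
  have h1 : QuotientGroup.mk' (Cfsg.Inn ↥(Cfsg.Lie.Sz F (2 ^ (m + 1)))) (fieldAut (good hF) σ ^ p) = 1 := by
    have h2 : QuotientGroup.mk' (Cfsg.Inn ↥(Cfsg.Lie.Sz F (2 ^ (m + 1)))) (MulAut.conj g) = 1 :=
      (QuotientGroup.eq_one_iff _).2 ⟨g, rfl⟩
    have h3 : QuotientGroup.mk' (Cfsg.Inn ↥(Cfsg.Lie.Sz F (2 ^ (m + 1)))) (x ^ p) = 1 := by simp only [hx, map_one]
    simp only [h, map_pow, map_mul, h2, one_mul] at h3
    rw [map_pow]
    exact h3
  rw [← map_pow (fieldAut _)] at h1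
  obtain ⟨g', hg'⟩ := (QuotientGroup.eq_one_iff _).1 h1
  exact eq_one_of_conj (good hF) hg'.symm

theorem conj_d_u (hF : Fintype.card F = 2 ^ (2 * m + 1)) (k : Fˣ) (σ : F ≃+* F) (a b : F) :
    (MulAut.conj ((good hF).d k) * fieldAut (good hF) σ) ((ofGood (good hF)).u a b) =
      (ofGood (good hF)).u (σ a * ((k : F) ^ 2 * ((ofGood (good hF)).θ k)⁻¹)) (σ b * (ofGood (good hF)).θ k) := by
  rw [MulAut.mul_apply, MulAut.conj_apply]
  have h1 : fieldAut (good hF) σ ((ofGood (good hF)).u a b) = (ofGood (good hF)).u (σ a) (σ b) := fieldAut_u (good hF) σ a b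
  rw [h1]
  have h2 := (ofGood (good hF)).conj_d k (σ a) (σ b)
  rw [← mul_assoc (σ a)]
  exact h2

theorem core (hm : 1 ≤ m) (hF : Fintype.card F = 2 ^ (2 * m + 1)) : Core ↥(Cfsg.Lie.Sz F (2 ^ (m + 1))) := by
  classical
  intro p hp hp2 x hx hR hP
  have hq : Nat.card F = 2 ^ (2 * m + 1) := by rw [Nat.card_eq_fintype_card, hF]
  have h8 : 8 ≤ Nat.card F := by
    rw [hq]
    exact SzRel.Rel.eight_le hm
  obtain ⟨S, hS⟩ := exists_sylow hm hF
  obtain ⟨R, hRd⟩ : ∃ R, R = ofGood (good hF) := ⟨_, rfl⟩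
  rw [← hRd] at hS
  obtain ⟨T, hT⟩ : ∃ T, T = ofRel R S hS := ⟨_, rfl⟩
  have hTS : T.S = S := by rw [hT]; rfl
  have hTw : T.w = R.w := by rw [hT]; rfl
  have hcS : Nat.card (T.S : Subgroup ↥(Cfsg.Lie.Sz F (2 ^ (m + 1)))) = Nat.card F ^ 2 := by
    rw [hTS, hS, card_T]
  have hcN : Nat.card (normalizer ((T.S : Subgroup ↥(Cfsg.Lie.Sz F (2 ^ (m + 1)))) :
      Set ↥(Cfsg.Lie.Sz F (2 ^ (m + 1))))) = Nat.card F ^ 2 * (Nat.card F - 1) := by
    rw [hTS, hS, card_N]
  have hc := center_eq_bot R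
  have hxp : x ^ p = 1 := by rw [← hx, pow_orderOf_eq_one]
  have hx1 : x ≠ 1 := by
    rintro rfl
    rw [orderOf_one] at hx
    exact hp.out.one_lt.ne hx
  have hp3 : 3 ≤ p := by
    have := hp.out.two_le
    omega
  have hpq : ¬ p ∣ Nat.card F := by
    intro h
    rw [hq] at h
    exact hp2 ((Nat.prime_dvd_prime_iff_eq hp.out Nat.prime_two).1 (hp.out.dvd_of_dvd_pow h))
  have hpS : ¬ p ∣ Nat.card (T.S : Subgroup ↥(Cfsg.Lie.Sz F (2 ^ (m + 1)))) := by
    rw [hcS]
    exact fun h => hpq (hp.out.dvd_of_dvd_pow h)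
  have hfield : ∀ σ : F ≃+* F, σ ≠ 1 → σ ^ p = 1 → orderOf σ = p ∧ Nat.card F = Nat.card {a : F // σ a = a} ^ p ∧
      2 ≤ Nat.card {a : F // σ a = a} := by
    intro σ h1 h2
    have h3 : orderOf σ = p := by
      rcases (Nat.dvd_prime hp.out).1 (orderOf_dvd_of_pow_eq_one h2) with h | h
      · exact absurd (orderOf_eq_one_iff.1 h) h1
      · exact h
    have h4 := StdL2.FGal.card_fixed σ
    rw [h3] at h4
    refine ⟨h3, h4, ?_⟩
    by_contra hlt
    have h5 : Nat.card {a : F // σ a = a} ≤ 1 := by omega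
    have h6 : Nat.card {a : F // σ a = a} ^ p ≤ 1 := by
      calc _ ≤ 1 ^ p := Nat.pow_le_pow_left h5 p
        _ = 1 := one_pow p
    omega
  by_cases hpQ : p ∣ Nat.card F ^ 2 + 1
  · -- `p` divides `Q + 1`
    obtain ⟨g, σ, hxσ⟩ := H70.SzAutThm.exists_conj_field hm hF x
    have hσp := pow_field hF hxp hxσ
    have hN : ¬ p ∣ Nat.card (normalizer ((T.S : Subgroup ↥(Cfsg.Lie.Sz F (2 ^ (m + 1)))) :
      Set ↥(Cfsg.Lie.Sz F (2 ^ (m + 1))))) := by
      rw [hcN, hp.out.dvd_mul]
      rintro (h | h)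
      · exact hpq (hp.out.dvd_of_dvd_pow h)
      · obtain ⟨c, hc⟩ := h
        have h1 : Nat.card F = p * c + 1 := by omega
        rw [h1] at hpQ
        have h2 : (p * c + 1) ^ 2 + 1 = p * (p * c ^ 2 + 2 * c) + 2 := by ring
        rw [h2] at hpQ
        have h3 := (Nat.dvd_add_right (dvd_mul_right p _)).1 hpQ
        exact hp2 ((Nat.prime_dvd_prime_iff_eq hp.out Nat.prime_two).1 h3)
    by_cases hσ1 : σ = 1
    · -- inner
      rw [hσ1, map_one, mul_one] at hxσ
      subst hxσ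
      have hg1 : g ≠ 1 := by rintro rfl; exact hx1 (map_one _)
      have hgo : orderOf g = p := by
        rw [← hx]; exact (orderOf_injective _ (conj_injective hc) g).symm
      have hf0 := fx_eq_zero T hN (PE.of_orderOf hgo.dvd) hg1
      obtain ⟨c, hc1, hcg, hcS'⟩ := exists_comm hc T hP hN (by
        rw [hcN, hcS]
        have : 0 < Nat.card F ^ 2 := by positivity
        calc Nat.card F ^ 2 = Nat.card F ^ 2 * 1 := (mul_one _).symm
          _ < Nat.card F ^ 2 * (Nat.card F - 1) := Nat.mul_lt_mul_of_pos_left (by omega) this) hf0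
      rw [hTS] at hcS'
      have hmove : ∀ y : ↥(Cfsg.Lie.Sz F (2 ^ (m + 1))), PE p y → y ≠ 1 →
          ∀ P : Sylow 2 ↥(Cfsg.Lie.Sz F (2 ^ (m + 1))), y • P ≠ P := by
        intro y hy hy1 P hyP
        have h1 := fx_eq_zero T hN hy hy1
        have h2 : Nonempty {P : Sylow 2 ↥(Cfsg.Lie.Sz F (2 ^ (m + 1))) // (MulAut.conj y : MulAut _) • P = P} := ⟨⟨P, hyP⟩⟩
        have h3 : 0 < Nat.card {P : Sylow 2 ↥(Cfsg.Lie.Sz F (2 ^ (m + 1))) // (MulAut.conj y : MulAut _) • P = P} :=
          Nat.card_pos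
        exact h3.ne' h1
      have hg2 : g * g ≠ 1 := by
        intro h
        have h1 : orderOf g ∣ 2 := orderOf_dvd_of_pow_eq_one (by rw [pow_two, h])
        rw [hgo] at h1
        exact hp2 ((Nat.prime_dvd_prime_iff_eq hp.out Nat.prime_two).1 h1)
      have hPE := PE.of_orderOf hgo.dvd
      refine hc1 (eq_one_of_three R S hS (P₁ := S) (P₂ := g • S) (P₃ := (g * g) • S) ?_ ?_ ?_ hcS' ?_ ?_)
      · exact (hmove g hPE hg1 S).symm
      · exact (hmove (g * g) (by rw [← pow_two]; exact hPE.pow 2) hg2 S).symm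
      · rw [mul_smul]
        exact (hmove g hPE hg1 (g • S)).symm
      · rw [← mul_smul, hcg, mul_smul, hcS']
      · rw [← mul_smul, ← mul_assoc, hcg, mul_assoc, hcg, ← mul_assoc, mul_smul, hcS']
    · -- outer
      obtain ⟨hσo, hqz, hz2⟩ := hfield σ hσ1 hσp
      obtain ⟨s, hs⟩ : ∃ s, s = fieldAut (good hF) σ := ⟨_, rfl⟩
      have hu : ∀ a b, s (R.u a b) = R.u (σ a) (σ b) := by
        intro a b
        rw [hs, hRd]
        exact fieldAut_u (good hF) σ a b
      have hd : ∀ k, s (R.d k) = R.d (Units.map (σ : F →* F) k) := by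
        intro k
        rw [hs, hRd]
        exact fieldAut_d (good hF) σ k
      have hsp : s ^ p = 1 := by rw [hs, ← map_pow, hσp, map_one]
      have hs1 : s ≠ 1 := by
        intro h
        apply hσ1
        refine eq_one_of_conj (good hF) (g := 1) ?_
        rw [← hs, h, map_one]
      have hso : orderOf s = p := by
        rcases (Nat.dvd_prime hp.out).1 (orderOf_dvd_of_pow_eq_one hsp) with h | h
        · exact absurd (orderOf_eq_one_iff.1 h) hs1
        · exact h
      have hfixs : Fix R s := by rw [hRd, hs]; exact fix_fieldAut (good hF) σ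
      -- fixed points of `s`
      have hfx : fx 2 s = Nat.card {a : F // σ a = a} ^ 2 + 1 := by
        obtain ⟨h1, h2⟩ := smul_of_fix R S hS hfixs
        have h3 := T.card_fix (x := s) (by rw [hTS]; exact h1) (by rw [hTS, hTw]; exact h2)
        rw [fx, h3]
        congr 1
        rw [sq, ← Nat.card_prod]
        refine (Nat.card_congr (Equiv.ofBijective (fun x : {a : F // σ a = a} × {a : F // σ a = a} =>
          (⟨⟨R.u x.1 x.2, ?_⟩, ?_⟩ : {u : ↥(T.S : Subgroup ↥(Cfsg.Lie.Sz F (2 ^ (m + 1)))) // s (u : ↥(Cfsg.Lie.Sz F (2 ^ (m + 1)))) = u})) ⟨?_, ?_⟩)).symm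
        · rw [hTS, hS]; exact R.u_mem _ _
        · show s (R.u x.1 x.2) = R.u x.1 x.2
          rw [hu, x.1.2, x.2.2]
        · rintro ⟨⟨a, ha⟩, ⟨b, hb⟩⟩ ⟨⟨a', ha'⟩, ⟨b', hb'⟩⟩ h
          have h4 : R.u a b = R.u a' b' := congrArg (fun w : {u : ↥(T.S : Subgroup ↥(Cfsg.Lie.Sz F (2 ^ (m + 1)))) //
            s (u : ↥(Cfsg.Lie.Sz F (2 ^ (m + 1)))) = u} => ((w : ↥(T.S : Subgroup ↥(Cfsg.Lie.Sz F (2 ^ (m + 1))))) : ↥(Cfsg.Lie.Sz F (2 ^ (m + 1))))) h
          obtain ⟨rfl, rfl⟩ := R.u_inj h4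
          rfl
        · rintro ⟨⟨u, hu'⟩, hfu⟩
          have hu'' := hu'
          rw [hTS, hS] at hu''
          obtain ⟨a, b, rfl⟩ := hu''
          have h4 : s (R.u a b) = R.u a b := hfu
          rw [hu] at h4
          obtain ⟨h5, h6⟩ := R.u_inj h4
          exact ⟨(⟨a, h5⟩, ⟨b, h6⟩), rfl⟩
      obtain ⟨y, hy⟩ := AAFld.exists_conj T hc hp2 hsp hxp (g₀ := g) (by rw [hs]; exact hxσ) (isCyclic_sylow hm hF hp2) hN hfx
        (by rw [hcS]; nth_rewrite 1 [hqz]; rw [← pow_mul, ← pow_mul, mul_comm]) (by rwa [hcS])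
      -- `PA` for `s`
      have hPs : PA p s := by
        have h1 := PA_tr (MulAut.conj y⁻¹) hP
        have h2 : tr (MulAut.conj y⁻¹) x = s := by
          have h3 : tr (MulAut.conj y⁻¹) x = MulAut.conj y⁻¹ * x * (MulAut.conj y⁻¹)⁻¹ := rfl
          rw [h3, hy, map_inv]
          group
        rwa [h2] at h1
      -- Lemma 1 on the Borel subgroup
      obtain ⟨B, hB⟩ : ∃ B : Subgroup (MulAut ↥(Cfsg.Lie.Sz F (2 ^ (m + 1)))),
        B = (normalizer (R.T : Set ↥(Cfsg.Lie.Sz F (2 ^ (m + 1))))).map MulAut.conj := ⟨_, rfl⟩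
      have hBc : ¬ p ∣ Nat.card B := by
        rw [hB, Subgroup.card_map_of_injective (conj_injective hc), ← hS, ← hTS]
        exact hN
      have hBn : ∀ b ∈ B, s * b * s⁻¹ ∈ B := by
        rw [hB]
        rintro _ ⟨b, hb, rfl⟩
        exact ⟨s b, map_normalizer R hfixs.T hb, AAFld.conj_aut s b⟩
      obtain ⟨N, hN1, hN2, hN3, hN4⟩ := AALem.lemma1 hp2 hso hBc hBn (by
        rw [hB]
        rintro _ ⟨b, hb, rfl⟩
        exact hPs b)
      -- an element of the torus in `N`
      obtain ⟨k, hk⟩ : ∃ k : Fˣ, Units.map (σ : F →* F) k ≠ k := by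
        by_contra hcon
        push Not at hcon
        apply hσ1
        ext a
        by_cases ha : a = 0
        · rw [ha, map_zero, map_zero]
        · have h1 := congrArg Units.val (hcon (Units.mk0 a ha))
          exact h1
      obtain ⟨l, hl⟩ : ∃ l : Fˣ, l = k * (Units.map (σ : F →* F) k)⁻¹ := ⟨_, rfl⟩
      have hl1 : l ≠ 1 := by
        rw [hl]
        intro h
        exact hk (mul_inv_eq_one.1 h).symm
      have hdN : MulAut.conj (R.d l) ∈ N := by
        rw [hN1]
        refine ⟨MulAut.conj (s (R.d k)), ?_, ?_⟩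
        · rw [hB]
          exact ⟨s (R.d k), map_normalizer R hfixs.T (R.D_le (R.d_mem k)), rfl⟩
        · have h1 : R.d l = R.d k * (s (R.d k))⁻¹ := by
            rw [hd, R.d_inv, R.d_mul, hl]
          simp only [h1, map_mul, map_inv, AAFld.conj_aut]
          group
      obtain ⟨b, hb⟩ : ∃ b : F, b * (1 + R.θ l) = 1 := by
        refine ⟨(1 + R.θ l)⁻¹, inv_mul_cancel₀ ?_⟩
        intro h
        apply hl1
        have h1 : R.θ (l : F) = 1 := by linear_combination h - R.two
        have h2 : (l : F) = 1 := R.θ.injective (by rw [h1, map_one])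
        exact Units.ext h2
      have huN : MulAut.conj (R.u 0 1) ∈ N := by
        have h1 := hN3 (MulAut.conj (R.u 0 b)) (by
          rw [hB]
          exact ⟨R.u 0 b, le_normalizer (R.u_mem 0 b), rfl⟩) _ hdN
        have h2 := mul_mem h1 (inv_mem hdN)
        have h3 : MulAut.conj (R.u 0 b) * MulAut.conj (R.d l) * (MulAut.conj (R.u 0 b))⁻¹ * (MulAut.conj (R.d l))⁻¹ =
            MulAut.conj (R.u 0 1) := by
          simp only [← map_inv, ← map_inv, ← map_mul, ← map_mul, ← map_mul]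
          congr 1
          have h4 : R.u 0 b * R.d l * (R.u 0 b)⁻¹ * (R.d l)⁻¹ = R.u 0 b * (R.d l * (R.u 0 b)⁻¹ * (R.d l)⁻¹) := by group
          rw [h4, R.u_inv, zero_mul, add_zero, R.conj_d, R.u_mul]
          congr 1
          · ring
          · linear_combination hb
        rwa [h3] at h2
      have h1 := hN4 _ huN (by
        have h2 : s (R.u 0 1) = R.u 0 1 := by rw [hu, map_zero, map_one]
        have h3 := AAFld.conj_aut s (R.u 0 1)
        rw [h2] at h3
        nth_rewrite 1 [h3]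
        group)
      have h2 : R.u 0 1 = 1 := conj_injective hc (by rw [h1, map_one])
      exact R.u_ne_one one_ne_zero h2
  · -- `p` does not divide `Q (Q + 1)`
    have hpQ' : ¬ p ∣ Nat.card (T.S : Subgroup ↥(Cfsg.Lie.Sz F (2 ^ (m + 1)))) + 1 := by rwa [hcS]
    have hle := le_of_PA T hP hpS hpQ'
    have h2f := two_le_fx T (PE.of_orderOf hx.dvd) hpS hpQ'
    -- two fixed points
    obtain ⟨⟨P₁, hP₁⟩, ⟨P₂, hP₂⟩, hP₁₂⟩ : ∃ P₁ P₂ : {P : Sylow 2 ↥(Cfsg.Lie.Sz F (2 ^ (m + 1))) // x • P = P}, P₁ ≠ P₂ := by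
      have h1 : 1 < Nat.card {P : Sylow 2 ↥(Cfsg.Lie.Sz F (2 ^ (m + 1))) // x • P = P} := h2f
      exact (Finite.one_lt_card_iff_nontrivial.1 h1).exists_pair_ne
    have hne : P₁ ≠ P₂ := fun h => hP₁₂ (Subtype.ext h)
    obtain ⟨g, hg1, hg2⟩ := T.exists_std P₁ P₂ hne fun P Q => MulAction.exists_smul_eq _ P Q
    obtain ⟨x', hx'⟩ : ∃ x', x' = MulAut.conj g * x * (MulAut.conj g)⁻¹ := ⟨_, rfl⟩
    have hfxx : fx 2 x' = fx 2 x := by rw [hx']; exact fx_conj x g
    have hmv : ∀ P : Sylow 2 ↥(Cfsg.Lie.Sz F (2 ^ (m + 1))), x • P = P → x' • (g • P) = g • P := by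
      intro P hP
      simp only [hx', mul_smul, mul_smul, ← map_inv, smul_mulAut, smul_mulAut, inv_smul_smul, hP]
    have e1 := hmv _ hP₁
    have e2 := hmv _ hP₂
    rw [hg1] at e1
    rw [hg2] at e2
    have hx'p : x' ^ p = 1 := by rw [hx', conj_pow, hxp, mul_one, mul_inv_cancel]
    have hx'1 : x' ≠ 1 := by
      intro h
      apply hx1
      rw [hx'] at h
      exact conj_eq_one_iff.1 h
    have hF' : Fix R x' := fix_of_smul R S hS (by rw [← hTS]; exact e1) (by rw [← hTS, ← hTw]; exact e2)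
    rw [hRd] at hF'
    obtain ⟨σ, k, hσk⟩ := eq_of_fix h8 (good hF) hF'
    have hσp := pow_field hF hx'p hσk
    have hcf := T.card_fix e1 e2
    have hcf' : fx 2 x' = Nat.card {u : ↥(T.S : Subgroup ↥(Cfsg.Lie.Sz F (2 ^ (m + 1)))) // x' (u : ↥(Cfsg.Lie.Sz F (2 ^ (m + 1)))) = u} + 1 := hcf
    obtain ⟨n, hn⟩ : ∃ n, n = Nat.card {u : ↥(T.S : Subgroup ↥(Cfsg.Lie.Sz F (2 ^ (m + 1)))) // x' (u : ↥(Cfsg.Lie.Sz F (2 ^ (m + 1)))) = u} := ⟨_, rfl⟩
    rw [← hn] at hcf'
    have hle' : Nat.card F ^ 2 ≤ n ^ 2 := by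
      rw [hcS, ← hfxx, hcf'] at hle
      push_cast at hle
      have h3 : ((Nat.card F : ℤ)) ^ 2 ≤ (n : ℤ) ^ 2 := by
        have e : ((n : ℤ) + 1 - 1) ^ 2 = (n : ℤ) ^ 2 := by ring
        rw [e] at hle
        exact hle
      exact_mod_cast h3
    have hle'' : Nat.card F ≤ n := by
      by_contra hlt
      exact absurd hle' (not_le.2 (Nat.pow_lt_pow_left (not_le.1 hlt) (by norm_num)))
    have hact : ∀ a b, x' (R.u a b) = R.u (σ a * ((k : F) ^ 2 * (R.θ k)⁻¹)) (σ b * R.θ k) := by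
      intro a b
      rw [hσk, hRd]
      exact conj_d_u hF k σ a b
    have hsur : n ≤ Nat.card {a : F // σ a * ((k : F) ^ 2 * (R.θ k)⁻¹) = a} * Nat.card {b : F // σ b * R.θ k = b} := by
      rw [hn, ← Nat.card_prod]
      refine Nat.card_le_card_of_surjective (fun y : {a : F // σ a * ((k : F) ^ 2 * (R.θ k)⁻¹) = a} × {b : F // σ b * R.θ k = b} =>
        (⟨⟨R.u y.1 y.2, ?_⟩, ?_⟩ : {u : ↥(T.S : Subgroup ↥(Cfsg.Lie.Sz F (2 ^ (m + 1)))) // x' (u : ↥(Cfsg.Lie.Sz F (2 ^ (m + 1)))) = u})) ?_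
      · rw [hTS, hS]; exact R.u_mem _ _
      · show x' (R.u y.1 y.2) = R.u y.1 y.2
        rw [hact, y.1.2, y.2.2]
      · rintro ⟨⟨u, hu'⟩, hfu⟩
        have hu'' := hu'
        rw [hTS, hS] at hu''
        obtain ⟨a, b, rfl⟩ := hu''
        have h4 : x' (R.u a b) = R.u a b := hfu
        rw [hact] at h4
        obtain ⟨h5, h6⟩ := R.u_inj h4
        exact ⟨(⟨a, h5⟩, ⟨b, h6⟩), rfl⟩
    by_cases hσ1 : σ = 1
    · -- inner
      have h3 : n ≤ 1 := by
        have : Subsingleton {u : ↥(T.S : Subgroup ↥(Cfsg.Lie.Sz F (2 ^ (m + 1)))) // x' (u : ↥(Cfsg.Lie.Sz F (2 ^ (m + 1)))) = u} := by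
          have key : ∀ u : {u : ↥(T.S : Subgroup ↥(Cfsg.Lie.Sz F (2 ^ (m + 1)))) // x' (u : ↥(Cfsg.Lie.Sz F (2 ^ (m + 1)))) = u},
              ((u : ↥(T.S : Subgroup ↥(Cfsg.Lie.Sz F (2 ^ (m + 1))))) : ↥(Cfsg.Lie.Sz F (2 ^ (m + 1)))) = 1 := by
            rintro ⟨⟨u, hu'⟩, hfu⟩
            have hu'' := hu'
            rw [hTS, hS] at hu''
            obtain ⟨a, b, rfl⟩ := hu''
            have h4 : x' (R.u a b) = R.u a b := hfu
            have h5 : x' = MulAut.conj (R.d k) := by rw [hσk, hσ1, map_one, mul_one, hRd]; rfl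
            rw [h5, MulAut.conj_apply] at h4
            rcases R.fpf h4 with rfl | ⟨rfl, rfl⟩
            · exfalso
              apply hx'1
              rw [h5, R.d_one, map_one]
            · exact R.u_zero
          exact ⟨fun u v => Subtype.ext (Subtype.ext (by rw [key u, key v]))⟩
        rw [hn]
        exact Finite.card_le_one_iff_subsingleton.2 this
      omega
    · obtain ⟨hσo, hqz, hz2⟩ := hfield σ hσ1 hσp
      have h3 : n ≤ Nat.card {a : F // σ a = a} ^ 2 := by
        rw [sq]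
        exact hsur.trans (Nat.mul_le_mul (card_semi_le σ _) (card_semi_le σ _))
      have h4 : Nat.card {a : F // σ a = a} ^ 2 < Nat.card {a : F // σ a = a} ^ p :=
        Nat.pow_lt_pow_right (by omega) (by omega)
      rw [← hqz] at h4
      omega

end Main

theorem core_sz {G : Type*} [Group G] [Finite G] (h : Cfsg.Lie.IsoSuzuki G) : Core G := by
  obtain ⟨F, _, _, m, hm, hF, ⟨e⟩⟩ := h
  exact Core.of_equiv e (core hm hF)

end Cfsg.Agent.H521.AASz
end

-- part: H422/OwnLThree
section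
/-!
# `PSL₃(3)`: no automorphism of order 3 all of whose products of conjugates are 3-elements (S3833)
-/

set_option autoImplicit false

namespace Cfsg.Agent.H422.OwnLThree

open Subgroup Cfsg Cfsg.Agent.H460.AA Matrix Cfsg.Agent.H422.OwnMat

abbrev M3 := Matrix (Fin 3) (Fin 3) (ZMod 3)
abbrev S3 := Matrix.SpecialLinearGroup (Fin 3) (ZMod 3)
abbrev L3 := Matrix.ProjectiveSpecialLinearGroup (Fin 3) (ZMod 3)
abbrev T := ZMod 3 × ZMod 3 × ZMod 3

instance : Fact (Nat.Prime 3) := ⟨Nat.prime_three⟩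

def mat : S3 →* M3 where
  toFun g := g.1
  map_one' := rfl
  map_mul' _ _ := rfl

def cube (M : M3) : M3 := M * M * M

theorem pow_nine_eq (M : M3) : M ^ 9 = cube (cube M) := by
  unfold cube
  rw [← pow_three', ← pow_three', ← pow_mul]

def fm (t : T) : M3 := !![1, t.1, t.2.1; 0, 1, t.2.2; 0, 0, 1]

theorem fm_det : ∀ t : T, (fm t).det = 1 := by (delta Cfsg.Agent.H422.OwnLThree.fm; set_option synthInstance.maxSize 20000 in open scoped Cfsg.Agent.Lib.MatDec in decide +kernel)

theorem fm_mul : ∀ s t : T, fm s * fm t = fm (s.1 + t.1, t.2.1 + s.1 * t.2.2 + s.2.1, s.2.2 + t.2.2) := by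
  intro s t
  rw [fm, fm, fm, Matrix.mul_fin_three]
  simp only [mul_one, one_mul, mul_zero, zero_mul, add_zero, zero_add, add_comm t.1, add_comm t.2.2]

theorem fm_inj : Function.Injective fm := by
  intro s t h
  have h1 : s.1 = t.1 := congrFun (congrFun h 0) 1
  have h2 : s.2.1 = t.2.1 := congrFun (congrFun h 0) 2
  have h3 : s.2.2 = t.2.2 := congrFun (congrFun h 1) 2
  exact Prod.ext h1 (Prod.ext h2 h3)

def A1 : M3 := !![0, 0, 1; 0, 1, 0; 2, 0, 0]
def A1' : M3 := !![0, 0, 2; 0, 1, 0; 1, 0, 0]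
def A2 : M3 := !![0, 1, 0; 1, 0, 0; 1, 1, 2]

def f (t : T) : S3 := ⟨fm t, fm_det t⟩
def g1 : S3 := ⟨A1, by decide +kernel⟩
def g1' : S3 := ⟨A1', by decide +kernel⟩
def g2 : S3 := ⟨A2, by decide +kernel⟩

theorem g1_inv : A1 * A1' = 1 := by decide +kernel
theorem g2_inv : A2 * A2 = 1 := by decide +kernel

private noncomputable def _root_.Cfsg.Agent.LsF.fdcece5_1 : {f // @Cfsg.Agent.H422.OwnLThree.cube = f} := ⟨_, by first | (delta Cfsg.Agent.H422.OwnLThree.cube; rewrite [Cfsg.Agent.LsF.mmulF_pat, Cfsg.Agent.LsF.zadd_pat, Cfsg.Agent.LsF.zmul_pat, Cfsg.Agent.LsF.zACM_pat]; exact rfl) | exact rfl⟩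
private noncomputable def _root_.Cfsg.Agent.LsF.fdcece5_0 : {f // @Cfsg.Agent.H422.OwnLThree.fm = f} := ⟨_, by first | (delta Cfsg.Agent.H422.OwnLThree.fm; rewrite [Cfsg.Agent.LsF.mof_pat, Cfsg.Agent.LsF.vecCons_eq]; exact rfl) | exact rfl⟩
private noncomputable def _root_.Cfsg.Agent.LsF.fdcece5_2 : {f // @Cfsg.Agent.H422.OwnLThree.A1 = f} := ⟨_, by first | (delta Cfsg.Agent.H422.OwnLThree.A1; rewrite [Cfsg.Agent.LsF.mof_pat, Cfsg.Agent.LsF.vecCons_eq]; exact rfl) | exact rfl⟩
private noncomputable def _root_.Cfsg.Agent.LsF.fdcece5_3 : {f // @Cfsg.Agent.H422.OwnLThree.A1' = f} := ⟨_, by first | (delta Cfsg.Agent.H422.OwnLThree.A1'; rewrite [Cfsg.Agent.LsF.mof_pat, Cfsg.Agent.LsF.vecCons_eq]; exact rfl) | exact rfl⟩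
private noncomputable def _root_.Cfsg.Agent.LsF.fdcece5_4 : {f // @Cfsg.Agent.H422.OwnLThree.A2 = f} := ⟨_, by first | (delta Cfsg.Agent.H422.OwnLThree.A2; rewrite [Cfsg.Agent.LsF.mof_pat, Cfsg.Agent.LsF.vecCons_eq]; exact rfl) | exact rfl⟩
theorem chk : ∀ t : T, t ≠ 0 → (∀ r : ZMod 3, cube (cube (fm t * (A1 * fm t * A1'))) ≠ r • (1 : M3)) ∨
    (∀ r : ZMod 3, cube (cube (fm t * (A2 * fm t * A2))) ≠ r • (1 : M3)) := by
  (refine of_decide_eq_true ?_; (try (rewrite [Cfsg.Agent.LsF.mmulF_pat, Cfsg.Agent.LsF.msmul_pat, Cfsg.Agent.LsF.fdcece5_1.2, Cfsg.Agent.LsF.fdcece5_0.2, Cfsg.Agent.LsF.fdcece5_2.2, Cfsg.Agent.LsF.fdcece5_3.2, Cfsg.Agent.LsF.fdcece5_4.2, Cfsg.Agent.LsF.zadd_pat, Cfsg.Agent.LsF.zmul_pat, Cfsg.Agent.LsF.zdecEq_eq, Cfsg.Agent.LsF.dProdEq_eq, Cfsg.Agent.LsF.finFintype_eq, Cfsg.Agent.LsF.zFintype_eq, Cfsg.Agent.LsF.prodFintype_eq, Cfsg.Agent.LsF.dForall_eq, Cfsg.Agent.LsF.dMat_eq, Cfsg.Agent.LsF.instMOne_eq, Cfsg.Agent.LsF.zACM_pat, Cfsg.Agent.LsF.dOr_eq,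 Cfsg.Agent.LsF.dNot_eq, Cfsg.Agent.LsF.dFinEq_eq, Cfsg.Agent.LsF.dAllP_eq, Cfsg.Agent.LsF.decide_eq])); decide +kernel)

theorem g1_inv' : g1⁻¹ = g1' := by
  rw [inv_eq_iff_mul_eq_one]
  exact Subtype.ext g1_inv

theorem g2_inv' : g2⁻¹ = g2 := by
  rw [inv_eq_iff_mul_eq_one]
  exact Subtype.ext g2_inv

theorem card_S3 : Nat.card S3 = 3 ^ 3 * 208 := by
  have h1 := Cfsg.Agent.S0242.result (F := ZMod 3) (q := 3) (ZMod.card 3) 3 (by norm_num)
  rw [Fin.prod_univ_three] at h1
  have h2 : (3 - 1) * Nat.card S3 = 11232 := h1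
  omega

theorem simple_L3 : IsSimpleGroup L3 := Cfsg.Agent.S0249.result 3 le_rfl

theorem cube_root : ∀ r : ZMod 3, r ^ 3 = 1 → r = 1 := by decide +kernel

theorem center_scalar {z : S3} (hz : z ∈ center S3) : mat z = 1 := by
  rw [Matrix.SpecialLinearGroup.mem_center_iff] at hz
  obtain ⟨r, hr, hz⟩ := hz
  have h1 : r = 1 := cube_root r hr
  rw [h1, map_one] at hz
  exact hz.symm

theorem non_comm : ¬ IsMulCommutative L3 := by
  intro h
  have h1 : ∀ a b : S3, a * b * a⁻¹ * b⁻¹ ∈ center S3 := fun a b => by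
    rw [← QuotientGroup.eq_one_iff]
    have h2 := h.is_comm.comm (a : L3) (b : L3)
    simp only [QuotientGroup.mk_mul, QuotientGroup.mk_inv]
    rw [h2]
    group
  have h2 := center_scalar (h1 g1 g2)
  rw [g1_inv', g2_inv'] at h2
  have h3 : A1 * A2 * A1' * A2 = 1 := h2
  revert h3
  decide +kernel

theorem elt (a : L3) (ha : orderOf a = 3) (hP : ∀ g, PE 3 (a * (g * a * g⁻¹))) : False := by
  refine false_of_check (G := S3) (ι := Fin 3) (F := ZMod 3) mat (by decide) ?_ ?_ f ?_ 0 ?_ ?_ (n := 3) (m := 208) ?_ card_S3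
    (by norm_num) ?_ a ha hP
  · intro z hz
    apply Subtype.ext
    have h1 : z = 1 := Subtype.ext (center_scalar hz)
    rw [h1, one_pow]
  · exact fun z hz => ⟨1, by rw [center_scalar hz, one_smul]⟩
  · exact fun s t h => fm_inj (congrArg Subtype.val h)
  · apply Subtype.ext
    change fm 0 = 1
    decide +kernel
  · exact fun s t => ⟨_, Subtype.ext (fm_mul s t)⟩
  · rw [Nat.card_eq_fintype_card]; decide +kernel
  · intro t ht
    rcases chk t ht with h | h
    · refine ⟨g1, fun r => ?_⟩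
      rw [pow_nine_eq, g1_inv']
      exact h r
    · refine ⟨g2, fun r => ?_⟩
      rw [pow_nine_eq, g2_inv']
      exact h r

theorem own3_psl33 (x : MulAut L3) (hx : orderOf x = 3) (hP : PA 3 x) : False := by
  have h1 := Cfsg.Agent.S0813.result (F := ZMod 3) 3 1 le_rfl (by rw [ZMod.card]; norm_num) 3 (by norm_num) (by norm_num)
  have h2 : Nat.card (Matrix.ProjGenLinGroup (Fin 3) (ZMod 3)) = Nat.card L3 := by
    have h3 : center S3 = ⊥ := by
      rw [eq_bot_iff]
      exact fun z hz => Subtype.ext (center_scalar hz)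
    have h4 := Subgroup.card_eq_card_quotient_mul_card_subgroup (center S3)
    rw [h3, Subgroup.card_bot, mul_one, ← h3] at h4
    rw [Cfsg.Agent.S0265.result 3]
    exact h4
  refine false_of_inner simple_L3 non_comm (o := 2) ?_ (by norm_num) elt x hx hP
  rw [h1, h2, if_neg (by norm_num)]

end Cfsg.Agent.H422.OwnLThree
end

-- part: H422/OwnSpFour
section
/-!
# `PSp₄(3)`: no automorphism of order 3 all of whose products of conjugates are 3-elements (S3833)
-/

set_option autoImplicit false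

namespace Cfsg.Agent.H422.OwnSpFour

open Subgroup Cfsg Cfsg.Agent.H460.AA Matrix Cfsg.Agent.H422.OwnMat

abbrev M4 := Matrix (Fin 2 ⊕ Fin 2) (Fin 2 ⊕ Fin 2) (ZMod 3)
abbrev S4 := Matrix.symplecticGroup (Fin 2) (ZMod 3)
abbrev P4 := Cfsg.PSp 2 (ZMod 3)
abbrev V := ZMod 3 × ZMod 3 × ZMod 3

instance : Fact (Nat.Prime 3) := ⟨Nat.prime_three⟩

def mat : S4 →* M4 := (Matrix.symplecticGroup (Fin 2) (ZMod 3)).subtype

def cube (M : M4) : M4 := M * M * M

theorem pow_nine_eq (M : M4) : M ^ 9 = cube (cube M) := by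
  unfold cube
  rw [← pow_three', ← pow_three', ← pow_mul]

def nm (v : V) : M4 := fromBlocks 1 !![v.1, v.2.1; v.2.1, v.2.2] 0 1
def hm (w : ZMod 3) : M4 := fromBlocks !![1, w; 0, 1] 0 0 !![1, 0; -w, 1]

private noncomputable def _root_.Cfsg.Agent.LsF.fdcece5_5 : {f // @Cfsg.Agent.H422.OwnSpFour.nm = f} := ⟨_, by first | (delta Cfsg.Agent.H422.OwnSpFour.nm; rewrite [Cfsg.Agent.LsF.mof_pat, Cfsg.Agent.LsF.vecCons_eq, Cfsg.Agent.LsF.instMOne_eq, Cfsg.Agent.LsF.dFinEq_eq]; exact rfl) | exact rfl⟩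
theorem nm_mem : ∀ v : V, nm v * J (Fin 2) (ZMod 3) * (nm v)ᵀ = J (Fin 2) (ZMod 3) := by (refine of_decide_eq_true ?_; (try (rewrite [Cfsg.Agent.LsF.fdcece5_5.2, Cfsg.Agent.LsF.zdecEq_eq, Cfsg.Agent.LsF.finFintype_eq, Cfsg.Agent.LsF.zFintype_eq, Cfsg.Agent.LsF.prodFintype_eq, Cfsg.Agent.LsF.dForall_eq, Cfsg.Agent.LsF.dMat_eq, Cfsg.Agent.LsF.instMHMul_eq, Cfsg.Agent.LsF.transpose_eq, Cfsg.Agent.LsF.instZMul_pat, Cfsg.Agent.LsF.zACM_pat, Cfsg.Agent.LsF.dFinEq_eq, Cfsg.Agent.LsF.decide_eq])); decide +kernel)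
theorem hm_mem : ∀ v : ZMod 3, hm v * J (Fin 2) (ZMod 3) * (hm v)ᵀ = J (Fin 2) (ZMod 3) := by (delta Cfsg.Agent.H422.OwnSpFour.hm; set_option synthInstance.maxSize 20000 in open scoped Cfsg.Agent.Lib.MatDec in decide +kernel)
theorem nm_mul : ∀ v w : V, nm v * nm w = nm (v + w) := by
  intro v w
  rw [nm, nm, nm, fromBlocks_multiply]
  simp only [Matrix.mul_one, Matrix.one_mul, Matrix.mul_zero, Matrix.zero_mul, add_zero, zero_add]
  congr 1
  ext i j
  fin_cases i <;> fin_cases j <;> exact add_comm _ _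
theorem hm_mul : ∀ v w : ZMod 3, hm v * hm w = hm (v + w) := by (delta Cfsg.Agent.H422.OwnSpFour.hm; set_option synthInstance.maxSize 20000 in open scoped Cfsg.Agent.Lib.MatDec in decide +kernel)

def act (w : ZMod 3) (v : V) : V := (v.1 + 2 * w * v.2.1 + w * w * v.2.2, v.2.1 + w * v.2.2, v.2.2)

theorem nm_hm (v : V) (w : ZMod 3) : nm v * hm w = fromBlocks !![1, w; 0, 1]
    !![v.1 * 1 + v.2.1 * -w, v.1 * 0 + v.2.1 * 1; v.2.1 * 1 + v.2.2 * -w, v.2.1 * 0 + v.2.2 * 1] 0 !![1, 0; -w, 1] := by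
  rw [nm, hm, fromBlocks_multiply, Matrix.mul_fin_two]
  simp only [Matrix.mul_one, Matrix.one_mul, Matrix.mul_zero, Matrix.zero_mul, add_zero, zero_add]

theorem act_conj : ∀ (w : ZMod 3) (v : V), hm w * nm v = nm (act w v) * hm w := by
  intro w v
  rw [nm_hm, nm, hm, fromBlocks_multiply, Matrix.mul_fin_two]
  simp only [Matrix.mul_one, Matrix.one_mul, Matrix.mul_zero, Matrix.zero_mul, add_zero, zero_add, act]
  congr 4 <;> ring

theorem f_inj : ∀ s t : V × ZMod 3, nm s.1 * hm s.2 = nm t.1 * hm t.2 → s = t := by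
  intro s t h
  rw [nm_hm, nm_hm] at h
  have h1 : s.2 = t.2 := congrFun (congrFun h (.inl 0)) (.inl 1)
  have h2 : s.1.1 * 1 + s.1.2.1 * -s.2 = t.1.1 * 1 + t.1.2.1 * -t.2 := congrFun (congrFun h (.inl 0)) (.inr 0)
  have h3 : s.1.1 * 0 + s.1.2.1 * 1 = t.1.1 * 0 + t.1.2.1 * 1 := congrFun (congrFun h (.inl 0)) (.inr 1)
  have h4 : s.1.2.1 * 0 + s.1.2.2 * 1 = t.1.2.1 * 0 + t.1.2.2 * 1 := congrFun (congrFun h (.inl 1)) (.inr 1)
  rw [mul_zero, mul_zero, zero_add, zero_add, mul_one, mul_one] at h3 h4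
  rw [h1, h3, mul_one, mul_one] at h2
  exact Prod.ext (Prod.ext (add_right_cancel h2) (Prod.ext h3 h4)) h1

def A1 : M4 := fromBlocks !![0, 0; 0, 2] !![1, 0; 0, 0] !![2, 0; 0, 0] !![0, 0; 0, 2]
def A1' : M4 := fromBlocks !![0, 0; 0, 2] !![2, 0; 0, 0] !![1, 0; 0, 0] !![0, 0; 0, 2]
def A2 : M4 := fromBlocks !![0, 1; 1, 0] !![0, 0; 0, 0] !![1, 0; 0, 1] !![0, 1; 1, 0]
def A2' : M4 := fromBlocks !![0, 1; 1, 0] !![0, 0; 0, 0] !![2, 0; 0, 2] !![0, 1; 1, 0]
def A3 : M4 := fromBlocks !![0, 0; 0, 0] !![0, 2; 1, 0] !![0, 1; 2, 0] !![0, 0; 0, 0]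

def N (v : V) : S4 := ⟨nm v, nm_mem v⟩
def H (v : ZMod 3) : S4 := ⟨hm v, hm_mem v⟩
def g1 : S4 := ⟨A1, by change A1 * J (Fin 2) (ZMod 3) * A1ᵀ = _; (set_option synthInstance.maxSize 20000 in open scoped Cfsg.Agent.Lib.MatDec in decide +kernel)⟩
def g1' : S4 := ⟨A1', by change A1' * J (Fin 2) (ZMod 3) * A1'ᵀ = _; (set_option synthInstance.maxSize 20000 in open scoped Cfsg.Agent.Lib.MatDec in decide +kernel)⟩
def g2 : S4 := ⟨A2, by change A2 * J (Fin 2) (ZMod 3) * A2ᵀ = _; (set_option synthInstance.maxSize 20000 in open scoped Cfsg.Agent.Lib.MatDec in decide +kernel)⟩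
def g2' : S4 := ⟨A2', by change A2' * J (Fin 2) (ZMod 3) * A2'ᵀ = _; (set_option synthInstance.maxSize 20000 in open scoped Cfsg.Agent.Lib.MatDec in decide +kernel)⟩
def g3 : S4 := ⟨A3, by change A3 * J (Fin 2) (ZMod 3) * A3ᵀ = _; decide +kernel⟩

theorem g1_inv : g1⁻¹ = g1' := by
  have h : A1 * A1' = 1 := by decide +kernel
  rw [inv_eq_iff_mul_eq_one]
  exact Subtype.ext h

theorem g2_inv : g2⁻¹ = g2' := by
  have h : A2 * A2' = 1 := by decide +kernel
  rw [inv_eq_iff_mul_eq_one]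
  exact Subtype.ext h

theorem g3_inv : g3⁻¹ = g3 := by
  have h : A3 * A3 = 1 := by decide +kernel
  rw [inv_eq_iff_mul_eq_one]
  exact Subtype.ext h

def bad (u g g' : M4) : Prop := ∀ r : ZMod 3, cube (cube (u * (g * u * g'))) ≠ r • (1 : M4)

instance (u g g' : M4) : Decidable (bad u g g') := by unfold bad; infer_instance

/-- matrices as tuples of numbers -/
abbrev Q16 := (ℕ × ℕ × ℕ × ℕ) × (ℕ × ℕ × ℕ × ℕ) × (ℕ × ℕ × ℕ × ℕ) × (ℕ × ℕ × ℕ × ℕ)

/-- the matrix of a tuple -/
def Q16.toM (a : Q16) : M4 :=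
  fromBlocks !![(a.1.1 : ZMod 3), a.1.2.1; a.2.1.1, a.2.1.2.1] !![(a.1.2.2.1 : ZMod 3), a.1.2.2.2; a.2.1.2.2.1, a.2.1.2.2.2]
    !![(a.2.2.1.1 : ZMod 3), a.2.2.1.2.1; a.2.2.2.1, a.2.2.2.2.1] !![(a.2.2.1.2.2.1 : ZMod 3), a.2.2.1.2.2.2; a.2.2.2.2.2.1, a.2.2.2.2.2.2]

/-- the product -/
def Q16.mul (a b : Q16) : Q16 :=
  ((Nat.mod (Nat.add (Nat.add (Nat.mul a.1.1 b.1.1) (Nat.mul a.1.2.1 b.2.1.1)) (Nat.add (Nat.mul a.1.2.2.1 b.2.2.1.1) (Nat.mul a.1.2.2.2 b.2.2.2.1))) 3,
    Nat.mod (Nat.add (Nat.add (Nat.mul a.1.1 b.1.2.1) (Nat.mul a.1.2.1 b.2.1.2.1)) (Nat.add (Nat.mul a.1.2.2.1 b.2.2.1.2.1) (Nat.mul a.1.2.2.2 b.2.2.2.2.1))) 3,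
    Nat.mod (Nat.add (Nat.add (Nat.mul a.1.1 b.1.2.2.1) (Nat.mul a.1.2.1 b.2.1.2.2.1)) (Nat.add (Nat.mul a.1.2.2.1 b.2.2.1.2.2.1) (Nat.mul a.1.2.2.2 b.2.2.2.2.2.1))) 3,
    Nat.mod (Nat.add (Nat.add (Nat.mul a.1.1 b.1.2.2.2) (Nat.mul a.1.2.1 b.2.1.2.2.2)) (Nat.add (Nat.mul a.1.2.2.1 b.2.2.1.2.2.2) (Nat.mul a.1.2.2.2 b.2.2.2.2.2.2))) 3), (
    Nat.mod (Nat.add (Nat.add (Nat.mul a.2.1.1 b.1.1) (Nat.mul a.2.1.2.1 b.2.1.1)) (Nat.add (Nat.mul a.2.1.2.2.1 b.2.2.1.1) (Nat.mul a.2.1.2.2.2 b.2.2.2.1))) 3,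
    Nat.mod (Nat.add (Nat.add (Nat.mul a.2.1.1 b.1.2.1) (Nat.mul a.2.1.2.1 b.2.1.2.1)) (Nat.add (Nat.mul a.2.1.2.2.1 b.2.2.1.2.1) (Nat.mul a.2.1.2.2.2 b.2.2.2.2.1))) 3,
    Nat.mod (Nat.add (Nat.add (Nat.mul a.2.1.1 b.1.2.2.1) (Nat.mul a.2.1.2.1 b.2.1.2.2.1)) (Nat.add (Nat.mul a.2.1.2.2.1 b.2.2.1.2.2.1) (Nat.mul a.2.1.2.2.2 b.2.2.2.2.2.1))) 3,
    Nat.mod (Nat.add (Nat.add (Nat.mul a.2.1.1 b.1.2.2.2) (Nat.mul a.2.1.2.1 b.2.1.2.2.2)) (Nat.add (Nat.mul a.2.1.2.2.1 b.2.2.1.2.2.2) (Nat.mul a.2.1.2.2.2 b.2.2.2.2.2.2))) 3), (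
    Nat.mod (Nat.add (Nat.add (Nat.mul a.2.2.1.1 b.1.1) (Nat.mul a.2.2.1.2.1 b.2.1.1)) (Nat.add (Nat.mul a.2.2.1.2.2.1 b.2.2.1.1) (Nat.mul a.2.2.1.2.2.2 b.2.2.2.1))) 3,
    Nat.mod (Nat.add (Nat.add (Nat.mul a.2.2.1.1 b.1.2.1) (Nat.mul a.2.2.1.2.1 b.2.1.2.1)) (Nat.add (Nat.mul a.2.2.1.2.2.1 b.2.2.1.2.1) (Nat.mul a.2.2.1.2.2.2 b.2.2.2.2.1))) 3,
    Nat.mod (Nat.add (Nat.add (Nat.mul a.2.2.1.1 b.1.2.2.1) (Nat.mul a.2.2.1.2.1 b.2.1.2.2.1)) (Nat.add (Nat.mul a.2.2.1.2.2.1 b.2.2.1.2.2.1) (Nat.mul a.2.2.1.2.2.2 b.2.2.2.2.2.1))) 3,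
    Nat.mod (Nat.add (Nat.add (Nat.mul a.2.2.1.1 b.1.2.2.2) (Nat.mul a.2.2.1.2.1 b.2.1.2.2.2)) (Nat.add (Nat.mul a.2.2.1.2.2.1 b.2.2.1.2.2.2) (Nat.mul a.2.2.1.2.2.2 b.2.2.2.2.2.2))) 3), (
    Nat.mod (Nat.add (Nat.add (Nat.mul a.2.2.2.1 b.1.1) (Nat.mul a.2.2.2.2.1 b.2.1.1)) (Nat.add (Nat.mul a.2.2.2.2.2.1 b.2.2.1.1) (Nat.mul a.2.2.2.2.2.2 b.2.2.2.1))) 3,
    Nat.mod (Nat.add (Nat.add (Nat.mul a.2.2.2.1 b.1.2.1) (Nat.mul a.2.2.2.2.1 b.2.1.2.1)) (Nat.add (Nat.mul a.2.2.2.2.2.1 b.2.2.1.2.1) (Nat.mul a.2.2.2.2.2.2 b.2.2.2.2.1))) 3,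
    Nat.mod (Nat.add (Nat.add (Nat.mul a.2.2.2.1 b.1.2.2.1) (Nat.mul a.2.2.2.2.1 b.2.1.2.2.1)) (Nat.add (Nat.mul a.2.2.2.2.2.1 b.2.2.1.2.2.1) (Nat.mul a.2.2.2.2.2.2 b.2.2.2.2.2.1))) 3,
    Nat.mod (Nat.add (Nat.add (Nat.mul a.2.2.2.1 b.1.2.2.2) (Nat.mul a.2.2.2.2.1 b.2.1.2.2.2)) (Nat.add (Nat.mul a.2.2.2.2.2.1 b.2.2.1.2.2.2) (Nat.mul a.2.2.2.2.2.2 b.2.2.2.2.2.2))) 3))

theorem cast4 (a b c d e f g h : ℕ) :
    ((Nat.mod (Nat.add (Nat.add (Nat.mul a b) (Nat.mul c d)) (Nat.add (Nat.mul e f) (Nat.mul g h))) 3 : ℕ) : ZMod 3) =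
      (a : ZMod 3) * b + c * d + (e * f + g * h) := by
  show (((a * b + c * d + (e * f + g * h)) % 3 : ℕ) : ZMod 3) = _
  rw [ZMod.natCast_mod, Nat.cast_add, Nat.cast_add, Nat.cast_add, Nat.cast_mul, Nat.cast_mul, Nat.cast_mul, Nat.cast_mul]

theorem Q16.toM_mul (a b : Q16) : Q16.toM (Q16.mul a b) = Q16.toM a * Q16.toM b := by
  apply Matrix.ext
  intro i j
  rw [Matrix.mul_apply, Fintype.sum_sum_type, Fin.sum_univ_two, Fin.sum_univ_two]
  rcases i with i | i <;> rcases j with j | j <;> fin_cases i <;> fin_cases j <;> exact cast4 _ _ _ _ _ _ _ _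

/-- evaluation of a small number -/
noncomputable def f3 (n : ℕ) (k : ℕ → Bool) : Bool :=
  Nat.rec (k 0) (fun m _ => Nat.rec (k 1) (fun m' _ => k (Nat.succ (Nat.succ m'))) m) n

theorem f3_eq (n : ℕ) (k : ℕ → Bool) : f3 n k = k n := by rcases n with _ | _ | n <;> rfl

/-- evaluation of a tuple -/
noncomputable def Q16.frc (a : Q16) (k : Q16 → Bool) : Bool :=
  f3 a.1.1 fun x0 => f3 a.1.2.1 fun x1 => f3 a.1.2.2.1 fun x2 => f3 a.1.2.2.2 fun x3 =>
    f3 a.2.1.1 fun x4 => f3 a.2.1.2.1 fun x5 => f3 a.2.1.2.2.1 fun x6 => f3 a.2.1.2.2.2 fun x7 =>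
    f3 a.2.2.1.1 fun x8 => f3 a.2.2.1.2.1 fun x9 => f3 a.2.2.1.2.2.1 fun x10 => f3 a.2.2.1.2.2.2 fun x11 =>
    f3 a.2.2.2.1 fun x12 => f3 a.2.2.2.2.1 fun x13 => f3 a.2.2.2.2.2.1 fun x14 => f3 a.2.2.2.2.2.2 fun x15 =>
    k ((x0, x1, x2, x3), (x4, x5, x6, x7), (x8, x9, x10, x11), (x12, x13, x14, x15))

theorem Q16.frc_eq (a : Q16) (k : Q16 → Bool) : Q16.frc a k = k a := by simp only [Q16.frc, f3_eq]

/-- the check of `bad` -/
noncomputable def badB (u g g' : Q16) : Bool :=
  Q16.frc (Q16.mul g u) fun x => Q16.frc (Q16.mul x g') fun y => Q16.frc (Q16.mul u y) fun z => Q16.frc (Q16.mul z z) fun z2 => Q16.frc (Q16.mul z2 z) fun c =>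
    Q16.frc (Q16.mul c c) fun c2 => Q16.frc (Q16.mul c2 c) fun d => decide (∀ r : ZMod 3, Q16.toM d ≠ r • (1 : M4))

theorem bad_of {u g g' : Q16} (h : badB u g g' = true) : bad (Q16.toM u) (Q16.toM g) (Q16.toM g') := by
  simp only [badB, Q16.frc_eq] at h
  have h1 := of_decide_eq_true h
  simp only [Q16.toM_mul] at h1
  exact h1

private noncomputable def _root_.Cfsg.Agent.LsF.fdcece5_6 : {f // @Cfsg.Agent.H422.OwnSpFour.Q16.toM = f} := ⟨_, by first | (delta Cfsg.Agent.H422.OwnSpFour.Q16.toM; rewrite [Cfsg.Agent.LsF.mof_pat, Cfsg.Agent.LsF.zcast_pat, Cfsg.Agent.LsF.vecCons_eq]; exact rfl) | exact rfl⟩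
private noncomputable def _root_.Cfsg.Agent.LsF.fdcece5_7 : {f // @Cfsg.Agent.H422.OwnSpFour.badB = f} := ⟨_, by first | (delta Cfsg.Agent.H422.OwnSpFour.badB; rewrite [Cfsg.Agent.LsF.msmul_pat, Cfsg.Agent.LsF.fdcece5_6.2, Cfsg.Agent.LsF.zmul_pat, Cfsg.Agent.LsF.zdecEq_eq, Cfsg.Agent.LsF.finFintype_eq, Cfsg.Agent.LsF.zFintype_eq, Cfsg.Agent.LsF.dForall_eq, Cfsg.Agent.LsF.dMat_eq, Cfsg.Agent.LsF.instMOne_eq, Cfsg.Agent.LsF.dNot_eq, Cfsg.Agent.LsF.dFinEq_eq, Cfsg.Agent.LsF.decide_eq]; exact rfl) | exact rfl⟩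
theorem chkQ : ∀ t : V × ZMod 3, t ≠ 0 →
    (Q16.frc (Q16.mul ((1, 0, t.1.1.val, t.1.2.1.val), (0, 1, t.1.2.1.val, t.1.2.2.val), (0, 0, 1, 0), (0, 0, 0, 1))
      ((1, t.2.val, 0, 0), (0, 1, 0, 0), (0, 0, 1, 0), (0, 0, (-t.2).val, 1))) fun u =>
      badB u ((0, 0, 1, 0), (0, 2, 0, 0), (2, 0, 0, 0), (0, 0, 0, 2)) ((0, 0, 2, 0), (0, 2, 0, 0), (1, 0, 0, 0), (0, 0, 0, 2)) ||
      badB u ((0, 1, 0, 0), (1, 0, 0, 0), (1, 0, 0, 1), (0, 1, 1, 0)) ((0, 1, 0, 0), (1, 0, 0, 0), (2, 0, 0, 1), (0, 2, 1, 0)) ||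
      badB u ((0, 0, 0, 2), (0, 0, 1, 0), (0, 1, 0, 0), (2, 0, 0, 0)) ((0, 0, 0, 2), (0, 0, 1, 0), (0, 1, 0, 0), (2, 0, 0, 0))) = true := by
  (refine of_decide_eq_true ?_; (try (rewrite [Cfsg.Agent.LsF.fdcece5_7.2, Cfsg.Agent.LsF.zneg_pat, Cfsg.Agent.LsF.zdecEq_eq, Cfsg.Agent.LsF.zval_eq, Cfsg.Agent.LsF.dProdEq_eq, Cfsg.Agent.LsF.zFintype_eq, Cfsg.Agent.LsF.prodFintype_eq, Cfsg.Agent.LsF.dForall_eq, Cfsg.Agent.LsF.or_eq, Cfsg.Agent.LsF.dNot_eq, Cfsg.Agent.LsF.dBoolEq_eq, Cfsg.Agent.LsF.dAllP_eq, Cfsg.Agent.LsF.decide_eq])); decide +kernel)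

theorem chk : ∀ t : V × ZMod 3, t ≠ 0 → bad (nm t.1 * hm t.2) A1 A1' ∨ bad (nm t.1 * hm t.2) A2 A2' ∨
    bad (nm t.1 * hm t.2) A3 A3 := by
  intro t ht
  have h := chkQ t ht
  have e1 : ∀ v : V, nm v = Q16.toM ((1, 0, v.1.val, v.2.1.val), (0, 1, v.2.1.val, v.2.2.val), (0, 0, 1, 0), (0, 0, 0, 1)) := by
    (refine of_decide_eq_true ?_; (try (rewrite [Cfsg.Agent.LsF.fdcece5_5.2, Cfsg.Agent.LsF.fdcece5_6.2, Cfsg.Agent.LsF.zdecEq_eq, Cfsg.Agent.LsF.zval_eq, Cfsg.Agent.LsF.finFintype_eq, Cfsg.Agent.LsF.zFintype_eq, Cfsg.Agent.LsF.prodFintype_eq, Cfsg.Agent.LsF.dForall_eq, Cfsg.Agent.LsF.dMat_eq, Cfsg.Agent.LsF.decide_eq])); decide +kernel)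
  have e2 : ∀ w : ZMod 3, hm w = Q16.toM ((1, w.val, 0, 0), (0, 1, 0, 0), (0, 0, 1, 0), (0, 0, (-w).val, 1)) := by
    (set_option synthInstance.maxSize 20000 in open scoped Cfsg.Agent.Lib.MatDec in decide +kernel)
  have e3 : A1 = Q16.toM ((0, 0, 1, 0), (0, 2, 0, 0), (2, 0, 0, 0), (0, 0, 0, 2)) ∧ A1' = Q16.toM ((0, 0, 2, 0), (0, 2, 0, 0), (1, 0, 0, 0), (0, 0, 0, 2)) ∧
      A2 = Q16.toM ((0, 1, 0, 0), (1, 0, 0, 0), (1, 0, 0, 1), (0, 1, 1, 0)) ∧ A2' = Q16.toM ((0, 1, 0, 0), (1, 0, 0, 0), (2, 0, 0, 1), (0, 2, 1, 0)) ∧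
      A3 = Q16.toM ((0, 0, 0, 2), (0, 0, 1, 0), (0, 1, 0, 0), (2, 0, 0, 0)) := by (set_option synthInstance.maxSize 20000 in open scoped Cfsg.Agent.Lib.MatDec in decide +kernel)
  rw [Q16.frc_eq, Bool.or_eq_true, Bool.or_eq_true] at h
  rw [e1, e2, ← Q16.toM_mul, e3.1, e3.2.1, e3.2.2.1, e3.2.2.2.1, e3.2.2.2.2]
  rcases h with (h | h) | h
  · exact Or.inl (bad_of h)
  · exact Or.inr (Or.inl (bad_of h))
  · exact Or.inr (Or.inr (bad_of h))

theorem card_S4 : Nat.card S4 = 3 ^ 4 * 640 := by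
  have h1 := Cfsg.Agent.S0245.result (F := ZMod 3) (q := 3) (ZMod.card 3) 2
  rw [Finset.prod_range_succ, Finset.prod_range_one] at h1
  rw [h1]
  norm_num

theorem simple_P4 : IsSimpleGroup P4 := Cfsg.Agent.S0270.result 2 le_rfl (by rw [ZMod.card]; norm_num)

theorem center_scalar {z : S4} (hz : z ∈ center S4) : ∃ r : ZMod 3, mat z = r • (1 : M4) :=
  (LieClassical.SympCenter.mem_center_iff 2 z).1 hz

theorem non_comm : ¬ IsMulCommutative P4 := by
  intro h
  have h1 : ∀ a b : S4, a * b * a⁻¹ * b⁻¹ ∈ center S4 := fun a b => by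
    rw [← QuotientGroup.eq_one_iff]
    have h2 := h.is_comm.comm (a : P4) (b : P4)
    simp only [QuotientGroup.mk_mul, QuotientGroup.mk_inv]
    rw [h2]
    group
  obtain ⟨r, h2⟩ := center_scalar (h1 g2 g3)
  rw [g2_inv, g3_inv] at h2
  have h3 : A2 * A3 * A2' * A3 = r • (1 : M4) := h2
  revert h3
  generalize r = r'
  revert r'
  decide +kernel

theorem elt (a : P4) (ha : orderOf a = 3) (hP : ∀ g, PE 3 (a * (g * a * g⁻¹))) : False := by
  refine false_of_check (G := S4) (ι := Fin 2 ⊕ Fin 2) (F := ZMod 3) mat (by decide) ?_ (fun z hz => center_scalar hz)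
    (T := V × ZMod 3) (fun t => N t.1 * H t.2) ?_ 0 ?_ ?_ (n := 4) (m := 640) ?_ card_S4
    (by norm_num) ?_ a ha hP
  · intro z hz
    obtain ⟨r, hr⟩ := (LieClassical.SympCenter.mem_center_iff 2 z).1 hz
    have h1 : r * r = 1 := LieClassical.SympCenter.sq_eq_one_of_smul_mem (by norm_num) (hr ▸ z.2)
    apply Subtype.ext
    have h2 : (z ^ 4).1 = z.1 * z.1 * (z.1 * z.1) := by rw [show 4 = 1 + 1 + (1 + 1) from rfl, pow_add, pow_add, pow_one]; rfl
    rw [h2, hr, smul_mul_smul_comm, smul_mul_smul_comm, h1, one_mul, one_smul, one_mul, one_mul]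
    rfl
  · exact fun s t h => f_inj s t (congrArg Subtype.val h)
  · apply Subtype.ext
    change nm 0 * hm 0 = 1
    decide +kernel
  · exact mul_mem_prod N H act (fun v w => Subtype.ext (nm_mul v w)) (fun v w => Subtype.ext (hm_mul v w))
      fun v w => Subtype.ext (act_conj v w)
  · rw [Nat.card_eq_fintype_card]; decide +kernel
  · intro t ht
    rcases chk t ht with h | h | h
    · refine ⟨g1, fun r => ?_⟩
      rw [pow_nine_eq, g1_inv]
      exact h r
    · refine ⟨g2, fun r => ?_⟩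
      rw [pow_nine_eq, g2_inv]
      exact h r
    · refine ⟨g3, fun r => ?_⟩
      rw [pow_nine_eq, g3_inv]
      exact h r

theorem own3_psp43 (x : MulAut P4) (hx : orderOf x = 3) (hP : PA 3 x) : False := by
  have h1 := Cfsg.Agent.S0814.result (F := ZMod 3) 3 1 le_rfl (by rw [ZMod.card]; norm_num) 2 (by norm_num) (by norm_num)
  refine false_of_inner simple_P4 non_comm (o := 2) ?_ (by norm_num) elt x hx hP
  rw [h1, if_neg (by norm_num)]
  norm_num

end Cfsg.Agent.H422.OwnSpFour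
end

-- part: H422/OwnUFour
section
/-!
# `PSU₄(3)`: no automorphism of order 3 all of whose products of conjugates are 3-elements (S3833)
-/

set_option autoImplicit false

namespace Cfsg.Agent.H422.OwnUFour

open Subgroup Cfsg Cfsg.Agent.H460.AA Matrix Cfsg.Agent.H422.OwnMat Cfsg.Agent.ChevalleyStructure.NineField
open Cfsg.Agent.H422.UFour (M4 SU4 U4 cj mk mat mat_mk mat_mul mat_one mat_inj mat_pow)

instance : Fact (Nat.Prime 3) := ⟨Nat.prime_three⟩
instance : CharP F9 3 := by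
  refine (CharP.charP_iff_prime_eq_zero Nat.prime_three).2 ?_
  decide +kernel

abbrev V := ZMod 3 × F9 × ZMod 3

def I9 : F9 := ⟨0, 1⟩

def Pm : M4 := !![1, 0, 0, ⟨2, 0⟩; ⟨1, 1⟩, 0, 0, ⟨1, 1⟩; 0, 1, ⟨2, 0⟩, 0; 0, ⟨1, 1⟩, ⟨1, 1⟩, 0]
def Qm : M4 := !![⟨2, 0⟩, ⟨1, 2⟩, 0, 0; 0, 0, ⟨2, 0⟩, ⟨1, 2⟩; 0, 0, 1, ⟨1, 2⟩; 1, ⟨1, 2⟩, 0, 0]
def Jh : M4 := !![0, 0, 0, 1; 0, 0, 1, 0; 0, 1, 0, 0; 1, 0, 0, 0]

theorem QP : Qm * Pm = 1 := by decide +kernel
theorem PQ : Pm * Qm = 1 := by decide +kernel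
theorem PP : Pmᵀ * Pm.map cj = Jh := by (set_option synthInstance.maxSize 20000 in open scoped Cfsg.Agent.Lib.MatDec Cfsg.Agent.Lib.MatRng in decide +kernel)

def herm (g : M4) : Prop := gᵀ * Jh * g.map cj = Jh

instance (g : M4) : Decidable (herm g) := by unfold herm; infer_instance

def toSU (g : M4) (h : herm g) (hd : g.det = 1) : SU4 := mk (Pm * g * Qm) (by
    have h1 : (Pm * g * Qm)ᵀ * (Pm * g * Qm).map cj =
        Qmᵀ * (gᵀ * (Pmᵀ * Pm.map cj) * g.map cj) * Qm.map cj := by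
      rw [Matrix.map_mul, Matrix.map_mul, transpose_mul, transpose_mul]
      simp only [Matrix.mul_assoc]
    rw [h1, PP, show gᵀ * Jh * g.map cj = Jh from h, ← PP]
    have h2 : Qmᵀ * (Pmᵀ * Pm.map cj) * Qm.map cj = (Pm * Qm)ᵀ * (Pm * Qm).map cj := by
      rw [Matrix.map_mul, transpose_mul]
      simp only [Matrix.mul_assoc]
    rw [h2, PQ, transpose_one, Matrix.map_one cj (map_zero cj) (map_one cj), Matrix.one_mul]) (by
    rw [det_mul, det_mul, hd, mul_one, ← det_mul, PQ, det_one])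

theorem toSU_mul {a b c : M4} (ha : herm a) (ha' : a.det = 1) (hb : herm b) (hb' : b.det = 1) (hc : herm c)
    (hc' : c.det = 1) (h : a * b = c) : toSU a ha ha' * toSU b hb hb' = toSU c hc hc' := by
  apply mat_inj
  rw [mat_mul]
  change Pm * a * Qm * (Pm * b * Qm) = Pm * c * Qm
  rw [← h]
  calc Pm * a * Qm * (Pm * b * Qm) = Pm * a * (Qm * Pm) * b * Qm := by simp only [Matrix.mul_assoc]
    _ = _ := by rw [QP, Matrix.mul_one]; simp only [Matrix.mul_assoc]

/-! ### Upper unitriangular matrices -/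

def um (x12 x13 x14 x23 x24 x34 : F9) : M4 := !![1, x12, x13, x14; 0, 1, x23, x24; 0, 0, 1, x34; 0, 0, 0, 1]

theorem um_mul (x12 x13 x14 x23 x24 x34 y12 y13 y14 y23 y24 y34 : F9) :
    um x12 x13 x14 x23 x24 x34 * um y12 y13 y14 y23 y24 y34 =
      um (x12 + y12) (x13 + x12 * y23 + y13) (x14 + x13 * y34 + x12 * y24 + y14) (x23 + y23)
        (x24 + x23 * y34 + y24) (x34 + y34) := by
  apply Matrix.ext
  intro i j
  fin_cases i <;> fin_cases j <;> simp [um, Matrix.mul_apply, Fin.sum_univ_four] <;> ring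

def ic (a : ZMod 3) : F9 := ⟨0, a⟩

def nm (v : V) : M4 := um 0 v.2.1 (ic v.1) (ic v.2.2) (-cj v.2.1) 0
def hm (w : F9) : M4 := um w 0 0 0 0 (-cj w)
/-- the element with coordinates `(a, b, c), w` -/
def fm (t : V × F9) : M4 :=
  um t.2 t.1.2.1 (ic t.1.1 - cj t.2 * t.1.2.1) (ic t.1.2.2) (-cj t.1.2.1 - cj t.2 * ic t.1.2.2) (-cj t.2)

theorem nm_hm (t : V × F9) : nm t.1 * hm t.2 = fm t := by
  rw [nm, hm, um_mul, fm]
  congr 1 <;> ring

theorem ic_add : ∀ a b, ic a + ic b = ic (a + b) := by decide +kernel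

theorem nm_mul (v w : V) : nm v * nm w = nm (v + w) := by
  rw [nm, nm, um_mul, nm]
  simp only [Prod.fst_add, Prod.snd_add, map_add, ← ic_add]
  congr 1 <;> ring

theorem hm_mul (v w : F9) : hm v * hm w = hm (v + w) := by
  rw [hm, hm, um_mul, hm]
  simp only [map_add]
  congr 1 <;> ring

def imz (x : F9) : ZMod 3 := x.im
def rez (x : F9) : ZMod 3 := x.re

def act (w : F9) (v : V) : V :=
  (v.1 + 2 * imz (cj w * v.2.1) + rez (w * cj w) * v.2.2, v.2.1 + w * ic v.2.2, v.2.2)

private noncomputable def _root_.Cfsg.Agent.LsF.fdcece5_8 : {f // @Cfsg.Agent.ChevalleyStructure.NineField.F9.instSub = f} := ⟨_, by first | (delta Cfsg.Agent.ChevalleyStructure.NineField.F9.instSub; rewrite [Cfsg.Agent.LsF.fsub_pat]; exact rfl) | exact rfl⟩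
private noncomputable def _root_.Cfsg.Agent.LsF.fdcece5_9 : {f // @Cfsg.Agent.ChevalleyStructure.NineField.F9.instMul = f} := ⟨_, by first | (delta Cfsg.Agent.ChevalleyStructure.NineField.F9.instMul; rewrite [Cfsg.Agent.LsF.fadd_pat, Cfsg.Agent.LsF.fmul_pat]; exact rfl) | exact rfl⟩
private noncomputable def _root_.Cfsg.Agent.LsF.fdcece5_10 : {f // @Cfsg.Agent.ChevalleyStructure.NineField.F9.instAdd = f} := ⟨_, by first | (delta Cfsg.Agent.ChevalleyStructure.NineField.F9.instAdd; rewrite [Cfsg.Agent.LsF.fadd_pat]; exact rfl) | exact rfl⟩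
private noncomputable def _root_.Cfsg.Agent.LsF.fdcece5_12 : {f // @Cfsg.Agent.ChevalleyStructure.NineField.F9.decEq = f} := ⟨_, by first | (delta Cfsg.Agent.ChevalleyStructure.NineField.F9.decEq; rewrite [Cfsg.Agent.LsF.dAnd_eq, Cfsg.Agent.LsF.dFinEq_eq, Cfsg.Agent.LsF.dite_eq]; (try delta Cfsg.Agent.ChevalleyStructure.NineField.F9.decEq.match_1); (try delta Cfsg.Agent.ChevalleyStructure.NineField.F9.casesOn); exact rfl) | exact rfl⟩
private noncomputable def _root_.Cfsg.Agent.LsF.fdcece5_13 : {f // @Cfsg.Agent.ChevalleyStructure.NineField.F9.instDecEq = f} := ⟨_, by first | (delta Cfsg.Agent.ChevalleyStructure.NineField.F9.instDecEq; rewrite [Cfsg.Agent.LsF.fdcece5_12.2]; exact rfl) | exact rfl⟩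
theorem act_a : ∀ (w b : F9) (a c : ZMod 3), ic (a + 2 * imz (cj w * b) + rez (w * cj w) * c) - cj w * (b + w * ic c) =
    ic a - w * cj b := by (refine of_decide_eq_true ?_; (try (rewrite [Cfsg.Agent.LsF.fdcece5_8.2, Cfsg.Agent.LsF.fdcece5_9.2, Cfsg.Agent.LsF.fdcece5_10.2, Cfsg.Agent.LsF.fdcece5_13.2, Cfsg.Agent.LsF.zadd_pat, Cfsg.Agent.LsF.zmul_pat, Cfsg.Agent.LsF.zFintype_eq, Cfsg.Agent.LsF.dForall_eq, Cfsg.Agent.LsF.decide_eq])); decide +kernel)

theorem act_b : ∀ (w b : F9) (c : ZMod 3), - cj (b + w * ic c) - cj w * ic c = - cj b := by (set_option synthInstance.maxSize 20000 in open scoped Cfsg.Agent.Lib.MatDec in decide +kernel)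

theorem act_conj (w : F9) (v : V) : hm w * nm v = nm (act w v) * hm w := by
  have h1 := nm_hm (act w v, w)
  rw [h1, hm, nm, um_mul, fm]
  have h2 := act_a w v.2.1 v.1 v.2.2
  have h3 := act_b w v.2.1 v.2.2
  dsimp only [act]
  rw [h2, h3]
  congr 1 <;> ring

theorem herm_mul {a b : M4} (ha : herm a) (hb : herm b) : herm (a * b) := by
  have h : (a * b)ᵀ * Jh * (a * b).map cj = bᵀ * (aᵀ * Jh * a.map cj) * b.map cj := by
    rw [Matrix.map_mul, transpose_mul]
    simp only [Matrix.mul_assoc]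
  show _ = _
  rw [h, show aᵀ * Jh * a.map cj = Jh from ha]
  exact hb

private noncomputable def _root_.Cfsg.Agent.LsF.fdcece5_14 : {f // @Cfsg.Agent.H422.OwnUFour.um = f} := ⟨_, by first | (delta Cfsg.Agent.H422.OwnUFour.um; rewrite [Cfsg.Agent.LsF.mof_pat, Cfsg.Agent.LsF.vecCons_eq]; exact rfl) | exact rfl⟩
private noncomputable def _root_.Cfsg.Agent.LsF.fdcece5_15 : {f // @Cfsg.Agent.H422.OwnUFour.nm = f} := ⟨_, by first | (delta Cfsg.Agent.H422.OwnUFour.nm; rewrite [Cfsg.Agent.LsF.fdcece5_14.2]; exact rfl) | exact rfl⟩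
private noncomputable def _root_.Cfsg.Agent.LsF.fdcece5_16 : {f // @Cfsg.Agent.H422.OwnUFour.Jh = f} := ⟨_, by first | (delta Cfsg.Agent.H422.OwnUFour.Jh; rewrite [Cfsg.Agent.LsF.mof_pat, Cfsg.Agent.LsF.vecCons_eq]; exact rfl) | exact rfl⟩
theorem nm_herm : ∀ v : V, herm (nm v) := by
  intro v
  have h1 : ∀ a : ZMod 3, herm (nm (a, 0, 0)) := by (refine of_decide_eq_true ?_; (try (delta Cfsg.Agent.H422.OwnUFour.herm Cfsg.Agent.H422.OwnUFour.instDecidableHerm; rewrite [Cfsg.Agent.LsF.mmulF_pat, Cfsg.Agent.LsF.fdcece5_9.2, Cfsg.Agent.LsF.fdcece5_15.2, Cfsg.Agent.LsF.fdcece5_16.2, Cfsg.Agent.LsF.fdcece5_13.2, Cfsg.Agent.LsF.finFintype_eq, Cfsg.Agent.LsF.zFintype_eq, Cfsg.Agent.LsF.dForall_eq, Cfsg.Agent.LsF.dMat_eq, Cfsg.Agent.LsF.transpose_eq, Cfsg.Agent.LsF.mmap_eq, Cfsg.Agent.LsF.decide_eq])); decide +kernel)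
  have h2 : ∀ b : F9, herm (nm (0, b, 0)) := by (refine of_decide_eq_true ?_; (try (delta Cfsg.Agent.H422.OwnUFour.herm Cfsg.Agent.H422.OwnUFour.instDecidableHerm; rewrite [Cfsg.Agent.LsF.mmulF_pat, Cfsg.Agent.LsF.fdcece5_9.2, Cfsg.Agent.LsF.fdcece5_15.2, Cfsg.Agent.LsF.fdcece5_16.2, Cfsg.Agent.LsF.fdcece5_13.2, Cfsg.Agent.LsF.finFintype_eq, Cfsg.Agent.LsF.dForall_eq, Cfsg.Agent.LsF.dMat_eq, Cfsg.Agent.LsF.transpose_eq, Cfsg.Agent.LsF.mmap_eq, Cfsg.Agent.LsF.decide_eq])); decide +kernel)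
  have h3 : ∀ c : ZMod 3, herm (nm (0, 0, c)) := by (refine of_decide_eq_true ?_; (try (delta Cfsg.Agent.H422.OwnUFour.herm Cfsg.Agent.H422.OwnUFour.instDecidableHerm; rewrite [Cfsg.Agent.LsF.mmulF_pat, Cfsg.Agent.LsF.fdcece5_9.2, Cfsg.Agent.LsF.fdcece5_15.2, Cfsg.Agent.LsF.fdcece5_16.2, Cfsg.Agent.LsF.fdcece5_13.2, Cfsg.Agent.LsF.finFintype_eq, Cfsg.Agent.LsF.zFintype_eq, Cfsg.Agent.LsF.dForall_eq, Cfsg.Agent.LsF.dMat_eq, Cfsg.Agent.LsF.transpose_eq, Cfsg.Agent.LsF.mmap_eq, Cfsg.Agent.LsF.decide_eq])); decide +kernel)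
  have h := herm_mul (herm_mul (h1 v.1) (h2 v.2.1)) (h3 v.2.2)
  rw [nm_mul, nm_mul] at h
  simpa only [Prod.mk_add_mk, add_zero, zero_add] using h

private noncomputable def _root_.Cfsg.Agent.LsF.fdcece5_17 : {f // @Cfsg.Agent.H422.OwnUFour.hm = f} := ⟨_, by first | (delta Cfsg.Agent.H422.OwnUFour.hm; rewrite [Cfsg.Agent.LsF.fdcece5_14.2]; exact rfl) | exact rfl⟩
theorem hm_herm : ∀ w : F9, herm (hm w) := by (refine of_decide_eq_true ?_; (try (delta Cfsg.Agent.H422.OwnUFour.herm Cfsg.Agent.H422.OwnUFour.instDecidableHerm; rewrite [Cfsg.Agent.LsF.mmulF_pat, Cfsg.Agent.LsF.fdcece5_9.2, Cfsg.Agent.LsF.fdcece5_17.2, Cfsg.Agent.LsF.fdcece5_16.2, Cfsg.Agent.LsF.fdcece5_13.2, Cfsg.Agent.LsF.finFintype_eq, Cfsg.Agent.LsF.dForall_eq, Cfsg.Agent.LsF.dMat_eq, Cfsg.Agent.LsF.transpose_eq, Cfsg.Agent.LsF.mmap_eq, Cfsg.Agent.LsF.decide_eq])); decide +kernel)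

theorem um_det (x12 x13 x14 x23 x24 x34 : F9) : (um x12 x13 x14 x23 x24 x34).det = 1 := by
  rw [det_of_isUpperTriangular]
  · rw [Fin.prod_univ_four]
    simp [um]
  · intro i j hij
    fin_cases i <;> fin_cases j <;> simp [um] at hij ⊢

def N (v : V) : SU4 := toSU (nm v) (nm_herm v) (um_det _ _ _ _ _ _)
def H (w : F9) : SU4 := toSU (hm w) (hm_herm w) (um_det _ _ _ _ _ _)

theorem ic_inj : ∀ a b, ic a = ic b → a = b := by decide +kernel

theorem fm_inj : Function.Injective fm := by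
  intro s t h
  have h12 : s.2 = t.2 := congrFun (congrFun h 0) 1
  have h13 : s.1.2.1 = t.1.2.1 := congrFun (congrFun h 0) 2
  have h14 : ic s.1.1 - cj s.2 * s.1.2.1 = ic t.1.1 - cj t.2 * t.1.2.1 := congrFun (congrFun h 0) 3
  have h23 : ic s.1.2.2 = ic t.1.2.2 := congrFun (congrFun h 1) 2
  rw [h12, h13] at h14
  have h1 := ic_inj _ _ (sub_left_injective h14)
  have h2 := ic_inj _ _ h23
  exact Prod.ext (Prod.ext h1 (Prod.ext h13 h2)) h12

/-! ### Products of conjugates -/

def A1 : M4 := !![-1, 0, 0, 0; 0, 0, -I9, 0; 0, -I9, 0, 0; 0, 0, 0, -1]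
def A1' : M4 := !![-1, 0, 0, 0; 0, 0, I9, 0; 0, I9, 0, 0; 0, 0, 0, -1]
def p1 (x23 : F9) : F9 := 2 - 2 * I9 * I9 - I9 * I9 * x23 * x23
def A2 : M4 := !![1, 0, 0, 0; 0, 1, 0, 0; 0, 0, 1, 0; I9, 0, 0, 1]
def A2' : M4 := !![1, 0, 0, 0; 0, 1, 0, 0; 0, 0, 1, 0; -I9, 0, 0, 1]
def p2 (x14 : F9) : F9 := 4 - I9 * I9 * x14 * x14
def A3 : M4 := !![0, 0, -I9, 0; -1, 0, 0, 0; 0, 0, -1, -1; I9, -I9, 0, 0]
def A3' : M4 := !![0, -1, 0, 0; 0, -1, 0, I9; I9, 0, 0, 0; -I9, 0, -1, 0]
def p3 (x12 x13 x14 x23 x24 x34 : F9) : F9 := 2 - 2 * I9 * I9 + x12 + I9 * I9 * x12 - I9 * x12 * x13 + I9 * x12 * x14 - I9 * x12 * x24 + I9 * I9 * x13 * x14 + I9 * x13 * x34 - I9 * I9 * x14 * x14 - I9 * I9 * x14 * x23 + I9 * I9 * x14 * x24 - I9 * x14 * x34 + I9 * x24 * x34 + x34 + I9 * I9 * x34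
def A4 : M4 := !![0, 0, 0, -I9; 0, 0, -I9, 0; 0, -I9, 0, 0; -I9, 0, 0, -1]
def A4' : M4 := !![-1, 0, 0, I9; 0, 0, I9, 0; 0, I9, 0, 0; I9, 0, 0, 0]
def p4 (x12 x13 x14 x23 x24 x34 : F9) : F9 := - 4 * I9 * I9 - 2 * I9 * I9 * x12 * x34 - 2 * I9 * I9 * x13 * x24 - I9 * I9 * x14 * x14 - I9 * I9 * x23 * x23
def A5 : M4 := !![1, 0, 0, 0; 0, 0, I9, 0; 0, I9, 0, 0; -I9, 0, 0, 1]
def A5' : M4 := !![1, 0, 0, 0; 0, 0, -I9, 0; 0, -I9, 0, 0; I9, 0, 0, 1]
def p5 (x12 x13 x14 x23 x24 x34 : F9) : F9 := 2 - 2 * I9 * I9 + 2 * I9 * I9 * x12 * x34 + 2 * I9 * I9 * x13 * x24 - I9 * I9 * x14 * x14 - I9 * I9 * x23 * x23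

theorem tr1 (x12 x13 x14 x23 x24 x34 : F9) :
    trace (um x12 x13 x14 x23 x24 x34 * (A1 * um x12 x13 x14 x23 x24 x34 * A1')) = p1 x23 := by
  simp [um, A1, A1', p1, Matrix.trace, Fin.sum_univ_four]
  ring

theorem tr2 (x12 x13 x14 x23 x24 x34 : F9) :
    trace (um x12 x13 x14 x23 x24 x34 * (A2 * um x12 x13 x14 x23 x24 x34 * A2')) = p2 x14 := by
  simp [um, A2, A2', p2, Matrix.trace, Fin.sum_univ_four]
  ring

theorem tr3 (x12 x13 x14 x23 x24 x34 : F9) :
    trace (um x12 x13 x14 x23 x24 x34 * (A3 * um x12 x13 x14 x23 x24 x34 * A3')) = p3 x12 x13 x14 x23 x24 x34 := by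
  simp [um, A3, A3', p3, Matrix.trace, Fin.sum_univ_four]
  ring

theorem tr4 (x12 x13 x14 x23 x24 x34 : F9) :
    trace (um x12 x13 x14 x23 x24 x34 * (A4 * um x12 x13 x14 x23 x24 x34 * A4')) = p4 x12 x13 x14 x23 x24 x34 := by
  simp [um, A4, A4', p4, Matrix.trace, Fin.sum_univ_four]
  ring

theorem tr5 (x12 x13 x14 x23 x24 x34 : F9) :
    trace (um x12 x13 x14 x23 x24 x34 * (A5 * um x12 x13 x14 x23 x24 x34 * A5')) = p5 x12 x13 x14 x23 x24 x34 := by
  simp [um, A5, A5', p5, Matrix.trace, Fin.sum_univ_four]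
  ring

def pp (p : F9 → F9 → F9 → F9 → F9 → F9 → F9) (t : V × F9) : F9 :=
  p t.2 t.1.2.1 (ic t.1.1 - cj t.2 * t.1.2.1) (ic t.1.2.2) (-cj t.1.2.1 - cj t.2 * ic t.1.2.2) (-cj t.2)

def pw4 (x : F9) : F9 := (x * x) * (x * x)

private noncomputable def _root_.Cfsg.Agent.LsF.fdcece5_18 : {f // @Cfsg.Agent.H422.OwnUFour.pw4 = f} := ⟨_, by first | (delta Cfsg.Agent.H422.OwnUFour.pw4; rewrite [Cfsg.Agent.LsF.fdcece5_9.2]; exact rfl) | exact rfl⟩
private noncomputable def _root_.Cfsg.Agent.LsF.fdcece5_19 : {f // @Cfsg.Agent.H422.OwnUFour.pp = f} := ⟨_, by first | (delta Cfsg.Agent.H422.OwnUFour.pp; rewrite [Cfsg.Agent.LsF.fdcece5_8.2, Cfsg.Agent.LsF.fdcece5_9.2]; exact rfl) | exact rfl⟩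
private noncomputable def _root_.Cfsg.Agent.LsF.fdcece5_20 : {f // @Cfsg.Agent.H422.OwnUFour.p1 = f} := ⟨_, by first | (delta Cfsg.Agent.H422.OwnUFour.p1; rewrite [Cfsg.Agent.LsF.fdcece5_8.2, Cfsg.Agent.LsF.fdcece5_9.2]; exact rfl) | exact rfl⟩
private noncomputable def _root_.Cfsg.Agent.LsF.fdcece5_21 : {f // @Cfsg.Agent.H422.OwnUFour.p2 = f} := ⟨_, by first | (delta Cfsg.Agent.H422.OwnUFour.p2; rewrite [Cfsg.Agent.LsF.fdcece5_8.2, Cfsg.Agent.LsF.fdcece5_9.2]; exact rfl) | exact rfl⟩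
private noncomputable def _root_.Cfsg.Agent.LsF.fdcece5_22 : {f // @Cfsg.Agent.H422.OwnUFour.p3 = f} := ⟨_, by first | (delta Cfsg.Agent.H422.OwnUFour.p3; rewrite [Cfsg.Agent.LsF.fdcece5_10.2, Cfsg.Agent.LsF.fdcece5_8.2, Cfsg.Agent.LsF.fdcece5_9.2]; exact rfl) | exact rfl⟩
private noncomputable def _root_.Cfsg.Agent.LsF.fdcece5_23 : {f // @Cfsg.Agent.H422.OwnUFour.p4 = f} := ⟨_, by first | (delta Cfsg.Agent.H422.OwnUFour.p4; rewrite [Cfsg.Agent.LsF.fdcece5_8.2, Cfsg.Agent.LsF.fdcece5_9.2]; exact rfl) | exact rfl⟩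
private noncomputable def _root_.Cfsg.Agent.LsF.fdcece5_24 : {f // @Cfsg.Agent.H422.OwnUFour.p5 = f} := ⟨_, by first | (delta Cfsg.Agent.H422.OwnUFour.p5; rewrite [Cfsg.Agent.LsF.fdcece5_8.2, Cfsg.Agent.LsF.fdcece5_10.2, Cfsg.Agent.LsF.fdcece5_9.2]; exact rfl) | exact rfl⟩
theorem chk : ∀ t : V × F9, t ≠ 0 → pw4 (pp (fun _ _ _ x23 _ _ => p1 x23) t) ≠ 1 ∨
    pw4 (pp (fun _ _ x14 _ _ _ => p2 x14) t) ≠ 1 ∨ pw4 (pp p3 t) ≠ 1 ∨ pw4 (pp p4 t) ≠ 1 ∨ pw4 (pp p5 t) ≠ 1 := by
  (refine of_decide_eq_true ?_; (try (rewrite [Cfsg.Agent.LsF.fdcece5_18.2, Cfsg.Agent.LsF.fdcece5_19.2, Cfsg.Agent.LsF.fdcece5_20.2, Cfsg.Agent.LsF.fdcece5_21.2, Cfsg.Agent.LsF.fdcece5_22.2, Cfsg.Agent.LsF.fdcece5_23.2, Cfsg.Agent.LsF.fdcece5_24.2, Cfsg.Agent.LsF.fdcece5_13.2, Cfsg.Agent.LsF.zdecEq_eq, Cfsg.Agent.LsF.dProdEq_eq, Cfsg.Agent.LsF.zFintype_eq, Cfsg.Agent.LsF.prodFintype_eq, Cfsg.Agent.LsF.dForall_eq, Cfsg.Agent.LsF.dOr_eq, Cfsg.Agent.LsF.dNot_eq, Cfsg.Agent.LsF.dAllP_eq, Cfsg.Agent.LsF.decide_eq]));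 decide +kernel)

theorem herm1 : herm A1 := by (delta Cfsg.Agent.H422.OwnUFour.herm; set_option synthInstance.maxSize 20000 in open scoped Cfsg.Agent.Lib.MatDec Cfsg.Agent.Lib.MatRng in decide +kernel)
theorem herm1' : herm A1' := by (delta Cfsg.Agent.H422.OwnUFour.herm; set_option synthInstance.maxSize 20000 in open scoped Cfsg.Agent.Lib.MatDec Cfsg.Agent.Lib.MatRng in decide +kernel)
theorem herm2 : herm A2 := by (delta Cfsg.Agent.H422.OwnUFour.herm; set_option synthInstance.maxSize 20000 in open scoped Cfsg.Agent.Lib.MatDec Cfsg.Agent.Lib.MatRng in decide +kernel)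
theorem herm2' : herm A2' := by (delta Cfsg.Agent.H422.OwnUFour.herm; set_option synthInstance.maxSize 20000 in open scoped Cfsg.Agent.Lib.MatDec Cfsg.Agent.Lib.MatRng in decide +kernel)
theorem herm3 : herm A3 := by decide +kernel
theorem herm3' : herm A3' := by (delta Cfsg.Agent.H422.OwnUFour.herm; set_option synthInstance.maxSize 20000 in open scoped Cfsg.Agent.Lib.MatDec Cfsg.Agent.Lib.MatRng in decide +kernel)
theorem herm4 : herm A4 := by (delta Cfsg.Agent.H422.OwnUFour.herm; set_option synthInstance.maxSize 20000 in open scoped Cfsg.Agent.Lib.MatDec Cfsg.Agent.Lib.MatRng in decide +kernel)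
theorem herm4' : herm A4' := by decide +kernel
theorem herm5 : herm A5 := by (delta Cfsg.Agent.H422.OwnUFour.herm; set_option synthInstance.maxSize 20000 in open scoped Cfsg.Agent.Lib.MatDec Cfsg.Agent.Lib.MatRng in decide +kernel)
theorem herm5' : herm A5' := by (delta Cfsg.Agent.H422.OwnUFour.herm; set_option synthInstance.maxSize 20000 in open scoped Cfsg.Agent.Lib.MatDec Cfsg.Agent.Lib.MatRng in decide +kernel)
theorem det1 : A1.det = 1 := by (set_option synthInstance.maxSize 20000 in open scoped Cfsg.Agent.Lib.MatDec Cfsg.Agent.Lib.MatRng in decide +kernel)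
theorem det1' : A1'.det = 1 := by (set_option synthInstance.maxSize 20000 in open scoped Cfsg.Agent.Lib.MatDec Cfsg.Agent.Lib.MatRng in decide +kernel)
theorem det2 : A2.det = 1 := by (set_option synthInstance.maxSize 20000 in open scoped Cfsg.Agent.Lib.MatDec Cfsg.Agent.Lib.MatRng in decide +kernel)
theorem det2' : A2'.det = 1 := by (set_option synthInstance.maxSize 20000 in open scoped Cfsg.Agent.Lib.MatDec Cfsg.Agent.Lib.MatRng in decide +kernel)
theorem det3 : A3.det = 1 := by (set_option synthInstance.maxSize 20000 in open scoped Cfsg.Agent.Lib.MatDec Cfsg.Agent.Lib.MatRng in decide +kernel)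
theorem det3' : A3'.det = 1 := by (set_option synthInstance.maxSize 20000 in open scoped Cfsg.Agent.Lib.MatDec Cfsg.Agent.Lib.MatRng in decide +kernel)
theorem det4 : A4.det = 1 := by (set_option synthInstance.maxSize 20000 in open scoped Cfsg.Agent.Lib.MatDec Cfsg.Agent.Lib.MatRng in decide +kernel)
theorem det4' : A4'.det = 1 := by (set_option synthInstance.maxSize 20000 in open scoped Cfsg.Agent.Lib.MatDec Cfsg.Agent.Lib.MatRng in decide +kernel)
theorem det5 : A5.det = 1 := by (set_option synthInstance.maxSize 20000 in open scoped Cfsg.Agent.Lib.MatDec Cfsg.Agent.Lib.MatRng in decide +kernel)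
theorem det5' : A5'.det = 1 := by (set_option synthInstance.maxSize 20000 in open scoped Cfsg.Agent.Lib.MatDec Cfsg.Agent.Lib.MatRng in decide +kernel)
theorem inv1 : A1 * A1' = 1 := by (set_option synthInstance.maxSize 20000 in open scoped Cfsg.Agent.Lib.MatDec Cfsg.Agent.Lib.MatRng in decide +kernel)
theorem inv2 : A2 * A2' = 1 := by decide +kernel
theorem inv3 : A3 * A3' = 1 := by decide +kernel
theorem inv4 : A4 * A4' = 1 := by decide +kernel
theorem inv5 : A5 * A5' = 1 := by decide +kernel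
theorem herm_one : herm 1 := by (delta Cfsg.Agent.H422.OwnUFour.herm; set_option synthInstance.maxSize 20000 in open scoped Cfsg.Agent.Lib.MatDec Cfsg.Agent.Lib.MatRng in decide +kernel)

theorem toSU_one : toSU 1 herm_one det_one = 1 := by
  apply mat_inj
  change Pm * 1 * Qm = 1
  rw [Matrix.mul_one, PQ]

theorem mat_NH (t : V × F9) : mat (N t.1 * H t.2) = Pm * fm t * Qm := by
  rw [mat_mul]
  change Pm * nm t.1 * Qm * (Pm * hm t.2 * Qm) = _
  rw [← nm_hm]
  calc Pm * nm t.1 * Qm * (Pm * hm t.2 * Qm) = Pm * nm t.1 * (Qm * Pm) * hm t.2 * Qm := by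
        simp only [Matrix.mul_assoc]
    _ = _ := by rw [QP, Matrix.mul_one]; simp only [Matrix.mul_assoc]

theorem of_PQ {a b : M4} (h : Pm * a * Qm = Pm * b * Qm) : a = b := by
  have h2 : Qm * (Pm * a * Qm) * Pm = Qm * (Pm * b * Qm) * Pm := by rw [h]
  have h3 : ∀ x : M4, Qm * (Pm * x * Qm) * Pm = x := fun x => by
    calc Qm * (Pm * x * Qm) * Pm = (Qm * Pm) * x * (Qm * Pm) := by simp only [Matrix.mul_assoc]
      _ = x := by rw [QP, Matrix.one_mul, Matrix.mul_one]
  rwa [h3, h3] at h2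

/-- the trace of `u * u ^ g` -/
theorem trace_eq (t : V × F9) {A A' : M4} (hA : herm A) (hd : A.det = 1) (hA' : herm A') (hd' : A'.det = 1)
    (h : A * A' = 1) :
    trace (mat ((N t.1 * H t.2) * (toSU A hA hd * (N t.1 * H t.2) * (toSU A hA hd)⁻¹))) =
      trace (fm t * (A * fm t * A')) := by
  have h1 : (toSU A hA hd)⁻¹ = toSU A' hA' hd' := by
    rw [inv_eq_iff_mul_eq_one, toSU_mul hA hd hA' hd' herm_one det_one h, toSU_one]
  have h2 := mat_NH t
  obtain ⟨u, hu⟩ : ∃ u, u = N t.1 * H t.2 := ⟨_, rfl⟩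
  rw [← hu] at h2 ⊢
  rw [h1, mat_mul, mat_mul, mat_mul, h2]
  change trace (Pm * fm t * Qm * (Pm * A * Qm * (Pm * fm t * Qm) * (Pm * A' * Qm))) = _
  have h3 : Pm * fm t * Qm * (Pm * A * Qm * (Pm * fm t * Qm) * (Pm * A' * Qm)) =
      Pm * (fm t * (A * fm t * A')) * Qm := by
    calc _ = Pm * fm t * (Qm * Pm) * A * (Qm * Pm) * fm t * (Qm * Pm) * A' * Qm := by
          simp only [Matrix.mul_assoc]
      _ = _ := by rw [QP, Matrix.mul_one, Matrix.mul_one, Matrix.mul_one]; simp only [Matrix.mul_assoc]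
  rw [h3, trace_mul_comm, ← Matrix.mul_assoc, QP, Matrix.one_mul]

theorem ninth : ∀ x : F9, x ^ 9 = x := by decide +kernel
theorem pw4_eq (x : F9) : pw4 x = x ^ 4 := by rw [pw4]; ring

/-- 3-elements modulo scalars of determinant one have trace a fourth root of unity -/
theorem trace_pow {M : M4} (hd : M.det = 1) {k : ℕ} {c : F9} (h : M ^ 3 ^ k = c • (1 : M4)) : pw4 (trace M) = 1 := by
  obtain ⟨e, he⟩ := exists_nil h
  have h1 : trace M = e := by
    have h2 := (Matrix.isNilpotent_trace_of_isNilpotent he).eq_zero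
    rw [trace_sub, trace_smul, trace_one, sub_eq_zero] at h2
    rw [h2]
    have h3 : ((Fintype.card (Fin 4) : ℕ) : F9) = 1 := by decide +kernel
    rw [h3, smul_eq_mul, mul_one]
  have h2 : M ^ 9 = (e ^ 9) • (1 : M4) := pow_nine_of_nil (by decide) he
  have h3 := congrArg Matrix.det h2
  rw [det_pow, hd, one_pow, det_smul, det_one, mul_one, ninth] at h3
  rw [h1, pw4_eq, h3]
  rfl

theorem card_SU4 : Nat.card SU4 = 3 ^ 6 * 17920 := by
  have h1 := Cfsg.Agent.S0278.result (F := F9) (q := 3) (by rw [F9.card_F9]; norm_num) 4 (by norm_num)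
  have h2 : (3 + 1) * Nat.card SU4 = 52254720 := by
    rw [h1]
    decide +kernel
  omega

instance : Finite SU4 := Nat.finite_of_card_ne_zero (by rw [card_SU4]; norm_num)

theorem simple_U4 : IsSimpleGroup U4 :=
  Cfsg.Agent.S0283.result (F := F9) (q := 3) (by rw [F9.card_F9]; norm_num) 4 (by norm_num) (by norm_num)

def matHom : SU4 →* M4 where
  toFun := mat
  map_one' := rfl
  map_mul' := mat_mul

theorem center_scalar {z : SU4} (hz : z ∈ center SU4) : ∃ r : F9, r ^ 4 = 1 ∧ mat z = r • (1 : M4) := by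
  obtain ⟨c, h1, h2, rfl⟩ := (LieClassical.SUBasic.mem_center_SU_iff (q := 3) (by rw [F9.card_F9]; norm_num)
    (by norm_num) z).1 hz
  refine ⟨c, h1, ?_⟩
  rw [Matrix.smul_one_eq_diagonal]
  exact LieClassical.SUBasic.coe_suScalar 3 c h1 h2

theorem comm_ne : ∀ r : F9, A1 * A3 * A1' * A3' ≠ r • (1 : M4) := by decide +kernel

theorem non_comm : ¬ IsMulCommutative U4 := by
  intro h
  have h1 : ∀ a b : SU4, a * b * a⁻¹ * b⁻¹ ∈ center SU4 := fun a b => by
    rw [← QuotientGroup.eq_one_iff]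
    have h2 := h.is_comm.comm (a : U4) (b : U4)
    simp only [QuotientGroup.mk_mul, QuotientGroup.mk_inv]
    rw [h2]
    group
  have e1 : (toSU A1 herm1 det1)⁻¹ = toSU A1' herm1' det1' := by
    rw [inv_eq_iff_mul_eq_one, toSU_mul _ _ _ _ herm_one det_one inv1, toSU_one]
  have e2 : (toSU A3 herm3 det3)⁻¹ = toSU A3' herm3' det3' := by
    rw [inv_eq_iff_mul_eq_one, toSU_mul _ _ _ _ herm_one det_one inv3, toSU_one]
  obtain ⟨r, -, h2⟩ := center_scalar (h1 (toSU A1 herm1 det1) (toSU A3 herm3 det3))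
  rw [e1, e2, mat_mul, mat_mul, mat_mul] at h2
  have h3 : Pm * (A1 * A3 * A1' * A3') * Qm = Pm * (r • (1 : M4)) * Qm := by
    rw [Matrix.mul_smul, Matrix.smul_mul, Matrix.mul_one, PQ, ← h2]
    change _ = Pm * A1 * Qm * (Pm * A3 * Qm) * (Pm * A1' * Qm) * (Pm * A3' * Qm)
    calc Pm * (A1 * A3 * A1' * A3') * Qm = Pm * A1 * 1 * A3 * 1 * A1' * 1 * A3' * Qm := by
          simp only [Matrix.mul_assoc, Matrix.mul_one]
      _ = _ := by rw [← QP]; simp only [Matrix.mul_assoc]
  exact comm_ne r (of_PQ h3)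

/-- the criterion for one product -/
theorem of_pw4 {t : V × F9} {A A' : M4} (hA : herm A) (hd : A.det = 1) (hA' : herm A') (hd' : A'.det = 1)
    (h : A * A' = 1) {p : F9} (hp : trace (fm t * (A * fm t * A')) = p) (h2 : pw4 p ≠ 1) (k : ℕ) (r : F9) :
    (matHom ((N t.1 * H t.2) * (toSU A hA hd * (N t.1 * H t.2) * (toSU A hA hd)⁻¹))) ^ 3 ^ k ≠ r • (1 : M4) := by
  intro h3
  apply h2
  rw [← hp, ← trace_eq t hA hd hA' hd' h]
  exact trace_pow (Matrix.SpecialLinearGroup.det_coe _) h3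

theorem elt (a : U4) (ha : orderOf a = 3) (hP : ∀ g, PE 3 (a * (g * a * g⁻¹))) : False := by
  refine false_of_check' (G := SU4) (ι := Fin 4) (F := F9) matHom ?_ (fun z hz => ?_)
    (T := V × F9) (fun t => N t.1 * H t.2) ?_ 0 ?_ ?_ (n := 6) (m := 17920) ?_ card_SU4
    (by norm_num) ?_ a ha hP
  · intro z hz
    obtain ⟨r, hr, h1⟩ := center_scalar hz
    apply mat_inj
    rw [mat_pow, h1, smul_pow, one_pow, hr, one_smul, mat_one]
  · obtain ⟨r, -, h1⟩ := center_scalar hz
    exact ⟨r, h1⟩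
  · intro s t h
    apply fm_inj
    have h1 := congrArg mat h
    dsimp only at h1
    rw [mat_NH, mat_NH] at h1
    exact of_PQ h1
  · apply mat_inj
    refine (mat_NH 0).trans ?_
    rw [ show fm 0 = 1 by decide +kernel, Matrix.mul_one, PQ, mat_one]
  · exact mul_mem_prod N H act (fun v w => toSU_mul _ _ _ _ _ _ (nm_mul v w)) (fun v w => toSU_mul _ _ _ _ _ _ (hm_mul v w))
      fun w v => by
        apply mat_inj
        rw [mat_mul, mat_mul]
        change Pm * hm w * Qm * (Pm * nm v * Qm) = Pm * nm (act w v) * Qm * (Pm * hm w * Qm)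
        calc Pm * hm w * Qm * (Pm * nm v * Qm) = Pm * hm w * (Qm * Pm) * nm v * Qm := by
              simp only [Matrix.mul_assoc]
          _ = Pm * (hm w * nm v) * Qm := by rw [QP, Matrix.mul_one]; simp only [Matrix.mul_assoc]
          _ = Pm * nm (act w v) * (Qm * Pm) * hm w * Qm := by
              rw [QP, Matrix.mul_one, act_conj]; simp only [Matrix.mul_assoc]
          _ = _ := by simp only [Matrix.mul_assoc]
  · rw [Nat.card_eq_fintype_card]; decide +kernel
  · intro t ht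
    rcases chk t ht with h | h | h | h | h
    · exact ⟨_, of_pw4 herm1 det1 herm1' det1' inv1 (tr1 _ _ _ _ _ _) h⟩
    · exact ⟨_, of_pw4 herm2 det2 herm2' det2' inv2 (tr2 _ _ _ _ _ _) h⟩
    · exact ⟨_, of_pw4 herm3 det3 herm3' det3' inv3 (tr3 _ _ _ _ _ _) h⟩
    · exact ⟨_, of_pw4 herm4 det4 herm4' det4' inv4 (tr4 _ _ _ _ _ _) h⟩
    · exact ⟨_, of_pw4 herm5 det5 herm5' det5' inv5 (tr5 _ _ _ _ _ _) h⟩

theorem own3_psu43 (x : MulAut U4) (hx : orderOf x = 3) (hP : PA 3 x) : False := by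
  have h1 := Cfsg.Agent.S0815.result (F := F9) 3 1 le_rfl (q := 3) rfl (by rw [F9.card_F9]; norm_num) 4 (by norm_num)
    (by norm_num)
  exact false_of_inner simple_U4 non_comm (o := 8) h1 (by norm_num) elt x hx hP

end Cfsg.Agent.H422.OwnUFour
end

-- part: H422/OwnBN
section
/-!
# Products of two conjugates of an element of order 3 in characteristic 3 (S3833): groups of rank two over `F₃`

`OddNode P s u h` : the panel of `s` has the four chambers `B, sB, usB, u⁻¹sB` and `h` interchanges the last two.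
`false_of_odd` : a split (B,N)-pair of characteristic 3 and rank two, all solvable nodes odd: no automorphism of order 3
with `RC` and `PA`.
-/

set_option autoImplicit false

namespace Cfsg.Agent.H422.OwnBN

open Cfsg Subgroup Cfsg.Agent.H459.Rad Cfsg.Agent.H459.Gallery Cfsg.Agent.H460.AA Cfsg.Agent.Schreier.BNSch
  Cfsg.Agent.FixBN
open scoped Pointwise

section Comb

variable {M Ω : Type*} [Group M] [MulAction M Ω]

/-- no two points are interchanged -/
def NS (Ω : Type*) [MulAction M Ω] (z : M) : Prop := ∀ a b : Ω, z • a = b → z • b = a → a = b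

theorem ns_of_pe {z : M} (h : PE 3 z) : NS Ω z := by
  intro a b h1 h2
  have : Fact (Nat.Prime 3) := ⟨Nat.prime_three⟩
  obtain ⟨k, hk⟩ := PE.pow_eq_one_iff.1 h
  have h3 : ∀ n : ℕ, z ^ (2 * n) • a = a := by
    intro n
    induction n with
    | zero => simp
    | succ n ih =>
      rw [show 2 * (n + 1) = 1 + 1 + 2 * n by ring, pow_add, pow_add, pow_one, mul_smul, mul_smul, ih, h1, h2]
  obtain ⟨n, hn⟩ : Odd (3 ^ k) := Odd.pow (by decide)
  rw [hn, pow_succ', ] at hk
  have h4 : (z * z ^ (2 * n)) • a = b := by rw [mul_smul, h3, h1]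
  rw [hk, one_smul] at h4
  exact h4

/-- a three-cycle -/
theorem cyc {y s h : M} {c a0 a1 a2 : Ω} (hys : NS Ω (y * (s * y * s⁻¹)))
    (hysh : NS Ω (y * (s * h * y * (s * h)⁻¹))) (hc : y • c = c)
    (n1 : a1 ≠ c) (n2 : a2 ≠ c) (n01 : a0 ≠ a1) (n02 : a0 ≠ a2) (n12 : a1 ≠ a2)
    (hsc : s • c = a0) (hs0 : s • a0 = c) (hs1 : s • a1 = c ∨ s • a1 = a0 ∨ s • a1 = a1 ∨ s • a1 = a2)
    (hs2 : s • a2 = c ∨ s • a2 = a0 ∨ s • a2 = a1 ∨ s • a2 = a2)
    (hhc : h • c = c) (hh0 : h • a0 = a0) (hh1 : h • a1 = a2) (hh2 : h • a2 = a1)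
    (y0 : y • a0 = a1) (y1 : y • a1 = a2) (y2 : y • a2 = a0) : False := by
  have key : ∀ k : M, k • c = a0 → k • a0 = c → k • a1 = a1 → k • a2 = a2 → NS Ω (y * (k * y * k⁻¹)) → False := by
    intro k k1 k2 k3 k4 hk
    refine n2 (hk a2 c ?_ ?_)
    · have e : k⁻¹ • a2 = a2 := by rw [inv_smul_eq_iff, k4]
      rw [mul_smul, mul_smul, mul_smul, e, y2, k2, hc]
    · have e : k⁻¹ • c = a0 := by rw [inv_smul_eq_iff, k2]
      rw [mul_smul, mul_smul, mul_smul, e, y0, k3, y1]
  have f1 : s • a1 ≠ c := fun h => n01 (by rw [← hs0] at h; exact (smul_left_cancel s h).symm)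
  have f2 : s • a1 ≠ a0 := fun h => n1 (by rw [← hsc] at h; exact smul_left_cancel s h)
  have f3 : s • a2 ≠ c := fun h => n02 (by rw [← hs0] at h; exact (smul_left_cancel s h).symm)
  have f4 : s • a2 ≠ a0 := fun h => n2 (by rw [← hsc] at h; exact smul_left_cancel s h)
  rcases hs1 with h1 | h1 | h1 | h1
  · exact f1 h1
  · exact f2 h1
  · rcases hs2 with h2 | h2 | h2 | h2
    · exact f3 h2
    · exact f4 h2
    · exact n12 (smul_left_cancel s (h1.trans h2.symm))
    · exact key s hsc hs0 h1 h2 hys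
  · rcases hs2 with h2 | h2 | h2 | h2
    · exact f3 h2
    · exact f4 h2
    · refine key (s * h) ?_ ?_ ?_ ?_ hysh
      · rw [mul_smul, hhc, hsc]
      · rw [mul_smul, hh0, hs0]
      · rw [mul_smul, hh1, h2]
      · rw [mul_smul, hh2, h1]
    · exact n12 (smul_left_cancel s (h1.trans h2.symm))

theorem comb {y s h : M} {c a0 a1 a2 : Ω} (hy : NS Ω y) (hys : NS Ω (y * (s * y * s⁻¹)))
    (hysh : NS Ω (y * (s * h * y * (s * h)⁻¹))) (hc : y • c = c)
    (n0 : a0 ≠ c) (n1 : a1 ≠ c) (n2 : a2 ≠ c)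
    (hsc : s • c = a0) (hs0 : s • a0 = c) (hs1 : s • a1 = c ∨ s • a1 = a0 ∨ s • a1 = a1 ∨ s • a1 = a2)
    (hs2 : s • a2 = c ∨ s • a2 = a0 ∨ s • a2 = a1 ∨ s • a2 = a2)
    (hhc : h • c = c) (hh0 : h • a0 = a0) (hh1 : h • a1 = a2) (hh2 : h • a2 = a1)
    (y0 : y • a0 = c ∨ y • a0 = a0 ∨ y • a0 = a1 ∨ y • a0 = a2)
    (y1 : y • a1 = c ∨ y • a1 = a0 ∨ y • a1 = a1 ∨ y • a1 = a2)
    (y2 : y • a2 = c ∨ y • a2 = a0 ∨ y • a2 = a1 ∨ y • a2 = a2) : y • a0 = a0 ∧ y • a1 = a1 ∧ y • a2 = a2 := by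
  have g0 : y • a0 ≠ c := fun h => n0 (by rw [← hc] at h; exact smul_left_cancel y h)
  have g1 : y • a1 ≠ c := fun h => n1 (by rw [← hc] at h; exact smul_left_cancel y h)
  have g2 : y • a2 ≠ c := fun h => n2 (by rw [← hc] at h; exact smul_left_cancel y h)
  -- two points with the same image
  have inj : ∀ {a b : Ω}, y • a = y • b → a = b := fun h => smul_left_cancel y h
  by_cases e01 : a0 = a1
  · subst e01
    rcases y0 with h0 | h0 | h0 | h0
    · exact absurd h0 g0
    · refine ⟨h0, h0, ?_⟩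
      rcases y2 with h2 | h2 | h2 | h2
      · exact absurd h2 g2
      · have := inj (h0.trans h2.symm); rw [← this]; exact h0
      · have := inj (h0.trans h2.symm); rw [← this]; exact h0
      · exact h2
    · refine ⟨h0, h0, ?_⟩
      rcases y2 with h2 | h2 | h2 | h2
      · exact absurd h2 g2
      · have := inj (h0.trans h2.symm); rw [← this]; exact h0
      · have := inj (h0.trans h2.symm); rw [← this]; exact h0
      · exact h2
    · rcases y2 with h2 | h2 | h2 | h2
      · exact absurd h2 g2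
      · have := hy _ _ h0 h2; subst this; exact ⟨h0, h0, h0⟩
      · have := hy _ _ h0 h2; subst this; exact ⟨h0, h0, h0⟩
      · have := inj (h0.trans h2.symm); subst this; exact ⟨h0, h0, h0⟩
  by_cases e02 : a0 = a2
  · subst e02
    rcases y0 with h0 | h0 | h0 | h0
    · exact absurd h0 g0
    · refine ⟨h0, ?_, h0⟩
      rcases y1 with h2 | h2 | h2 | h2
      · exact absurd h2 g1
      · have := inj (h0.trans h2.symm); rw [← this]; exact h0
      · exact h2
      · have := inj (h0.trans h2.symm); rw [← this]; exact h0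
    · rcases y1 with h2 | h2 | h2 | h2
      · exact absurd h2 g1
      · have := hy _ _ h0 h2; subst this; exact ⟨h0, h0, h0⟩
      · have := inj (h0.trans h2.symm); subst this; exact ⟨h0, h0, h0⟩
      · have := hy _ _ h0 h2; subst this; exact ⟨h0, h0, h0⟩
    · refine ⟨h0, ?_, h0⟩
      rcases y1 with h2 | h2 | h2 | h2
      · exact absurd h2 g1
      · have := inj (h0.trans h2.symm); rw [← this]; exact h0
      · exact h2
      · have := inj (h0.trans h2.symm); rw [← this]; exact h0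
  by_cases e12 : a1 = a2
  · -- `h` exchanges them, fine: same image
    subst e12
    rcases y1 with h1 | h1 | h1 | h1
    · exact absurd h1 g1
    · rcases y0 with h0 | h0 | h0 | h0
      · exact absurd h0 g0
      · exact absurd (inj (h0.trans h1.symm)) e01
      · exact absurd (hy _ _ h0 h1) e01
      · exact absurd (hy _ _ h0 h1) e01
    · rcases y0 with h0 | h0 | h0 | h0
      · exact absurd h0 g0
      · exact ⟨h0, h1, h1⟩
      · exact absurd (inj (h0.trans h1.symm)) e01
      · exact absurd (inj (h0.trans h1.symm)) e01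
    · rcases y0 with h0 | h0 | h0 | h0
      · exact absurd h0 g0
      · exact ⟨h0, h1, h1⟩
      · exact absurd (inj (h0.trans h1.symm)) e01
      · exact absurd (inj (h0.trans h1.symm)) e01
  rcases y0 with h0 | h0 | h0 | h0
  · exact absurd h0 g0
  · rcases y1 with h1 | h1 | h1 | h1
    · exact absurd h1 g1
    · exact absurd (inj (h0.trans h1.symm)) e01
    · rcases y2 with h2 | h2 | h2 | h2
      · exact absurd h2 g2
      · exact absurd (inj (h0.trans h2.symm)) e02
      · exact absurd (inj (h1.trans h2.symm)) e12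
      · exact ⟨h0, h1, h2⟩
    · rcases y2 with h2 | h2 | h2 | h2
      · exact absurd h2 g2
      · exact absurd (inj (h0.trans h2.symm)) e02
      · exact absurd (hy _ _ h1 h2) e12
      · exact absurd (inj (h1.trans h2.symm)) e12
  · rcases y1 with h1 | h1 | h1 | h1
    · exact absurd h1 g1
    · exact absurd (hy _ _ h0 h1) e01
    · exact absurd (inj (h0.trans h1.symm)) e01
    · rcases y2 with h2 | h2 | h2 | h2
      · exact absurd h2 g2
      · exact (cyc hys hysh hc n1 n2 e01 e02 e12 hsc hs0 hs1 hs2 hhc hh0 hh1 hh2 h0 h1 h2).elim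
      · exact absurd (inj (h0.trans h2.symm)) e02
      · exact absurd (inj (h1.trans h2.symm)) e12
  · rcases y2 with h2 | h2 | h2 | h2
    · exact absurd h2 g2
    · exact absurd (hy _ _ h0 h2) e02
    · rcases y1 with h1 | h1 | h1 | h1
      · exact absurd h1 g1
      · refine (cyc hys hysh hc n2 n1 e02 e01 (Ne.symm e12) hsc hs0 ?_ ?_ hhc hh0 hh2 hh1 h0 h2 h1).elim
        · rcases hs2 with h | h | h | h
          · exact Or.inl h
          · exact Or.inr (Or.inl h)
          · exact Or.inr (Or.inr (Or.inr h))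
          · exact Or.inr (Or.inr (Or.inl h))
        · rcases hs1 with h | h | h | h
          · exact Or.inl h
          · exact Or.inr (Or.inl h)
          · exact Or.inr (Or.inr (Or.inr h))
          · exact Or.inr (Or.inr (Or.inl h))
      · exact absurd (inj (h1.trans h2.symm)) e12
      · exact absurd (inj (h0.trans h1.symm)) e01
    · exact absurd (inj (h0.trans h2.symm)) e02

end Comb

section Node

variable {K : Type*} [Group K] [Finite K]

/-- the conjugate `g B g⁻¹` -/
def pt (P : BNPair K) (g : K) : Subgroup K := MulAut.conj g • P.B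

variable {P : BNPair K}

omit [Finite K] in
theorem pt_eq (hN : normalizer (P.B : Set K) = P.B) {g k : K} : pt P g = pt P k ↔ g⁻¹ * k ∈ P.B := by
  unfold pt
  constructor
  · intro h
    rw [← hN, Subgroup.mem_normalizer_iff_map_conj_eq]
    have h1 : (MulAut.conj (g⁻¹ * k)) • P.B = P.B := by
      rw [map_mul, mul_smul, ← h, ← mul_smul, ← map_mul, inv_mul_cancel, map_one, one_smul]
    exact h1
  · intro h
    have h1 : (MulAut.conj (g⁻¹ * k)) • P.B = P.B := by
      have h2 := Subgroup.mem_normalizer_iff_map_conj_eq.1 (le_normalizer h)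
      exact h2
    have e : k = g * (g⁻¹ * k) := by group
    rw [e, map_mul, mul_smul, h1]

omit [Finite K] in
theorem conj_smul_pt (k g : K) : MulAut.conj k • pt P g = pt P (k * g) := by
  unfold pt
  rw [map_mul, mul_smul]

theorem smul_pt {y : MulAut K} (hy : Iv y P.B) (g : K) : y • pt P g = pt P (y g) := by
  unfold pt
  have h1 : y * MulAut.conj g = MulAut.conj (y g) * y := by
    ext l
    simp [MulAut.mul_apply]
  have h2 : y • P.B = P.B := hy.map_eq
  rw [← mul_smul, h1, mul_smul, h2]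

/-- A panel with the chambers `B, sB, usB, u⁻¹sB`, the last two interchanged by `h`. -/
structure OddNode (P : BNPair K) (s u h : K) : Prop where
  uB : u ∈ P.B
  hB : h ∈ P.B
  cov : ∀ g ∈ P.parabolic {s}, g ∈ P.B ∨ s⁻¹ * g ∈ P.B ∨ (u * s)⁻¹ * g ∈ P.B ∨ (u⁻¹ * s)⁻¹ * g ∈ P.B
  h0 : s⁻¹ * (h * s) ∈ P.B
  h1 : (u⁻¹ * s)⁻¹ * (h * (u * s)) ∈ P.B
  h2 : (u * s)⁻¹ * (h * (u⁻¹ * s)) ∈ P.B

theorem OddNode.fixed {s u h : K} (O : OddNode P s u h) (hN : normalizer (P.B : Set K) = P.B) (hs : s ∈ P.S)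
    {y : MulAut K} (hB : Iv y P.B) (hM : Iv y (P.parabolic {s})) (hy : PE 3 y) (hP : PA 3 y) :
    ∀ g ∈ P.parabolic {s}, g⁻¹ * y g ∈ P.B := by
  have hsB : s ∉ P.B := not_mem_B P hs
  have hss : s * s ∈ P.B := P.sq_mem s hs
  have hsM := mem_parabolic_self P s
  have hBM : P.B ≤ P.parabolic {s} := B_le_parabolic P _
  have hpt : ∀ g ∈ P.parabolic {s}, pt P g = pt P 1 ∨ pt P g = pt P s ∨ pt P g = pt P (u * s) ∨
      pt P g = pt P (u⁻¹ * s) := by
    intro g hg
    rcases O.cov g hg with h | h | h | h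
    · exact Or.inl (((pt_eq hN).2 (by rwa [inv_one, one_mul])).symm)
    · exact Or.inr (Or.inl ((pt_eq hN).2 h).symm)
    · exact Or.inr (Or.inr (Or.inl ((pt_eq hN).2 h).symm))
    · exact Or.inr (Or.inr (Or.inr ((pt_eq hN).2 h).symm))
  have huM : u * s ∈ P.parabolic {s} := mul_mem (hBM O.uB) hsM
  have huM' : u⁻¹ * s ∈ P.parabolic {s} := mul_mem (hBM (inv_mem O.uB)) hsM
  have n0 : pt P s ≠ pt P 1 := by
    rw [Ne, pt_eq hN, mul_one]
    exact fun h => hsB (inv_mem_iff.1 h)
  have n1 : pt P (u * s) ≠ pt P 1 := by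
    rw [Ne, pt_eq hN, mul_one]
    exact fun h => hsB ((mul_mem_cancel_left O.uB).1 (inv_mem_iff.1 h))
  have n2 : pt P (u⁻¹ * s) ≠ pt P 1 := by
    rw [Ne, pt_eq hN, mul_one]
    exact fun h => hsB ((mul_mem_cancel_left (inv_mem O.uB)).1 (inv_mem_iff.1 h))
  have hc := comb (Ω := Subgroup K) (y := y) (s := MulAut.conj s) (h := MulAut.conj h) (c := pt P 1) (a0 := pt P s)
    (a1 := pt P (u * s)) (a2 := pt P (u⁻¹ * s)) (ns_of_pe hy) (ns_of_pe (hP s))
    (ns_of_pe (by rw [← map_mul]; exact hP (s * h))) (by rw [smul_pt hB, map_one]) n0 n1 n2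
    (by rw [conj_smul_pt, mul_one])
    (by rw [conj_smul_pt, pt_eq hN, mul_one]; exact inv_mem hss)
    (by rw [conj_smul_pt]; exact hpt _ (mul_mem hsM huM))
    (by rw [conj_smul_pt]; exact hpt _ (mul_mem hsM huM'))
    (by rw [conj_smul_pt, pt_eq hN, mul_one, mul_one]; exact inv_mem O.hB)
    (by rw [conj_smul_pt, eq_comm, pt_eq hN]; exact O.h0)
    (by rw [conj_smul_pt, eq_comm, pt_eq hN]; exact O.h1)
    (by rw [conj_smul_pt, eq_comm, pt_eq hN]; exact O.h2)
    (by rw [smul_pt hB]; exact hpt _ (hM s hsM))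
    (by rw [smul_pt hB]; exact hpt _ (hM _ huM))
    (by rw [smul_pt hB]; exact hpt _ (hM _ huM'))
  obtain ⟨c0, c1, c2⟩ := hc
  intro g hg
  have key : y • pt P g = pt P g := by
    rcases hpt g hg with h | h | h | h
    · rw [h, smul_pt hB, map_one]
    · rw [h, c0]
    · rw [h, c1]
    · rw [h, c2]
  rw [smul_pt hB, eq_comm, pt_eq hN] at key
  exact key

/-! ### The theorem -/

/-- the unipotent radical is a Sylow subgroup (copied from `H459.RgdRad`) -/
theorem exists_sylow {r : ℕ} [Fact r.Prime] {U : Subgroup K} (S : Split P r U) :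
    ∃ U' : Sylow r K, (U' : Subgroup K) = U := by
  obtain ⟨Q, hQ⟩ := IsPGroup.exists_le_sylow S.isP
  refine ⟨Q, ?_⟩
  by_contra hne
  have h4 := SmallSimple.SylowMaxInter.lt_inf_normalizer Q.isPGroup' (lt_of_le_of_ne hQ (Ne.symm hne))
  refine absurd h4 (not_lt_of_ge ?_)
  rintro g ⟨hgQ, hgN⟩
  rw [S.normalizer_eq] at hgN
  obtain ⟨k, hk⟩ := Q.isPGroup' ⟨g, hgQ⟩
  exact S.mem_of_pow hgN (n := k) (congrArg Subtype.val hk)

/-- an automorphism of order `r` fixes a Borel subgroup -/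
theorem exists_borel {r : ℕ} [hr : Fact r.Prime] {U : Subgroup K} (S : Split P r U) {x : MulAut K}
    (hx : ∃ k : ℕ, x ^ r ^ k = 1) : ∃ g, Iv (cx x g) P.B := by
  classical
  obtain ⟨U', hU'⟩ := exists_sylow S
  have hfin : Finite (Sylow r K) := inferInstance
  have : Fintype (Sylow r K) := Fintype.ofFinite _
  let σ : Equiv.Perm (Sylow r K) := MulAction.toPerm x
  obtain ⟨k, hk⟩ := hx
  have hσ : σ ^ r ^ k = 1 := by
    have h1 : ∀ n, σ ^ n = MulAction.toPerm (x ^ n) := fun n => (map_pow (MulAction.toPermHom (MulAut K) (Sylow r K)) x n).symm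
    rw [h1, hk]
    exact map_one (MulAction.toPermHom (MulAut K) (Sylow r K))
  have hnd : ¬ r ∣ Fintype.card (Sylow r K) := by
    rw [← Nat.card_eq_fintype_card]
    exact not_dvd_card_sylow r K
  obtain ⟨Q, hQ⟩ := Equiv.Perm.exists_fixed_point_of_prime (p := r) (n := k) hnd hσ
  have hQ' : x • Q = Q := hQ
  obtain ⟨g, hg⟩ := MulAction.exists_smul_eq K U' Q
  refine ⟨g, ?_⟩
  have hUQ : ∀ u, u ∈ U ↔ g * u * g⁻¹ ∈ (Q : Subgroup K) := by
    intro u
    rw [← hg, Sylow.coe_subgroup_smul, ← hU']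
    constructor
    · intro hu
      exact Subgroup.smul_mem_pointwise_smul u (MulAut.conj g) U'.toSubgroup hu
    · intro hu
      rw [Subgroup.mem_pointwise_smul_iff_inv_smul_mem] at hu
      have e : (MulAut.conj g)⁻¹ • (g * u * g⁻¹) = u := by
        rw [← map_inv]
        change (MulAut.conj g⁻¹) (g * u * g⁻¹) = u
        rw [MulAut.conj_apply]
        group
      rwa [e] at hu
  have hIU : Iv (cx x g) U := by
    intro u hu
    rw [hUQ] at hu ⊢
    rw [cx_apply]
    have h1 : x (g * u * g⁻¹) ∈ ((x • Q : Sylow r K) : Subgroup K) := by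
      rw [Sylow.pointwise_smul_def]
      exact Subgroup.smul_mem_pointwise_smul _ x Q.toSubgroup hu
    rw [hQ'] at h1
    have e : g * (g⁻¹ * x (g * u * g⁻¹) * g) * g⁻¹ = x (g * u * g⁻¹) := by group
    rwa [e]
  rw [← S.normalizer_eq]
  apply iv_of_map_eq
  have h2 := Subgroup.map_equiv_normalizer_eq U (cx x g)
  rw [hIU.map_eq] at h2
  exact h2

omit [Finite K] in
theorem PA_cx {p : ℕ} {x : MulAut K} (h : PA p x) (g : K) : PA p (cx x g) := by
  intro k
  have h1 := (h (g * k * g⁻¹)).conj (MulAut.conj g)⁻¹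
  have e : cx x g * (MulAut.conj k * cx x g * (MulAut.conj k)⁻¹) =
      (MulAut.conj g)⁻¹ * (x * (MulAut.conj (g * k * g⁻¹) * x * (MulAut.conj (g * k * g⁻¹))⁻¹)) *
        ((MulAut.conj g)⁻¹)⁻¹ := by
    unfold cx
    rw [map_mul, map_mul, map_inv]
    group
  rwa [e]

omit [Finite K] in
theorem PE_cx {p : ℕ} {x : MulAut K} (h : PE p x) (g : K) : PE p (cx x g) := by
  have h1 := h.conj (MulAut.conj g)⁻¹
  rwa [inv_inv] at h1

/-- 3-elements fixing `B` fix both minimal parabolic subgroups -/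
theorem rig {s t : K} (hS : P.S = {s, t}) {z : MulAut K} (hz : PE 3 z) (hB : Iv z P.B) :
    ∀ r ∈ P.S, Iv z (P.parabolic {r}) := by
  have hsS : s ∈ P.S := by rw [hS]; exact Or.inl rfl
  have htS : t ∈ P.S := by rw [hS]; exact Or.inr rfl
  have inj : P.parabolic {s} = P.parabolic {t} → s = t := fun h =>
    Set.singleton_eq_singleton_iff.1 (Cfsg.Agent.S0314.result P (Set.singleton_subset_iff.2 hsS)
      (Set.singleton_subset_iff.2 htS) h)
  obtain ⟨s', hs', h1⟩ := exists_map_eq P z hB.map_eq hsS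
  obtain ⟨t', ht', h2⟩ := exists_map_eq P z hB.map_eq htS
  have key : ∀ A B : Subgroup K, A.map z.toMonoidHom = B → B.map z.toMonoidHom = A → A = B :=
    fun A B hA hB' => ns_of_pe hz A B hA hB'
  have minj : ∀ A B : Subgroup K, A.map z.toMonoidHom = B.map z.toMonoidHom → A = B :=
    fun A B h => Subgroup.map_injective z.injective h
  rw [hS] at hs' ht'
  have main : (P.parabolic {s}).map z.toMonoidHom = P.parabolic {s} ∧
      (P.parabolic {t}).map z.toMonoidHom = P.parabolic {t} := by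
    rcases hs' with rfl | rfl
    · refine ⟨h1, ?_⟩
      rcases ht' with rfl | rfl
      · have h3 := minj _ _ (h1.trans h2.symm)
        rw [← h3]; exact h1
      · exact h2
    · rcases ht' with rfl | rfl
      · have h3 := key _ _ h1 h2
        rw [h3] at h1 ⊢
        exact ⟨h1, h1⟩
      · have h3 := minj _ _ (h1.trans h2.symm)
        refine ⟨?_, h2⟩
        rw [h3]
        exact h2
  intro r hr
  rw [hS] at hr
  rcases hr with rfl | rfl
  · exact iv_of_map_eq main.1
  · exact iv_of_map_eq main.2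

/-- **Groups of rank two over the field with three elements.** -/
theorem false_of_odd {U : Subgroup K} (S : Split P 3 U) (hBs : Group.IsSolvable P.B) {s t : K} (hS : P.S = {s, t})
    (hst : s ≠ t) (hnode : ∀ r ∈ P.S, Group.IsSolvable (P.parabolic {r}) → ∃ u h, OddNode P r u h)
    {x : MulAut K} (hx : orderOf x = 3) (hR : RC x) (hP : PA 3 x) : False := by
  have hr : Fact (Nat.Prime 3) := ⟨Nat.prime_three⟩
  have hN : normalizer (P.B : Set K) = P.B := by
    have h1 := Cfsg.Agent.S0312.result P (Set.empty_subset P.S)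
    rwa [parabolic_empty] at h1
  have hxp : PE 3 x := ⟨1, by rw [hx, pow_one]⟩
  obtain ⟨g, hg⟩ := exists_borel S (x := x) ⟨1, by rw [pow_one, ← hx, pow_orderOf_eq_one]⟩
  have hsS : s ∈ P.S := by rw [hS]; exact Or.inl rfl
  have htS : t ∈ P.S := by rw [hS]; exact Or.inr rfl
  have hne : ∀ r ∈ P.S, P.parabolic {r} ≠ ⊤ := by
    intro r hr' hMt
    have h1 : P.parabolic P.S ≤ P.parabolic {r} := by rw [hMt]; exact le_top
    rw [parabolic_le_iff P le_rfl (Set.singleton_subset_iff.2 hr')] at h1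
    exact hst ((h1 hsS).trans (h1 htS).symm)
  have hall := all_fixed P (hR.cx g) hBs hne
    (fun g' hg' => rig hS (PE_cx (PE_cx hxp g) g') hg')
    (fun g' hg' r hr' hsol => by
      obtain ⟨u, h, O⟩ := hnode r hr' hsol
      exact O.fixed hN hr' hg' (rig hS (PE_cx (PE_cx hxp g) g') hg' r hr') (PE_cx (PE_cx hxp g) g')
        (PA_cx (PA_cx hP g) g')) hg
  have h1 := eq_one P S.core hall
  have h3 : x = MulAut.conj g * cx x g * (MulAut.conj g)⁻¹ := by
    unfold cx
    group
  rw [h3, h1, mul_one, mul_inv_cancel, orderOf_one] at hx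
  exact absurd hx (by norm_num)

end Node

end Cfsg.Agent.H422.OwnBN
end

-- part: H422/OwnRGD
section
/-!
# Products of two conjugates of an element of order 3 in characteristic 3 (S3833): root group data of rank two
-/

set_option autoImplicit false
set_option linter.unusedSectionVars false

namespace Cfsg.Agent.H422.OwnRGD

open CoxeterSystem Cfsg.Agent.ChevalleyStructure.CoxeterGeom Cfsg.Agent.Tits.Roots Cfsg.Agent.Tits.Core
  Cfsg.Agent.Tits.RootComb Cfsg.Agent.Nodes.Comb Cfsg.Agent.Nodes.Reps Cfsg.Agent.Nodes.BNOf Cfsg.Agent.Nodes.BNOf.RGD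
  Cfsg.Agent.Schreier.BNSch Cfsg.Agent.FixBN
open Cfsg.Agent.H459.Rad Cfsg.Agent.H460.AA Cfsg.Agent.H422.OwnBN

variable {I W Y : Type*} [Fintype I] [DecidableEq I] [Group W] [Group Y] {M : CoxeterMatrix I}
variable {cs : CoxeterSystem M W} {A : I → I → ℤ} {h : IsCartan M A} {p : ℕ} {T : Subgroup Y} {n : I → Y}
  {X : (I → ℤ) → Subgroup Y} [Finite W]

/-- A root group with three elements inverted by an element of the torus. -/
theorem oddNode (R : RGD cs h p T n X) (hgen : RGD.B cs h T X ⊔ NN cs R.nsys = ⊤) (i : I) {u t : Y}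
    (hu : u ∈ X (sr i)) (hX : ∀ x ∈ X (sr i), x = 1 ∨ x = u ∨ x = u⁻¹) (ht : t ∈ T) (htu : t * u * t⁻¹ = u⁻¹) :
    OddNode (R.bnPair hgen) (n i) u t := by
  have hsS : n i ∈ (R.bnPair hgen).S := ⟨i, rfl⟩
  have hXB : X (sr i) ≤ (R.bnPair hgen).B := RGD.X_le_B (isRoot_sr cs h i) (sr_nonneg i)
  have hTc : ∀ a ∈ T, (n i)⁻¹ * a * n i ∈ (R.bnPair hgen).B := by
    intro a ha
    have h2 : a ∈ (R.bnPair hgen).B ⊓ (R.bnPair hgen).N := ⟨RGD.T_le_B ha, ⟨1, rp_of_mem ha⟩⟩
    have h3 := (R.bnPair hgen).conj_mem (n i)⁻¹ ((R.bnPair hgen).N.inv_mem ((R.bnPair hgen).subset hsS)) _ h2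
    rwa [inv_inv] at h3
  have htu' : t * u⁻¹ * t⁻¹ = u := by
    have : t * u⁻¹ * t⁻¹ = (t * u * t⁻¹)⁻¹ := by group
    rw [this, htu, inv_inv]
  refine ⟨hXB hu, RGD.T_le_B ht, ?_, ?_, ?_, ?_⟩
  · intro g hg
    rcases mem_parabolic_singleton (R.bnPair hgen) hsS hg with h1 | ⟨b, hb, c, hc, h1⟩
    · exact Or.inl h1
    · right
      obtain ⟨v, hv, hvT⟩ := NodeRGD.cover R hb
      obtain ⟨x, hx, hxv⟩ := FieldRGD.exists_cover R i hv
      have key : (x * n i)⁻¹ * g ∈ (R.bnPair hgen).B := by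
        rw [h1]
        have e : (x * n i)⁻¹ * (b * n i * c) =
            ((n i)⁻¹ * (x⁻¹ * v) * n i) * ((n i)⁻¹ * (v⁻¹ * b) * n i) * c := by group
        rw [e]
        refine mul_mem (mul_mem ?_ (hTc _ hvT)) hc
        exact RGD.U_le_B (RGD.Sup_mono (S := RGD.PosNe cs h i) (S' := RGD.Pos cs h) (fun z hz => ⟨hz.1, hz.2.1⟩)
          (NodeRGD.conj_V_mem R i hxv))
      rcases hX x hx with rfl | rfl | rfl
      · exact Or.inl (by rwa [one_mul] at key)
      · exact Or.inr (Or.inl key)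
      · exact Or.inr (Or.inr key)
  · rw [← mul_assoc]; exact hTc t ht
  · have e : (u⁻¹ * n i)⁻¹ * (t * (u * n i)) = (n i)⁻¹ * (u * (t * u * t⁻¹)) * t * n i := by group
    rw [e, htu, mul_inv_cancel, mul_one]
    exact hTc t ht
  · have e : (u * n i)⁻¹ * (t * (u⁻¹ * n i)) = (n i)⁻¹ * (u⁻¹ * (t * u⁻¹ * t⁻¹)) * t * n i := by group
    rw [e, htu', inv_mul_cancel, mul_one]
    exact hTc t ht

/-- **Root group data of rank two and characteristic 3.** -/
theorem own3 {M : CoxeterMatrix (Fin 2)} {cs : CoxeterSystem M W} {A : Fin 2 → Fin 2 → ℤ} {h : IsCartan M A}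
    {n : Fin 2 → Y} {X : (Fin 2 → ℤ) → Subgroup Y} [Finite Y] [IsSimpleGroup Y]
    (R : RGD cs h 3 T n X) (hgen : RGD.B cs h T X ⊔ NN cs R.nsys = ⊤) (hT : Group.IsSolvable T)
    (hodd : ∀ i, Group.IsSolvable ((R.bnPair hgen).parabolic {n i}) → ∃ u ∈ X (sr i), ∃ t ∈ T,
      (∀ x ∈ X (sr i), x = 1 ∨ x = u ∨ x = u⁻¹) ∧ t * u * t⁻¹ = u⁻¹)
    (x : MulAut Y) (hx : orderOf x = 3) (hR : RC x) (hP : PA 3 x) : False := by
  have h3 : Fact (Nat.Prime 3) := ⟨Nat.prime_three⟩
  have hne : (R.bnPair hgen).S.Nonempty := ⟨n 0, 0, rfl⟩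
  have hcore := Cfsg.Agent.Tits.OfBN.normalCore_eq_bot (R.bnPair hgen) hne
  have hS := SplitRGD.split_of_rgd Nat.prime_three R hgen hcore
  have hSe : (R.bnPair hgen).S = {n 0, n 1} := by
    ext z
    constructor
    · rintro ⟨i, rfl⟩
      fin_cases i
      · exact Or.inl rfl
      · exact Or.inr rfl
    · rintro (rfl | rfl)
      · exact ⟨0, rfl⟩
      · exact ⟨1, rfl⟩
  refine false_of_odd hS (FieldRGD.isSolvable_B R hT) hSe (fun e => ?_) ?_ hx hR hP
  · exact absurd (R.n_injective e) (by decide)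
  · rintro _ ⟨i, rfl⟩ hsol
    obtain ⟨u, hu, t, ht, h1, h2⟩ := hodd i hsol
    exact ⟨u, t, oddNode R hgen i hu h1 ht h2⟩

end Cfsg.Agent.H422.OwnRGD
end

-- part: H422/OwnGTwo
section
/-!
# `G₂(3)`: no automorphism of order 3 with `RC` all of whose products of conjugates are 3-elements (S3833)
-/

set_option autoImplicit false

namespace Cfsg.Agent.H422.OwnGTwo

open Cfsg Cfsg.Lie Subgroup Cfsg.Agent.ChevalleyStructure Cfsg.Agent.ChevalleyStructure.Elts
  Cfsg.Agent.ChevalleyStructure.NPerm Cfsg.Agent.Nodes.RGDChev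
open Cfsg.Agent.H459.Rad Cfsg.Agent.H460.AA Cfsg.Agent.ChevalleyStructure.CoxeterGeom
open Cfsg.Agent.Tits.RootComb Cfsg.Agent.Nodes.Comb Cfsg.Agent.Nodes.Reps Cfsg.Agent.Nodes.BNOf

theorem hp : IsType chevG2 2 CoxeterMatrix.G₂ := by simp [IsType, typeList]

theorem three {F : Type} [Field F] [Finite F] (hF : Nat.card F = 3) (t : F) : t = 0 ∨ t = 1 ∨ t = -1 := by
  have := Fintype.ofFinite F
  rw [Nat.card_eq_fintype_card] at hF
  have h1 := FiniteField.pow_card t
  rw [hF] at h1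
  have h2 : t * ((t - 1) * (t + 1)) = 0 := by linear_combination h1
  rcases mul_eq_zero.1 h2 with h | h
  · exact Or.inl h
  · rcases mul_eq_zero.1 h with h | h
    · exact Or.inr (Or.inl (sub_eq_zero.1 h))
    · exact Or.inr (Or.inr (eq_neg_of_add_eq_zero_left h))

theorem charP_three {F : Type} [Field F] [Finite F] (hF : Nat.card F = 3) : CharP F 3 := by
  have := Fintype.ofFinite F
  rw [Nat.card_eq_fintype_card] at hF
  refine (CharP.charP_iff_prime_eq_zero Nat.prime_three).2 ?_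
  have := Nat.cast_card_eq_zero F
  rw [hF] at this
  exact_mod_cast this

theorem tab : ∀ i : Fin 2, (chevG2.cartan ((1 - i : Fin 2) : ℕ) (chevG2.simple i) = -1 ∨
    chevG2.cartan ((1 - i : Fin 2) : ℕ) (chevG2.simple i) = -3) ∧ chevG2.simple i < chevG2.nroots := by
  decide +kernel

theorem conj_simple {F : Type} [Field F] (i : Fin 2) :
    hG hp.inList (chevG2.simple ((1 - i : Fin 2) : ℕ)) (-1 : F) * xG hp.inList (chevG2.simple i) 1 *
      (hG hp.inList (chevG2.simple ((1 - i : Fin 2) : ℕ)) (-1 : F))⁻¹ = (xG hp.inList (chevG2.simple i) 1)⁻¹ := by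
  have h1 : (-1 : F) ≠ 0 := neg_ne_zero.2 one_ne_zero
  have key : hG hp.inList (chevG2.simple ((1 - i : Fin 2) : ℕ)) (-1 : F) * xG hp.inList (chevG2.simple i) 1 *
      (hG hp.inList (chevG2.simple ((1 - i : Fin 2) : ℕ)) (-1 : F))⁻¹ =
      xG hp.inList (chevG2.simple i) ((-1) ^ chevG2.cartan ((1 - i : Fin 2) : ℕ) (chevG2.simple i) * 1) := by
    rw [mul_inv_eq_iff_eq_mul]
    apply Units.ext
    simpa only [Units.val_mul, coe_hG, coe_xG] using Cfsg.Agent.S1032.result chevG2 hp.inList _ _ (lt_rank hp _)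
      (tab i).2 (-1 : F) h1 1
  rw [key, xG_inv]
  congr 1
  rcases (tab i).1 with h | h <;> rw [h] <;> norm_num [zpow_neg]

/-- **`G₂(3)`** -/
theorem own3_g2 (F : Type) [Field F] [Finite F] (hF : Nat.card F = 3) [IsSimpleGroup ↥(chevG2.group F)]
    (x : MulAut ↥(chevG2.group F)) (hx : orderOf x = 3) (hR : RC x) (hP : PA 3 x) : False := by
  have : CharP F 3 := charP_three hF
  have : Fact (Nat.Prime 3) := ⟨Nat.prime_three⟩
  have hW : Finite (CoxeterMatrix.G₂).Group := finite_W hp (CoxeterMatrix.G₂).toCoxeterSystem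
  refine OwnRGD.own3 (rgd (K := F) hp (CoxeterMatrix.G₂).toCoxeterSystem 3)
    (gen hp (CoxeterMatrix.G₂).toCoxeterSystem 3) (FixBN.ChevGood.isSolvable_T F hp) (fun i _ => ?_) x hx hR hP
  refine ⟨⟨xG hp.inList (chevG2.simple i) 1, xG_mem_group hp.inList _ _⟩, ?_,
    ⟨hG hp.inList (chevG2.simple ((1 - i : Fin 2) : ℕ)) (-1 : F), hG_mem_group hp.inList _ _⟩, ?_, ?_, ?_⟩
  · rw [Subgroup.mem_subgroupOf, XV_sr hp]
    exact xG_mem_rootSubgroup hp.inList _ _
  · rw [Subgroup.mem_subgroupOf]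
    exact hG_mem_diagonal hp.inList (tab _).2 (neg_ne_zero.2 one_ne_zero)
  · rintro ⟨y, hy⟩ hyX
    rw [Subgroup.mem_subgroupOf, XV_sr hp] at hyX
    obtain ⟨t, ht⟩ := (mem_rootSubgroup_iff hp.inList _ _).1 hyX
    change y = _ at ht
    subst ht
    rcases three hF t with rfl | rfl | rfl
    · exact Or.inl (Subtype.ext (xG_zero hp.inList _))
    · exact Or.inr (Or.inl rfl)
    · refine Or.inr (Or.inr (Subtype.ext ?_))
      exact (xG_inv hp.inList _ _).symm
  · exact Subtype.ext (conj_simple i)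

end Cfsg.Agent.H422.OwnGTwo
end

-- part: H422/OwnThreeD4
section
/-!
# `³D₄(3)`: no automorphism of order 3 with `RC` all of whose products of conjugates are 3-elements (S3833)
-/

set_option autoImplicit false
set_option maxHeartbeats 400000

namespace Cfsg.Agent.H422.OwnThreeD4

open CoxeterSystem Cfsg.Agent.ChevalleyStructure.CoxeterGeom Cfsg.Agent.Tits.Roots Cfsg.Agent.Tits.Core
  Cfsg.Agent.Tits.RootComb Cfsg.Agent.Nodes.Comb Cfsg.Agent.Nodes.Reps Cfsg.Agent.Nodes.BNOf Cfsg.Agent.Nodes.BNOf.RGD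
  Cfsg.Agent.Schreier.BNSch Cfsg.Agent.FixBN
open Cfsg.Lie Cfsg.Agent.ChevalleyStructure Cfsg.Agent.H185.TypedTw Cfsg.Agent.FixBN.FieldRGD
  Cfsg.Agent.Nodes.RGDFold Cfsg.Agent.Nodes.RGDFoldSL Cfsg.Agent.Nodes.RGDTwD4 Cfsg.Agent.Nodes.RGDTwNode
open Cfsg.Agent.ChevalleyStructure.SL2Hom (up)
open Cfsg.Agent.H459.Rad Cfsg.Agent.H460.AA Cfsg.Agent.H422.OwnGTwo
open Cfsg.Agent.ChevalleyStructure.D4Twisted (hb hb_mem hb_mem_diagonal)
open Cfsg.Agent.ChevalleyStructure.D4NConj (hR)

theorem tab : ∀ r ∈ [18, 13, 12], SparseHDiag.cartanRS chevD4 r 14 = -1 := by decide +kernel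

theorem hb_conj {K : Type} [Field K] (φ : K →+* K) (u : K) :
    hb φ (-1) * D4Comm.xG 14 u * (hb φ (-1))⁻¹ = D4Comm.xG 14 (-u) := by
  have h0 : (-1 : K) ≠ 0 := neg_ne_zero.2 one_ne_zero
  have key : ∀ r ∈ [18, 13, 12], ∀ v : K, hR r (-1) * D4Comm.xG 14 v * (hR r (-1))⁻¹ = D4Comm.xG 14 (-v) := by
    intro r hr v
    rw [D4HConj.hR_conj (by revert r; decide) (by norm_num) h0, tab r hr]
    congr 1
    norm_num
  have e1 : φ (-1) = -1 := by rw [map_neg, map_one]
  unfold hb
  rw [e1, e1]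
  calc hR 18 (-1) * hR 13 (-1) * hR 12 (-1) * D4Comm.xG 14 u * (hR 18 (-1) * hR 13 (-1) * hR 12 (-1))⁻¹ =
      hR 18 (-1) * (hR 13 (-1) * (hR 12 (-1) * D4Comm.xG 14 u * (hR 12 (-1))⁻¹) * (hR 13 (-1))⁻¹) *
        (hR 18 (-1))⁻¹ := by group
    _ = D4Comm.xG 14 (-u) := by
      rw [key 12 (by decide), key 13 (by decide), key 18 (by decide), neg_neg]

theorem bn_normal {K : Type*} [Group K] (P : Cfsg.BNPair K) : ((P.B ⊓ P.N).subgroupOf P.N).Normal := by
  refine ⟨fun t ht m => ?_⟩
  rw [Subgroup.mem_subgroupOf] at ht ⊢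
  exact ⟨P.conj_mem m m.2 t ht, P.N.mul_mem (P.N.mul_mem m.2 t.2) (P.N.inv_mem m.2)⟩

theorem node_zero {F : Type} [Field F] [Finite F] {φ : F →+* F} (hφ : ∀ x, φ x = x ^ 3)
    (FG : FoldGrp Nodes.RGDTwD4.hp F J L (D4Fixed.sig φ) rho (fun r => rho (rho r)) (fun r t => ((eps r : ℤ) : F) * φ t)
      (twistedD4 F 3))
    (hf : ∀ s ∈ D4.rep 0 :: D4.rest 0, ∀ t, ((eps s : ℤ) : F) * φ t = φ t) (hc1 : Nat.card (Fx φ 1) = 3) :
    ∃ u ∈ (Nodes.RGDFold.R chevD4 Nodes.RGDTwD4.hp F J (D4Fixed.sig φ) (sr 0)).subgroupOf (twistedD4 F 3),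
    ∃ t ∈ (chevD4.diagonalSubgroup F ⊓ twistedD4 F 3).subgroupOf (twistedD4 F 3),
      (∀ x ∈ (Nodes.RGDFold.R chevD4 Nodes.RGDTwD4.hp F J (D4Fixed.sig φ) (sr 0)).subgroupOf (twistedD4 F 3),
          x = 1 ∨ x = u ∨ x = u⁻¹) ∧ t * u * t⁻¹ = u⁻¹ := by
  -- the node over the field with three elements
  have hcoe : ∀ a, ((Phi FG (D4.nodeOK 0) hf (up a) : ↥(twistedD4 F 3)) : GL chevD4.Idx F) =
      D4Comm.xG 14 (a : F) := by
    intro a
    have h4 := coe_Phi_up FG (D4.nodeOK 0) hf a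
    rw [Nodes.RGDTwD4.xG_eq] at h4
    refine h4.trans ?_
    show D4Comm.xG 14 (a : F) * 1 = _
    rw [mul_one]
  have hc2 : Nat.card (Fx φ ((D4.rest 0).length + 1)) = 3 := hc1
  obtain ⟨u, hu⟩ : ∃ u, u = Phi FG (D4.nodeOK 0) hf (up 1) := ⟨_, rfl⟩
  have hu' : (u : GL chevD4.Idx F) = D4Comm.xG 14 1 := by rw [hu, hcoe]; rfl
  refine ⟨u, (mem_X_iff FG (D4.nodeOK 0) hf u).2 ⟨1, hu⟩, ⟨hb φ (-1), hb_mem hφ _⟩, ?_, ?_, ?_⟩
  · rw [Subgroup.mem_subgroupOf]
    exact ⟨hb_mem_diagonal φ (neg_ne_zero.2 one_ne_zero), hb_mem hφ _⟩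
  · intro y hy
    obtain ⟨a, ha⟩ := (mem_X_iff FG (D4.nodeOK 0) hf y).1 hy
    have hy' : (y : GL chevD4.Idx F) = D4Comm.xG 14 (a : F) := by rw [ha, hcoe]
    rcases three hc2 a with rfl | rfl | rfl
    · left
      apply Subtype.ext
      rw [hy']
      exact D4Comm.xG_zero 14
    · right; left
      apply Subtype.ext
      rw [hy', hu']
      rfl
    · right; right
      apply Subtype.ext
      rw [Subgroup.coe_inv, hy', hu', ← D4Comm.xG_neg]
      rfl
  · apply Subtype.ext
    show hb φ (-1) * (u : GL chevD4.Idx F) * (hb φ (-1))⁻¹ = (u : GL chevD4.Idx F)⁻¹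
    rw [hu', hb_conj, D4Comm.xG_neg]

/-- **`³D₄(3)`** -/
theorem own3_3D4 {F : Type} [Field F] [Fintype F] (hF : Fintype.card F = 3 ^ 3) [IsSimpleGroup ↥(twistedD4 F 3)]
    (x : MulAut ↥(twistedD4 F 3)) (hx : orderOf x = 3) (hR : RC x) (hP : PA 3 x) : False := by
  have h3 : Fact (Nat.Prime 3) := ⟨Nat.prime_three⟩
  have hq : IsPrimePow 3 := Nat.prime_three.isPrimePow
  have hc : CharP F 3 := by
    refine (CharP.charP_iff_prime_eq_zero Nat.prime_three).2 ?_
    have h1 := Nat.cast_card_eq_zero F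
    rw [hF] at h1
    rw [Nat.cast_pow] at h1
    exact (pow_eq_zero_iff three_ne_zero).1 h1
  obtain ⟨φ, hφ⟩ := D4Fixed.exists_frob hq hF
  have FG := Nodes.RGDTwD4.foldGrp hφ (D4Fixed.twisted_le_fix hF hφ)
  have hW : Finite (CoxeterMatrix.G₂).Group := Nodes.RGDFold.finite_W (hp := Nodes.RGDTwD4.hp)
    (CoxeterMatrix.G₂).toCoxeterSystem Nodes.RGDTwD4.isCartan Nodes.RGDTwD4.foldData
  have R := Nodes.RGDFold.rgd (CoxeterMatrix.G₂).toCoxeterSystem Nodes.RGDTwD4.isCartan Nodes.RGDTwD4.foldData FG 3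
  have hgen := Cfsg.Agent.Nodes.RGDLib.rgd_gen_of_G1 R (Nodes.RGDFold.G1_eq_top (CoxeterMatrix.G₂).toCoxeterSystem
    Nodes.RGDTwD4.isCartan Nodes.RGDTwD4.foldData FG 3)
  have hf : ∀ i, ∀ s ∈ D4.rep i :: D4.rest i, ∀ t, ((eps s : ℤ) : F) * φ t = φ t := fun i s hs t => by
    rw [D4.eps_one i s hs, Int.cast_one, one_mul]
  refine OwnRGD.own3 R hgen (Cfsg.Agent.FixBN.TwGood.isSolvable_T Nodes.RGDTwD4.hp) (fun i hsol => ?_) x hx hR hP
  have hd : ∀ (c : Fx φ ((D4.rest i).length + 1)) hc, Phi FG (D4.nodeOK i) (hf i) (dd c hc) ∈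
      RGD.B (CoxeterMatrix.G₂).toCoxeterSystem Nodes.RGDTwD4.isCartan
        ((chevD4.diagonalSubgroup F ⊓ twistedD4 F 3).subgroupOf (twistedD4 F 3))
        (fun z => (Nodes.RGDFold.R chevD4 Nodes.RGDTwD4.hp F J (D4Fixed.sig φ) z).subgroupOf (twistedD4 F 3)) := by
    intro c hc
    refine T_le_B ?_
    have h3 : dd c hc = hS c := by
      apply Subtype.ext
      exact (coe_hS hc).symm
    rw [h3]
    exact Phi_hS FG (D4.nodeOK i) (hf i) hc
  have hi : ∀ a, Phi FG (D4.nodeOK i) (hf i) (uu a) = 1 → a = 0 := by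
    intro a ha
    refine Phi_up_injective FG (D4.nodeOK i) (hf i) ?_
    show Phi FG (D4.nodeOK i) (hf i) (SL2Hom.up a) = Phi FG (D4.nodeOK i) (hf i) (SL2Hom.up 0)
    have h3 : (SL2Hom.up (0 : Fx φ ((D4.rest i).length + 1))) = 1 := by
      apply Subtype.ext
      show (!![1, 0; 0, 1] : Matrix (Fin 2) (Fin 2) _) = 1
      exact Matrix.one_fin_two.symm
    rw [h3, map_one]
    exact ha
  have hw : Phi FG (D4.nodeOK i) (hf i) (ww 1 one_ne_zero) = ⟨nI Nodes.RGDTwD4.hp F (J i), FG.nG i⟩ := by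
    have h3 : ww (1 : Fx φ ((D4.rest i).length + 1)) one_ne_zero = wS 1 := by
      apply Subtype.ext
      exact (coe_wS one_ne_zero).symm
    rw [h3]
    exact Phi_wS FG (D4.nodeOK i) (hf i)
  have hnode := fnode_of_sl R hgen (i := i) (Phi FG (D4.nodeOK i) (hf i)) (b := 1) one_ne_zero (by
      intro y
      rw [mem_X_iff FG (D4.nodeOK i) (hf i)]
      exact ⟨fun ⟨a, e⟩ => ⟨a, e.symm⟩, fun ⟨a, e⟩ => ⟨a, e.symm⟩⟩) hi hd hw
  have hne : (R.bnPair hgen).S.Nonempty := ⟨_, 0, rfl⟩
  have hS := SplitRGD.split_of_rgd Nat.prime_three R hgen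
    (Cfsg.Agent.Tits.OfBN.normalCore_eq_bot (R.bnPair hgen) hne)
  have hQ : Nat.card (Fx φ ((D4.rest i).length + 1)) = 2 ∨ Nat.card (Fx φ ((D4.rest i).length + 1)) = 3 := by
    have hN := bn_normal (R.bnPair hgen)
    exact H460.PanL.q_of_fsol hS (Equiv.ofInjective _ R.n_injective) (i := i) hnode hsol
  have h01 : i = 0 ∨ i = 1 := by
    fin_cases i
    · exact Or.inl rfl
    · exact Or.inr rfl
  rcases h01 with rfl | rfl
  swap
  · exfalso
    have h4 : Nat.card (Fx φ 3) = 3 ^ 3 := by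
      rw [card_Fx_top, Nat.card_eq_fintype_card, hF]
      intro x
      show φ (φ (φ x)) = x
      rw [hφ, hφ, hφ, ← pow_mul, ← pow_mul]
      have h3 := FiniteField.pow_card x
      rw [hF] at h3
      exact h3
    have h5 : Nat.card (Fx φ 3) = 2 ∨ Nat.card (Fx φ 3) = 3 := hQ
    rw [h4] at h5
    rcases h5 with h5 | h5 <;> norm_num at h5
  exact node_zero hφ FG (hf 0) (card_Fx_one hq.one_lt hF hφ)

end Cfsg.Agent.H422.OwnThreeD4
end

-- part: H422/OwnAll
section
/-!
# The groups of rank two over the field with three elements (task OWN3 for S3833)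

For `K = PSL₃(3)`, `PSp₄(3)`, `PSU₄(2)`, `PSU₄(3)`, `G₂(3)`, `³D₄(3)`: no automorphism of order 3 with `RC` and `PA 3`.
-/

set_option autoImplicit false

namespace Cfsg.Agent.H422.OwnAll

open Cfsg Cfsg.Agent.H459.Rad Cfsg.Agent.H460.AA Cfsg.Agent.ChevalleyStructure.NineField Cfsg.Agent.LieClassical.FieldTransfer

theorem transport {K L : Type} [Group K] [Group L] (e : K ≃* L)
    (h : ∀ x : MulAut L, orderOf x = 3 → PA 3 x → False) (x : MulAut K) (hx : orderOf x = 3) (hP : PA 3 x) : False :=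
  h (tr e x) (by rw [orderOf_tr, hx]) (PA_tr e hP)

instance : Fact (Nat.Prime 3) := ⟨Nat.prime_three⟩

/-- `PSL₃(3)` -/
theorem own3_PSL3 {F : Type} [Field F] [Fintype F] (hF : Fintype.card F = 3)
    (x : MulAut (Matrix.ProjectiveSpecialLinearGroup (Fin 3) F)) (hx : orderOf x = 3) (_hR : RC x) (hP : PA 3 x) :
    False := by
  have e : F ≃+* ZMod 3 := FiniteField.ringEquivOfCardEq (by rw [hF, ZMod.card])
  exact transport (pslCongr e) OwnLThree.own3_psl33 x hx hP

/-- `PSp₄(3)` -/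
theorem own3_PSp4 {F : Type} [Field F] [Fintype F] (hF : Fintype.card F = 3)
    (x : MulAut (PSp 2 F)) (hx : orderOf x = 3) (_hR : RC x) (hP : PA 3 x) : False := by
  have e : F ≃+* ZMod 3 := FiniteField.ringEquivOfCardEq (by rw [hF, ZMod.card])
  exact transport (pspCongr 2 e) OwnSpFour.own3_psp43 x hx hP

/-- `PSU₄(2)` -/
theorem own3_PSU4_two {F : Type} [Field F] [Fintype F] (hF : Fintype.card F = 2 ^ 2)
    (x : MulAut (PSU 4 F 2)) (hx : orderOf x = 3) (_hR : RC x) (hP : PA 3 x) : False := by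
  obtain ⟨e⟩ := Cfsg.Agent.S0822.result (K := ZMod 3) (hF.trans (by norm_num)) (ZMod.card 3)
  exact transport e OwnSpFour.own3_psp43 x hx hP

/-- `PSU₄(3)` -/
theorem own3_PSU4_three {F : Type} [Field F] [Fintype F] (hF : Fintype.card F = 3 ^ 2)
    (x : MulAut (PSU 4 F 3)) (hx : orderOf x = 3) (_hR : RC x) (hP : PA 3 x) : False := by
  have e : F ≃+* F9 := FiniteField.ringEquivOfCardEq (by rw [hF, F9.card_F9]; norm_num)
  exact transport (psuCongr 4 3 e) OwnUFour.own3_psu43 x hx hP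

/-- `PSU₄(q)`, `q = 2, 3` -/
theorem own3_PSU4 {F : Type} [Field F] [Fintype F] {q : ℕ} (hF : Fintype.card F = q ^ 2) (hq : q = 2 ∨ q = 3)
    (x : MulAut (PSU (2 * 2) F q)) (hx : orderOf x = 3) (hR : RC x) (hP : PA 3 x) : False := by
  rcases hq with rfl | rfl
  · exact own3_PSU4_two hF x hx hR hP
  · exact own3_PSU4_three hF x hx hR hP

/-- `G₂(3)` -/
theorem own3_G2 (F : Type) [Field F] [Finite F] (hF : Nat.card F = 3) [IsSimpleGroup ↥(Lie.chevG2.group F)]
    (x : MulAut ↥(Lie.chevG2.group F)) (hx : orderOf x = 3) (hR : RC x) (hP : PA 3 x) : False :=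
  OwnGTwo.own3_g2 F hF x hx hR hP

/-- `³D₄(3)` -/
theorem own3_3D4 {F : Type} [Field F] [Fintype F] {q : ℕ} (hF : Fintype.card F = q ^ 3) (hq : q = 3)
    [IsSimpleGroup ↥(Lie.twistedD4 F q)]
    (x : MulAut ↥(Lie.twistedD4 F q)) (hx : orderOf x = 3) (hR : RC x) (hP : PA 3 x) : False := by
  subst hq
  exact OwnThreeD4.own3_3D4 hF x hx hR hP

end Cfsg.Agent.H422.OwnAll
end

private theorem dce_3af23cb6d289 : _root_.True := by
  try have : _root_.True := by simp only [_root_.Cfsg.Agent.H422.OwnUFour.hm.eq_1]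
  try have : _root_.True := by simp only [_root_.Cfsg.Agent.H422.OwnUFour.A2'.eq_1]
  try have : _root_.True := by simp only [_root_.Cfsg.Agent.H422.OwnUFour.pw4.eq_1]
  try have : _root_.True := by simp only [_root_.Cfsg.Agent.H422.OwnUFour.p4.eq_1]
  try have : _root_.True := by simp only [_root_.Cfsg.Agent.H422.OwnUFour.p3.eq_1]
  try have : _root_.True := by simp only [_root_.Cfsg.Agent.H422.OwnUFour.A5'.eq_1]
  try have : _root_.True := by simp only [_root_.Cfsg.Agent.H422.OwnUFour.A5.eq_1]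
  try have : _root_.True := by simp only [_root_.Cfsg.Agent.H422.OwnUFour.um.eq_1]
  try have : _root_.True := by simp only [_root_.Cfsg.Agent.H422.OwnUFour.A4'.eq_1]
  try have : _root_.True := by simp only [_root_.Cfsg.Agent.H422.OwnUFour.p2.eq_1]
  try have : _root_.True := by simp only [_root_.Cfsg.Agent.H422.OwnUFour.p1.eq_1]
  try have : _root_.True := by simp only [_root_.Cfsg.Agent.H422.OwnUFour.A3'.eq_1]
  try have : _root_.True := by simp only [_root_.Cfsg.Agent.H422.OwnUFour.nm.eq_1]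
  try have : _root_.True := by simp only [_root_.Cfsg.Agent.H422.OwnUFour.A4.eq_1]
  try have : _root_.True := by simp only [_root_.Cfsg.Agent.H521.AASz.ofRel.congr_simp]
  try have : _root_.True := by simp only [_root_.Cfsg.Agent.H422.OwnUFour.p5.eq_1]
  try have : _root_.True := by simp only [_root_.Cfsg.Agent.H953.CorePsu3.rk.eq_1]
  try have : _root_.True := by simp only [_root_.Cfsg.Agent.H422.OwnUFour.A2.eq_1]
  try have : _root_.True := by simp only [_root_.Cfsg.Agent.H422.OwnUFour.A1.eq_1]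
  try have : _root_.True := by simp only [_root_.Cfsg.Agent.H422.OwnUFour.A3.eq_1]
  try have : _root_.True := by simp only [_root_.Cfsg.Agent.H422.OwnUFour.fm.eq_1]
  try have : _root_.True := by simp only [_root_.Cfsg.Agent.H422.OwnUFour.A1'.eq_1]
  exact _root_.True.intro
end
end

-- part: H460/AARed
section
set_option linter.all false
open scoped Cfsg.Agent.FastGrp

/-!
# Reduction of the `AA` problem to `Core` of the non-abelian simple groups (helper460, S3833, S3834, S3840)
-/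

set_option autoImplicit false
set_option linter.unusedSectionVars false

namespace Cfsg.Agent.H460.AA

open Cfsg Subgroup Cfsg.Agent.SignalizersComponents.ComponentExists Cfsg.Agent.H459.Rad
open Cfsg.Agent.SignalizersComponents.Components Cfsg.Agent.H459.Reduce
open scoped commutatorElement

universe u

/-- a non-abelian simple group contains commutators which are not `p`-elements -/
theorem exists_commutator_not_pe {L : Type*} [Group L] [Finite L] [IsSimpleGroup L] (hL : ¬ Group.IsSolvable L)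
    (p : ℕ) [hp : Fact p.Prime] : ∃ u v : L, ¬ PE p (u * v * u⁻¹ * v⁻¹) := by
  by_contra hcon
  push Not at hcon
  -- some prime `s ≠ p` divides the order
  obtain ⟨s, hs, hsp, hsd⟩ : ∃ s : ℕ, s.Prime ∧ s ≠ p ∧ s ∣ Nat.card L := by
    by_contra h
    push Not at h
    have h1 : ∃ k, Nat.card L = p ^ k := by
      refine ⟨_, Nat.eq_prime_pow_of_unique_prime_dvd (Nat.card_pos (α := L)).ne' ?_⟩
      intro d hd hdd
      by_contra hne
      exact h d hd hne hdd
    obtain ⟨k, hk⟩ := h1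
    have h2 : IsPGroup p L := IsPGroup.of_card hk
    have := h2.isNilpotent
    exact hL inferInstance
  haveI : Fact s.Prime := ⟨hs⟩
  obtain ⟨S⟩ : Nonempty (Sylow s L) := inferInstance
  have hN : (normalizer (S : Set L)) ≤ centralizer (S : Set L) := by
    intro n hn
    rw [mem_centralizer_iff]
    intro σ hσ
    have h1 : n * σ * n⁻¹ * σ⁻¹ ∈ (S : Subgroup L) :=
      mul_mem ((mem_normalizer_iff.1 hn σ).1 hσ) (inv_mem hσ)
    have h2 : n * σ * n⁻¹ * σ⁻¹ = 1 := by
      refine PE.eq_one (p := p) (hcon n σ) ?_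
      intro hd
      obtain ⟨k, hk⟩ := (IsPGroup.iff_orderOf.1 S.2) ⟨_, h1⟩
      rw [Subgroup.orderOf_mk] at hk
      rw [hk] at hd
      exact hsp ((Nat.prime_dvd_prime_iff_eq hp.out hs).1 (hp.out.dvd_of_dvd_pow hd)).symm
    calc σ * n = (n * σ * n⁻¹ * σ⁻¹)⁻¹ * n * σ := by group
      _ = n * σ := by rw [h2]; group
  have h1 := MonoidHom.ker_transferSylow_isComplement' S hN
  have h2 := MonoidHom.not_dvd_card_ker_transferSylow S hN
  rcases (MonoidHom.normal_ker (MonoidHom.transferSylow S hN)).eq_bot_or_eq_top with h3 | h3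
  · rw [h3] at h1
    have h4 : (S : Subgroup L) = ⊤ := Subgroup.isComplement'_bot_left.1 h1
    have h5 : IsPGroup s L := by
      have h6 := S.2
      rw [h4] at h6
      exact h6.of_equiv Subgroup.topEquiv
    have := h5.isNilpotent
    exact hL inferInstance
  · rw [h3] at h2
    exact h2 (by rwa [Subgroup.card_top])

section Comp

variable {G : Type u} [Group G] [Finite G]

/-- a component, an element moving it: the `AA` condition fails -/
theorem movedAA {p : ℕ} [Fact p.Prime] (hp2 : p ≠ 2) (hR : solvableRadical G = ⊥) {x : G}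
    (hx : x ^ p = 1) {L : Subgroup G} (hL : IsComponent L) (hm : x ∉ normalizer (L : Set G))
    (h : ∀ g : G, PE p (x * (g * x * g⁻¹))) : False := by
  have hp : p.Prime := Fact.out
  have hns : ¬ Group.IsSolvable L := quasisimple_not_isSolvable hL.2
  have hcen := component_center hR hL
  have hsimp := component_simple hR hL
  obtain ⟨u, v, huv⟩ := exists_commutator_not_pe hns p
  apply huv
  set N := normalizer (L : Set G) with hN
  set ρ : N →* MulAut L := L.normalizerMonoidHom with hρ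
  have hLN : L ≤ N := le_normalizer
  have hinj : Function.Injective (MulAut.conj : L →* MulAut L) := conj_injective hcen
  have hρL : ∀ l : L, ρ ⟨l, hLN l.2⟩ = MulAut.conj l := by
    intro l
    ext y
    rfl
  have hρC : ∀ (y : G) (hy : y ∈ N), (∀ l ∈ L, y * l = l * y) → ρ ⟨y, hy⟩ = 1 := by
    intro y hy hc
    ext l
    change y * l * y⁻¹ = l
    rw [hc l l.2]; group
  have hcN : ∀ y : G, (∀ l ∈ L, y * l = l * y) → y ∈ N := by
    intro y hy
    rw [hN, Subgroup.mem_normalizer_iff]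
    intro l
    constructor
    · intro hl
      rw [hy l hl]; simpa using hl
    · intro hl
      have h1 := hy _ hl
      have h2 : y * l * y⁻¹ = l := by
        have h3 : y * (y * l * y⁻¹) = (y * l * y⁻¹) * y := h1
        have h4 : y * (y * l * y⁻¹) = y * l := by rw [h3]; group
        exact mul_left_cancel h4
      rwa [h2] at hl
  -- powers of `x` not divisible by `p` move `L`
  have hmov : ∀ i : ℤ, ¬ (p : ℤ) ∣ i → cj (x ^ i) L ≠ L := by
    intro i hi h1
    have h2 := mem_normalizer_of_cj h1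
    apply hm
    have h3 : IsCoprime i (p : ℤ) := by
      rw [isCoprime_comm]
      exact (Nat.prime_iff_prime_int.1 hp).coprime_iff_not_dvd.2 hi
    obtain ⟨a, b, hab⟩ := h3
    have h4 : x = (x ^ i) ^ a := by
      have h5 : x ^ (p : ℤ) = 1 := by rw [zpow_natCast]; exact hx
      calc x = x ^ (a * i + b * p) := by rw [hab, zpow_one]
        _ = (x ^ i) ^ a * (x ^ (p : ℤ)) ^ b := by
          rw [zpow_add, mul_comm a i, zpow_mul, mul_comm b, zpow_mul]
        _ = _ := by rw [h5, one_zpow, mul_one]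
    rw [h4]
    exact zpow_mem h2 a
  -- the image of `x ^ i l x ^ -i`
  have hmemi : ∀ (i : ℤ) (l : L), x ^ i * l * (x ^ i)⁻¹ ∈ N := by
    intro i l
    by_cases hi : (p : ℤ) ∣ i
    · obtain ⟨j, rfl⟩ := hi
      have h5 : x ^ ((p : ℤ) * j) = 1 := by rw [zpow_mul, zpow_natCast, hx, one_zpow]
      rw [h5]; simpa using hLN l.2
    · exact hcN _ fun l' hl' => comm_of_cj_ne hL (hmov i hi) (conj_mem_cj l.2) hl'
  have himg : ∀ (i : ℤ) (l : L), ρ ⟨_, hmemi i l⟩ = if (p : ℤ) ∣ i then MulAut.conj l else 1 := by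
    intro i l
    by_cases hi : (p : ℤ) ∣ i
    · rw [if_pos hi]
      obtain ⟨j, rfl⟩ := hi
      have h5 : x ^ ((p : ℤ) * j) = 1 := by rw [zpow_mul, zpow_natCast, hx, one_zpow]
      have h6 : (⟨_, hmemi ((p : ℤ) * j) l⟩ : N) = ⟨l, hLN l.2⟩ := by
        apply Subtype.ext
        change x ^ ((p : ℤ) * j) * l * (x ^ ((p : ℤ) * j))⁻¹ = l
        rw [h5]; simp
      rw [h6, hρL]
    · rw [if_neg hi]
      exact hρC _ _ fun l' hl' => comm_of_cj_ne hL (hmov i hi) (conj_mem_cj l.2) hl'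
  -- the product
  set g : G := x⁻¹ * u * x * (x⁻¹ * x⁻¹ * (v : G)⁻¹ * x * x) with hg
  have ht := h g
  set t : G := x * (g * x * g⁻¹) with htdef
  -- `z_j`
  obtain ⟨q, hqd⟩ : ∃ q : ℤ → N, ∀ j, q j = ⟨_, hmemi (2 * j) u⟩ * ⟨_, hmemi (2 * j - 1) v⁻¹⟩ *
    ⟨_, hmemi (2 * j) v⟩ * ⟨_, hmemi (2 * j + 1) u⁻¹⟩ := ⟨_, fun _ => rfl⟩
  have hqG : ∀ j : ℤ, (q j : G) = x ^ (2 * j) * u * (x ^ (2 * j))⁻¹ * (x ^ (2 * j - 1) * (v : G)⁻¹ * (x ^ (2 * j - 1))⁻¹) *
      (x ^ (2 * j) * v * (x ^ (2 * j))⁻¹) * (x ^ (2 * j + 1) * (u : G)⁻¹ * (x ^ (2 * j + 1))⁻¹) := by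
    intro j; rw [hqd]; rfl
  have hq0 : (q 0 : G) = u * (x⁻¹ * (v : G)⁻¹ * x) * v * (x * (u : G)⁻¹ * x⁻¹) := by
    rw [hqG]
    simp only [mul_zero, zpow_zero, zero_sub, zero_add, zpow_neg, zpow_one]
    group
  have hq : ∀ j : ℤ, (q j : G) = x ^ (2 * j) * (q 0 : G) * (x ^ (2 * j))⁻¹ := by
    intro j
    rw [hqG, hq0, zpow_add, zpow_sub, zpow_one]
    generalize x ^ (2 * j) = y
    group
  have ht0 : t = (q 0 : G) * (x * x) := by
    rw [hq0, htdef, hg]
    group
  have hρq : ∀ j : ℤ, ρ (q j) = (if (p : ℤ) ∣ 2 * j then MulAut.conj u else 1) *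
      (if (p : ℤ) ∣ 2 * j - 1 then MulAut.conj v⁻¹ else 1) * (if (p : ℤ) ∣ 2 * j then MulAut.conj v else 1) *
      (if (p : ℤ) ∣ 2 * j + 1 then MulAut.conj u⁻¹ else 1) := by
    intro j
    rw [hqd, map_mul, map_mul, map_mul, himg, himg, himg, himg]
  -- partial products
  obtain ⟨s, hs0, hss⟩ : ∃ s : ℕ → N, s 0 = 1 ∧ ∀ n : ℕ, s (n + 1) = s n * q n :=
    ⟨fun n => Nat.rec 1 (fun k r => r * q k) n, rfl, fun _ => rfl⟩
  have htn : ∀ n : ℕ, t ^ n = (s n : G) * x ^ (2 * (n : ℤ)) := by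
    intro n
    induction n with
    | zero => simp only [hs0, _root_.pow_zero, _root_.OneMemClass.coe_one, _root_.CharP.cast_eq_zero, _root_.MulZeroClass.mul_zero, _root_.zpow_ofNat, _root_.mul_one]
    | succ n ih =>
      rw [pow_succ, ih, hss, Subgroup.coe_mul, hq n, ht0]
      push_cast
      have e : x ^ (2 * ((n : ℤ) + 1)) = x ^ (2 * (n : ℤ)) * (x * x) := by
        rw [mul_add, zpow_add, mul_one, zpow_ofNat, pow_two]
      rw [e]
      generalize x ^ (2 * (n : ℤ)) = y
      group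
  obtain ⟨m, hm'⟩ : Odd p := hp.odd_of_ne_two hp2
  have hm1 : 1 ≤ m := by
    have := hp.two_le
    omega
  have hpz : (p : ℤ) = 2 * m + 1 := by rw [hm']; push_cast; ring
  -- values of the three conditions
  have c0 : ∀ j : ℕ, j < p → ((p : ℤ) ∣ 2 * (j : ℤ) ↔ j = 0) := by
    intro j hj
    constructor
    · rintro ⟨k, hk⟩
      have h1 : (j : ℤ) < p := by exact_mod_cast hj
      have h2 : (0 : ℤ) ≤ j := by (clear * -; positivity)
      have hp0 : (0 : ℤ) < p := by exact_mod_cast hp.pos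
      have h3 : k < 2 := by nlinarith only [hj, hk]
      have h4 : 0 ≤ k := by nlinarith only [hm', hk]
      interval_cases k
      · have : (j : ℤ) = 0 := by linarith only [hk]
        exact_mod_cast this
      · exfalso; omega
    · rintro rfl; simp
  have c1 : ∀ j : ℕ, j < p → ((p : ℤ) ∣ 2 * (j : ℤ) - 1 ↔ j = m + 1) := by
    intro j hj
    constructor
    · rintro ⟨k, hk⟩
      have h1 : (j : ℤ) < p := by exact_mod_cast hj
      have h2 : (0 : ℤ) ≤ j := by (clear * -; positivity)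
      have hp0 : (0 : ℤ) < p := by exact_mod_cast hp.pos
      have h3 : k < 2 := by nlinarith only [hj, hk]
      have h4 : -1 < k := by
        have : (3 : ℤ) ≤ p := by omega
        nlinarith only [hm', hm1, hk]
      interval_cases k
      · exfalso; omega
      · omega
    · rintro rfl
      exact ⟨1, by rw [hpz]; push_cast; ring⟩
  have c2 : ∀ j : ℕ, j < p → ((p : ℤ) ∣ 2 * (j : ℤ) + 1 ↔ j = m) := by
    intro j hj
    constructor
    · rintro ⟨k, hk⟩
      have h1 : (j : ℤ) < p := by exact_mod_cast hj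
      have h2 : (0 : ℤ) ≤ j := by (clear * -; positivity)
      have hp0 : (0 : ℤ) < p := by exact_mod_cast hp.pos
      have h3 : k < 2 := by nlinarith only [hj, hk]
      have h4 : 0 < k := by nlinarith only [hk]
      have : k = 1 := by omega
      subst this
      omega
    · rintro rfl
      exact ⟨1, by rw [hpz]; ring⟩
  have hρs : ∀ n : ℕ, n ≤ p → ρ (s n) = if n = 0 then 1 else if n ≤ m then MulAut.conj (u * v) else
      if n ≤ m + 1 then MulAut.conj (u * v * u⁻¹) else MulAut.conj (u * v * u⁻¹ * v⁻¹) := by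
    intro n
    induction n with
    | zero => intro _; simp [hs0]
    | succ n ih =>
      intro hn
      rw [hss, map_mul, ih (by omega), hρq]
      have e0 := c0 n (by omega)
      have e1 := c1 n (by omega)
      have e2 := c2 n (by omega)
      rw [if_neg (Nat.succ_ne_zero n)]
      by_cases hn0 : n = 0
      · subst hn0
        rw [if_pos rfl, if_pos (e0.2 rfl), if_neg (fun h => by have := e1.1 h; omega), if_pos (e0.2 rfl),
          if_neg (fun h => by have := e2.1 h; omega), if_pos (by omega), one_mul, mul_one, mul_one, ← map_mul]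
      rw [if_neg hn0, if_neg (fun h => hn0 (e0.1 h)), if_neg (fun h => hn0 (e0.1 h)), one_mul, mul_one]
      rcases lt_trichotomy n m with h1 | h1 | h1
      · rw [if_pos (by omega), if_neg (fun h => by have := e1.1 h; omega),
          if_neg (fun h => by have := e2.1 h; omega), if_pos (by omega), mul_one, mul_one]
      · subst h1
        rw [if_pos le_rfl, if_neg (fun h => by have := e1.1 h; omega), if_pos (e2.2 rfl),
          if_neg (by omega), if_pos le_rfl, one_mul, ← map_mul]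
      · rw [if_neg (by omega)]
        by_cases h2 : n = m + 1
        · subst h2
          rw [if_pos le_rfl, if_pos (e1.2 rfl), if_neg (fun h => by have := e2.1 h; omega),
            if_neg (by omega), if_neg (by omega), mul_one, ← map_mul]
        · rw [if_neg (by omega), if_neg (fun h => by have := e1.1 h; omega),
            if_neg (fun h => by have := e2.1 h; omega), if_neg (by omega), if_neg (by omega), mul_one, mul_one]
  have hsp := hρs p le_rfl
  rw [if_neg hp.ne_zero, if_neg (by omega), if_neg (by omega)] at hsp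
  have htp : t ^ p = (s p : G) := by
    rw [htn]
    have h5 : x ^ (2 * (p : ℤ)) = 1 := by rw [mul_comm, zpow_mul, zpow_natCast, hx, one_zpow]
    rw [h5, mul_one]
  have h6 : PE p (s p) := PE.coe.1 (htp ▸ ht.pow p)
  have h7 := h6.map ρ
  rw [hsp] at h7
  exact PE.of_injective (f := MulAut.conj) hinj h7

end Comp

/-- **The reduction.** -/
theorem reduction {p : ℕ} [Fact p.Prime] (hp2 : p ≠ 2)
    (core : ∀ (K : Type u) [Group K] [Finite K] [IsSimpleGroup K] (x : MulAut K), ¬ IsMulCommutative K →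
      orderOf x = p → RC x → PA p x → False)
    (G : Type u) [Group G] [Finite G] (x : G) (hx : orderOf x = p) (h : ∀ g : G, PE p (x * (g * x * g⁻¹))) :
    x ∈ solvableRadical G := by
  induction hn : Nat.card G using Nat.strong_induction_on generalizing G with
  | _ n ih =>
    subst hn
    by_contra hxR
    have hp : p.Prime := Fact.out
    have hR : solvableRadical G = ⊥ := by
      by_contra hne
      have hRn := rad_normal G
      set R := solvableRadical G with hRdef
      have hx1 : QuotientGroup.mk' R x ≠ 1 := fun h1 => hxR ((QuotientGroup.eq_one_iff x).1 h1)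
      have hox : orderOf (QuotientGroup.mk' R x) = p := by
        have h1 : orderOf (QuotientGroup.mk' R x) ∣ p := hx ▸ orderOf_map_dvd _ x
        rcases (Nat.dvd_prime hp).1 h1 with h2 | h2
        · exact absurd (orderOf_eq_one_iff.1 h2) hx1
        · exact h2
      have hcard : Nat.card (G ⧸ R) < Nat.card G := by
        have h3 := Subgroup.card_eq_card_quotient_mul_card_subgroup R
        have h4 : 1 < Nat.card R := (Subgroup.one_lt_card_iff_ne_bot R).mpr hne
        have h5 : 0 < Nat.card (G ⧸ R) := Nat.card_pos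
        nlinarith only [h3, h4, h5]
      have h1 := ih _ hcard (G ⧸ R) (QuotientGroup.mk' R x) hox
        (by
          intro g
          obtain ⟨g, rfl⟩ := QuotientGroup.mk'_surjective R g
          have h2 := (h g).map (QuotientGroup.mk' R)
          rwa [map_mul, map_mul, map_mul, map_inv] at h2) rfl
      have h2 : solvableRadical (G ⧸ R) = ⊥ := rad_quotient
      rw [h2, mem_bot] at h1
      exact hx1 h1
    have hsub : ∀ H : Subgroup G, H ≠ ⊤ → x ∈ H → x ∈ radIn H := by
      intro H hH hxH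
      have hcard : Nat.card H < Nat.card G :=
        lt_of_le_of_ne (Subgroup.card_le_card_group H) fun h => hH (Subgroup.eq_top_of_card_eq H h)
      have h1 := ih _ hcard H ⟨x, hxH⟩ (by rw [Subgroup.orderOf_mk]; exact hx)
        (fun g => PE.coe.1 (h g)) rfl
      exact mem_radIn_coe.2 h1
    have hx1 : x ≠ 1 := by
      rintro rfl
      rw [orderOf_one] at hx
      exact hp.one_lt.ne hx
    obtain ⟨L, hL, l0, hl0, hne0⟩ := exists_component hR hx1
    by_cases hm : x ∈ normalizer (L : Set G)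
    swap
    · exact movedAA hp2 hR (by rw [← hx]; exact pow_orderOf_eq_one x) hL hm h
    have hsimp := component_simple hR hL
    set N := normalizer (L : Set G) with hN
    set ρ : N →* MulAut L := L.normalizerMonoidHom with hρ
    have hLN : L ≤ N := le_normalizer
    have hρL : ∀ l : L, ρ ⟨l, hLN l.2⟩ = MulAut.conj l := by
      intro l
      ext y
      rfl
    set y : MulAut L := ρ ⟨x, hm⟩ with hy
    have hyl : ∀ l : L, ((y l : L) : G) = x * l * x⁻¹ := fun l => rfl
    refine core L y (quasisimple_not_isMulCommutative hL.2) ?_ ?_ ?_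
    · have h1 : orderOf y ∣ p := by
        have h2 : orderOf y ∣ orderOf (⟨x, hm⟩ : N) := orderOf_map_dvd ρ _
        rwa [Subgroup.orderOf_mk, hx] at h2
      rcases (Nat.dvd_prime hp).1 h1 with h2 | h2
      · exfalso
        rw [orderOf_eq_one_iff] at h2
        apply hne0
        have h3 : ((y ⟨l0, hl0⟩ : L) : G) = l0 := by rw [h2]; rfl
        rw [hyl] at h3
        calc x * l0 = (x * l0 * x⁻¹) * x := by group
          _ = l0 * x := by rw [h3]
      · exact h2
    · -- `RC`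
      intro M hM hMx m hm'
      set M' : Subgroup G := M.map L.subtype with hM'
      set H : Subgroup G := M' ⊔ zpowers x with hH
      have hxH : x ∈ H := mem_sup_right (mem_zpowers x)
      have hM'x : ∀ g ∈ M', x * g * x⁻¹ ∈ M' := by
        rintro _ ⟨l, hl, rfl⟩
        exact ⟨y l, hMx l hl, hyl l⟩
      have hHn : H ≤ normalizer (M' : Set G) := by
        refine sup_le le_normalizer ?_
        rw [zpowers_le]
        refine mem_normalizer_of_cj ?_
        have hle : cj x M' ≤ M' := by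
          rintro _ ⟨g, hg, rfl⟩
          exact hM'x g hg
        exact Subgroup.eq_of_le_of_card_ge hle (le_of_eq (Subgroup.card_map_of_injective
          (K := M') (MulAut.conj x).injective).symm)
      have hHt : H ≠ ⊤ := by
        intro hHt
        have hMn : M'.Normal := by
          rw [hHt] at hHn
          exact Subgroup.normalizer_eq_top_iff.1 (top_le_iff.1 hHn)
        have hMn' : M.Normal := by
          refine ⟨fun n hn g => ?_⟩
          have h1 := hMn.conj_mem _ (show (n : G) ∈ M' from ⟨n, hn, rfl⟩) g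
          obtain ⟨n', hn', h2⟩ := h1
          have h3 : n' = g * n * g⁻¹ := Subtype.ext h2
          rwa [← h3]
        rcases hMn'.eq_bot_or_eq_top with h1 | h1
        · have h2 : (⊤ : Subgroup G) = zpowers x := by
            rw [← hHt, hH, hM', h1, Subgroup.map_bot, bot_sup_eq]
          have h3 : Group.IsSolvable G := by
            have h4 : ∀ a b : G, a * b = b * a := by
              intro a b
              obtain ⟨i, rfl⟩ := mem_zpowers_iff.1 (show a ∈ zpowers x by rw [← h2]; exact mem_top _)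
              obtain ⟨j, rfl⟩ := mem_zpowers_iff.1 (show b ∈ zpowers x by rw [← h2]; exact mem_top _)
              rw [← zpow_add, ← zpow_add, add_comm]
            exact Group.isSolvable_of_comm h4
          rw [← rad_eq_top_iff, hR] at h3
          have h4 : x ∈ (⊥ : Subgroup G) := by rw [h3]; exact mem_top _
          exact hx1 (mem_bot.1 h4)
        · exact hM h1
      have hxr := hsub H hHt hxH
      have hmM' : (m : G) ∈ M' := ⟨m, hm', rfl⟩
      have hM'H : M' ≤ H := le_sup_left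
      have h1 : (m : G)⁻¹ * x * m * x⁻¹ ∈ radIn H := by
        have h2 := radIn_conj_mem (inv_mem (hM'H hmM')) hxr
        rw [inv_inv] at h2
        exact mul_mem h2 (inv_mem hxr)
      have h2 : (m : G)⁻¹ * x * m * x⁻¹ ∈ M' := by
        have h3 := mul_mem (inv_mem hmM') (hM'x _ hmM')
        have e : (m : G)⁻¹ * x * m * x⁻¹ = (m : G)⁻¹ * (x * m * x⁻¹) := by group
        rwa [e]
      have h3 := radIn_inf_le hM'H ⟨h1, h2⟩
      have h4 : (radIn M).map L.subtype = radIn M' := by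
        apply le_antisymm
        · refine le_radIn (map_mono (radIn_le M)) ?_ (isSolvable_map (radIn_solvable M) _)
          rintro _ ⟨g, hg, rfl⟩ _ ⟨n, hn, rfl⟩
          exact ⟨g * n * g⁻¹, radIn_conj_mem hg hn, by simp only [_root_.Subgroup.subtype_apply, _root_.Subgroup.coe_mul, _root_.InvMemClass.coe_inv]⟩
        · have h5 : radIn M' ≤ L := (radIn_le M').trans (map_subtype_le _)
          have h6 : (radIn M').subgroupOf L ≤ radIn M := by
            refine le_radIn ?_ ?_ ?_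
            · intro l hl
              obtain ⟨l', hl', h7⟩ := radIn_le M' (mem_subgroupOf.1 hl)
              rwa [← Subtype.ext h7]
            · intro g hg n hn
              rw [mem_subgroupOf] at hn ⊢
              exact radIn_conj_mem (M := M') ⟨g, hg, rfl⟩ hn
            · have := radIn_solvable M'
              exact Group.isSolvable_of_surjective (f := (subgroupOfEquivOfLe h5).symm.toMonoidHom)
                (subgroupOfEquivOfLe h5).symm.surjective
          intro z hz
          exact ⟨⟨z, h5 hz⟩, h6 (mem_subgroupOf.2 hz), rfl⟩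
      rw [← h4] at h3
      obtain ⟨w, hw, h5⟩ := h3
      have h6 : w = m⁻¹ * y m := by
        apply Subtype.ext
        rw [show ((w : L) : G) = L.subtype w from rfl, h5]
        push_cast
        rw [hyl]
        group
      rwa [← h6]
    · -- `PA`
      intro g
      have h1 := h (g : G)
      have hgN : (g : G) * x * (g : G)⁻¹ ∈ N := mul_mem (mul_mem (hLN g.2) hm) (inv_mem (hLN g.2))
      have h2 : PE p ((⟨x, hm⟩ : N) * ⟨_, hgN⟩) := PE.coe.1 h1
      have h3 := h2.map ρ
      have h4 : (⟨_, hgN⟩ : N) = ⟨g, hLN g.2⟩ * ⟨x, hm⟩ * ⟨g, hLN g.2⟩⁻¹ := rfl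
      rw [map_mul, h4, map_mul, map_mul, map_inv, hρL] at h3
      exact h3

end Cfsg.Agent.H460.AA
end

section
prune_inst 0xfabcf98fb837ffdf7f7e77afdddffddfbcffffacdff9cbffe869ffafdf6b0a09c5fbad8fe810fe1ed6c21410e87b43fffffeffe26bfc7ffffd5ff45ffbff9ffdf7bd0851968c340f380fff63f07f8e7f000000000000000000000000000000004200000000

-- part: H235/AA/Ru
section
set_option linter.all false
open scoped Cfsg.Agent.FastGrp

/-!
# The `AA` problem for `Ru` (helper235)
-/

set_option autoImplicit false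
set_option maxRecDepth 100000
set_option exponentiation.threshold 5000

namespace Cfsg.Agent.H235.AA.Ru

open Cfsg.Agent.SporadicB Cfsg.Agent.SporadicB.RuOrder Cfsg.Agent.SporRec.TCUpperCert Cfsg.Agent.SporRec.R3.Kernel
  Cfsg.Agent.RuD.Letters
open Cfsg.Agent.H978.RadRu Cfsg.Agent.H235.AA.Tools Cfsg.Agent.H235.AA.Reps Cfsg.Agent.H859 Cfsg.Agent.H460.AA
open Cfsg.Agent.H839.Rad (RadFree false_of_sylow)

/-- the certificate -/
noncomputable def chkP (b : ℕ) (u v vi : List ℕ) (n : ℕ) : Bool :=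
  and (and (Nat.beq (Nat.gcd 5 n) 1) (and (Nat.ble (Nat.succ b) 4060) (not (Nat.beq (evalK (u ++ (v ++ (u ++ vi))) b) b))))
    (chkRel [v ++ vi, rep n (u ++ (v ++ (u ++ vi)))])

theorem not_pc_of_chk {b : ℕ} {u v vi : List ℕ} {n : ℕ} (h : chkP b u v vi n = true) : ¬ PC 5 (wprod ml u) := by
  unfold chkP at h
  rw [Bool.and_eq_true, Bool.and_eq_true, Bool.and_eq_true] at h
  obtain ⟨⟨hn, hb, h0⟩, hr⟩ := h
  have hr' := rel_of_chk hr
  have r1 := hr' (v ++ vi) (by simp)
  have r2 := hr' (rep n (u ++ (v ++ (u ++ vi)))) (by simp)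
  have h1 := ne_one_of (Nat.le_of_ble_eq_true hb) (by simpa using h0)
  simp only [wprod_rep, wprod_append] at r1 r2 h1
  have hvi : wprod ml vi = (wprod ml v)⁻¹ := (inv_eq_of_mul_eq_one_right r1).symm
  rw [hvi, ← mul_assoc (wprod ml v)] at r2 h1
  exact not_pc (g := wprod ml v) r2 h1 (Nat.eq_of_beq_eq_true hn)

section fast
open Cfsg.Agent.Lib.BitNet

private def trs (x : ℕ) (l : List (ℕ × ℕ)) : ℕ :=
  l.foldr (fun p y => dsw (Nat.pow 2 p.2 - Nat.pow 2 p.1) (trMask 16 p.1 p.2) y) x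

private theorem testBit_trs (x : ℕ) : ∀ l : List (ℕ × ℕ), (∀ p ∈ l, p.1 < p.2 ∧ p.2 < 16) → ∀ I < 2 ^ 16, ∃ J < 2 ^ 16,
    (trs x l).testBit I = x.testBit J ∧ ∀ j, J.testBit j = I.testBit (l.foldr (fun p i => swapIdx p.1 p.2 i) j)
  | [], _, I, hI => ⟨I, hI, rfl, fun _ => rfl⟩
  | p :: l, h, I, hI => by
    obtain ⟨h1, h2⟩ := h p List.mem_cons_self
    obtain ⟨h3, h4⟩ := sw_trMask h1 h2 hI
    obtain ⟨J, h5, h6, h7⟩ := testBit_trs x l (fun q hq => h q (List.mem_cons_of_mem _ hq)) _ h4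
    exact ⟨J, h5, (testBit_dsw (trMask_valid h1 h2) _ I).trans h6, fun j => (h7 j).trans (h3 _)⟩

private def swL : List (ℕ × ℕ) :=
  [(0, 12), (1, 13), (2, 14), (3, 15), (0, 8), (1, 9), (2, 10), (3, 11), (0, 4), (1, 5), (2, 6), (3, 7)]

/-- the table of a network -/
private def tabN (l : List (ℕ × ℕ)) : ℕ := trs (appMr 4096 4 l.reverse (pack (fun r => idxMask 16 r) 4096 4 0)) swL

private theorem tabN_eq {l : List (ℕ × ℕ)} (h : In 4096 l) {c : ℕ} (hc : c < 4096) :
    Nat.mod (Nat.shiftRight (tabN l) (Nat.mul 16 c)) 4096 = app l c := by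
  have h0 := h.app_lt hc
  refine Nat.eq_of_testBit_eq fun r => ?_
  show (tabN l >>> (16 * c) % 2 ^ 12).testBit r = _
  rw [Nat.testBit_mod_two_pow, Nat.testBit_shiftRight]
  rcases Nat.lt_or_ge r 12 with hr | hr
  · obtain ⟨J, h1, h2, h3⟩ := testBit_trs (appMr 4096 4 l.reverse (pack (fun r => idxMask 16 r) 4096 4 0)) swL
      (by decide) (16 * c + r) (by omega)
    have h4 : J = 2 ^ 12 * r + c := Nat.eq_of_testBit_eq fun j => by
      rcases Nat.lt_or_ge j 16 with hj | hj
      · have h5 : ∀ j < 16, swL.foldr (fun p i => swapIdx p.1 p.2 i) j = if j < 12 then j + 4 else j - 12 := by decide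
        rw [h3, h5 j hj, Nat.testBit_two_pow_mul_add r (show c < 2 ^ 12 from hc),
          show 16 * c + r = 2 ^ 4 * c + r from rfl, Nat.testBit_two_pow_mul_add c (show r < 2 ^ 4 by omega)]
        by_cases h6 : j < 12
        · rw [if_pos h6, if_pos h6, if_neg (by omega), Nat.add_sub_cancel]
        · rw [if_neg h6, if_neg h6, if_pos (by omega)]
      · have h6 : 2 ^ 16 ≤ 2 ^ j := Nat.pow_le_pow_right (by decide) hj
        rw [Nat.testBit_lt_two_pow (h1.trans_le h6), Nat.testBit_lt_two_pow (lt_of_lt_of_le (by omega) h6)]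
    have h7 := testBit_appMr (k := 4) (l := l.reverse) (fun p hp => h p (List.mem_reverse.1 hp))
      (pack (fun r => idxMask 16 r) 4096 4 0) (r := r) (by omega) h0
    rw [Cfsg.Agent.Lib.BitNetSimple.app_reverse, appInv_app h.valid, testBit_pack _ 4 0 (by omega) h0, Nat.zero_add,
      testBit_idxMask (by omega), decide_eq_true (show app l c < 2 ^ 16 by omega), Bool.true_and] at h7
    rw [decide_eq_true hr, Bool.true_and, ← h7]
    exact h2.trans (congrArg _ h4)
  · rw [decide_eq_false (by omega), Bool.false_and,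
      Nat.testBit_lt_two_pow (h0.trans_le (Nat.pow_le_pow_right (by decide) hr : 2 ^ 12 ≤ 2 ^ r))]

private noncomputable def nthT (l : List ℕ) : ℕ → ℕ :=
  List.rec (motive := fun _ => ℕ → ℕ) (fun _ => tabN [])
    (fun x _ ih a => Nat.rec (motive := fun _ => ℕ) x (fun b _ => ih b) a) l

private theorem nthT_map : ∀ (l : List (List (ℕ × ℕ))) (a : ℕ), nthT (l.map tabN) a = tabN (nthL l a)
  | [], _ => rfl
  | _ :: _, 0 => rfl
  | _ :: l, a + 1 => nthT_map l a

private theorem in_nthL : ∀ (l : List (List (ℕ × ℕ))), allL (inn 4096) l = true → ∀ a, In 4096 (nthL l a)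
  | [], _, _ => fun _ hp => absurd hp List.not_mem_nil
  | x :: _, h, 0 => inn_sound ((allL_iff _ _).1 h x List.mem_cons_self)
  | _ :: l, h, a + 1 => in_nthL l ((allL_iff _ _).2 fun y hy => (allL_iff _ _).1 h y (List.mem_cons_of_mem _ hy)) a

private theorem in_NL : allL (inn 4096) NL = true := by decide +kernel

private def TL : List ℕ := [
  0xfff0ffe0ffd0ffc0ffb0ffa0ff90ff80ff70ff60ff50ff40ff30ff20ff10ff00fef0fee0fed0fec0feb0fea0fe90fe80fe70fe60fe50fe40fe30fe20fe10fe00fdf0fde0fdd0fdc06860c90053a08b0046805170809080a019f0a670d3005ec09750b0505160f5d0112040a0b3d0106045c010e0e3f00bc097e09f603200f5105970f3e06c60f9d04160a8e028f0aab0f220e2405ed0d6300bf0802068d044b01a207f90fac0fad02ad05650a4a050c02b605a10cb10aba022303110ae500bb034e04af0fbc08e80f250f4701e90eac0e400d730a80008103ea06ef0b1b0ba60df00d97076105f20c29046107630aee045f00fb0cea09d405a6052701550305051808db09f209870c3f00160d5e06fc040105b20ab50a4d0b2104c908770dff0904096e0cd80f0d0d7608010b550be200a406b50aa80b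6b0d540e5406e40d59029102eb0fcc060a0ea00e7a090201af0c30053c07030b3204c409be0fc00ea90b19042c0b480e360a8403100c5d01bb0f9a0a3808fc0243004f0b0c0ba0028406f20fbe0c4401d9056201be0f0f087c07950d1408d30ccc0621043d011709bb03630486032402330d6405d709520d4409f80d0b0f9b017b05fd0fb704600ee8072d06d30b08093401bd02bb02a303930242099a089f0cc103070a1a0cf705700f3905c60f6c043f056908e00c5a039e06a704a1085b0af4070a070b03440b9e02c40698003f00f407110cf90d9b05f4013004c805860715029c0e5b07810972028008c903810939090101f803300f200d0901770df70d8101c4008406a00c010df5019d00a208c30581038d076505cf03f40ad9009409eb0d8702e507b80a9d01080399080308200bf0008d0c180a170a6402e20b0704080c2409360aa50e4c0c7e0bef077f02be058001940a830bcb07ac041b07fa05a50b2a0b740c7706420c7101ce01460f9805c1026e0f500d0c04220afc007c03fe059b09aa01c70f5b02c80328055908a505470431005f0e8f0d740645062d01d00b35057305000a160e9809f404d205b90914021002280966066a02f60526010903f90d4e0b9a03180d9004340b4c000a09150f5a032708500054077c006a0d120d7a054d0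a0502120ae102ef08a80d61027e00fa04050ce4095e05140cdd054f0bdd07f707f602bc0cca001e03a9089d0ef2055f0172044e011104bd0d940f620a3a00100411064d06bf029e05310ec0078a0b340c48001c07fd0d3a02e7060506650ab80ba90f970fc50c45083d0b8206150ca30dec0473020c0f4c0bd105dc041803970a6a010a02ba087e01e40a3e0bf80d1c0b670cf80cab00b307b20fb607a3078b07a9063004940d6507d1066d06380e1700b200b80e1a09ff0ac108ce0d6e0640017f0d3100ee0d1d0a25079306c8075d0a1501b206dd01f409ea08c70599002b0c59029d0f7002700ca90b8f0b270625007b09540ee500d40edf018a04d7014707340f8f08680b2e09580e390c32099e043603df0bbd025508210c2a03690ce901d405de0070088d0da40d1608e50af6052f011c044802e40cb60d180c27095301050d49026c005d0d6d07aa0003087d0b0e06a90be40924014b02a602bd0d8305030d3b096b0c6d08060ab30c0a085503e401db045801ec07a007a20a52098c0d070433046e0071099409ed081004fa02d50c22084c02a5022b0ddd00db01280533017907b000af0af704aa0ef90729026208610f8e003c06590e5504b80b8809700e7f099c0d7007ff02aa0c3a0ab9002107ef0ed30a90033303060dc2067b0ee40cb30676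006c063f09fe06840e730bb00ca00a2b0f6b04ef0e970f9600650c810d8e02510e130dcd0ba70aa60463089a011407bb0c0e0e1e0f2b0fb40afb0e6c059d01580f7906e50c5205ca09730f60063a061e02cd04300f630480042008ef046200c50e82051e0316093a04700dd00b3e05bd08e3092a0f280524042608f0073204b70c89033a0c1c0dc00e46056c07b3007d094606ae0c0d0be105570e100fd10542050803a104be032b06fd0a46034705ee013401f00175058f030b09a5068f049e0c2e0e0e0e2a049703cd0c930dd401ef0ddc088f0f36019e0e74022d01dd01a70ac606340ea80f260ab70ee703780db1098a04d509980a9c08ee00f804e703b0042f0b99019a01a906950efa0e280f11073c068806ac02f5097400d30c9c03d20a5c0ccd023c05c80f850de202db0b63067c0a4b0e68079f07e40651072b0657036c0e65096007350af008170f6d09a602ff019908b505c5032a030e01cc060805eb0ced0f3401780e5f00ec0744071d0a810c6301d30173004a0f14058402dc08f705e7008f009a055403150c99052d0dd5078d08a20d80083b0fa50838024b054c052c002e0e270a360dfd0beb02220837082a04e20e3a020706910d780543003809e70cf00abf0ab20cb808a00c410bac027d06070d19058d05d80fda0be800430c1e047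a01cb08de0d3e020202390b6e01950168065205e00d7102a905e30ebf0bb708bd0890013e04bc027f0eb1025b049a025002b701b80eaf0544008e07f80dbe085f0737027a0353099504ca09c60bfa01860cc5044504510a7c00b504fb0f490baf06fb0f090e010b180b20031903010b8c02e10d5c08490459064c0883061404b0071f00450c130e4901d1049c0e3e0f3d067408dc0c9701ed0f7b05e2033b026d09b70d8b064b0c00074f055c01a406e90c030deb02ce0f57001f0d1e0989003b00ca0de40f8b0a880dd30b09018c0ec3018b0da80197085e03870c8d0a920d3c062301a606530ec903ed00df09ba084d0c490a8a099603f5056e0d660d34093e057a0dbb03b7007907c90332040705090c33065f0ee00c38067f031b06a80558012d0c65080e0e2b0bd90a19047107c70167095d00080ecb0ebe026603ac0b940ca802d706f10c8f0a3d069706270dc703bc0f680d3308a406d207200e63084f090a01fe0bf708ae02d306ce04910a7a035807d40e35013b078f029000070a090eb8001305a800ba06800818053805a70a9604e400ea0882053d0a760de70a1e03c102c508af04bf0c7d048701d8028709470a3903f60d790c5c056005740c96032c074b0e41094f0d6c0f900121037f09680b5604f00f4108810f0008a605c700c20e810c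fd04e3039a0a7507fe0bec06bd018d082502fe0dfc0400011d0c54006306da00ab0d92000e057c01260ad302820e3c0967099f02810886087108aa07ca04da082603e10843099702f10eb206f609dc0ae7026009190c8609a409170f640135099203aa0e290753060f06890ce702ed09d10ac30b5a076406f7000f08230b5f021e0a4f07ab0ba20f6901ee08b6035e06d5023804f7042e05360e7d09a00862013f0f4d04a609820b4104400ae606600b45057805cd0d480fc90a0106f000b1063303dc014d040c0e930e4a05b70f5404a5001803d60dee047d043e07680eb306c70a020dfb00000a5b0b11003707740f730c57012c0215024e09ad0f91076e0f4f0c58042b066202850b1202130b140b2404ec08be0dc906470f42009c061f0c260f1d0ec500cf0fce059c017403b204d40074073601e303260ea60d620039005302690d9d0dda07880f040513007809fa0cda0aaa0f880965009d04560481098001100b710b430fa1045a083f06700e6f086e03c3060e03c70550016b02050ed603ff03d5044a090e073e0b840499016f015c063b004e069303d70a2803d906b00a3303db0d0e052504a40b6000ad0e1501de0c9b08d401c007480a9f0fa40d8a0e420d0a08880f75021d0dbc0c9a08b8098e03e5076b07ae04ab0fb80aef09050f6509c90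d6b0ec10959027109ae05fc08110abb05750ed00d03042d0a71067307df0a620bc309f107ec04c70c1d04dc0d86032f0fba07800062050f0c1203610c2804db014a04f80f4b0eb903700cc60f9502b8053402ac0c6002fa0bd405c400f300200bbe0b9607060371027c0a9a05fb08e709d5061308f600880e3101ff020e0fd2013206cc0ec7068c0a97036a008b055d04d304cf0cee0b2507050382023b07be065c057d02c706770db3006408870b5806ff0f7404820ce50fa9026f00d000ce0d290898078602de07ce059a091a007e0e2c0be705ad00850e530bb20f4606af0caa040601760ac808cc041e06d0014f06e102b502a70d7703c806f30acb0429082b0e0d00350297073008bb03de03fb0bbc089e095008f80f120bf609570ec80e900e0907cc008006ea012e0441074d05920738013c084406440bcc0339084008480e7109b306480b280b3c05df0e160d7c04f6086709310af100020f27041c0fc206c00e8e07270f7d0a95063e007f09b20dac04fd0ed40e05023d05880c9d038a055b027406b304bb0650079600d807a807a60b7200b4038506be06b10707028a0a6e0f840783049f0b6107af00b9087907da025f052901870aa7087b01610c66025208b9064100830051028802310f5204e5073b0f300c1501f906dc0c3b024f071a044f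0a0409ee065a060301b10aa20b1c072406090ea20912099002990cd70d210b6d02a1029f050e0b4b0b800dea00950d8f01510f16086a0d040b760c110c680dad031f0b69002609a805550ab008930db206850d060c2d02fb0f7c072105ff065803e20b46075f0ae903e60fc3077d05bb0643031307bf022c080409100fcf0cf20d5a0ef000ff0d91023a0f6e01f603640dbf069f05d90ba30b810e880aed0267008c005900c60cdc045d0e670bf2029401df05530aa40ded0a1802b3000d0df80dd20f2909080a1c0ba80196081c0119035401b9041f01e20bb30d36091b03da0666028b07c2084707750c0c06c4004802650d4b0eec061902370ec2015a0f1c01cd05ef09fb0373045e0309085d010b00190d4503cf07a40709074005fa0dc6012f060d02cc0229064e06db08da02d109450a400b6f05f90b6c07790e7b0e8b052209a900c8097601220ad50760022504130bdb05be0951046408e40aa90f6f03e70f590eeb070d03d006cf07ba0f45086006ec00910a1b0cbe0a6c03b503600664040207390d410d510d020549086c0626085304570f9c0a6f05010ddb09060d4602c902b10f0a031c0c8a03a50c420f7e091d02a2050403b300bd06b40abe0f3507850546075503920e14020a0a32022a01250eee048a0e04050a01ab02c20edc047c086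f034f02780b0f0c7c049d0a21078909c40ab102e90b530cd4005a04c30234053e0fd80bb90bd8006d028607b60b7c08350e6d046f0b9d0e9c0be0059f0cb401bf0c980f150a1d0e5c05a301ba0d6908950a45068704c60899058e098d04e104eb0c7b0d1506bc0dde010206a502f9076a0ab60a500b7e048b01fd0c4e0bc00b9f05d3017c0e2e0dca0f3809c8038f09ce03950f71043c025e04f40203082f0b7d074c08c10ae0007a08ec00170999076d0def09fc04cc0583051f02950b4a0d9808fb0c6c0c20092d032e0f0506df04b603ae066307de0dba02bf08ea0246064a0e780bdc06750c140da7024c04850c510a060940034c07990a0b0b7704e605850a070ae3073a0e3d02540cb204b906b80cb00ca6038b08a904e807bc0506059e04e9087206f9001500c00a260ca5075e057703a60b790b9103ab0b5b07710de50ecc047907a7004d094d0050014200a70bc60cd9051d03b604880567055a0aa00dab05c00bf904d604b407570fd40fd5022e060b0dbd00de09770ecd0fb20f6a06220d8d0b950e47029a02ca0eb50fae0c6e0e620e6104240014040404ac037403450d88007307500a94015e048407e106b901a505e900a10ce20410008907e9024d0a980856037a01b503ad09cd016d02980489043500d60bd20624072f0e1d0366018e0a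4206e30a14072a0b7b0c0702140bf40004046700d705480941040b05d509790a57018008330d6708fd034b0ed1008708ab010f068e0d380e25038e0d9f09d00aad07460eb70b570dcc0e2109de081e09dd05e509280e230db4037e0db50ce3071206e6026404490368084506e8078209e00f3704c10e0c0139025603080bcf01650cb503430e220e4b08ba0af503140a4408d2035709d307970ef10a8d0ebd046c097d0e76026802ab091602cb06aa019c093f0b2205bc03770822070803b10b1a086901150aae088907470b2b03c601200ed90b5e0f8901c30f8d090d098108290e0a04de040f047703400276080b02b408d003750b660656054507ed0c3706a10a0f08700baa05d106720abc076907ad003e0cc8069e013102fc092605980ad4031a0cf609bc083e08f10a0d0c6b0aff0cdb0df104f30d4004dd0a2207d200a90f1f03ec0ce007cb0d9a015009f30148047e09ac035004ba09860bde0c4b065e0cc70384044709b504a206e0024901810ef4066703f2079e0efb01c9014305b6090005b30f020f030927077009d70a740a5a066e0f55023f04df06d10a4e05ac0d2a0f780c5b0057082e06eb0b5d0b7301b300560a290f3f0be90b3b0f920100003008fa06f80a120c340798057f079d0d5d0f6107cd00cd0a2e0718085a00f70e0709b80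91e0b8a05fe025304c004720b5103fc0f1e0bdf07000a3008fe0bd601e50a650321049601ea0e0b0b290fbd0671093d067d01e605da09f50e4f09d90b93088e00c4061807e80839005c00e70f6608d509e3061c09d80ac90a370d35025c0cf4011e07770dc80bfd0f070699088b034106120587074e0ee1096a0743058c0182020d005806a60efe0be602480cfa068b0acd050b0ca104a90d2007b40fb10a63069405f10b640cf508970fdb098b0d7b025a00b603c50bc70bff05c906c30ce60d820541017102240a530d7f084e0c430a99074906c50ae2032307040e1c059400060e8705790219071409430e4308f308570b1601c80b420c02071e02d90a56050209b10d9509840cdf0752024702d40c190c830ce109e1048e091f0e500c4f0c39085100ef0a030b0d05630e960a0a097b0eb009c30e120d7d09f003e905c30acf0d58045b0e1b02ae04f200600d0d0b39017a035c0e2002a404760e9503b80184016c04f102d00be508eb0dfa07d30c1b08000f33054b0b0a0d57044406b2046500aa093806ba0033042a0e3b0c4d0a6d06a3050503360b650ade0922002408070f5c09ab0ccf0c94048d0e4402cf09b0004b01e8015d098506d90f230aa10a7009250918002f0164020103a20ef803ca0f8c068a01ca09320d270fb50fd00cce00f207e6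05190cbd055207a505b40c7f0c3e01a00c820a000de001230e34053f06c109690c910f2a00c307c001f1088001fc074a04a80ed802720b3f009300820d5b067e0ceb0b9c0f0e0cd30a79063c02060eab080f00e309090d470773097c02200e8c00be0b33070e036505e4070c0f76055e02b2039805390a3c06fe013601bc00520bc90bc40f830eb4030c089c041d0fa6001b08a308310d600b040ea30a410e03073f0fbf02320116066c058b0a0e0226011b0d2308940c92069d0593016e047409e806a20ef508410cc0086502e30edb0ebb06e7009f0a550b8602630c0b06690b400828021a0a9e0bad0e9200e2054e0f1002730c0f00d20d39023501370f0b00f50813012b0faa000106460f3b00a30bae0e5a05b10a5f0c3609e508120e9d0bfc0d3201e7098f0cba095a05e604550adc0e6405710e720cae0620052b08ed07c30e9b08d107510c700c9f0d2f067a041705db08b10bbf0f5603030fd905ae0bc504b50b4d044d0a7e0da103a30e4d01fa0dd904b10cb70cad054a008a09cb04b20f820e850ac50d4302dd091300e802e808640d4d0816047b002802af05e80f7f0fd60fcd03960e660af304fe042103a70a8b09a100eb0fa8069208c60c040d2e02d20832061108d80dc1065b08e60e9101f3051209ec01890c5e0daa01f20a850b4f09f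d04cb08740733063606290ba10d7500fe03560b1008910041083008340d00084209bd0bc20b980ca4089201560701075c07310a910a870b7a040e034d0df3080d0d050b010a5e0e8d0124046a0a5d03420346086604f50c670f720ef60a930896032d0f5308b3009e079406d70bb80d2c0e560c7909e20722083a0d930d3f08590537080c01930528052e0c4c0f9e02f4007707f20aac0d9c069005d003f10b470b310ac402f707190f0603ba09d20d1f08bc0c4600f60c750ad200f10d1b06ca021b0e1f047501180bd502f30442064f06060098088508c807d708140bb60f2e084a07ea03380a4c0aea0d5303cc07250b2d08c2051c0c8c081f0230075a062e049305890e3806d60bf50d4a08a70daf03eb077e013a04d001910fd707c50044061b09070d6a0d500f8a0f210f87092f095f0fc706390ae40c500db708e90aeb055100e40427041a0c6101fb09b40e58053503590fb00ad6079b0dd7071b030a0c62061d0236048f0a100b440f0c0b2c0f32087603a8012a002701da004c0de907d60e7e0db001ad0e9a0d550cfe0b4e0a9b0f4e0b1706160a2700fc04530d4203e807f502b00ea705110d5209490a3105a209f70eb60452010d0e3305400fbb039100d1090b023e0e5107e3075b04d900e10b3607c10fca01c50ec40c050a350e6907f302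0008f20f770b8e0ad80ea403a006d40a1f00d90e83001103b40bb10c100ed70211071304a7030f03a402920c17072c046d0f93063d04250903097f0aaf0db9031209830b7800610de80a20026a0b380ac709440aca003a0acc0b2f0ad703bd03be0cef035d08ff092902750d1a047f02fd05f302ee0a2a0add0767068103bb0adf02450bbb029b013d03d303d40be303c404a00138062c0c09081508f503f708d70b02076f0cff0042085807db0bed08240b680e5d043b0510082708dd03ef053205f50d2d03fd03830f0801cf01c1006e0b970ece05af0e3205150878037c0f1808cf04150283087a07b10eda0049083609e6034802770c1f014409da071c039f0a590eed02170ba407a100cc0394001d07dd00460d08077201e0075407f10930005e0a730a8201d2036b01600cde036e0a610de3079a033e07d005b5096c0f2f017e0a8908f401b70b5203d1063103350104044c0bd3078404ed0133094b0c6901ac0090072308c00f9f04d8084607b90198015f03890d2804cd07f00f01078c04ce06a4075902e60367010c02960c3d0d3d0a08048302e00610035b01dc0d850c06021f0ee90a8f085c04c50bab0d2b0cd201660e9e0e790afd003d0f2d066f031d06cb0fc109930258032208df0bfe073d0c560e80021c0d4c0cb90787097a03e30fa20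f4a03f00cd1030405a40d220446092e07900f130d840f80030d053b00e90c5501d50cd60b9003cb074109880a7b088a000904a30e860cf304ae049002ea0b7501620e6e03c90b6200f90f5e02f208b705200e45033f0ed20dd605820ec60c53033701d60a4305230cbf0ce80216065d00b00bea009b0da906540bd70507091c062806040c310d560921077807fb08e20e9f0a5401570bba0eff015408c4011f01e108540ebc0dc30e600f1a0e2f02930a7f0c730fa70a2d0756095605b008e10423051a06370fab0a7d077a0d8c0c80025d0a2c0dc40da6062f0f1908d909a3015309a20e4e0e000ef303c007fc09a707d80a23033c0863095c02b903ee0f5f0bce0fb9016a005b006f094209d6008609c00bb408ac0b150f4003900b830b7f0eef0c780e6b0c950a72019b0c6a00ed08bf0388075803ce09e4056f05ce0aa30dfe0a490eaa0c3c0dcf025703dd0af8077b09640bee093b079c057b0d9900970b7009cc087502a806ad0c7606830107031e026b07910de6083c06d809c50d6f0c7409b60b1d07e0084b0caf0103071706960655085203c200b70f440f1701d701400702041209e90cec0a58096f0c870b5009370443056b08b20f2c059609bf0478006b08080d1109780da508cb09200e8902080591090c06780fa30ca701a105ba03310b59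0ab4031704950576066800d5038002da0b1e07c80b130e7003f30e8a01270a68069b0e37002c08cd00a502270ca205c20ada018508730c8805f604030a690bda088405d20450053009b90eea01eb096d00750e0604ff04f905d40d250d170b540c400db601f706c90f990601055606c206cd0e2d0afe094802c00376095b0ac00d1003340db804380f3c0bb5024102df03000de10cc4036f0c470e94039d0eae09330cd00c8b05f0071006610ea1019204090ee3076200e5039c0abd08a10f3a0f1b05aa0f48089b094a0c72035f00da07dc00dd06f50e0809af00290f5801a80432035208c500a60cfb01ae0d0f0c1a07e70c3500550faf022105e10fd30d130ede0776027b0cfc0cd5034a0c21094e0c850eba04b301c60469014c007207cf0b920c250c230df404fc003209ca0c640204062b0068069c071607bd0e1103620092087f0f2406320da00ccb0ee60a340d240b030cc30e59067900dc0ad1058a07d9062a0adb028e00e00c840bf30329078e05f7010102f009c7036d034907eb06000ad000fd093501450d5f02c604e00f8102c302a000ac099b07280a2f00a00b3701900dc50a86000507260df20ead01590386070f081a011302400b490c7a03bf0a0c0bd0046b079203b9056a05ab0b6a0d2603550a6607420ef709230a110bfb0b1f056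6043a00230da2020f0b8508ca04d105dd090f0ba5076602c106ab0b8d0dd805900031094c04920f310595076c0d6801410fcb0e570ae807b50fc60419033d092c0e300e840ecf02590fc80dd1035a024a088c016306ee097104ee015b04280f860e6a02ec0d0106de049b05680efc0a7805ea0498000b06490e0f02790cc9050d0bc10302052106b6003601c2045405bf0572040d01690c16080501b401700da301b603fa09df07c407d502180df60cf1056d04140a480b060a4706e2037d00ae0c2b00c7091100c909610d4f06bb05d60b9b0067082c0fb305b808d60fc40fa00bc809cf0e18024406820c5f09db0e260e190b3a02d80d9e00cb0ac201520b89061a072e000c081901aa02090f6705610edd07e5014e057e04c20aec0b0b02d60cbb0047048c0261001a099d0ed505cc017d08f903510cbc0c6f0eca09630a60052a07e20a6b07b702890a3b0ee209c205cb0f940a1309ef0a3f0d370ea50df9086d0c080af204ad006601f50b0007ee018f0dae0ddf028c039b08ad0d7e022f0e750012018300c100760d720a510b8b0a8c03e006350e9903720dce06b7028d08b40962069a06fa06f401a30e770af905a909c1081b0f430ace081d043706020cc2038c093c009903790c4a04660c8e03af04ea00340efd074503250d960c2c03d80afa0c9e0b2300e60a24004006170188011a06ed05f80cac0025020b0e02002201b0051b04390991002d060c0129002a0d890a770c2f0e5e037b0e4805a00096092b0b30086b0f7a082d07f40bca006903f80e520b5c0b87095500a800f00e7c02f80bf10bcd066b014907c60dcb09f905640b26,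
  0xfff0ffe0ffd0ffc0ffb0ffa0ff90ff80ff70ff60ff50ff40ff30ff20ff10ff00fef0fee0fed0fec0feb0fea0fe90fe80fe70fe60fe50fe40fe30fe20fe10fe00fdf0fde0fdd0fdc088b0c220c0c0807082e0996056b07bd0203095c097d09e805e2043405380f5703f101e502050b2208920da10d1305ad0e1e0da60d3f0d000e6409e5037400e60c6504b90788099d09de0727048b0d4f0a170e470680021908760a610cba05540844093f0d8b0bb20a410751013605c8029200ff04980a6e001108780036030b085a0ac0023e03db064f01080bd0073700850899011c065d03d0022905040ef90dc9069d076e0710037a05a60a4d0d930f8b0e760771041002b30ecd0bf703f50c3f078500ce007001d30bec0bf40e59097206470423036600960f2500c804bd02dd01440f18082c06f2019f0b7f0b4700730adc049e00d50bbe06670c3009ed00a107440bcb01e7006f05de01bd0de60d4a024b04e70f2f0f4f0bd409bb04000d180679030803a101de065b043306cc0e6907dc0b5308a407f0055b03cc022d03570987072203c70671006a08d90a710740076707a10f80035c0d570b390e910de102720c14046d0a8503fc06df02ab063407a808130f39085c0ee50c9b0ba10ed20e9e0a84033502d50ccb004e04d704320b1e00720ba804ba0a8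00e5604f40eb20fac072b08e209ac0f89062b0d850e5306b301e10a01005908880a60012305e50b8b0d30068809660607094b0146097e0e3e0e2608190d0903e5036708bf05b80d5809390f0f04d2058606050f610e7200b60dc203c00afd07d30d5b0a4603b50c1600e4041c09140eac02d607b703fa05c405c203ce009d00f003cd06ec0efe0424013f05a906c60c640b4b08e3015b0acd090c08e0041f0a420ea1024c08180e8a04eb0af00e5207a002aa08360a4c0ed402e40cd3059b0254025c0ac705cb0b7a03630b77066d0e1101220edc0475037807ad07e50a9002860382089703ac0d5a05da044709aa074d0dcf0c6306a60d490a550754071b0ee0079100ef0bf50f810f130cd604360d250eee026006a90f580ad00cff0056006709c50fc104830cc80c7f096e0a1e04920d38045308600520078c0a100e7409ef0f6c044e0aa4077f096d0f6b010b0c5703bc0be20820083105070ef70cb90ad9075e0f010c45021a00b008ad08560cad0c43055005ee0c2e0dc40ece01cd083809f90f0a0848078d083b07070fb203d4028f06dc0fc00ded0b89048e019e0f7f0149057504810f1c093c0dca04310b8e058e0ac5078001d704220e7909be030007ab022004e6032c023d0e860e38089e079509f30081049c063509280f1908c509f209b50f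9909d00a7c016507af05ac0019011b022f0c6c005b07020de800e3063b04b5034e0b9f0aee04200d5c068a02830bb70d0f02980e000cd507d0009f01470f5d00970d4500690e390e4402d00326016d0c6a0f9a016208ff04140aa105e60048035103dd06780c0f0dff0bb307f206b5023606fb0d07059f007c07bb0239010903a30e140e2f038f09d30a5b005d0e1f0b41080d08140e8f0ea0044b06ea054a071c0c0500fb09a3093b0fb1021e0f7101cb06850f970e230df90a3301ce019a023701d904cc031807c10464097502e20191073a09db0b430df5043b08790f230d420f7509310b0c05ae0d2e0da50c87029906cb065a0b4c03120e0f090306ab0fd103ed0c390dee09200487079f06740e3d0f620aa806f40cf605d30d0601380fa102490aa9080400d9016302440a23098b002e06e40edd06c90ca40e5c01f80ebe08fb004c0c7e0b2f05230eb70ea20ecf08060e3208800089006b0a12056f043f04e0051e049f011f02db01ab01d400c5033b0e5802f5024e0a470e0a01a205c3096302180c7908470b540dad07ee0160088a0e2e01f2018701af0dc50133034a07320e9801390b510c9e0bd303eb015200d7048c0415041d0e3a02a4094a07a303bd07f901dc012b0ae90ebb001700830750023f077d06e703bb07f606f801e80e8308340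b2308c808f2090a00a007fa0ba7084e039a04b604ef05bf0bab0d1b0356041804940e0d0e840ec40e7507d20427028b080901b60c930f5c084306d40ee60e8d004a00b40d8d08ab0f960bf004a800620cd107e90e6c067d0fa40a620be1006302f6018f07ec06d103b40c4c072001880e66092405a509cf094e0dbc0f740c5b0e060ade0b2c0faa0d76031d06f60f6009f10d360b950be308c20c8e0b400a87091101a502bc0c8f060309f802b40e4305910ccf00d000b90a9a0524031503f4023b0a24010e072c02e30d3d0d740df300b20d8a0d9f040f06d70c1e0ec00760029a03480dce04580fb700a2080005ab04fc0dd9067008a806bf047303140df2000c045f074b02fc0d9a093405b40e810ebf0cdb088f09df05140cf406ae07fc0e8e0f8e06210bc400e80e330ba20a190da80e010b79032f05f3014206d80ca30c330fa60b55079b034905a30cf903970d0b07db09490b2b00e50dd7031b09fe07180dd607e6082105d106e803960ea30ad806720fd80ac802160dc00bc10b2106f104a90eb105e80a0903ec01e20b420abc0b360ad307900fab03cf0ce0029d02c30a110ce1024601950bfd0faf00aa0bad0b9d089f0b8302c70c5a0cf109c10cb207ef09e70518047f01030f1a0d9708d00f7b041b06b006b60b860ae50fb6089305530d6f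08ae08fc0d4c00900451028c05290d75051c03010c620f660b0e092f0b45035a0ce500fd0aae0f420d920aa204f60a8f046e01b90f4104d30b760b49006c0c0a055d0955005107df0fca039d0d9e0ce8086b08d30b0b09370bc80ca801680e4e0e2707c90316050e029b098d09ff02a80c5305680091051906530842094107040cc90ba30f3108450f04069807ce0eab0dfb0b8500a801670b0a0c5908d5021701ae02650da200c009c2091307c5098e0ecc09830cf80cbe07c20f070bc00247012f0d530a5009ee08940af10b4e07be07c60db40cda0f54038e01fa0cef0c9a01920a8e093801580cc101ac02f207f30f700d200fa50e700e3506560768017407720b110bca0e990287043702ad0b140c180f3300db074300ab0df1027302d90f0602c60daa0cb80d3e08b600c90b3c08a90dc3098f015c06c3088e0e77047709bd0126034d03fd01a10b900fcc0e36001b0c8509dd07260c720e5404400071077e0b0f072d0a9e009e02fa028a08860ede02f702ac04030c9f0a15025f0092009a09eb0953079e0c280a9f09890f690b310fbc04a605720ec7053d09e90bac0a8a07a9060e0b5f0cae07b900c40ab4010f0bba064806bb0d690cbf0cf70c990393008f08cc0de707330c5f07b202cb059402520bd20ef40c500f30013c03850029063d0c3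4067e01b00f59018507920ada0b1c05eb0cd9028501b20243059206990cb50a2102550c7c0e6305a805fc0ef6087208b404820143087102610ce90c6600400e5d00760ef0012e0f56041904d909810dd801210b19015408cb04090945074f01aa0c370034062600250f860f2101b500d2084a01040abf09a003a70e7e0bbb003e04ae0bcf02070b980b8d0c1d017f0c3d05640e4b050503e708ce03ab033307d70ccc05c605780e1a01c90e120d040d980921065e0e890a8806e900f104a40b0900200d120541072a042b0a960c210aa5002f0f980023015d068300780a1308be069a01d8065c02c203e60e2b071d0cc306da0794099f001e0d1907f70df0034b0846092b0ca906ac058b03410cc00d160ceb0717095801770d0307c70d5e0cfc0d35040d01bc03040ccd01da099c00950e170ac1028103d10f0c02250d26018a0c200aeb0a310ddc002b02750ecb0045090e05af00f204460619071f0aac064c0daf0828010102f1083a0ac6081f0dc70a980d94045e01ca03b206420dd408910c410fc6013b0f320773019b07480c6d04800f5508a70b610404075a0f5a07d506970ad509300830044a0296091206390ea706f30f4002940a6607790fbd089b030a059804f208f60e710a5d0eb409c605b90e480a7404bf069103650d6006c8046900e00d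fa02dc0c5c01720ed305650c3a0a6b080b0b5e04e8059908ed055f05fe0d8e05df0cd705ba06b40468048d0d27005f0502050a07870a630ce60b80062305ed051f026704440ee3004403d60ee80a30017301000e3f0acf0a0a02df0762007509780a7f068f090604c5024d0215066e0288005203750f8805cd070e038a0cf00b5c0a18023801ec018306ff03d707a206590afe062a034302950ed90b7d09ad0c0d06fe0eea06860472076c0f0e00fc04f803a502a50bd50c0102620bd90c4b0dab08a50ec505fd0b13008703900808022300d8012a07470da7049006e6022204af0e22006105e007120d640827004f09190e9d0d910ad604b803f0095b054c0495018b03af01c009b40a1b00cc035d0f7a086a0c7706640c3601dd08840af30e9608fd0caf058a03d903050a5f026e0f1e057c01b40e310d0c08630b070cc600f70deb085e075f01a408250d0809ba0fcd0d1c07e7067504a506fd053b07c807d40a7b026a0f49073c038101780f5e0d73017d040a0be909ce03590a6408b10516049605aa01d2083e06a107ff047b02910c10047a0c4809320efc09da0b9e071e08830d6505f207cd09760afa0c7a0140090009180c3e0bde008c00a70b160f650e680f9b06be093d007b0dcc0b1b04fa04c202ff06400f2a020c01270c71047c0ba4092c0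799027f03d30bae0134055209c00e5b00eb0dec04d6084d0e46032d073409ea00cb09270ab7095e020b060c00130980032404be062e085507d100c30c250f350e20017a030c019802780f380eda069308e504f0067b0aad01150aa706c2070806090d3c0d8903580000096c0868075300bf068d006e073d049b0a820c3c00150c2702a00f2d0a000c2d03f20f9d014d03380471020e0c150abe05f906fc0af20102021f02740e2809e00d3a07a707810e15001a06760eb800be0c47045a054e09600db0042a0b30012d07e007b009a9001d0a5a0da00e6b04d10098087e05d00dea01a30a6f005c07eb0d2204e903b605320ef10038000708c10fad0fbe0253062902bb08030dd3053a0761002a05db04dc059302a205950f820ac20ea605900c8a0c1b0b630d710aaf070a0c7d02a7029c0d170d2902310b920dc107fb002d01c2066a01f508ea055c00e10c700a3209b008c7086c0b1801cc060b0bd106a7042f08dc0ad204a304c70f0d0ed50835068705220b1f0f2204fd09f40ace08e40344026801f10d4d06040e0302ef07ca02cf064a036f0c6f082a0448040802010d670e5f0c1f0b38013d0a9c06250b7e0aa00cfa0f15035200c702b608d601d504070add001605d9004205be02b006dd083f08410c2a0a34019d0986018d067a0ad40055091a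02eb010600d106d6008d06ce0a69090107150b2e061602da09ae09ab061401840e780ee402bf03100e570f3c055706b704b10bb90f6e03e20209000d05390e2c0995061a016c05d60c4002500a4e09cc09360d6b01e30c260a7e0005006506220c9503da01890baa04ee0a9303fe02c80bfc05dc04ec01760fc40fd405970fc5074103470a3d02e60543022102e70a03019404ac08fa01c807380e7300ae0b870b9c0c690ab204db058100d40a7304c901d0041e04260bff0c190ce20c670b3b01800235008a04ad0eae09af070d0d1a07fd03860985098a04e50802058d03300d8c036a08b0059e02d203e40d8402fb00dc0b6906370977092203ae04ab00030f5001db017502930a510e950b730f4d08b90db80c2f05ea011106500fda0e300abd01130b820c4909cd0dd109b20a02082b0f7d0b520a4906d90c730b3f05610a7d0c8405350968039e02d4063e070b0e1d0e4a047e013e0bb806db0e9f02c10cdc04a202060f0b04990701068e03340f370d7703e3021b043800fa00100f11052b006003e00a0d0c82031f03640f940ec602d70fcf0322076a02690b62004101310c7405bb0b000f9e06c50d6205370d2b0eef0aab042e02700db701a60c460a06085308240692054901160112030f007400b30d0e01c70f760f8c0118020d06ba0b3704d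40ab80a43018c0066098c033d0eba01f702480ba50fc80f170ced03bf031c005a0a1f00300454021d0b1a061c08d8088c0f000d28088103c50ec30d4404250c0806f00d9000ad029f0c9602900da40858095a0ee109570721069e0bf2045c058408df0e6a003c0a58069c08670a830b660d3900800d540a940aca053401240db60d3b04e3004302f001c10391036201c30a26048f032e08120a9500a30c17064e0d9909bc05d50c35026603c80c8c0ab00f0906570035045705730a6a04500a670a4f04c30ead09c70643088907a50b7801e0086d01d10e6f09e30a3a0def01eb05590e7a0e8c01930f1b0340013a01370baf080f03f90ddf092902a900bc083907b50dd206f5032a06d00345061f0cce0895090406cf001806b809e60f45097c0b060af8075d0d1f02b7057a061d0fd2085005b10c5206d3082d01480684000602cd036804f300570df70467056a0864057106550fd609160cdd00330af70f9f070f07f104f7063003b10b71050c049109330f4304d805f6026402ee0d24094405f701500fd30a9102f300470b6f04c108c605800b4a03f70d9c0e4202a102e10724007d038707d60e1b004b06a00d8307aa018206e1083706520d050d370ab603800b990d3306d20bf805cc0b9a03790b9707b40bc701ba0bdf0c0e0e2107000e6e06a507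4e0bef00bb02d1019003d20e1602ce076f043e0cac0a9d039f08bc0e0b01ea00a5024a03980fc70b4f0a77066f04b3071a0b7c020a0de90b930cb6016104760f5101790f4a01c50d0105c909a10cdf085b0ca10c510a810ce305ef09460bce027706940997089c0d590ca708c0026d039908a60e2408af08f40765046003ea0a0f0acc091005c50d10085f089d081000500cb308c404bc07cf01e900a402110257060a0b150954048407a40a2804dd026c06c70ba600530ed8050101a808e7092a0b280ba005ff09260f92048509400f8a009909080a38087c03c90b9b081d0aea0282033c063804bb0b330c120b17031a00ca00770dac0b9106080521056309b8062006de06730d4803d50e490d7b0d0d045603730fb3071303cb078907360fbb0cf5074c0d9b0d6600b107ae048a088505880a48060f006405f5075b06aa0993079703ad0eb60a200efa0d3408a3084f052504390fa80f910bf605ce0f2e072504060fa708b2095d008609f70a2f02040a360350063c0c310ab302bd0f950f2707030d80081c0082067f0b81079606d50db206e30ebc06490a0408bb007a023307820ae10b940cd4096a06a204130fd705c0059c0974092507b10fba0c29038b050f077b000a05450840012c0e340cf303c104930d7001a7056c054f0627087b08aa0f6d0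b500026016a0eb508510b560a2e0cd80cde0e7b0fa3060203540aa60e190bd600ed08f50bc600cf00b805b50dae03aa009c06bd09020be707760e020ec90dd00e130120094f0f9c00af06e20fae09c305f40b7405110f720e93077502e00f93078403420b12057608b50a6c025107690e940a5900f507ed039406ca0e4c056007770d0201970f68076602e80ae206ef05b0099e0f020bed05270ddd03ff0735057f0ed0053100270cd002ea0de00a16093e090b01c60463066c065f05bc09b102ec000204b202ba003b03890e6d02b20e2908f80c09077c08c90e6200ac023a0a680b2d0a2d01ff014b0edb09d806b908d703a209560c110bc50ba90b2004890d21083205420be4021409520a3900930a2c0c0703c40f48055809e20f8d0e4008490815057d064d09a5021303320b840ab50ab10eb00e250fdb045d0585039c03f305cf0c8907ac0a5c0f7e08eb0ca50c540b100ea4030e0ec2016e0d5f06bc0729008e0e0c046b0681017e057705f002000bc20329027a07e407b6078f0a050256072e0cfb04cf0adf02af0eca095f06900b0d0c940c4f0b7b08f0047008ec0e0e0afb0d56075206eb052c0d7c079d0a2a027d083d05a20d810d6a04ca0c9103b70c2c0a540395036b0c6e01700d8f011e0046028905620a0c08bd0f8f0b4d01fb07630a1a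01df08590e870c9d06150de500580fa9049706170aef02a300c608d1092307c308f1034f0646095008110f030c1303710b03061e0c680ea903720d8702cc036d061307c004c809bf06b103ca066109170f28073109610915087d079a00ec0d4000940edf0b9605b20b5d01a90a5206f9065406af0951081e015604f9058c056707dd01e6037f04e1018e0ac40574040b015e086108ee0b5b070c02d306600ac30ea8006d0c0207110668025a04ea07830e92046a0948046103690739000f03e90874082f03c60e0709b70d6d087f06580d4b022407da00c10ae60ae8097309940d6107780c4a0a7a022a004d06ee054005b307c40d310db90e510e1c050602f9002c0fb50e7c08dd0db50bd703ba0a8d0e4d0bfa04c4011909e4061202a60b480c2404e404620a0e0b3406cd03110d460cab068c01f6098801f9027e0cc40f4c012908c308e106fa02b80eb30dc806770b080bb401cf0e8b0efd097b0f3b0c7b0c000fd00d7e055a0a750a3b081b0e100d7f0c4e030d086601fe00f40e0908a2056e022c0a440e080e5e0d2c0b8a0dbf0cc70bc90600046501140dc60a700ae40b260ae004ed0a6d0fc908700f240f200bc303fb014c09f607cb027c0cb10c980b720d68061b01280fc20f12058f0b2900ba0df6037b0f1d002202f4069607e104300854010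a0b270e450bbf08290c3b0d2f033f04f10c3800f904160e6102b1066302c90f3a05bd09f50054000b058702410e4109090d4e035b0afc0f530cec09690a2b00df023200fe043a052d058309fd080103a608e90857001c033e024501570bea0fb40e82051d09e104b40cc2010c03b809a2099209c9058900d60c9703a40a86042c07fe014a073f044307420145035e0f2c06c4063106660e55070502c40bbd05fb07ea0c8608750efb08870fcb08db02020d0a0f73045208050bee050303f8016601ed07190bb00c040cb70037051a02ae02c00c1a03c3043503e80b460159016f0c440ac9062f0d95005e031305b70b6e0f3600b7029e0adb0eec0b750c4d0d410da306010756057908ac05e30a9207cc0633032303390e6504b7044c0dde0a080f3e025d0f63065103b00d510355090d050b00390bda09710171089006650e850a8b0d6c04d007700fb801ad029707e305260e900b05085203170e6002fe0b3d0eb90f5f0dbe03dc092e053601f004b0036e0548057b0cbb0570007f017b0b5a093507140263054402b50fb909820a790b250279018606a8097a07f40e5a096f0ab901f409650f050f850bf30a7809fb068b088201bb015308e6054b0c6101ee00f60b010ee90bcd0d86059d04cb0212096201fc01ef031e063f0d32084b0c8b013003280f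520a3f043d0798059a01c40e7f0ef2069f086f041103b30f670a0b027b061803b90f2607bf0466087705080acb0f4b0fd90d2a0ee203030cb001990fc308a00c920e2a0e3c01d60f3d0eeb0c78007e05ec0a760a570af50dda03920dfc0dba0970055106450b240c42091b0be0023c0f1f09d60ee706e0095905a70be604c600ea040102ca08650079086e084c08e8014f0df4057e008804da00e70f5b0b6407860611069b05d705c105a402ed0b68064b0e9b0abb044f0ae30979086205e90fa00107088d0689028009470d72066b08f307e2074a00dd040e001f0a3e052f0a890b580cfd0388052e0a720bf10a650da9012501a0075906a3022e019607060ce405a100b5038d0de306410c5805000be507ba0b6c0b6a052a09420240022b0ce703700307022709910331049d03ee0f87085d02be016b089a0f7908ef0aaa019c0dd5031903c20aed010d044d00a60441003f015501b702840c830e9a0d7808de0512020805e4094d05f8003d0de40c030aff09b90a2908f7069502340b6005280eaa063a000909d9033605f10e5008b80a350bdb0a250cbc0755090702f80d9d04120b3e037c0ae705170b57011d00240d7d062c03be0dfd0fd50d140e8009840d11037708ca0014021c0db1058203ef0d880cc501be083c0d820226081a0b3a03e100f80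74609a80fa2054d06b209a40d4706a409ec0f7c02e50cf20d2d05d40e6705150eff08980c9009b601b30d520c3208da0556038c0110041a0ef301bf0a97004900da0a5e02b90bd80716043c092d03de0873072f062402de08960aba0be80d790b880e050449021005d809900db3003101e4026f03a00a4b076b07d90c06042d037d0bcc03250f900b6b0ca608b3091e028d09430bf900bd077a0df80e7d0d430ef5067c014e0745033a02d803830c750bb5036c01410af90ec10af6025b015f011706690dfe08ba08330f1009990f4e05090dcb0ad70a5605e70ddb099b0b1d04f50793082205d20084099a0eed091f096400280f44011a0b590b020f84073b0f4706ad01510f6a037605c7027105e104590bfe09dc006809fa06f7032b0d230ef80b0400e204020c88013209fc0e88039b0c9c08f9053c0b350dcd02e90321035f046c0c8100a90bdc0f7804a106ed025804aa05a0087a028e075c07090546037e09c8024209d20aa304a707de022804df053304a00ad10c1c03270b700aec025907740488025e03610cca07bc0f6f06620cee0cbd04170f830ebd015a0a8c055e0e3b042105dd046f0b650a4a01f3036003df0f770ed70f290f140fce047d072802300b6d082309670d6e0d500c760dbb01b1024f049a09a70a450b2a078b09f001050c56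0628003200cd094c0757051007640c0b0d6307b804450d5d08d406e50eaf09ca079c0486055500e90fbf0ec809b3053f0a3c09d505300c23078e0008091c040c0f2b0a1d0c6008170cea00ee0ed1034c0f1601b80f4604420276035308a104fe0f3f04ce05ca062d051b0e180d1d0998056d00f30c8d0a220a1c05470a270c5d009b0caa080e0bfb00de04c0074907f50e3706360b6709c4045b056904550606068201fd07230c6b05b60e9c09a60566090f0012073e0beb0f3407f8076d06100ca2060d0e2d03a80ea50b8f06c00cfe04e2013507b303d80f64030208690dbd016907a604790cb4026b06c104740fb0016408cf0e04020f04d50c800cd201810bbc078a05fa0513000e0405097f0d7a093a0a990e97059606320730080c00d30a3708260d550b8c0bb1008b0d960a140bb60c55096b00010d1503a90478064403f600c20a9b04de08fe02fd0e4f0c5e0ca007d80346091d07e8017c053e04fb0c2b08b704cd090509d109cb0ed6081609d70a07042900210bdd0a4008d2080a03060b32003a0a530d1e02c50b44050d075804ff032003090af4000408cd09d40f080384042803370de2,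
  0xfff0ffe0ffd0ffc0ffb0ffa0ff90ff80ff70ff60ff50ff40ff30ff20ff10ff00fef0fee0fed0fec0feb0fea0fe90fe80fe70fe60fe50fe40fe30fe20fe10fe00fdf0fde0fdd0fdc0cd107140180091d081d0d3a0da609b704f60f7e094f031a00ce043a044e077603a2061d05860fc800fb088d051f016005ba0a980a4d02030c92074f0ea307510b830b48014b0954057802ec07bc09230d400d7d0ce70a0b0921020e0478023008cd0eb609a4086b0cb80f0a0cd307fc0bee0455055d0b5a026d0a5b054508230c2e00ea0850005d097c071606f40f6900f70869018509f50b6e0bdf0b22018f018c0a3000e40c2409a8045c0267087a0c3e0bba08b4025700860fd20c5f03de03cc08d20ce5016a03e6074705b303200dd6063a090205900d61019806430961040d02cb0f9405c80e960049032104d402d60e72049e02870cf6045a019c0ed806a80510087706cf0e710ec80ad707960b0a0d2c0873017d046402470a8e03020cf8077b01e308970bc10bbe0a8d0c1b0dd704a40e2b0a2300fe0c370f3d0a960579045901bf0228030b0575057c098e080603bf011400e003dc02ae0a8302c80d0805a20db80f1f018e09450d1e0685009c0b4004f903d60f28054a035f0c8508f4089d09bf07dc0387043c003f001102cd0bd105700cf708a10aa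a00c6065d08ad0fa60d150414022606710bcc03f5034b014208dc086308bc00c8089f0a3405f00b3b070d0b5301bc085f0b3d009902f50db909cc090907600e2001ee05540ee5046202390b2f0a9b09650eeb04cf066c0cc60757005903f4060501720a8b007d0a5103090f5c0df50ac100820bc5020806490b5702480b590ece00da01f6023f01c501890f5608a804f402dc086f0aee06cc09a100a50ebf07290ebd017e0abb0c4b032400270bb00faa0c58074d03fa0ca702550041075e0be406c20dce0d820813009200cd0b4b0275036601d50fbd076203480bfd02330e9e092c08a4026406330c070bca08620f6709fc062a02690353005102e8001303f70549015d0e8b0d46087c0ce808a00dab019106d9017103cd03c20b2900c709e60e18040e040703a700e301e90dcb0bbc016706740a570f620f57039a07a501d60a64090408e7080d01ba0b0d0aa4047e04d306bc0c7b01b905220ad409890253007502bb03e4012800a205160acb0b230daa054d0467063809de002c029205e101680209093c091e084a0d2608ac05170dbe019d01ae0b880b8905bb08640463078209d20bd704f8081209e20c8000e90a1a04ec0c83080700fd09b60929025407ef0df90f410e2a0cc40a84012b063401eb00f90161062c0c760eee0870062e0542071000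10075605840e7d02b4000f0ad902c20601002f08d703d90d9e0c7f014e086601de09d00bd20887073a0078098402b1029407a105d5012e011b0da7015003bc06950b760e2c0aab090107ea0ed7021b0ba4045d05c20c860792055702b5055a077a051c0abf0de806b90c77009a0da90dc10cc70b710cb2051b010e04fe04e206d50d2403d705e40f430f7308de00d70125052d09e90c660dcf0eac0dcd0b7d0e7708f50b5e0db001ce01d8028f04a9082f07a60de308ff07310e4506210a410c9501100ef20f290c0c0db608920d4f096c0481061c0dc80d9c047902f109b40e860e550de40c6b0dfe0fd50bab05120299055f0bb902740cbe0e0f07410daf09000bef0d960ca806d20d9906df04fa0c550ab8006f00c9046a04e30cec00a606b409b5000601e402270489033203a109dd0eab0a5d0a2f06fa0c910fb204da019307be07ac04ff05d200e1031d0b4a01810d290ae20b9808f101e80d6d076e01870c450ac80117058e086d04760378012f00330f6f066605ce0a4b0af1041a024e06c90bb404c9095703070cd4009b0616080e0bac01f80db40d1a04c302fe0a08062209c606730c390e8a0631072d049b047c05b50fb305c30bbb0373083003d00fd6007f01df0581056b07ce0c0409d50b2e0aca0ba807d1065e03060f5200070ac60d720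b6902930e4808fd0dda07b1079508bf0bff06e40f2505e30d1c01fe0d4e085707c4035e0ca40f090a9e0c110c43099b076b054e06fd00b306e2091b0b2d042d0f2b06b2043809910af5097604e008d901150979037a028d020104040b2706f00f4b0f100f5f02ac0263029c05f1088c0cf00c70053003c40d8d0be20964071d0e880fb10c9f0f79064706120746025203fd0c2307870a5e072106b303790968097b06540a710b200d550fa502710fdb06970c0f01b103bb0ab005bc0c2d0afd0bf70de20ee200950e2909c9045e03f800b20b070d9f09b20add0821093907860fa709530c8a0661053f014f0de005c501cf03c3097a0b330a78056607c807280d980eb2032303fc0d160a85024608b101f30ce60c7d09550c9c0436070402b6066a007e08ef0dbb025e06630fbf0d7e06670c8f012309b0063e0bdc0cb603c1013303300df00f1c05310e33061806700e370e0e0c7e0c9e036e0e6300d802dd00300de60e210a3b021f02360c7208290cef0ab4002002e704c80da806b60573012c017c0dd00a75039b099d094104c10c600f7d060e0afe0ac704ce088f07c00eb50199090b0d93059c0131045207ec01be01070808034d024c0eba026a032d048502f007e90d6a0c440d1203440a3f07d6047f0f830341034e080a08d50d470b620f3e0276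0380039f0c3302ab01c00a0501c10f9b0cca0a140b5002d50c25073008ca02da0c290f880cdf07370b7c0949024206030c1d04e90f4402de062804fc0bc6041001c201e004c509800d130af40ccf007a05090db70629027d034500a90e99033309150d340c030845096202ed0d20070f0ea000020a7f0b9604200ba00cc80b70011e0359006a05cc0b4907020d9a0fa3036f0b5d0861063d09250be803b201cc09310eae0b8f0ceb0a6e08a50f8e008008900c8b05f304970744065c0e3b08600585029005010e090f1207d901830a7a032b0f0504390e980b13084708be0c170ed4006001d900b00f47053406780f4607e80e760d3e0f820da10277003804f309240d5900a700f505390eb703db046b02400d510da5074300ab0d300b1a06c007700df3081707360a490bf8011302950835082607da0245005b0d7002120bfa0adb06f7075a07710a6303160be30a1208480b0403510ab60e410e42029808d306b70ad10fbb049f0b8101a3034309c80dcc0c21077909fe05c70b58041c0dfa099402220b730b720de10bf607910f8f0a4a07fb0b0107c60d28029b01d3083400b90237068d0c380b4107e700bb0dc90bec09ff08e80fa00ecf0b780ed10aff008103810ef801ef08e50c2b0a030b4e030300b80ea70d740bf10fba0b4704ab09d103be05a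3098f0b610f2201490a990ef509b80efa045304310363056a07060af806db0cad09e0057705d40ee80d320d0a054809f100d90e8000be0cfa083904af057e0e560f8d02e40cd50995031e05ca096a02040ba7090707fa0772095603e7077e0bc9046c009f05dc068007640e680ac405fd0f53021601b70cbf01e2012a0b8c08f80a3d0b6b003d0b560c5d0cc903ce0617024107900b3502fc01750d040c10041e01f40d5d004605c60ec3017702fa08b9098c0a8a085501d4089c0a5f02eb0ada0d7105e504cd024b04fb0cbc09a20b950ae30e15033d0f55089305b60e60016f09ac0b8408ab090f0814019b052f0e570d310ac20d690c5c0d2a09d70b0c01a50ac90ed606c80de909bc02ce01320ebb029a071a0d92047d0b8a070c0c6f059a066e04030ccc06c401dd0aad09820df80f0e0a4e06cb017309ca050e0e67032a000b04420a1c05800d14069609100ee702ff0b3e0fc203850f3c076808490a930a92091207d7048d0f4d0f4500150edc0ae9031f0a22024a08f60ca30e280f2d0450008400560bfb088206880a7c009d0bce0a790cac07f80a380c65040c058200580cd607de027e0be1033c014a0136015b06cd07f908db074809360e6d0b9109da001407d50ae50cdd0d8101fa0f9e0a5a0626060c0e7308ae088503d804f503640eda01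b203e10aa90fc10a4c0d5e0b6d0ba102ee0975006501e7031501a606ae0dbc08320c41007b0b0208650c7507c505680a760466021407830efc089a04c605130f8a0d800908095807b401fc013804650111065003bd00a007cb0f400a8807f109870a1f077c08dd0aa001740e350260061e053c052007d40c2c07200b8e029d08e905a5057f07a701440fb00944085b0d4b017a011d0c3005b00b4f05b806dc04170b5c0b7a019f0e95062706e5055807cf084307df0f9003b409cb00b50b2b047a056c05e7044f02c3053806580dd108a7000d0e7e0853017907350e3804290b32013e0e510d8309dc06ad0a6201a100320ac505760d33038f04060e3c0b450e0a060f00dc00c20ef109f30aa60cc30b7e07a30d490651045600f203ef050005280f1904be044d0abe016900e5023a0b3c0fd40e300d8a0dac02b20cbd04190c8d05eb00f0069f0ad208fa01c304dc0f8700db02d402780fa9020d0adc0ec104220055047b0c6304d00d110876035b07880625019e0b1f0b75036103470d05045f0b420f34044a0aea017b01da0e5f02e60a20096000520e0502f30aac07d30c120401022000cb0f970cd80cae0cff00b7094d0d030a47068a01ea05be04b5028c01f9034a08200db304dd0b1c04b10cd9096702db0ee60cea04eb0c010f6c0986014709590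093059907b305f7095e0a2d0d570b160c9d0fb80cb701db06e108110fd105ef09770398010407f70c2000cf081902350f260a0a059d06d70c6200ba0749045803e50e4b021c03390cba033e06890a6507e00195007301960be5033a004a0765030f0e9d0668035c0e2f09280572030c0be90bb50fb403500faf048a02c60e4a0fd803ba0d0b0506025603e802ca07ca0c05091407f60a9106980a9c0acf070e0280050b0c5603ca0ef00a2e0b1900d206ff0e6c02850f710df70d9b0dc001af0d25078006ce09ab07120b0307b00a860dca0f1b004008310d6f03650c96015604d203ab0382055b0a100b5b0e6b03580b51056d0210004b08c705a104df0dd50a1d0f010a6708b00d0106200e1102b00c3a073b0b860f7a038406ca011a08c40fab089608b70c270630022908e108c6001208ce050f0426040808c00d210bc7036b0eff037407b50aeb020008cb05f404300f81051e04ba0ca108da05330a560f0b0e470ad0019708a60ec709e808a90be00e9c039105db0f0f0e870efd03a50f1a0ae604050a33006605560f4808cc007607bb0ad60db5008c0bdd0c5a054f0fc60cf10232081503c606da0e08087b0a5506bb022e0a7e0141082c04ca083c03b50e8908860f84017004470f59099a060702e20f5102bd07aa0e1f0ec403460d6608240fa8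03350f920139062d0e0c0a3c0e3f0f000e970beb0bd60ef6041f03f003f10a090659085900a80d1905fb0ae807e209e5020701530f9901cb00e60376027004b00e490a940b8d0bc805c90c02044b09f706d104910632020506dd0797087e05de05e90b26039d066f05d60b9d0b6605ed0a4008f20d3c0dc307520062088003d406d40c7104a5061a0b9c068c086c0f9c018d0cbb096d007107380fd708040334070b094703ed0ba306e6088a0ace0eaa0e39095002f607eb0d520e6a006106a00c3b02a50c4e0e320f3306a1081c01b6063f07780470023c016b02860fa40b6c0b180a680a77094a091304a8036a01a9055e0a2103b70e2d01cd01240c51080f0df60c460bbd0b6004b9047207ad00df0854049c093509f60a70042f0f1807db0b9b0bd0000e0a900c400a600a150981069d0d2f007c09f80d3507cd003b0a240916005f0caa044c0b6a0a3a0d18043e044503a80c5903b00d7a053a0fb5089401f0070a07ab0100015c08ba0a2c095b01f70d2308f7075d07ae07e40d7907b80871025b04110a0d0dc20e6f07a409c700c50e0204e106a30091051d05470639079a065f048e083d0f540d22045104cc0def0b6f0af9006800d501c8028103b80048010f09980cde0cb9001603eb0a350e3d025f08fc077f0b1400ae0a1e0f4a0deb0b7b080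103750fcc0672076101780b170b920ba500220d6c06ef04e70d10076705b20a95076a0356092e0b0e04540ea207740eef06240eaf07af067a07170b930593055c0ee10e1a049606aa04e8082e0fbc04d10fbe00de0eb40494069e058a093f0a660f760ce203a30bd90baa02e10d9d05a4050702bc05ec029108d40e070251081e0c220ba209e30206048700bf0dbf0c28058c00790d44001b03a000350ebe0ca9052903f205140499060d02340cdc0a13019405080ce9054603950ab906940394075b0f9600470fda014808f901ca0e1c0bfe090e0ef90ab5081a07b900e2012105250b3607050c9a03d50bf0031c04e6090504920d0e028e03420d7f065600a30b9406f605150f95061b04ee05fa0cf9076d0087027f0609056104000383064f0592081609fa0d1f06e30d0c0951037c0d9503ea083e0a010b3408880e84001e094200a10ddb082a052b0d97084204610f5808fb0a690ec20aa808d00d5a0ac00318059b04a10aaf03c50ead04280ba603ee022104770e64088405e00de700000b850c6a038c0d8b0cdb0d07018800ad00440a4209db057b0471075404330f5b059104830596033b079f006b0805080b09ad074b07d2069c02a1027c033809110cd00a9d0dfb0719027b0225053e02a6067f02a70b63082504a2097409370a7d01bb030e0f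2404b30097011f067d0b0f068f034c0681054305c1075c03f90bbf04cb005700360e740d4807750f060c8108370ab201c90ee300210c980562092b0c900d6001a800340c9302b30cb5055507990d2e0f0c0bd80446010d085a09ea018b06f9042c0cd702d0041809c50a2706e80157020b025905bd02a00ed204f70ce4004200a403da0f6d04ea05ea05f808020c8c0bea04b701220f72079b0e520486052a05a70e260e9a08400d4508c9062f0e1e08670e22037d0e940c0b0c1909fb0a590997075f02430d4a0dbd08d804c40a180fca0db106f3082703670c820afb0d5302d304d802960ce30589049309cf0c5e07230a58039705cf06ec056e0875032f0ede06040c1e02c90e1305b905a901090b0b048f085606f104250640095a019a011208b60bdb00720cf20efb094e02b90833073d09af0641083a016609ee04a30ae10dd80d1d05a60e4e06ba0540083b00430b1008a200fc052e006c041d08360e010b3000c00d77016e0424060a0d5f00050bf200940b1d08460f680b790aef0cb105c40d3f0df1067b015e03270972064b0ccb0e400fc306000a02052c0ad50d41011c0f75076904ac0a04011903f6058301180088013005ff0213063505e20a0f07400b430f2a08e003ec0415040209430c5406c60ab3095c02d2058d06a5059501c407590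6e706a70f70038e0d670597072f0340074a0611046f022f0fc90bd50e1905ad0a730d370a9f0a0e0b24048b0f3506ac04f10f3b0fb70b3109d60f3601400c69092701a70f110009060808e409ef0d360b37006d0a39026e0cab041b01b003af066906eb013a0da207f20fa1075808ea0dec010b09f90dee089806600eec016402f70311029f088e0d0f0e54031305040f1e0e8d0b2c079c071c0f9d03d2067c0e1d04de05df0cb4069102240a17053607bd0bb109eb00ff053b04e50bc008af003e0c840cee0acc05d90dd205b706d30636072709c002c50469070700f604bc0e6103cb0a160fc508b3079d0dea0ddf014c032902890e460e5806f507250a310da403490f5a08c30aa5025d0017090c050a0c0d071e073f091a0474054b0369030a0bd309c10d780ddd01540c180ade0d940f210e3a06480fd30a530ec60bb6008a057a026f032206f201200e34096306420c1c0753076c0700053502d80d8e0ddc07a00d0208df0541096b09a901030d7c000a0614037f00fa00260f640e6508ed0750099c0ee40c5b0ae007930677087f0d580c6c04c70a320c13061f0d4d01b40c61028b038809be00370523047308b207e60301063c04b6097103e0068402880969084b0b250498033705b10b46046e0dc407f5032e04a608280f4205e6068b06c502d1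0b820f6102c407e10d430085072404ae0bda0755018a074c061006fe084103e205fc07980a8f0101057d09200d86004e073306370c4800d406a604820db2042a0c3f0e660ab70d42099e09f00dae0fad06bd0d650336050504bb07e506ab0800058804aa03570b120bae0d8f0526004d0e530a370a290f4f0e3e0eea06d001f209900cc20df20f8604490f5e0f3a093e044109c40fa207630b3a0c5207940a8209ed0fcd09bd07c70844098d045b004f0878065b07c2040a02b70aa1045703d302d907c3013d0f16040b0fce0bcb0d0604120c9b01ed038a06a901450b3908b507dd042e0d0906550377048009e106c100b108c205f905d000bd09a0015f0bf9085e0af305d70b7705650d5c09b106520a000282059f0f080319043707a80c1602490e7c0f6b0a74043b0444008d08c10e7b09d3089b0cfb0ab1059e097f06ea010c03000ce00ca503fb0eb306790cc10e8e05ae0f040edf00ed0726085c085d09c206bf081805a0078406de02d709180b150f77093d0e5b03e304900a4f04b403df0f7c00450f2f0baf06440e100a540dd90f200703082b0440054403d10d3b02ba0afc0e820f7b0521090a00d003b9008f088906c30ced0caf0e810c8903aa0f320b440a260dfc0ccd091c03c8078b07f002f9087d09f4017f0be7002a07bf0563000c03a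d01d208ec03c001f507c10e7a00aa089e008307450fcb0d84072b0c3400d10838001f0c640e700399094c060b01b3071b071801b5003108a3039009d4058f006406b500c3043401c704bf0f17013c0a9708d106e908eb0b540c3504d7002b062b06e003720cfe0cda0d64042b084d077708bb0d3d037b02e301fb0bed0c7c00bc031408bd07f40503036806190ea508f00a520b3802be099301bd0f1d0d17035d092a099903540bf408e6046d07660202035a0e9201520b8b0922034f0c3c0c4d067e0f03096e05110ea10992086e0c090c420b7f06fb0c3d058b02fb09380ad80a6d06a40930093a069904ad0475086a081b0c060d8502500c87060604a70c49022b0bcd0aa30519032805bf00ec00740eb90ca604ef0f650f740a890b1e0d75070101430fd0041306c702650b900a44036c054c031205510268092d0686030d09260f3705020ed900530d560d2d026b03040b4d0f4c04b803fe0a9a0d4c00e80af7033f0aec03b60273055208100ef300f10983020f0dad0c4702df0a480c000fb60ae40127022a0e900c6d098800ef0b21037108740742007702ef0c1a0c790ec509660c26043f04e403e90f630c2a09a60615059804a0065302cf0abd0f1301a20f6a091706020f2c003a091f0527049d09ec0e1400b602c0008903620872073e0e5c03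cf05ee012d04430c990ded0e17066209b30e0408d601900f2e020a0cf50c3201aa020c00eb068e0690080902a4023100f8069b064a055001a00a110cf30b680aba0da30b87028406130b9e0e030d270e4f073c0bd40dc506fc0cfd097004c0021a051804b20f6007fd0903029702830416078c090d06ed0a6f0c0a069a069300e7021109a50bb80c360ea60da002f801580cd2084c04f005670f9f026c03050c4a0e9303100f85022303170e9b0cf4003c025a0a1907810c94050d00b407a90261064c02150f8009190eb10e2e0e5e0ce107390331010a0d5b015a0c4c0adf0a87040f0ed00f4e0ca20b9a022c06230c1f0afa0bad0ecb004c010507ff002409b90ee900ca0b640c73094607220e9f088b02a30fac0587088301510244032c02e908c80f380d870f070692053d02660b7406be097e0c740108008e093b0df4028a0019016501a40b0902580a3605a80b97027908e302f20fae09a302a9064d02ad0e4c0ed308520734083f0b1b0fc003550cfc08b801e50d1b00c40a2b03700a5c096f0d5007b20ecc03a90af20ca00460001807ba0b520eed043501ec0e2509730e780d6e0a45014601ff0d880f490b0601e10c140d380e0b0aae00500952098a0bc30dc600390e6e0ea40ae70b6703ac0162016c0cb00dc707ee0be6084f0711066d078d0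389001a0eca059409aa0c150c2f0c310f390c5003600ef706870e690e6201b80b080803039304c203960a500cce056408fe0e43015900ac006902aa07f3066505710a430ac302170b8002cc09d9029e09fd09960e440f5d0acd05f60c570f6e08aa09320934071f0d7b00960e8502af0f8c0f2708220f8b065704950ec906b10d6b006e0f9100cc0bcf01820d730fd903b30ebc0f500c67098b0a0709e407730aed00f40af60a1b0aa70edd0e8308790ad305d1013b01d007fe0f7809bb0e4d0e7505e802180553009801d10e230fc4042105c00e8c07b60a6a024d01ad0272064e08ee005a04fd08510352022d0dfd0cb30e0d0137051a0fb90a6c0b3f0713095f01e604320a0c031b0f0208810574000809df043d0386016d056008680a2a014d0a6b0004001c0c880abc0c5305aa0d630e0002b80c680e270b0500250e5a02ea005c0dd307ed0c8e063b070804ed06820bf50a0605b40dff08cf05af05ac0d6801160d000f310b9f05f50a280dba07890dde065a03ff0559024f05fe021e0c4f0106023d094b04db00d3048c07b705370f3f0e3105da0fc704d60e2402a20f9305240bb20176002e09c302f409ae02e500af03f3032602a80f9a0e3602fd027a084e09ba0f890e7907090d760f3007e3074e009e09ce09a70ecd0b2a0c7a0dd4008b078e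048401020906039e03c909480fcf0ea80184097d02380d900efe0e7f0f0d07a201fd038b09cd00c105d307320b280423036d0b5f09400b650b4c097802c109f2025c0d0d0cc004270bc200ee077d06b001ac0ba903a60c0808580bb30d8c0ec0064506f80e5906d60a250b1100dd0a7b0f230d540de50ef40163068301920cc505cb095d0ea9079e006303c7021d0409089100d604f202bf05ab06ee0f7f049a0a8103a40ed50b550bde0d390c970edb07d00a3e0c0e072e0e0602e008950e5d0325093305f2081f00280d910186056905d806a20bf301ab078f006708990a46038d0090082d080c0bc407c9001d0f9801260b9901550ee00a7206760a80099f0003030809850e9101dc044804880468023e08e2092f0f66078a07150af003dd06af05dd06460eb008f30f1505320b00026207cc02c701d70bb704bd0675072a06640d6209d803920c780e1200f300230e50037e03b1000100700eb804d50129023b002d076f066b0c6e039c06d8005e0134072c01c6021901f1050c07850a8c0a610e8f08c50f140e1b0e1607d809e703ae0aa204d9056f013f0d2b0d8905cd013500540bfc002906b8,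
  0xfff0ffe0ffd0ffc0ffb0ffa0ff90ff80ff70ff60ff50ff40ff30ff20ff10ff00fef0fee0fed0fec0feb0fea0fe90fe80fe70fe60fe50fe40fe30fe20fe10fe00fdf0fde0fdd0fdc0ad404920a130d1d0bbc09430cf6076c0b0806f807240780079b0eef0ca00d7a0417055e04bf00e70e5f04040efd099205ba0adf004402330da4001b09e104c90bcd0d3e0f1b0bed065902ec078c09c901d209a50ba00215061e00de0c5a0f0902d700670d8504f90e5107f6049e000208ab0bb609880a4503d80f120f7206ad0ec406a009260a050072085b03ca018500d305ab0f690e2700e50cb003e005bb0a95030c00990e3e017402bb02ed07f10b2f06af03280b8c0c56033708b9000f046907d7077a065c0fcf09b80f2d01c904b206210b4e0425030a0959058907170cd5040501000b2b07eb0b260cd7064e018a0d910cd303040da600b80e730275040c00910a230d4a0dce0b700b9b003c0b650dc30f2c07d802fc0f9e052a067506b206c904a00bbb0ee1084f073d0c1b02ca01e00d9d087709e505a002e80b890cc10e9b08590ac6008202620de0036304ea089a061a02b604df073705030a710b5302f70c5c0677015501730408029c03610d95086b05e2015f04750efc080b0d1103570691090b0d2e0d47086406a300cf00c40f4f021404b6012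102490cac043607b10c07041409240671055505e6048c059f082508e50d97043d02c9090401ec0801092f0d080e3d005c0fb000e40fad0eb101eb057e05190b7c086104e301ac02f10f010c3e0f4007730e030d6503c00a3d01950e6503d20a5507e00a8b033d06df0870067900ee0440030b0be30c4004070d180bd806c2048b07bf0bab06e5083f09fb0242011c0a280c0c070708480b170b7208ac080f045704dd07860c550c4b070c0775024c09e90ab303a802a107c10e5d0dbd0b6105a80b590e710ae000660298058b0c390ed80c800e8a0d660eed0d6d0b360203005a092c08ef03b2039f0d150bca0a92081208c2033400940c9b0c150f3d00130cad08c307b80aec0cf009f2076b08510c61047f01df060a04b30d0c0c710ad80d130ae4032d064908f900430ab106fb081d0d27096805770394080907200b430fbc05e10a34045b0efa0a750306034a03510e5b0aba0c290a000f770cd10c820b0906f2045c0c770cff07040e8008740288062b0970050a0dc40514003e060e0a640a2a02860e7d0fb3084a0b6b00a501ab036704d006100c2f0a96018f003f0cc70e770d0f02ea0deb0f670d4d0366084e0b2507530ae8080708f80bda080a02790ccf054f0b63082c01e80f190a030ad009cc00f901610d5f04ef0332030904230ab60fc103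d4097d00df093c077d03de07e108fd01d306530a7f081e014507d4099f0e3c0672066305e30e230bfe012c00a70f92049006570fce014703e805ce0150053809ff0d1401e50a6d059901170cef07d6018804650e9701c20fcb0cdc09f300a40ce5009a0c6903f2022303e4051c09470eb9046304de0fd3005803d00c5909df056905c608af0f980ee40e1c00970f26081f0e7e0faa0f91075805b40389021a078203c505da06d10f1c094800b30c7900f60a6903680fc6077f062f063a0c6a0ca306520a5e0d3602dc01ca0d8e076f032308d50e2804c107e508ca0462006e07da09220b0c06370ec50c3001f60e010dea0ae50acc0df60fda0edf09070841045e0a1409e00f7008380a9e0a5101840abb02520d9303ff0ede05540c200e040aea03e3000e088101ed07850eee095e01ff08cb0e1e07cb00d2065a0dbf0c7d0d1a082807ac04c408a501990e4c0c1d0f050fa80e5e0cba0fb10cc40348068001870ec303c707ea0622086d02b008b60aa7048e01760e460da702ab0af101e70b1c077b030d075108840e250eb80df4015a0be10e6204d70bf401930d7f03ea0ecc058e0b1b0d7c0b4b01d502630a530872086702f9091e098c089700f30951010e08c5007f06d90fd108ba037508800c8b0b9907a709ac028d0a010b0d054c028202280d720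36d0534048d02c20a790fa608ce08bf01d706b10c0a0bd200c0024f0d4e07af0d0b0d0500d802300d9908fa0ba30bbd0ce80c410cf5028f05930cc30192028409100cf809ae06da03380d64095505610c3b01b603e907d10917088d09720f6a02a30b190e4e01080631068505180db50d460bdb06f10d49010a03170b620d6a02d008f106410ac50d8403f803f00ab80ce409280aa10ef20d1709a2037906740474044702c807830da507c607ed02fd020d002a00fc0dd00f2f0aed05e0081606ab0e7506ae05d70f24092309000612015702700fc206070a330eaa0a39017e016904210261022c0477072a057c0d1f0e8407df010105a9093006480f1107280b540019096c06bf0f5e0c32008306a60f530b1204da04e008e308ad00a200e0066a0e4308a40f9b028a09d005e903250118083107b30ce20ac20a76084d0687026f080c07b501ce0200090f0e36001e00ec08da05c00563064d0f800ca403f10d1003a9085d008b0e6f062d0a1d09d10ed7017c05e702a404c80b490106035800780ab403bb01ba044f0f2a0d310dc805a60f38029203ba0e91077e07c90b050eb500e107dc006f02650bf205560f500c09087b04e80cfc0bb007d50060040e04850db10ed6071d0520017f0c870665021b01910a7c08c00bfa09290481043c09640529026c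0ef4063302d20a4b0225005d06680dbb0f860bef0f780bb309f103a5047905d00c7b0a06037e02ae0e2007b40f5607e40b4a090809380839096609310574094c0c8604a404d9089309e6041907ef007a05d3081504320e3a06aa03590d6e0b6d00cb0e9d050707030cdd02670ec90224043f07fc08d7089b02c10ce70cde0ec80bd900a90ce901cd0da80d5d08e907e80732073301ee07dd08f6059e02640ef904fc0934082d076801cb05d2049d07bd0f8b09d500560526036c016a0149033c046e0356095a031e0a5b0fd00e6e0f1802aa0181093f0aa90a480bd608be0b680a10026a0ad2009606a2029301430d280fa30cf40b480e560c9a08b0064606f7022602a009840d4c05320eb70500000a0c380be00d5501790bc30edb0bc70cab07700eea0ac9073603550af700790ddb045000080e860ea80e1d04e10b32034e091604f305db0eb0040a05680bc50cb40aee093b047e05420d9009c50092065b0c6c031f081401a70d0201a30833025908bb08df016b0a990bbf00f10535053a0b6a040b0f2109a10de1091208b2010f0f340448091f0fa50f4605940601022e0b4104610739024000b9084909990e3f0a0406950759086a0a7d002906000aff06ee01c308e4098608630660012b090201a2045a062702060b79008a049a0311082900e8048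f0a09075e054b0e3b09fe0bb80747080d0bd50e40098e0ed90cd20ed500bf03f70d960a5702c30af00960093d01820c2509a305160ada0e1602de065509090f8207f20528040d0b600e09044a08780b550a7b074107fa0d5405ef0d4204ce0dc7034205be0709076e06c103a0037605fd01f304a800f4093e0bb50280025700fd0cc60d26006c022105ac020c05cf064f067f092007fe04640f0e0c47055204b50021070200460d240c450e4b0d6c0c5f05c30aa80cd801d4044202fb0ddc00be0f510ae602b702d10afb0b4f06b30e9304090b44007d07990980098309da09930ba807050bee0e330fbb06e906320f8c0941063e013d0db8068808c10de40c51081707e9093a006d0a8801b302be0b1609f90312001f01c60026032409bb027a0edd0e4d0fa90ab706ed04290b9d03ac0175043e09a6094509ca09dc0d2d0a740b7e089c010406620b7608ae0f2b0ee70424072f0d9f02bc04990ceb07e70f6608620bf608d20e480c8900b10dfc08ed098d0ad108dd03ab09250c95061c05b308350d3505f3060c0b8d0d2a0f83091404ed0dda065d0f8403470f9f06a802cf051b07f50c3d058f080e086004ad076d0a1b0a3e0da306eb0506014c0dd80c420e600cce0eba055f0962004f0be902470ad30f0f0bfb019c06960399026d09ab066f00690e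9001b00e98071003ae052503330722022f097f0065041a056201a60ee20b180abc054e0e64079c033f04a608c603160bdc0f740cf70b20035f03bf04c60e1209370b2404e9056409490e9c0b64045d05f2059b0e520b800a2f0a9b09bc087a0a24094d06ac0a2209f409a806bb0a1709210f170c440c7f0218039a0b8e02020d9a065107810aca0dc20b3d0bae07160e0b0dd90bc00fd503700cbc0205076903a20a200bb7083b04430ea7023f0a0c0f81000c03c30698052c0fbe09c405c80a580a590020039b05d403bc0819039e0b9a0156052d0ee0074309850d030aad02120ccb0cb80386050e0823049c0ba2037f0f7908710bf903740c4e086609cf0505061f040203d506e702b50a70091b000b0a5003c405a50146013007db03db02e40a8402bd09f70abe0fa70b6e0045071e03cf07ff0d7b09aa0a820a770af40e4707f40886039501d90c11038105b2068b0fae071b02780ccc069703540bf00be500550cbb0b00019d08f405bd0c2704830fd9038a0af20d50009c0a38035e069400ca0a4a05ca06b40b670aa200fb05830b5c0d3205b70683095c0fa20c520f650913022009150e9a085509be012800b70a1f0e3804490f7f0268009f041e04b801bb0aa403390c4f0ebd024e052406b008ee0aae078a0546039608ea00eb01ef012e01980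933090101230f0003a1072702cc0ebb0c48061304340baf069d0e8e058109560a25032f0a1c0c960cec02cd0658078900d70d6708d80f4a0ed20b340ac003b60d0001770f6808200b980c6d03b9042b0172075703d106e0042204d103c6013707ad0d3401c1057b0bc20c230d760a3001fa01e2058a0692053b0ced0e190bc803880afe07c407480234011b0dd701f000ef009d0f0a0f760f9004730c9303e2012a0723008606f40dfb058c0f1006fa0b2c044608b7029703520cd007190c490b7b031a094004f5082a099009f6007707cd014b0a3c0c8f0caa088a07f7000d0a73024a0d3904ee0ed4025c0d2305730f0b005703000a6101aa038e03dc0c140c72023902e002770a5c0fb70e74047602830c2805de090e01c4014809db07ba023208960285035b08aa030806ef07c5038d0795050f09030d1e0341063f0b1a0e500327038f0df00ead05310eab0906022b07cf04bb04f002310e0e0ab2028e0b510c8d0634031c0b4601a008cf01fb0d5101fc0b31075a06260e87051f07300fc705e502cb0add0813045209b908d0056706440d5b088c037d030504780df908ff06de0fab0db7004a09910a16010706050e35083402b90c080e2a0b8b00ed06810d0e00f007f808f20654042e0afa09b20acd0d7104be0a2103f90c2e0c730fbd01030d29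0dd302b1011202360f1e00400dc905f705c20dff08470ef6068e074602dd098f057801bf0b77063b0d6b0c83086c00fe0fb60f6008b80a6e046d0ac40b07073f09e70ea908820e4a0df104e60fc9044d0db00427052f05b804860054032e0b860fbf004901090364012009820b100827079f017003af0d2c011601650c0400100e4f0b2904150114053d0fca07e203400bcf047b032c075f0e1a02a80e0d062a01d00da903aa0c430c3503650a6b08210e39035a09cd0e96011f0a54077400ea0115073c04060e020d58089503fb09790d210e6908fe085e07790209088e05f60dbc08050cbd05df0401021606020a6a061d07aa0f3a0b9f05cc0d3d01a50ebf02740a97099b09950166013b030f058409730a62042a07b00aa60eca0a7a03ef0ad706d6000600ac0208008502580dae06e108880f89023e00840dca00d509870adb0e130d6f072e0994078d0b570a4e02e5074d04fe0da207760dfa03a6080007ca09690dd40f940d0d056b0c3f05fe025f0e6b0c9006110a270603084b015d05760d750c990e170144021f018b09c703b10e320d700011051003260c500a6f03690842003305aa0e7005cb08100b820d7706f3008702ef003b0978074b01580b4c0f8f01d10cc80f3b0ad50036088301bc01f70b3a0731067c0e7b004d06d704f80d250b3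b07ce081b01de04ac0c7a06cc078f0aef056e02fa08e10aaf00300cc204dc018c00250290074c0fc5004709ed0061043a0d5c06c708570711096101e106e200700bc107380726034508080b8501d6033a09cb020e0ce10e830da00fb404390ebc0a9109b005ae011e0b7f02e10e2b06d00c030385016d029e08d40f2e0a3603d9013f01a1029f0d74055106db0fb2073b0a2e01130349074f0e680f7c07cc0ea40f3e0de809de0f3c0d9402560557018000d60c1f006a0cea069f0684045f0f620d450a9d04540cbe06ca03a70db60f73073a0f7a01cc0ab508a300980f6b0aaa0d5e0bfd0b840da100c20ec101970c020e8f07140e890a56046c04c3059502a209b3046008910c0b095f055b0a6c04d601360af9097104cb08d904000b3906170f070afd09fa05c5087d03c208300e540b4002fe031b065e00ba0d2f01cf0670000904aa02950712049308bc065f02370c13029607a601900a8a08cc02bf07490fcd0650067d04e708f50aeb09af0efe0ade0b56053f007b09570c2d0151038c082e0a410000039005ff01620ba409f00a4d0754011a035c02500a4207000f0c0dc6078802ad08560a4003c90a680c850b1d02810d4807c303fa027c0af50f320d9b0f960ef00dc00c3401c006990e1b02410f7b0f4108dc0d3b08360f8a0ecf01f9073e0e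2903cd08de0d5204a10b0f0c18034c03b509c3022a0ae70e1f05c70609056d03eb0e1107d2002706c30fc000dd05330320071c01f4064a03150b7408f70504033605ad0acf09320e530bcc0f5503870f5b02480e6c0f040064025a07a401260b4d03210e8801220e4207ae0f5a00b2074509c808760d590c62008f03fd0c1c055a05600dba08060ef70c19096b023b020a04b70418054500ce03bd06dd0a8e04f20fb90f970d53075b0c060e450a5d047c08f0008c0f020f9505f80189056c0f360071061906cf0041059d04ff01fd068c02f00b6f05ed0dbe098904fb084002f2019a08fb091a0643052b0b450d62050b047a002b03ce0996002209d60398046a02e307fd089f005f074a0b33039d0a8905a3033b053005900af3050104d8013903780c70097c038b054107180a7e03430a8d04280c9f032904b90c94041d03310e6d091d0c600f5f0f4c05f5019f00e30b6606ea01b10d43003d04a3097405120ce00d1c0def0d6302ff0171062c06150131026909ad0846021c0bf10ba500040af60d3f05c9086e06450eff0b2709a0013e043108790ed106a503b40016078b08a80f7506dc07610bec07e3020f02e60667004e00f20cdb00d003dd03d6043b0e7807a5099d0e6104ae04a500dc0d3a026b0c0e0c5802f30c330ddd0a020656038408e80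ef10a0e0ca805a10a0a07e60b3e0f9c05b9075d0e8102ee044b045302c6003404d2010c030106a70d800ece0502077c01ad0cb906200391087509970c000abf0e34049f07c809420d880ef809ef0f29001d0de909390de506c000c103e10d3c0f1408db0e7c03b00f8d0e5a0dcf0c010dec010b029a0cfd0b5f0c2b0bb20b9e05a204ab09e30fa409d2037c01630d600e0c037106ff0b020ee302df03f40b14005b0b71094a0a1209bf070f02600f4e0080012704410c780faf04e5011d03d7002c03c800f80bb90f030511005207930bc40a2d00370a3703cc086f082f069008e006860e080b0e067601a402990c360936083a031906660d780c31009005370c920d4406e805490ecb046801f20abd046705590b3c04b00ce3097b0f22079a0d610e9209ba0e58058d01f1068f03ee060d0b73027d05660cb2072d069304550fba0a8001330ec0007505d6092700cc0822004204ec09b70433041c001a089202eb01020b810c210efb08020a1908240673046b00bd003202c70b8a013400590edc0aa3099c0f4300030d8206d30f1f021d0f3306b706b507550f58060f09e20ca60dab02f80fd80cae09c004a70a9c079105970a9f0db208a1027f0b220ab90b23070a0d790a1a0a4f0fd2044408a6058506380cd6087e0c7507be0c2a03f50f8706c5024b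04cc09d80e790ad9052e0a60094f03ec09b60a3202d6092e01ae0f490daf070e03140e7a05af097a0e440790015200880b5d0c6b0c9d09e408b10858063c09350a2c07a806c403e709a700ad098102f502c004cf01a80e0a051e0d9c0bf70894039200a1089d0ce609440d8f04970a1e0cb502c5091905700c240df305a400170b0307670a110cca0a470d1603b70cbf09eb00b50aac0ea508fc07d306a902b20ea2031809bd07a20b1e0ae908e70d81096a08d30e100a6304cd078707290521002e069c0d690039022205d508b504c20f2703530227019e07940d9e03830bcb063d0f590d0904af0f630a070ea307640f4509fc018602da0614064b0f280d33023c0640009500a8023d062405d8011001b9000701420105028904370e660cc000c6013a00e2032a0a0f05b10cfe09d700ae0c570b960e3101e90be8097508a20d3702100b30079e081c00230f5c0579081103a3010d0e0f083c04960e2e0e21085203fc0bad0c370e5c0cf108cd0c6402e905220d0a04d309b5029404980ee907130035023a0ab001db07bb07c20e6a017a0cda084503f30ac1090a007304a204e403720e8202a703d305440213068904f7002d0f06048a091c046f0f4d03ed09110e150211001508c80caf0c840d41077705b506e30aa00d120a810c0f00da0c9e084303a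40d400089066c0f3f0ca707980d6801b80246020b079206470018027b00d106d20d9209180f5408850410060b02ce02d4094e041300b4081a0d8b0c6e027e085a04c707660cb706be0586053c0bfc0c460f85019b0f390d9806e601f803970daa01960afc008d0f2009760a650cb607f00dcc0124014d060408a9095405cd068205fc0b3f05eb0a830de3024307630e22064c07010132016f0dc509fd072107ee040f00bb0adc0db4055300e600c3029d09500bd30d8604ca0e5506a4003a08d6073405d904fd0dd209d90160067b01be0b910baa0dcb07de00cd0a5f0f4400c70aab034f0a7806c8053e014a054a0fa00fcc08c909a404710344001c052301af04300b830750076008b40c8e0e370cc50dc101b40c760c1204660b0b0844025b0b38067807d901b50eaf059c0f93036207440f52071a048701ea07a903cb0bb408500e140f35056a07b70b060e670c540287042c06ba028c0dfd0e9f00f503be0bf808650e8b045804db0c100451098b0b5805b603f601350d040f9d0b13014002070e180bb105c101b2033e055d0c05066d0e8d0acb095d0a8600680c1a04a90dfe062806d80ea002ba037a03770f4206cb00050c4c01e3002f0582090c07b2030306f00201036a08730c3c0b0104bd0f8e0f6e0f370fc406bd08ec0a44049b030e07840f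d40bf300240e95041100010a0d05800b9400a60c4d0ec20e070bea06fd0a8508c70cc90f6c041f04bc0f5702e70ca10cee0be60c98094b0ec70df20fac0c1706bc07f9066b042d0fb801640eeb016706d402a5039301bd02380dee054d03100b7d05f10dd601530c1e04260f710c3a048807bc05e801dd06390f2500280ec60fc80a260d7d0ef50ddf005e069e028b03b80706027204ba00760c6502760bdd096f0b9504c008d106b90be204590e76079609ea09a9057f09ee0f0d0031092d0c8a0a520a0b0e630a290db9085c0ae20eb4068d0ae10d8d0ad6061605980a98056f092a0d7305360e2408a7066106230508099a08180aa5004c0f080e30012d0f4804b40b420138034609520ba10a9a0b280f4b0cf30f9a0a350de70244096d0b150ccd0f7d051a059203500b9c07b6092b01c709ce0bf502ac0f300b04009b025e0eb20062079d02530a1502510be40bde02540c9c02d300db00d907d0036e0596031d02af09c2067e01c509c60c810a49034d0f990e2c0e850bd1086805b00d010c4a0b750f130a080de60b1f044e06f6072b08c404d50762049505f00307085407400e990b5a045609dd060806fe0d560b930dd505dd0d4b02db0f5d0946009e00ab05910f1601830ca9075c017b0df80d0701dc0bdf0bc9035d069b0bbe067a0b210a3a0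dcd02d8042f029b0dac00510b8806f508eb0547022d05ea03c107780bac089e04f606640bd40d0604eb07a3001409580470007e00af0a900eda032b0dde0a3f0c9706b80c68071500a00d570ea102910f1d06ec057d005002e20b6c09d309ec063002b30eae071f0d8a00b00d1b0ed30e5704120642089007a104350d2006e405fb09b40c660963018d05480ed0062502b80a6607ec00630ef3048000d4096505bc01b705c4015b012f066e04940fc30a5a0e8c0472070b0b350b500c6f04030de2090d0c2c08e607b90998088700b609530c7e05d1026601a90e5904f1084c04d409670e9e096e08a00df7036003fe0b11080407650d870e2605fa08bd03df061b021e06290558083e0e9401e40bc6082604e200c80d8305ec03da0a2b0168037b0ace0cb106060e0008320c53083d016e0c8803b30ac309f507c0076a0fa10bd7085f0335027105bf0d1907080bce00bc0c740f880eac0beb09e80a8f0c5d00aa075203e504840e2d054004f40f6d023507f30c9100c90c0d01fe095b01e60db306b605650550027300f7034b00530a3101f50cfb0b5e0f1a0cf90ca200a30b9004b10eec0f6f02d90543072c043804450159082b051d0fd7058706180fdb059a00e909c1007c02c405dc0572008e01190899098a097e099e08f30129017807ab0a3b0a8c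0f3107a005f40dd1006b01d803e6024504fa075606fc0e410ba60ba9050d07c70a180cf202f6041b0509036f088b062e0b69089806ce0b0a004801c80420087c0b5b015c0c1604910e2f0df502b40cd90ee50e7f0fb50141048202d50d2b0322015e0f7e024d0bd009770cb308370ba70f230772026e038003130e050b2d00740d2207420a940ca50c670ac8087f0ae30515019405a70d5a08690081068a0b470be703ad0af802040b97038205710d3002a906cd06c6044c0d890a6706a102550d7e009301110125069a0e7205f906d509b10f4705ee05170b920eb6074e050c001207250b8f03300636088f0b3705e406f90b2e018e08530a7208b3057a014e0c5b022907350ac7016c07fb0416025d09f80f15070d0a930ee602170ee806350bba0d38003807710ecd08e205390c6305750ebe00fa0bff0b7a05270302014f08030c5e0f61058800ff051303730eb3036b0cdf00c50ded055c0cd40b520b2a0c8c08890d4f0b8709d402190c260ea60f6402f4047d039c01540a460489078e004b09050fd6066902a60cfa017d0e490a4c01da04c50a870c220d8c0e060c7c0dad0797013c0b780a43,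
  0xfff0ffe0ffd0ffc0ffb0ffa0ff90ff80ff70ff60ff50ff40ff30ff20ff10ff00fef0fee0fed0fec0feb0fea0fe90fe80fe70fe60fe50fe40fe30fe20fe10fe00fdf0fde0fdd0fdc08360833059f0de40c4600e00c190bb6074d00f406b1089b011a080d07010a100b3008fc025a0c1d051103bc067900d8087700d406d20d570a540ec8085f0b8302a900cf0ea505ae0c9909e102d1073d0e5802e103ea06e00b4907220ed504a7025506c30b34023e0e2c05f507240c610c800bd70458052c07ab05c70266072b07640c4709c406ed089d0211091f036504950c5705ce02820c1301e004aa0cd207c90d0e08220ddc08ba086e0c410f850c04095b051b00ca05240176072109d50aa20e0e005b07950f9c0be906a40388012301510ab30b5b07c108610ef103cb00410f8d08f0098f0e320e44010102e501f604b20e41083901dd0e1609c105250953040a031f070b0b5c08f605140f020b6d09da052b030802fe031b06a0023604180f2409e4025f05630da60e7a055c00cc0d860c080b0b0e8e01c10399013508200e5b0a880d0507680fcc001f037008e10f92078c060c0fb80ae20d6b0b8205f90bd40080085d039e0da40b2e082b08620e6f07cf0ae703f007f80387053e00ec0e7e0bc4009808630ada092605700a990da8088c0881038208b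e0c100f2808d3011200ed01f206a6015505cb089300740bef06d60f1d0f6206340309026008d000d702b40d98048003ef066201d6016b0f1606b20aee026d06130def066908da0fa5031a0e9d0b840b2708b003960a180999095109a20b010397048a02fa0bc30bd9086f070703c603950bdd0fd909070ed7013b07ca0d170304067c0cba0f230d5c008d0a860a20035700060efd0eac07390dbc0a7807a401af01e10bcb0dd60d2408bf0d7005a603c50b4a03370a0d02a20b4b07b603330c7d0888090904310ba1033f0e670fab0f9b04f70b800ef60be00d7d02b70a1a00670726090603a900e60e1b0b2c023f080705bb0218028b0a340a9e0ede0ab9037507280e0104a600a0004b02930f6609bb047f00a70f7d07c304bb0bc20ad8097c02d0069401ad07c409840f79053303d30ae4001201db028809ff0334007b01aa05f8076908a40aa70d63079b0e610a7f09500d600a090d840ea80a7a0a530571018908670cad05b505830c3b0bfd039d0c310eeb0ca20c290fa40aaf091b09710f2507840d10061f08d507f906a805a3023d0e870f2e0b9e06e4037306890ccb01720576047d0026018b045b0ba6052d021a06980757038c0ebe01da0aab09f10cb9065f00a90de8083c0f4d00880047078806b4015e0e06040c02960c9502b006d005fe00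890147029906530cef00b604ed03170b350463085a08b20e190196070807f100f70bc10cb60dec0b0908c80785080807d40a43077804d40bac017d00850c49088201a9079909cf049d01e308890b630994090006e5021206470afc0b3c0bb4098603d20a2d0a7c0b6606b30f9509c00802093c07130eb20d720df003ee0c78049803000790096601840c8e095c083a05500a280f0602dc06e30ef008c0067008af018e0c8400900d040646088305c80ad90e46063f0457095d0105028f097e09af0f07043c0bde0c680c330a40009b0f7b0c6c01bb0063071205bd0032025c016901c0052805460f5006280b900c650d9e005401280adf074305840db408f9047b07960f8703920d9309a8048f0e1e0a4d05300f820ba40c2302be07b40e340cb501930dd0021b0bab01df036f09ed0e860b390ee405ee0f0a0878074208550d4e0a1400a803e5095e0cbc0f86028408c408b401ae01ed0bb204bc077f071f01cd0ec70bbd0fda0f5d06f9090c07f60329074a03a8036c0ac304280c6a01040f0302300887013600200ca100d3074109790cf60ce00a960d5409b5097f0abc07a00b310ce605050cfe0a250a97063303f5025b0da10516046705910e95097b0e910f3008dd04a40cb10dfa0c770a3207730168057a0e7f04940501038e0a620d7607d10f810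e4e09df0a68030503fe07f7086c075a03e9049e0d3206580c030d1b0d8a06e70a8d092e097203f303d0039f079401a40cc709b20cce05dc0f2b049103ac00e704250643068e037b06360d23059b09f308470158055b014d02ce00d509920fca065201410aae0b5e06860690004d0f140a1f070d0b0806fb0a2c0ef30247073c0d2706de066e0b9901ee0749033a06f8011b0a5008170d2001710d350711059d021305d9007e078f0102049908b705d60eaa0a660f8a088a06ce002f022a0183063e0e4b035b0980087e07e5020e0430081e07040baa0c170d2b091902d606c80df90e470b2100f90b560fc40ca70b6a00970c5d04a30f3a0609099b04e30977003100f80bda033005be060205c3061106300ab20acf0c0e0b4709fd01b606b00a16070f0d4d05eb05d000d003d804470118042e0ebb032a06a90ca402e4058700b205e80b97069102ac0ee10c11030306c00932030d090f04df085b014f0b040f880cdb0a7404d2029a028604b60b2d0ef90bfc020300280156071c09ce03e10100054f0ec50f260fcb03190bdb0e510db60cdc0ed107df0b320a940e14079e0d740f320d2c0fc1060103690c1803bb0b5f041f0a03096303790dda00ea088d0650026a05ca08a80c7e04510b050f8402140c200d340cb407f20fb30b85037a09210c2f0fa8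0d580c820c60051f02250af305690b0e02e90a1301f00df70a9d073b093106bb069604e201b202c800ba01910a5c0c2d0b4e0f480758048b0bbe079c054e07c2053a05b601dc09be0c34051807480a3a0d79012c0d260e1d0c27019000100311026f04c6048205e50627047502d70cd60443084208d8068c078a08920c8c08db0a0c07d60e7105b30c3807fa0f540e3702d30b0a0a00086a00f10b720853040703450c9e039a02f50a6402c30c1404a20fad0d16069b08370a690e930ab70b290bfa025d04460c8a0c6b0c3c076d04b108160094044c05480db10b4508040d0f01800a480ad2086003af0177066c0fd50454044006a707b30e5a0301008a08bd01620e0802f306a303cf05e20f5808a300c403fd0316074b0ba900c700550bee02100b7509cd0dbf0cd00db50cc10564002c0e5e0c670e6801e90435010e082504db05320eb90de704fe02270e70038902a50a5609f00a2a0d1f02950da20a17084a0170020c073707ae037107bc01b40c8109400f8b0d3e08180b70010b07f30d9005530328010601480a67015704c50b5d0c4d08950d3705e106650f370b920363077a01e40faf08aa03b0087605310f53006a051e05b7035e0bf6016d0c3d0e770e810ca807400e6c07ba0e040fc80dcc072a08cd02970b6209480a790b6501150f1807a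60dc4019707a504e4023a02b302e00dd402c7043f04ab0a4b08c2059c03a304590a6a010f0c64092c0e4d01d204b306fc09a700b00c010347099c09ee0ce90838046e0e0900680a5f0b0c081d097a0ef7099f060804020cf70b2302090b1f061c07e0042002ef0c7502750639052708f20a4a04cc0ab80c9a0f4b06e808ae05380dae007605f1034109f60bcf0688006106aa06410c5405540ba7052a0289011f086506b608800dfd0dce0537008b028d02440d4506a20598023b077e05130db90e430ac9019b061a05b1000703b701030ef201200d3007250d430f8e0bce05c20edb0879079d0be400e4012409880ea004f1084507e809e00d2f0ab602c501850c02071b07ef095808a100bd04640f7301ab0aa90cee0fa2013804dd0002067e09c604f808fb08350d5205950bb1060f0bc70e8f0e76043a04770361052206770db3017f0bea02940d3b0e520dac0ad1065509b904840ae9000401d300400ece09dc0d010215051c080b03a708000aec06310fc3056c0cf30fbe02c90a8e018701490e65002d062001a005570e2a014e09690c9c06ec059400b809450996076e0f210c970a12058b0e6d04ff0f3503800c5c0eda0c0b0b78022b077506400ddd0c5603c807700b140bff04cf00010b790a920d390fd6095202dd002b016e00720107074404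6a092b00130d9701ec06c10bec06970f1905400dbe07350fb107eb055602200ba0087a0b400479079708ed0c9d0a650b4c05e30bf405450a1904880c3e016706fd02b90fba0a0f010a0d6409d709a300e9078d0257050f084805fd09ef05740d6a060409b10626063d0c15028a0e92067808ad00a40a9f072007be01c707670f360de9072f00ee054b037c016c03f104e103c40e18041e0b4102b101250c9b01980bf30bbb0a010e4000be0ad306df00580b7103c3041605960a910864028e006401bf06d80e62076205600a37067101f1063c0f9705a907ea02ad0449005c015b0ce807fc0dab0a5a0d2d090b027803ff0b8a08d101780a9a0f9009d60d000f4709290d5d07870d07091206bd047204c208850c9f08e605da00920fbd0d670fd80060009505f00f0f0d830bae0f13007704f3098a0d7b00b401270bc603930aa3087004690cf4007d04f40759095a07b5020202a8093306db00de07f00a4106ae01750df204130287021701be067f063b062a0c760ae500c9084609650372001504a901fb0961022c0d25088604f502700c45023707dd00160e8405390afa04be0c960ec10b6f0f1a05a805e6027204e0054907b105df07b90f050bdc0d280a900c8500ce00c503cc08a20cae0e6009430283036d0cfa0f4e0b6c09fb05210b64032f09180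ba205dd0d9105de03e805a50c6e0e56007a03f608ac000a0c830a81018800440e8d0c0501c509760e850908066d0944051201d0087f0d6e05f302f203b1024d0a6d076b0f9600790f63069a09f2067206ee067301a108d20c09038a0aca0ecf067503f205730c630df80f3d0e27021e02f401d105ec08910bf10e3d0de504c40da906670841093a01290d77072307e204f003fb01fc08d900a609b40eae02770ade019a0f5207e30ec30b48056e08e703cd05b202e2059a02c4099e044100fd026b0cf905cd0ec6060009eb08f7074f0f27032604ce0f4000f5000e04c3048106800cc40abe0c39057508b30e9c05a0090401c30a6008b807d008a700bf05990a5900a10b580e5409cb047e065904fa06b7089e053c0c7f09d2044d096e02730eb1000c018f0be508a60e22007c0b81041102f80e8a03830b5202c00b93081c0fd40e720c260d990cfd087c0f8c097501130ddf059001340589054d00810c790b860f5b051d05b00ca00987001801f309ec00d209ba070c08eb00490ed9073009e600240239004e0a1109a0078103ae03f40dc0049b0832037d047802c207da0dfc001104ee07ec0649060a055a09b6037e03740621029e07720755096808ec033e08e20e3002670a9b02bd0a890c5002ed002e06d30c91029b0dbb089f0d750656016a004c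0aa001990e3807ad0a21083d0937035f0ecb04170e8009c20a520f0c0c7b085c021d0c72050905920c53006b0ed005ff086d02de0456005d0d440320052f05350c3a08f3080909d1050e0ae109470de10c6f0e4f06640b5a02400af203ab04dc0b3b04d00b160ca603130e5007710d680bf80a230cd80e1509e7003c04960f4a0fb40d0a00620274025305850f7803a00814025607a20985013307e90f0e0be303db01c90a5b00c206420c510f890a49065700840ae607a10f5f017305970a840d400a240b4f06b508c703ca0aaa0cbf0400015d045f0b7e0be20f4c04c1034d059e062901c40d030a2b06100f5c056b0bd001400ee007860a830ae00ccd0e020f490b1d076307bf0f5a079802bb06a10248097400870caf0b8e081f01630aad017c034e0f9402580a360ba5058002410663074c0f330a720de60e9e040e0b8d08540b7b0d8e017e058109550f4506ff06f306f1009101300c2c017404a008ff031007e10eef0c0c040d0d96024f006f0bb7094a07b0092408c60e5c085807600b6806ba0e7400af05170a3e04c70a550f3b01a6014c08f10774008f0c520b9a034f0cb80cc301f4014208240250073a0ce4064e05ea03600644048506fe00a2009f062201220ba30ac000e303e70f9d0edd04e906f003d109950056041906850960018c0e8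c00fe08e90a390c5903de0f1006b908e306cc01940afd09b30de200660b510b670899040f0b590ea60ac808a507c00f9f03b40c060bb50bb00ed60324056d068106e1095f0af007d3089a000d0fbb015f0f56046504ad0d2a0cbe0427002a032c0925093009a406cd069e0ea10d4f08c1041c02d4082a0b2403a5021600220c880f2c0731020a042d044e0c7c009308d4063505060e9a071e0f770a3808fe094d02220ee803860eea0448045e0e830d7a058206eb02910bd107170a4e07cc07100ac102790efe05ed084305b9024c01090a710bb80e17096b0baf049c0f72009d036a04260c8f080304710b1804870aa10e820f3101b10254017a0fa60207030a003e062f06f502c60c1601d70f6f061d0cc9046c01cb0ec0072c0dc107060c4202a304ea016f0f6102a40d080e3303e205fc03150bad0436074505cf0bb30b2501e800fa04ae092302240c550ab40c0a081a00050a5102510bbc09bd0fac0e2d0f34097802e70b9d041206da0b370fa30b9109ca06be066608bb047c083408120e4900dc0e96066107ce0f6d037f0fb705bf089803060552012d09810bf70cb709fe0dba075f05cc0d6f04da090a0e2802630d9f0c9301820c6203b503c10d8c081306380a7e003b0fc70daa096f0a870cc600dd0d880bd50f29070a00b50dee0b1309ad03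d40bca01520a050c1b0a3b0ee20f710f440021092d0eb702ab0ee309b00186067b08c504740568005a0b4d03230d490844061e00da052002fc0c6905ac031407aa03b603c901ac0e240adb0fa70bd30f1f02690d2e0321008e046606b8085209d4052e0a0601e2035801c8034400cb0e2000f00a3d0e230df5014b0eed03dd066a040409cc0bcd03d70be106ea04330335082e01eb022d02450c2503c00dc70a0e0715084e0034038508a900c108d607e40078035001650e480f460b28007f0e9409f4041b05770dc50e6600960bbf0780068704100da00f080d13080c0cff0d850dd7020b093f0d56013f0e2f0b57004f0d3a02e80ead00a502080c000e1a060b0cf00cca005e0af80d9c0be70394083109f901310d610d0c0a6e083b047606fa0a4702a10989046806ca06af05b4011706d40e1f0dd90efa03fc001e0b1c0ac202db09ea075c04b50d4208b609a90dd502df0ab50f9905d703560cd7054c0801039b084b09590c9202cc06c201a50ab00f7509730fd70aa50b4203ed015007c609140e5309fa030f02a005ef0c8b0b020e120d3d0f590daf0dd3083f0bdf0bb90d80033b08e5090d0b61026e0f2f078b091c05720b6003b20d3c057f067a0abf04080dc2029009e809c50ed40bf004ca0e1300b7034c00430f200617062407db054a08e40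2310b7a08e806ad019c0afb05a704fd00b103070057033802610b960da303b80d6c05c50e03058c071d0851039c02f7004a096d02b607890384077608660a4f012b0b9c0cf10f090ed309aa0f390b760d5e0c37093601450d11050c0e4209d00af7001b08f8000307d9093e067d0d470d59073f0d9503ce04220b9505620529038b0eaf05b80b9b0cbd0ee50cd10bf50a770ca9068404520f1202230a8f066b0461089605f40aff01f90f510f0b06370a1b02ba013a0534048605d30aed0b55001a0cf501b702e6041d01110205053d01ce0b74091d0b1e064c07f402fd06d700cd098d064503f90f7003c705440d290a0801ba0f0d0b43080a0515013c0e750a75069304440d46099305a2024305f603ad07ac05610b7703390195011e05fb0252065b058e093d06bf0a6f054704ac062e09f804d50fb90eb405f2046d036b01f7092f039807500039082f091107fb032b08970a3302b2044200c0045003620030051a06c6073208cc05db05f705550ae80e730f43094f08dc0ab100ef08110b0f04210f6001b308490acd0e070c8d0cd90a6b08ee0ebf0f83005001920401023c09de065c084d0cc50fc909420b54001c0510090e075208590b690b3a0e980eff0ad404e505e7043b0fd3028000b90f6a0f68049306c902cf082d0489096a0db80c6d0b7f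0c220b890c2a068a0f0405c60462040b066f004601de0ac60008011402920a0b055809c90dea065a015307820d3804e80fcd03aa0a2703a601100d1c04c80b1b09490bfb045507a9045d038d064b00820221050b060709340381048e02b80990067602cb09ab093503910cdf02590b0002460d1d020d0d4c05bc0cd3027d03670a8c0fae0d9b03460868000f03e4015a089400fc0e3b0d69003a04fc03310b3f01b9031c0efb0ebc08190f6c013909170872065e061b04b90e5703b307bb06cb0d8209050f1b0ae306d50e6a07c702a70eb6019f00270ce20cc805af02d90b9f00710705027a038f0cd402040126056a0d6206e906e201a20cfc0a420322004803640682065405590017094b01b50b060f6e04060bc50460035c0faa06740445006c07190eb0019e0ddb07e60e5d01ef015909f50ee9078e0e3a070208ef0de302f10eba0dff0c8705c407a70c3208b5077703dc0ad60b6b00090b2f0e63065d0ea30a630f9e06510b150a440cdd05d20e4c0823033c0b3303e30fb0066804530a4c0d330dc6095406cf0cfb04ba05d10af901d406ab077b0aa8048d0d6d00510aac0a7d043e000b044a00df07d201e608ab0ed2043703420afe0473022f053b086907dc0f80032d08150c9001460e5900590840093806a504e609e5061205aa0e0a0541039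008290e290536035405fa0d180a980c280aea0fa905d4044f03e6061808f50956014a03a2081b092809150e900d81075b0e1c0a1e0ef800e5050a02ff09db03510f6706ac074607de03760f000ad70a8a0e3c0b3609bc03c204c90fd109c7092204900f3808ea01ca09130d550f740f3f02da09fc02280ea406c7061508df0dd80e6409b70ed808560ebd0414064807d80c4f0b460caa05c90cd50f170765079a099d068f02640c4003ec08fa024900d90e9b0efc0cb0047a008c035d055e04eb090203250fcf027b0fb20ee6031d08ca012a0fb50a07053f015400f2027c0ba80d780bf20434072e0c8904f608750a1c0b8f05510bed0c43016607560d5a0fc60c0f06e604cb0e69026c094e013d024e0d21049704d1048c04bf05ba0ac4045c073309640405092a098e0c5a0d870ce706bc0fdb069c075e0b500036069f0c4401080a950ce10ec40da708b1058f098b0a930b7d0c73070e0c4b042c01320f7f0eec09c300d606320d7300c3089c07fe074706d90b7c09d80c4a00b309bf033604290a3104e70c1e06050070084c012e0bd201d500f303480ded0d0d057d0b8c0d8900bc08840eab0a820a5e0ecc090100eb033203d60343011d0e8b04230b3e0c940b22060d001d049f04b4009a031e02d50ea20265045a0dcd0c0707c80d7e09a6062d09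82011c07030acb00ad09b80c7000ac02ea0c4e0d940e2b0d7101e70dc90fc50ef4075102bc009e024a07cb0dcf0d190de0094101610a020dfb076a02a601a800690e0f055f0eb5064d01b00a15013e0d0b057e050d022e0e2e013707d70bd80e9f00c608bc0b26030208740c58011609d3049204fb084f03400542087d00fb0734021c007304b8086b0c2e024b01810d5308cb0acc094c043207b80b73017b0f9a04c00c2b0a3f0783088f01f5030e0828003703530c1c04240f2a0a9c05e004bd09ae028c023800250ea70b2b01a700a3076f0d120d8d034b055d0cda0827029c05d8091601430d3f0b0d03a4056501fa075401fd009c0c36006509c8081002cd0fd00a260deb07fd0a0a0cc20e3506f20857032e06990dbd00e200830ccf0603062c09910da504830e5508730a3501640aa609a10aba0f150e110716068d02330fd206250cab07930970035908300dde093b07d50c210234074e0fbc0eee0a4503eb0b190d660d090fa001bc09570b2a0abd0e890dc801fe083e0378031800290f1c0f3c00380939035a0a3c08c9061905a1026805a407920eb803df09980bcc0ce5052309e30a610db00df401790cf803680ad50f420f93080e0f8f04d9087b09ac0042023202aa01a302d2030b0c7107af094606830af50f2d0e7b0f980c4c044b0c480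a7006f7041a0f1e059307bd006d06920a2200bb0b20042a0bc9012f03a101b80d920b07077c07ff0a5d0d8f0a300b880e3102ae01cc0ef5021f00990d3608710826080f0f91056602e3025e09a5069506dc0e2108a0050007ed0d6503bf0beb0a040f7a0d480a730d1a091e0c3f0f41027100d10ace005f00000e0b040904d707ee046f0d5f061406ef031208ce0415070004390053088e08fd0ced0df60f7c00ff00190b1a01c20fce09200c5f0ee70df10fbf060e02350ceb0d2209dd0d1e02eb0ca50997072703be075d05c00c7a04ef064a05d50f6b0ac70fa10be60616097d0db20dd1027e0c1a01cf0709049a0160012108b90d4b0366057c02d809f706060014011905040cea0d9a0b170e0c07f50e8808f40f550c5e0b0309e20ac50aeb0c3501f80e100cc00f4f050307e705190f6403d507b705ab064f0cbb0d41076c02ec029f04cd0abb0e250a7b0dc30c3001440e7d0a2f0d51034a056703ba071409670bc8028103f80d7f0e3602260d4a0c860f650dad05070cec0718003f085e0be80a460eca0660042b010d0db70bc003f70729085003490f010d8b0cb2018a00e8079f021909030ea90f7605260e000eb3056f043d073e02f00dd200860206072d046b018d0e05063a0add0a5808050a290d060af10355054300db0cb305e90edc03da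00aa03770e6b0dca069d0a2e08cf0aa404d8079103bd0df30e26033d0af4057906dd057b0cde06f604b0036e0962020105e4099a020f0b3800350d020f5e0e3f09100b10073800330bd603fa0a8005780b3d00ab0fc202af0c0d098304ec0cac0c98050205ad04d608c30bf904380e0d0e970d9d06f40e6e0b4403520e4a0c1201ea073602fb076101ff0ad008d70075062b0a8b07b20e9909270b1200f60aef04d3098c08900dcb068b0a1d0bfe01d908060f2207c5091a022902b50edf0ec90d5b09d90e5f005206c50bba05880f3e07660d7c0f570c7401bd07cd029d0e450b8b01e50262058d02ee07790ca3027f0fb60e7809e90adc04f9006e00230af60b870dfe042f0d140b6e02ca0753003d027602000d31019d0b1100c8082c01d8032708de0045015c0c5b030c01c60cf204a50e7c03e0088b04f2058605c10a7602f9058a010c0b530c240e3e028500ae06c407a30ce3024204a10b980403082102f6077d0ec20ecd0fc00a6c04af0a8503d905080b940f7e08e006230e79047003b9071a07a80f1102bf02c10f6904b704de096c0a570d1504a800e10c660ccc0d50029806d10c1f0e39,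
  0xfff0ffe0ffd0ffc0ffb0ffa0ff90ff80ff70ff60ff50ff40ff30ff20ff10ff00fef0fee0fed0fec0feb0fea0fe90fe80fe70fe60fe50fe40fe30fe20fe10fe00fdf0fde0fdd0fdc0c9509850c1309dd09cf032509260efc05e90a81040909e200ad098409c40f41076208ce0efe026c015b095c07e8076b083b093b0a0e038d015e0f220d0c098c03a40920020d08bc096e015f043e0a3b086a011e092203210512058505c5088204c604350ca40b03000f06150534027504fb07b603ed0ead06c6015a059c07f809de0cad07010e5a006600aa0e6b061f0d8406e80a6907f6059f06a506a80ad2066d0d170c8109cd02bf0b42054204610ea70541086d0e5302450084064404eb0c2009300c3d0e4601c404b40b70056101740d030eb701ff002b0f3e0ee60f23047d0cb704c40346047c04a20a0b05bf0dca03dc013307ba0dc50df902530f470b2204e4095a0a1a0b530a3e02a70e240943070607e70ee301b308090242047e08f30c6d0de909b00f5c010808270be3058f0cb20fcc049a06510f6e0c7e0d3c0099026a09ab0e7f08da0c080c9f0a01036d0c420dee0f030e7209860045078d09c20a0a08a00ae70cba0bf1055b04a10f6c0fbe0b3d085d01d4072b062c01a20649076704ee047008c80a490c190a21001c016b0e0c0226004b0b5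40ca905980e7502d309b800a60cf70125060303fc0f30066103f4007809540fc905e60fd40bc604ad069a0e7103fd042504f905790da8069703470a3900b7093d059e015207680aed045b06a20d0b0f6d0a950d4c0f50095d0e25055a08dc01940948065e08b701a50cae0bc1013d0842058101dc083708f4065c0e760d0e0ebf0682039e03cb00260188007b06c809ef09750b1c0672055f0b1e0a850ece010304a608a30c150a1301be04370f7101ed0e690dd407430d380d340bd7064e0a3c0fa00936042b0ae30401034e0f8307fc04650ae906e203a20a0c0503070b0a1f0ae8009a073002400d9605bd098d0d42048e03c0060e04f30db70a73053103ec0af40a2c01e1070e038202b20db80528096c04a5040404a0081c0c5d0f380a11038b040c0bb5024b080d0cb406bc0ed00f0b03b20c120f2f0ef806810a8607a20dac05fc0f9500e30eb500e807d9030202190dcb0b130495055e0b9205e1019c037f0cc90c470f9803420bea08560df205fe0b670f8004230c2e0ca00ad109890d4704520c7a0365029c0d5d04aa0f780d8f0bde023704f2081e07e5052e03800a2e012400410d5c09e7031a090d098a06cf0367099806ba06600dd20b1d004d0d6a045a07760d1c0b3801fa060d00370ee10f540a54035f069403e50836062202670c3107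b505dc020200c3033e0cb80c1a05cd07830d58058d023a0b2a0746069d0f11044f070705650adc0d3e0863043a0a04021404420cec094e0b1b061e05fd08de04a704880f5e0c4609740958043d0d1108dd0e5608b102be07fa0f3103f300590ae207410f490482096909f308a4016907610cb3088404a4020707c801950ba308780a14015807d0038e0a1b03bc0eb406710e30029f0540034f0a650be8018d0e640f63071a051e03bb07ee0f5f0d75057d0795077404b00999046a0aae05270cd101410cd00e870e910c7209ee0a8f01910b04085c08b302b80b2c08740e6d09c0010909bb0ef30a18030c022b092100db06cc027f0d180a0d00d9051c012d0b160d8b0c070bf305a70e9905b20577058c02f9089606260e45021205d504140d9a079405f402170c0f00f806fa0f93091d03770abc0445033204980bf503f20c430300055302960d6e03400dc40519078006f9077a03c501c60d770283060b00420e2d03f907dd01a708b401b5028202970249037e008107440a4f0e480e3a060c01a007f00e12047a09fa043f03d20641022e042a0cd8048d033102fb0ee40af0062e039c0a630e4d090e037100c403300e96084f033502380e0709c90f3c0c68007409940eb2008204e809120eb10c4d037a06070d05072a0a8b01840b3601540a7606560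4f5076c0af10c090c2c070907a608760cfd00b208ea00680e2a06f5025005020da00f8a09a40b3c07b7017501930df40160044d0ecf01470fbd0ee70593000803ef0cfa07250d300c510f7207b806b300df07900b2e0d200a9d01710d07027300400f07028f0aa9070f084a09f105740067087d066405ad0e01054607cb0c6209b30350057c034107020c670c7f023101bc0a460030014d00d508d90b140a4a0d500937069f09ea02d90bc00bc30dbb0db90227092e01ce088f0a6b09730e5c052f014f00930952036303730bfa041c06e40ac907a706ca027e01860f270a200e160f6a024301420e780de20f4204780af70bc20ed90f9a005e068d010e0f0d006a01df056e03f50fa900a503bd05c20e500f350af2096207ae06c705e508cf0c63068609c30fdb096f009d05c004ae01ab0390053a089702700b3406230675049e049b036202cc001307880ba70f8902800ce20f3d01f40ab50bc90e4b0c6c078709cb07190923091c06200db6056d03b5075b0b8b0f4a0c7902f5062906c10d3b0ce305df0c3808a50c980ce90b0e04b603da02690e80027b01e20ab006ea01ba0b0508c2072f0545044302090d040324052608aa0d3309950720045900430c220e5b0df807ef03990d7b0f32027d07d40aa20b4b0f7900cd0aa00a8701680c6501980538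04630055085904540e1c066b0a000e5101ea0d240b2607b902ce0264098b01480abd00c200650c4804200f7b0a8e0bcc03280aa30b8f0e150f150b1505f002b90ebb09f40fd90e730af605490d8700be0529005106b60a3f0d250f360d990b6f007302550a7c01b60955004a028d02630369039507fd0cc20b7c001e0acc05b30d7d0a9f0d9808db0f26064706b40ade011204ca05690e5802c70dcd067401d1026b08650f44071c00b4039b05960e4407c606db0b24090705ce0b570eb009f6020e023500d6041b07fe0aa407e4083400180c1e0bae064b0c7b090a04730efb0050088b0cd20caf0ed80cd30053021e051f0248073a04de06ed08c3029503530e7b03b70262003e02f60902028a0bcb06330480032c03fa08f709910c8205b102410a1d0ddc067f043c06d80559003808c90500074900860aff06c304e3045e08fe079f00bb0e6006730a660c1b07ff014304810c6e026e0738008a02510a310690029200830a270b470a9706ff07de08220bf908440b09093e06a403f8004e007f00a80b4e02c006bb0f750c0604150968077300fa08900a5302a80e540a7a087e01ae05660a750a030873075a0ab9087f0031009006c206fd033b0bd8005b06660f0e0f57038f09f908390b410b730ace04940c3e03290945048a0b8108ec06a10990086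c0f860b4f074f040a08b20f210d15033700f100d30e2906680d2c02660c8b00ea034904fa09ec006b0cfe07590dae05f10e0f0afe007a06b20c2b0a400bdb045d0f5b050c0658024c0ec10e2f0ec40dff06180497079206a60d9b0c180cda0e63093a00ba075605ec0c6102fd097e0150059d0b7a08400ac204ce0c570db20fa804b304d606fc0b990b2902bb06fe021d0770097902230cb00c1107ec0e8d05430c9e0d260d4b083107750eea065b02d707510ea40e9d0f28098201ca053c0eaa0deb070408d103a70bee0a6f0e0801af081302de037b068e0166075f077106110f8c0e4f00ae083d0b4d05760bf705fb08750cbf067906930a38014502200a510b0706d108a801e308b80c250d8101c201180b5e03b6040d05670c7c0717067a0a6c094b0c5a08a90dbd00c1089c07e903810cf507ca07850a6105560bd00c1c0c3f07a10c3b0bf401000cfc05f8091b040804ba021c0b8008300ee5065207a403fb07ce09e30db40c1f061a01630d2e01d504dc046d0c3a0e6f0ec00a5c03dd04b90fd2008f0286023002810c0306630b6608c6001d08230d2a0b62040e0e9002b309ad09c80add025c020b0ab20ccb00fb0f9100dc05cc0b900dce09b40d4803830aa606aa0711013701320a84024d05c400c9024e098008ee07c10e230b6902590ac301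050d5e02ac057f069c03e10cd90f16003902dc0cdf0258089104e6036102c50b250c0a0f5606840eae0fb409fb0ef00ac603600294060109b701a908cd0b86035e07c20e3d07ea0e8c09d305af0366087b0b82024604b80964008503570f140cb90e9e05f60ba4080a0dd60f58036b0da702eb092a07d60dda0eba023c0e7e019009e40fc10d9f0ea10f650f2a0687004603b8057b00210e040b6101550f340c2f03920216037007980a3a0d560b5101ac08bb0bd609130c140de605d70cf209570ec60db501de0b3002760cd5055006e60e39029d07a80a0f0a900fd00750051101270f9b0fd80914061406e9094c09030432019b034d01ef0a2b07ed080505250fd707f90f8809920c7700140d3d0a7005fa001f00fe0fcd0c960f2b08260dab06f204d9054e02000da9044c03d90f090a34052d04510a640ce808d0050b0f48054c085e0a71018f0f3901d2031f00890299066504f00d16014b0887031e0846039f039d066a0268021b08bf0dbf0e33053607cc0c4c0d3906ae09cc0ba80b44045c06dc0e970fbc0c270e360e4e06a907860f2e0fda0fce082d0ae608e30a5700920b0c0311089901f803090af907600518063a0ec50df70cca074505f202ad0c940fb702aa0e8500bf086f0de70b6d077f08e106430a2403de0c9d009c02ae00b309420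ee20fc603ae0f5906d70df609f009000c010eff02cb0cc5012200f4008d0e00028909d90ab1022d03cc0edd07c902900b4905a20f53095e071d009f07da0b790eee00d80fc20b12018e02b40cd70eac050604fe0915043403050f7a02ed0cce05870855056a0a1605ca030d004f0fd5003a04070c750fb10da40fba00d208f00d830c740a9b07e0067604bc05ab06cb093309dc09f50d3501f2064007970d460e37041904260bc8056807820bda02c60343048f09d80bb0068a0956084b0b9503450181031701bf06ab086b0ba907a502d60ed20f4b05c6001a091e00f20a56082a0b46087c0d1e02af006306f4077705580829098108a10966064208a20dfc0df30edf0bf20f370cdb02360597010f024a03540513033a0ae009b20c990fca0a32006f007d017b0b9d0f1702db0a7905ff061d0bb80c5602ff0106099a04bb02600fb809f7001003e90abe0edb000605070d660db00b3e0df1030b036c01560167046e077d0c4e0aaf0ac0081606c40c640de50ebc08df08e20f2904a303a9076a0aac013907f3097c050e0c8d0d9106d604e505e805e70a440b6a0ccc03b1059901400bc4052a00ec020509a2011103a80de1080e0fac0110014c0b5d0b650cef08eb0a2806d008410ddb05f70d210aca0dad0b60043b073e05d6096a05c80f810b4308f8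0fb3064f040506ef05700be405d90e06044a006d07df05f909ae0f200db101bb00610c330222030a0e57092c03d30411051b0120031c0d4106dd072c063e08ff0cf30418031b03ca09a008030b7b03740ed608790b0806da00e60acf00b90fc304f60b50047b0ed30e1f06300bce081f04af0aef0a96048b018b0983051a002808ed08e406d90f4509c1072205a30a770b7d006e01aa08330e41060f0e81055c0233005f055d04e208a7063603030ada000d01760539017f08830e79065900010a1c0f4e019705e000bc09d103c208450091024f07dc0b8e0bd10bfb0ea601780def09ce0f9c01510f9007340563089a052200110d590c450dc609d20af503b30a2d0aab0fc50f5104500e400bcf01150440049d091a08600b7e0d68080006f6093f0e67009607350a1507540c400210014e00350dd800ac0a91060409960cea0aa809470dde00e50bdd0627027407bc0a2f0a550400053d03fe012307c305350f600c2a0d020d140fa20e1b015d000c01b000e200ab01590c9c0183016404e002bc038c09e50cbe0d2208f60a9306f10e6e0aa107550b94063f002d03eb00f606e300b609fc090f00f90dc20d8a06a70b1803330cff05e307210f2c0688017a02f202b00c830c7809870aa705470e13090804cb0d730967037908ab019a02e70d71044b010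a08e60e2b0aee0dc10b6c04830ad40afa00540397062d0d270fc4089d06df0eeb0f1a058a01b104c102ab0fcb0de309780ad5015701ad059a0c6f0b5f0b2d033401eb0b1007a007d5056b06570aea09e10b4004f700d700b800af03560b9b031603e00e0e09720d5f0eb3054b0dea042c043008710680069b035a0bbb02980b890485068f07d707f500fc04dd035b0e9b0c5506ee01fd084d0f1e0d2f04db00c6050904da0d060537012b0825078e0c4b060504bf09410be200020dc90c7606920ab403a6025a005202da04710a5f01c00cf40e8a027c036e0e9f02d50d2300d00e0a0f52050a0ae105b90ce40f9901a60b7f0afc0b590b0000a20d850d72059206a307db0d1b08e7011c09bf07a302f80867072e0bb902c903200c5909da0f9200a309e803070cc0079a0ea3063b065a0769062b084e098e0bdc083f08280ba009590895044704d205aa06350ac1087a0e35026501850da209160cbd029e0ec70c9b0f9f068508a60b980b5a0c6904ac047403b901460e770b710e3204b104b702a60c0b025b0bef0d010b27018900ce02e5099304d8011d08f90a6009880f8d07930b170f8e0b7806f70ee80b4500290cd600ee0e0d0a4c073c0ef905c104600ef20201032e0e210ac7071805d00b8507360ad70cab0234004909010654078c0a090c9706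c50a3d06690ecd0e70073d0ba205a6039a041e03380ab30ac80308025f09190c890be70b910ec30dd300e40208014a0f8b017d0c30099d06830b3700690b5509a60cee0a7b00580f020e3102c10edc02d20ed10aec06e0080c0b2007520d2905a4068902f70a940f3f049f08690eaf033c03640bca016e0f1b00de0bf0018704130f7d096508e00d530910079e084c0516000006e10976052400bd0218081506d204bd0bad01b702e3083505950d4a076d0f1d06de03aa0c6a003f07c50d90053b05b60c8a0e1e01dd0c730f940dfe08c403f105b40a8d04ec0b1a008e05ea0fa609db04ff017c0ad3027a081d0e930e270d5b0d6c052c060203230d3102df071f07cd0f0506090a3503d508c50e550dfd0e6c0acb09c7085f0a9c08770a1e036f0d89057e09710b2b0c17012e041000710b0f031306160fd3089308920efd0c9a007c078f034c0e5f08070c6605ba032d0e1a04df04870864042709f208700d8d02c3044101e802a0069105b70bd90e140a67022a09290422086e045808f20fad0a5a00ca0ca106990c920f6403a30e980136047205de0703005a05cf062401cb061b0bf60d950ba602b10a2a02880ced029a091706d3001201350d97067e017906550824094404ea03f70f8f0eed0b0a0f9d026d075c088d0f0c08d70bdf062f03e60d0a0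6f804cc01e50f4305710e110d9300e10766016f0025092d00c80fae035503c402e80ed503590a4d05f30dc30ce60a0604750ef4034a0d940acd00a90cf104280448058e086600770ca60c7104f40753092b0beb09090ab60b630e0901f707f400970f74004c0ec20e610818081b0f250ee00b9f08e501140aa500fd03520d7902d000cb09e9002a09bd01d309af074203a00c10047907840ceb0c54009b0af30f850f820dd001e9042407bf0ae406250c8e08100c360724099707bb0fa5031400f50e8f00340cc80e3f09b6060a0130088a0c0d0e860dbc0c4f09d0063903e807f2023f035c0bbd0dc800230d9d0852082c0d740977016a063d01fe043808d30faf09e002d80277089801d00b2109b107050727038808b5093503ee02e10ea00d19008b0b9c06130934000703e70fa30b310ef5041a074e083a0d28056c0e920e42033609a5005c0f19015306190f7c05a1032a0d3602930a4308940f5a0b970817049607ab05db0bba07320a890729072609be06ad00750b0101c50327001906d40429031002fe0b060384059107810bec002f02dd03040fab01800f69033f01c70764013b071e000a0634091808be0a990a820a2506b80c6000720f760b0203f606b90dc008320c910efa06c003ab0e47031d02060dfb0ebd0e840de0089f0f660f240e82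06500c8807e102c40c870f4000ff0d7e0b1904e10e620b4c00e703ce0170010109040e950d4f03e2082f0b4802a20dfa05da01650737027907720de80b8c0bac000b0f4c0f6b0f6708380d5705480cb101e60393057a06bf0bc705bb07120f18012908ac0a88033904390dbe01070254025701bd0ea503960c3501770f84069803be0b960b23098f0ee90e2c0c4a05c700c0044e015c0c3202f40e4c09b507e60e0b04560d0f09ba077908620239057206d502fa0d8001490c530e0205d307e20d550fb50df50ba108720e05046b05140eb803180faa093202e609d70102073f011703ad013f07400eab0d5104d1057305d8090b0ef6053e0e5205c902ec0c2100f0067c00b50cc10bd204f8090c084901c103780b6e0d8c06450027085305ee00330a740ab70e7c02bd0b3f0fd10a9a092401fc08680e83010401ee0ea907c000f307be0ef70f040a920baa0d690b7705a004b20ca50f010ded0d7c061c03d60d0805050fa10e8e079c037d08b9052304fc05940e2002f001b8048c0a4b0747018209630a830f62021a0c5f09b90161027203f00600007008540d540116012c0024049202d109490ecb084701210221005603260d70058300b0080400360e940344045f0ca20dd50dc7021f06be0a070bb40ab80c7001e007eb0e74088e0224036a095b042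e01c304ab062a089e08850adf071601f50fbb05be0ea200f7054a099f0ecc099e0d490be0067d0c4401a1076e04640bfc0225047609ff017e0c8f0b520dd70fc007a90e7d019601b40508022900dd01a304cd0a620e890aaa0e3e0e5d0d6103ea010d0ad80d32077e04160d82001b035808430cc3033d0d4509fd05f5070c0f3308af0a1903af0bfd02cf0e340a290e4a064c0cc40c860a420a370e220a3002a405200731073b058003750a22074a058408d40bb6055400200ce70dcf0ea809d505e200e005780b3201440ef10f6808fd03bf09050e590ce50d7604c30e170372064d0b5808d2046c067b0b3b04f10d40075807910d7f0d4e0d4302ef069505dd0bab01f104e90b4a0c1d04d403c60fd60c50060801260fb006eb09a909a104a9085008480e3800a4043608fb0748008c053305eb01ec097d04d0022f007e09280da608b00857097a067806e500cc093104c708140e6600a00d7a08c104cf0b0d01cf0d4d04460d9206f006530bb10c6b04530062078a02e203e4032f01d7092f04210a17013e00940582077b043306af0017063102f10504000906060ad904c80a4708c707130cd405100aeb08f5070a01a80f0a065d03cd055203680c2901340c850953008806ec01c80be909060a41049c05d40005065f0b720f870df0040b07aa0afd02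3b0c160daf0131011a00ed09380a720e8805b0078908e9096009700a4e0763096d02440b680f5506b70247035d02520489029105d10dd106c909e60e4900eb05ac09a707390d630d780bb70a3604e70b8402a109460cf6003d0bff020a016d0baf094d05ae01f00a7f0032012f0d6d0d640a7d0c800da10cbc0c41070d0c5c06100484026f050f09eb0fa407c40cf903d701d90c8c02780b8a059b0fc80be50f3a0c5e099c0e1d0b3506ce0c280bfe0bb3004708bd067701f9016c0a6e06b507150a520a45046700570c0404680f5d02a30b870d1a08010a580a5b0b1f0e7a08d50d620bbc02a50a260f7f02a90cb60f4d0ba50e9a0521013a01b20a1202ba0e1004490d3f0e4308d80bd4068c081a00600ce10a7e030f0d52094a020c0da505cb038700c70ccf0f10039403b00af8085803c80ac403ba0bbe0afb0a98099b03db0e6506370d8809fe01e70e0300040d8e00d407d300480bd50fb9022c0a6d028c0c52066f0ddf04a80888011b00640e19069609bc0f700515072d0406019f0e28025e097b056400d103a50c7d002c0911032b028709d404020eb6031207570c2d053f05d202150477059001a40abf0c5b0e8b03b40ca709ed06210ed4009500e9027101cd02ee00c50a8a0f1f054d09aa0be6050d02fc0ccd01d8016205b50ae5018c02c80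4c20d6f04d50f7703ac0abb0417071008fa0eb904660ce0085b0c58018a03e306320c020d6503890f4f023d076507b20adb0b64075d09f80c9008200a3302d40d6707000eda01e403850f1c03980d5a01fb003b00800e5e09d6077c012a0c370808038a0ddd0ede0d12000e0db30a1009ac09390dcc01c9082e01b906b10ec906460cbb06cd0d2d07ad03df08fc04c5080f0391066c061208ca078b05a507fb046208110d130f73001600cf0cfb04910589064a028b025d0f1205170de40c3908ad0ad6048607ac0a8c01cc03d80d100fb60fbf07b404550fc70f9e07af0dd9075e08ae0a020d2b04ed0eec07f70b0b0cc707d20cdd088009a3066e04440c260d0d06bd0ac503480b8d0cb50dba088c042d02ea0ed7009e04c0023e089b01190a5e05bc05a802cd0f610a5d02b7052b028405ef0d9c03d007230199046f005d09df03220f060e3c07bd095103c9085100da0fb206ac06f3020402b601380aba042f03d107e30557010b0bed0886088108d60caa037c002e011307780daa0f46046908c00a5004030ebe043104900a9e049909c5055507330a6a0b6b07960d8603a1079b0532095003ff08ef0b3a041f0044069e02b50889029b0b3301da0e680493083e07c706700e6a07b1058b034b0d00064803860a680da3011f0d9e093c074d0bd30cdc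02110b39091f01f60708017206b00c3c0306055105c30a5905860228072801d60d440e180c240aad0457096b0c0e063808060b930b11083c074c0eef0799041d0be1095f0d1f006c03c3074b0ad00fcf07cf07b00f9605750b74003c0f080ca3031906e706fb007603010940013c0c93096105440e9c0f3b0015056207d801db02e90cc6097f08020b5b0a800617094f031505010b8809a802ca00790b9a0a230f7e0b830d370d60019d0b75030e08cb05e40ec80b2800870f00056f00a104d70d3a0c0504b505ed03d408cc0821086100b10b2f0ca806670d1d0cf00f970c23020308e802f3085a023208190cac012804ef0b5605b80dec0662025603c70c34076f0bbf07140c0c0bc509270b760e2e05600f0f0c00068b020f02610a080f2d00ef0c490d6b0e3b0cf806280bb2028e00a7019e09250a480b9e0e2603c107d10530040f02850b5c0cde04c9010c079d01f30f6f054f06a0082b04120eca058803cf051d00030a05035109c60bf80a780f13037608f104d30bcd02e40173009809ca0c8405a907f108ba0fa70192081207b3047f04be02e00d0904fd08b602c202130022071b080b063c,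
  0xfff0ffe0ffd0ffc0ffb0ffa0ff90ff80ff70ff60ff50ff40ff30ff20ff10ff00fef0fee0fed0fec0feb0fea0fe90fe80fe70fe60fe50fe40fe30fe20fe10fe00fdf0fde0fdd0fdc04f607dc02a20c6e05ad06cd01dd082d06b506e00d9b03ee07a000e909a80b8f03570c1103cb076d06720a81082b082e029c03bb0e7c0e4300c008df0a640b6c05f505a702e703080cb40c39041e037d05fa0e470dc6005d0c52056c08e00f0a0c5c0ce5049805da05d30c870bbb0cfc058801c50d8b025a06c807960917056f096e0df20e1b0ad90dc10d0405c607a30563062005d9018404a40c970504077d0f83061d0f060a1502220b0e02d8014900fb08d10e8a0f300e3e04ed07d101be0c3f09c8021d012200ed077e0daa0cea035305670dc40bbd0100085005930e6d0e6801440b6e054f02ae0c2a09700068031a0d920ee40ce102fb09990dfc0d0d026c0a740b400e820fcc0b1f0a790bca039102ba066507ea0f4f016007e3040002a30663099d0507014700aa06e9014d06be0c220c1b0a6800a4031c0296085503f1039d0f20093807b20334093e00780bac0a7f0bf30b480f5005d6091b036500b4096400eb047705c502a90f6e03c90dac08a20b0d03c8028209b803b40e3a07030c420e1f0f69076c00ac088300ea0e8903ba07ab01620ee809f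a08a80aa607b70e4c071f00040bd80ba502d90bf1048a05480e5c075f01b70ecb03f30983035905e00f8c01370e600b2d01770b4a01ab02b308e40b2107910e8501510330029509fe02ca0a2a02800d0a0f1e08590a2d02a0074e0e8e046e0b7d0d800ea4051d09370a03062900ec001e08a70eb20a4c0f1b00ae05410d730e500f7e0bdd0a9c04cc057400bf0b6907a209ee0d15075b04e6016b0cba0ca00d7b00fa05ba0d35077102fc09020d7505e2058f0a5c03fa0f0b0c6604f800c6080607150ed60bee01f90484044f0a6a08cf007004e80c710d740ebd0dcf07bc0f1a09d7007f0261020c0bb20d49004a09c007e5055a056604470f2c03030dd00c980d09070503f40eba0ae80130049d0e28030d0d160d2a037c0ca101db02b40b050179041d058907060e30085a0b970f820d140e6f081d0ee30a5e0bba070c0687052c0cfe08f207460f43096f01b90cf003210fbf0b30052503a102ff088c03db0b230d7d095602de0f740d6108560f0d03610b880f030eb7042301f3002e0c06041705540af907c105ff0a590fb2095103ab0df70cd106aa039605030a260ef20d93029800f60d3e0df80e27008c0b8e0bb9059e0c930d7109b507db0dd90d510072084b0acd0299052a090a0c050ef104f7064b0dc009df0689093d0dd40fc307c2042206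a30aef0584009f0aaa067f09050dda05720aed0ea603e80d9e04c20d1704e006770d5d03e103dc043c0ce80196005a089805750c8f0e010de7016501de028c0bed0a500dbf017a06d303b60daf02710cc10ca90ba80ac407090d980e42095409af08ed066a0e0f0b520f54049a0203023600000f2b053c06fc031e05450a9f015a028e0caf0b1b0c7b0c7702190a8408da06f607d505730e950cb6012a096a015e0e380f8b03f90a8b03d20d4d0e510b9c0ee108c00c6b03d802fa00650ceb00df028b042407e1078d0738041b0bcc019105bc01d408fc0a92057c0d55060a09f00ba302420c9009e40fc20da50751032c0be30fc608f30cbe0c0f01ea06ab05f20ca407270aeb0c41003e03390a890f840c2109d6075604ab0a410d0607fa0fa90cbf092b01d1048202c80f0407f406a001cd04b605c303e703ed01e104bc05fe004d0198020b07b10ce40c2e0cc20998025408ca059a0c3600e2043a030b084104b50b5903be088d05f1097e09db00cc0794042f0a5404e40ab400c90e070edd0e9a06510eea0f2e04c00042073d0bd401b2031700e10fb40394089a0c3304370f530e92060101c104080dfa075a01780dab032d04700fc10ba10cc3092c07370908073f0e7506990cdf0ab205df069502bf04250ef903a70da601bb03da079202a108c30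75e0a3a0aa40e8606b9013808e805120bbc06e40010009e09a70d1b08030ac60f4b08c40abb003801dc0fc50ae101d906410e03078005fd09b40c8003540eef09aa0de10d8d069a0aec0ab6055106610fc00e80006d02480ab304d008840c820bdb0b570d8f05f40c9b059d01bc0c4a0a110bc700fe076b03900aba00b00b260c0e022a0a340c25023a0659080d0c560c5a065e058a06cb07ba0c9f0bcb0b3a058b0a3f0e880e0005b10eb000560d00053e0ccf06f00aae0af20f1601020bf50e7a03d709b101d004010acb03780bc10abc0b580bda00fd01ee02f10fad0e5f0ba2034806680b340061063c0c4803c1029e09be0b610e56067b040700930ac00c080650018204eb0d7e0c890074065c002c0b790d46049c012e0f1d0bc60b5603c003700753083a04c80d0e029a04b301b50cd50cdb009a072102bd08cd04f001330da4035b0b8c07c9020d07a6012500570e790d7808c70b3103f009790d58029409c600e00170079907cd0b89096108b7089204ad0a7b0e1200810df308190485080c0b250fbb0ec60e940c2b02ce00b20b50002d00950a4e0ce90c4b0be802340e6600d5003b04ea0bfd06dd065b0b4904c703e6032e0cf309f1042d07d709850900078b0e5b033c0e5502860a8208460f7b09750afb091f03a80a4a0d9903a40b1209c4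07240b430c8801b105c90f5d07e00e52091904b10024087305a60b71091d083f093f040f00b90fda0adc0aa2088b0cbb0afd010b08cc0343080e0bad07290eda09120f290489060f051709870de8068a0a000fd900cd0c1605280758050901890dca03490202044d09f403ef080f013e0c53083200910416017d06930f7d05d80e8b0f7502d7074a02440d030684035005470f760079037e099501990577027c0232050f0cdd0e640cfa0284068b09740018012301f0031209f201a4041a058309f50f4e0d450b4b08af0f950b01065602c901860f590bb303d60c09068d058005160c9503c704d90c6a0bd703aa0f5f035e00540b040b5c085107be0e04003c016f03f60de60fa80040034a06ff095a0c500b660d1c083705150f100d22062b076e095f0bf40c920f1c06230e0a09810c4f081a0617069106960aff068f046d0cde05b2066908c106090b90006f0e360afe00410efa03d90e410197081b0c3b0bec04fb0c4d07d805bf0a330f6508860a02066c04c60eaa0c8e07100ea80c19032f056907e403bf06c2010906b1033500e502300183022f07f10263008a074000f2026b08cb079c0a7701fb0b620a47046b0a10045402ed014b024901e4058d0c860d560f4107d00d47059206710bcf04a30da00ec506ad0c1804100f64033f0c27000e0db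00c610dd30cda07cc01e802fd0b9e080b01ca0f2d088a07790c5f012b040b061000130b6d08fa0d77086105210ce60c7d00d903b8062403ac03cf02e402870d280fc80c69051408a30f1201580b3c096907630b1908b2060e097106330bae09ec05600bb404e90b840c2904c90da80c0b0be90ae303f709b206e7030201360487014a02cb079702010a070edf039204c1097a016c06e606c9016a028f000809c1090e0bd00eb804950e09021601080aa106150d36043201e604330c3a03d0025e054c05b303ce04ce0ce7087c0f6203310b3d0e5e0c70015d09d50a71086d0c5e08ab010c0e810a25089f0ec2064402a4073b033b0c6d0eac0a8d0e34045a045008d00aa90f9a0b08091107da0c600260019a02dc0777094b069804fa0b5e05c8081804f9072008c90c2309320a940790021b0d890d91093005850adb0e6b01130c200dee08850b700b82067a088800320ccc004b0a8a01a90add072b073c0835032606b40e9f0c1e0bc4041800f8030c0b65024a0ae70cd9036e0f270f1907410920065a0f0e0a1f083e07ca0e19099f042c02e502d60670029103eb0a58081402450f3403d108eb0fa003cc055d0a49071a0864052207180a66024309920a350cfb0fae0efd09ba01a60a5d04ee0dd608f4055907440290015c0e9104b00011046907e60b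d3071708440f850eb3018c00f107cf05eb0d5e0edc00da03dd07760ebe0fa7001702b9024c082800bc03ea070a050c061a004405cc01f108720dbe08b60aa00a2905ce058c0520050a038e04ba01ff062f0096072f01ef0cc70d8400990b3305e107670e7700b3009809cb04a00c910a0f0fb3053b0b78003d0ad40d6d0c570e700645040c07a704a602ad0a240c64031d001b078a04d305b8082307d30f00091a0bff0c790387013102d5013b0e4d0cd305cf03c4039b08a00e240e1d0ce000d70e6e0bd20f5c01bf0b74094e0b670fd00c4606ea0fbe0413070b0505037a09090c9d0fb70b8b013d0db1098201f6051c001c028100bb00050dd7011400200e1a0ced099407d60843001f00c50373011607140a5b0e7d0089056b0be10c490957047c0e2f0b9507260f4d09a902000605043b01b40e1c09cc00be07d4053308b50805085e0a010f07085d0e9708f601c600db007e04fe01c20dc80375065f0b070ac805490fb80aac015901520161009d06530fd6084a043005e50374022601920b9b0bde0c0007730d8307ff0b6f04040f3a0870080001da0bdc02e60b1c0946004e0ef30fd106e803f202e0025d0a2007ef097b0db505aa04310f730311028a02dd0e780e690928003a05b0038f07c700e30ef702da014f0d5a02c4047508fd04cb094a0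5d10fd209d2074f027e0ab8074d05180c1406320b73050d0465048c05700cec020600d10ef50d3c0c7e0445025506570b1506b8017e022d0bf7061e0faa053a096c0e390dc7004c0ee90bc30c0a084202ec0ca306bf09840da90a700c2802f801a1095e0ac1062506fb0e20094c062105a90cef049107ee0aea0d9701500180002900b60285086b09d80976047806cc04740ed70be00a6c0cd80643007c0a9a03150ec105390d250395061b01ec0a1d002106ee0d9d0578086309770df0003009bf0c340d7a0820012d052901fe0a5f0581064902520d26048f04c5021c04550a4404c304ec08ba03840273062602d00935089e0ec40f0803fd0ec00747020a041c08ac035601b00f350761051a087f0be700c80c0c001604920c40005b0af600060b530b1701d705260d2708b406af0e1e063b03fe0cdc08e1064f0eec0ad304a5067805b7016407e201f200230ba0055e0b2b018105d2099107f8064a0c350e5803280d0505940b9d0cad0a78064c09ef0f4005de03e000a6029b0c4e0e26063f06520a63021e0f9201b60e9c019b06ef0bd10c380fc70a83030f0c9e0b98025807600fdb0d5207120efe03580b7e05ed09c2097f02d3075d0d70043908ef047306190595011c0dad0f9e02a60faf035a043f019f0b2c0b2803ca02b10275070e08b30c0d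09c700660927074203e4027706d009b3025c04560e73064009ae02210f1f065d0f9b049e075003830e57094203ae07890301058e06df05dd0d210952027402be0b0a05020e4b0d570ac20bf20fab0d0c0bf8087405a00875098c04b801ce0e490a8e06f80e4e069c0eb408a60d29016305110e620a6f043e0fd706db0f6807d2089103a90a9109da004309ab078800e401550c750e630a8c0464061605c203e901cb0ef00ebb00b1001d05010dd10f21072c048b063e06fe00920dd200460a4800150d1009e90fd80d7203510d8808db07fd03860cb2098a036c08020c9908bf0d230d3900770ac50d2d008d02df0bbe0de506c60f3f0c470d5405570cf608e9035c0cff002809a60c760ea004d60305025103b008f80c120111045f0f420c7f0435018a002b0af306a40a7309a00ede0d1309410dff06390bef097c032503c308960c0409a10ab50bcd0bdf042604900bd90db7047e02a80bce0fd401010dde02310b6000cb0ed404d506f7068e006a0b4f05a808f70e1705ef0ea104ef0e2d069f0b640f2209070063071106300d3b0a090f310eb60d950b7204bb00c40c850472095d02b705e405be0e250ac901560b3e0e8d0c5d04d400b80e4a0e7100d8005305f70fb90a36026a0f7a0562044805b409060e330e6a0b850d30052705a3017b0a65042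e05520576056501060a7e0bb50f810309067d0f89007609fb018b079e055b0bb70f32054e064800ce04a10a2208d80cb909ad0e5d06e5011a05e70a75023f000c00d0032a01ed0e90092604bf0fa60d320b1406850e9605f30ca60250008e0a7c09e501c701740f5a0baa0368082a0f33036a007a0922099c01480db20442081e0f9405f60543094f0b510d4a04760047019e04d10b830cc50f090adf04e200e70fb60b8a05d506a700820f39074c0cf20a9509800acc0dcb0e8f066d034b0c780ab901a3086202eb05f909dc044c0f8806c70a130804045307c308c80119092e0e48023b03600bf605c40e1007b506880a0b09ff09a3090f0de203fc04680d2c013a0ce206f50d900a690f670c680757054b042901200ecc04be0dcd0ae60c730d2f09e200c70d8105bb056d069d027f0f25060308760e4407bd0aca07ce0c8a0cbc086705bd0d0b06dc06940cf506f306ed0865040a0f440da205550d7f0a53062c0ec7079503640b99092f005f006e0cac096d057904e30b5a077a051b06eb08530c3c0de40a3d0f0201c3047b0c3d04660c9a01460abf0d9c05e60e8302e108ae0e93068601c0023e05af098b06a102b2074b0f8a074302680ad20b350bf00a7203b101fd0654093607870a5604ca0a1e07b40924040602d40e0602570ef808a509fd0d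c206d90ad6008404de0fb105c00b420cfd01760933086e0f4a0de903f8090309a50d9406020c6f0f370cae066f0a190ea70536025308bc0166044b0f5e0362030e09c5039f00ff0479045105350ae90f900ad00f460da10a080438071e0bb806ce04670bf9069b031907dd0f97072804ff0a930262089405b90b5b0f72048d0288003507130a850235096502c007c40b4405ca0e0d01f80a6b061207f0008b0e210f2303240048036306c4033a094300a101e00f050a0608dd00d405960b100887019d0a32083b0c96060406f1048606e1076203bd08490a9602ab04960860049b085c047f04120269007505ea0b630073094808b00634092d06080ef600850ee508990cd40587032b03d506220a4209ed0b2e035d00520910020506b706bc05e8056a0c8c097d01f404db06580e530a3102920b3b07df025b0c65015b0ded0efb020703270fcf014009dd0a400f5600f4083108d60e99087a019302670847072501ba0d8e01540c7408ee04f105d70a1406920eab00a206600fa401420af106420ed20d5b0ed1026605ac0d1d0878039c053407980a3e0a5a0eeb03360080057d0ca20427046c06de054a0a990da70fc40e160cb1098e0ec80b2f027d0f860cee02650c8304b70239011d0de007f702c705ab0eaf02b60a450a61082c004908d20b4d08d40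b360cd008ce03b90e3507fc04610abe09bd037205ec03980ee604f40748038801d3081606ae05420270050009b702f206e203290af004dc055f0e3c0459071b0b6a06cf02f00d6c03df009c05980fd506d100870bfc0460007d0a4b0afa060604a707cb05530a4300f70c1508b90f3e03ec07070506085401af00c20fac0c37095802890e54059708fe01c409d102cf0dcc078602f30097011805a102e9082605100ae0042800bd00260b68012c09a208d9084c0fcd079302f707c8073a010e08e5054000ba024b0246038904bd07aa022e0c2f01fa0546030405dc0ccb0d7608a406070e720a300d69037b0c2d00a003460bfa0c4501e5099001b80c9c00510209056800cf05a40c02000d06c103140a37015f02a50e6104210af80f8d034f0a3806280233000b00a508a10cb000250968046209f806c50c1f01570f0c06d50a6003a509340d1e083603cd08300eb9044908e70a460f510e2b07fe040e0736006c045c0d6a010f0031062e08d50817026e0b1d06bd0f140953005807780c1a0ee708f1030a04cf00a300220db902c604b40813047d08a9027b0a1c04150716096706b0008f0a5709440f6c063a06110f0f0fba09d403200d1f0e0c0379066e0530085202f509e00b020807082107ec011e0c670d0201120b6b09a40ae408aa07b90121010d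0d680f6102240e22092100dc07b60fa10497098f09d00d18059b0e7606c009e3072e0e400a3b0d410fb505ee051301050d9600c3061f06310e7b0b2a0e3b0a7a0c4407c000e8096009890986006200360b9606660ea3005e0cab09fc091404c400f30c1d0f28012604df04460a520a3c06d202a703d40db60537040d044406470ca70a8804f50749008808ff013f0cb5071c05fc008607650e7403520c310719025f0e6c0214031f0dce0a6e019508900e980a9700ca0a2e036900a902120b870d6b067c02b801a20dae038a05db07ae0bb00e8703410fce0f450f130e3703af08ad078f0188036d0ade08fb001a00020d12081007590eca0f710e3100f50e080ebf08110d3f0ed80c3e01ac0b1e0d1900fc03a20d400def05ae01e902b00f800cbd024e0ab100b5045809960b16088f087d05d4004f0a760b7a013402790f4c054408340b920f2603c60ed306fd034e06ac00340f7c0cc904f209180fcb09d301d202230d9a0c630d440646044003400af70ace0eee07f507b0084f01c907a800ee01a00dea02f90f98083909bc00690a0a0a2b06000e46095b06800aa70f8f0c5b0ed00ecd0f3d05f8047a061807220f38043d075c050803420217059c0ee0076a01df0d3a0e650d2e041902aa037604b208e60edb0cf402af0a8606c3031809ce07ed05e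30e9b0af5057b003700710b06038509f7036f0ddb05190f48018d067907c60c1004f3012f0d20064d06730c810c7204af05560b55028d073209ea0dd80bc9023701ae05a50a12052d024706a508010b46000301710e9d099b0697045d0117018701e703b50f8706900ea201d801430a160fbd05fb048304880229089302f40480016e04ae07f9044306d60eed0f700a5507a40ea90731010300ef0127036609c90f2f03930c260993092a0f3b0d1a0316058600a708820deb05cb048e0e0b0b9300ad0ac30d4b0c840cb70829002a06f2089d0a0505610abd070203a60381077206130d62017303220915000101f50f1807b30af404fc022507fb0c8d072d09500e2a013906f404d802bb010a0df5018509450323079f0128000a07a502c10ce307690c7a060d02180db803000c030cca0caa03370d9f04090857078304e703e5093b0f9c0a6200090f490228001409bb0aaf029f00670c2c0e2e096602fe002f0ca507f30b80042001eb0b7c0cf80d6003b206b30bbf0a8f0734089706ba02640532086a053d0129054d0824082701bd0eb10cc40db406a805640a23019c0f6b0a4f0d66085f0ba6017207a10ed50f1707c5045207f606820df60895067e06d704810b4e0278039e08330c4c0ba4000f035f0c580acf07bb03440858022005c70cd608dc05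2f01a503fb06e3088002e80cd20f7f052b03a0087704cd03450baf0b7b0f240eb506fa0bfe08c6041109f60d3d049408d306a9091c075403320c5908c50c010cb80da30e0203060a6d0a040a6707e70fa3098807520e45011b017f0c300d110b7f04a80a180bb10e9e0b39020e0e0506140aa80256095c040204b903c202ac04d702e30939065500a80a9d090b0ba70f2a0141078e018e09b9064e062d0060099e079d089c0a2f07230be406bb02ea09f30b270e840b770104031b0ead0169044a0107011f063504d20b320eae08de0b4c055c084500dd0d5f0a1b0ebc0f5206740d8a076f0bd60c5503800d850b3701150397022c0d310f990e2902830cc805230ddd0a0e0dbb0de3080901fc05b5038c08c200e60e13023d0f3c03de022b042b0f8e0110022701cc0aa5043609e809e108250e2c090c0dc5076401d507af0e5a0fb00d590be60c6c0a1a050e04fd02c50636019400590913077b09630949066b084e02080b0007b80fc905cd0fd30355088e04da051f03e3008302c304a20bc804030d7c0770040508bb02db00f00d50089b02f602c202cd034c0a0d0708067606380d2b0f58045e0fca018f08400c620f01070f049f0f4709c30d3807e90aad0dba0ad10e320297087e0d640f77098d070d081203f50dbd0e4f08b10dc30a870aee081f0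77f0538066202b5073008bd073309cd01aa01cf0f550ab002d2068c0c1c00ab020f0d0f0b0c09b601b30b3800de0b410d4e0be503070bc00d650b13046a06270599078c0cd709ac08ec0d5c0b9102400f660e3f0871021a0a7d0dbc029d093a0550023c0c54082207040bc50db306810cf7045b086f077509cf0aa308380cf10d4f02e20b3f085b0a0c069e0055080a0afc04dd0997002702ee093c0664099a0ab7082f07e80bb60a280a4d031004ac033d04e50df40848021f059000640c070bea034d0e18005c0d860df106670d53016804570ad70b9a0ec300f9033e0bc2037f046302100b1802d10d43014506b602720175091603c5051e036b0e3d06da0dfd0ef403670f6a0b290c8b016d09780ec907bf08890b470a8007010d480d8c07000fa5006b09590d4c0132079a02bc0bd50b2008f9059f0d3709e603ff03bc09620b94024107390efc0ea50b1a05710d6704aa01e30f910e14014c0414077c01670785093103d307d9078407de01ad0b5d0cc6021503770e6703ad0ddc0f960259086900d60b090c43090d0a900a270fa2038b0c2409f90dc907ad03a301c809b002cc055803e2009b0a980ae50ece0e8c00af058204710955027a00c10c94026d0fbc0c7c0ed90e0e013508b80a51038d0090024f07f20bab01a70d8709e70d4203710f60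081500450b0b08680cce057f0f7900d209ca094d060c0b9f0f6d088104930d630b5f0940003304340be209250901017c06f9068303b70ccd057e03330ee202380d0707810cc005f00e59056e081c075505240ba90c5101240beb0972021306750637072a0cb30f5b0d240dfe0b810ecf057a00940b75061c08f00dfb0f6f0aab046f050b0b760bfb0c320b5404e108660973003f08080d6f026f09eb05d00f9301530d3305c10e23073e02ef029306a60ddf096b05b602760ad5060b0b220a2107820f630f110b860f780f570923044e0c170d6e0f360df9013c0e7e0774083c05e90cf90d0109de07a90a3903380dd508ea0e1107680eff049906d40e7f086c039a062a0a170c13063d09d90f15042a0d7906a20d0801a80dec06b204a90a9b0a2c07350879079b0b2402110b0302040745052e0012031308e303470f9d071d0b1106ca00d3019007660ada0d8208be041f0a9e08d70b45014e053f05910b0f01e20ad803b300190ae2024d0ac708f503820b8d09040e1506ec0d34087b091e01d60947007b0f9f07ac04410050084d0ca8039905a201f700b708e206d8083d000707eb053100390929,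
  0xfff0ffe0ffd0ffc0ffb0ffa0ff90ff80ff70ff60ff50ff40ff30ff20ff10ff00fef0fee0fed0fec0feb0fea0fe90fe80fe70fe60fe50fe40fe30fe20fe10fe00fdf0fde0fdd0fdc00e80d9f099704bf00eb00120a0502ba0de004ad0d370bd00f770e0106c703340def08250844027a089d0dc0076402c101700cbe0e1c0670083a09f3086d0e6e0ace04f20634029608d8085200aa074a0e4a07310d6f0ef5053609a70ef3029c088b0dd10ab00d7209bb0d230b6a054f0bbd0982012803350a750f4e02ef058b0c95022f02000dd806330696062907b703160e040dd00911078902c4055e0acb0bdd068907d0011d04a20c2d03840a770a7c0b2309f80c7b097400a30228072a068e070e09d70c2b0e61091205b30a3707100f9d02840d9800f402c3011002a807090cf90f91093b0e390a930980001c042b07180032085105e10ca401dc03f9065d064f042e04c502a50c1f065f039a0ca003130ae20c510f11053b03c105e0023109420492023a006b0b690427033e04cf02d5068d0ee703a907270e900724078607f003820c5f02c20625030a0b6d04c9069800d4021d0ccc073a0f750f510a9c0c63056b042104370dd4027d0cc4009c05040b73037904cb0866019f0dc70fb900fb0e280bce0a1701d7004b056201f70f9e0caa09070a590af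6025d06a808e509130fac023d06e703c50d73065a052e062a0ee9095a05bf06c00fc50f1d04de0e6a0be6056d0641085f02770c35017b0cdd059206950fce0d850ea200f502940ba403e000460a9b004800ac0dd705460a420f4709e50d9e0d8f0ab204d20ba801ab0b370ea60c700c460b3508e90190094105b901810688057d00400d4b050e07dd0bff0bf6029e027b0da70f9b0d6a02af070204ef07eb003b096b074809560a600de30d550bb000670c580252002d02190ef20b920318019508b9011c08b70cbb08490b9a09fb001d045407280429044f01a102d902ff01550c040a2b0f3a097c01e80a4e0df1080f02b701420adb05010c5c0a5006ff095002e3016e02fa0ea406fd065308a00b9b01fe0cb0074c03cd05880e5800ab0dd20e4b0560077d048e049d05a40e3d02630cc708d70f5d006f0eac07960c740bcf05e4065b07b103d80801072b030604110ee00a3e02570d5105a10a620fc70d710eb103eb0e65055d015a04ff018f0bba035006e006610a260fa708bd082a0cf60ab10d750aed0847000d0a8f09b00d60062f048b0c97065100c90b390b5e0f880ef70e0c0b3f0c0a0812097603260c82088405720acf07a10404023c00b003f1011301ff0741088006850db10f90014b0d5602460e08036503f00c2106790d810b990dd606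90081e091f02eb07a70b2703be030b07c90a310674044503f408b0081c054a0a0804740b1e052002ae000600970d8c0ee508070da40133086102dc03000a8c090907bd088e01d201520da000af0d540462029d084608ba05d2028d0029055a0e3a0da305690726022d01f505670ac4036801670b710f35027601a905970ae40b9e0a790a070a640917028801e007b8086a034900d10ccd055c0f5701c70374034207cd08640c610b1306a703600e520f520a0c032406940d7d06190eb007fa0c2e064302550ac7088a07110cf10359010704b70c470842049107d3000401c304c1037d08190bf10d5f0f5f0cd40fbf0a6807bf0704074b0a9804320f41047206970a100d1403810eff0b320f2207230d91039c0f620b89046a0db5024f0007039001930078056e014c03520fa90ce4013c04cd0448057e0d4d007402780d4809b50fcc04b005160792092707a9073402480d29087307a007c80c070ea10aec08560ce9043d03a609440ea30ee40d0305d1060e0502054b0e2207070bf0075f08930089064a080601a201e20bab0b170632068208a5099400220d1a0e380bb201de0f580ced069d0f160cf00717051105d90b1503b803ac05c30fba07ed0563068b059d08eb004303ff0db80a81092c042009860c62007d06da0f170aa4082f00a60a7d086b0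bbe0e750b0107790aef08e70094080201890cb108c10fd805d301910d7b01220ed10cdc045a0e990dfa0e7e03b30f1b0c780e3c087c07b60e810d1803e5042d0ef801d101b40d1702f009e20b8101fa093d0e5a040905570c4d00fd000f00fa0d070a360fd50d0e0bbc023000c303ea0e8a0df502a2092009490a95071c0bf30d100bf8046c0deb0ce005060c8d074d05d4002b0bf70c010dee05a903d600ad0ae80f6504a80f6b00270f610b360e6009000e2d0a61022909a409df045c02a907870e3e0b0203250d6e0d0b076a0f3b04100458071407f80a03099e0d70057909de038a037604670b8e009f04f601350f8e03ba04be0e8e0f0c0ba608f101d5059003a804c200910c7a0dbb00f902a30fcd05ea03af048502100e920bb907a802a001a7094a0a8505e7090f0512010d07b008f2032708ac00240d33025a0a8e012e0c420c1506a003b908550e5f02030ea50a15015e0d7c00050c2507730dc405370e5b032204a6011e086e08dd0e8005f30169038f09380b8504860dbc0de901a500900185026d03e8003d06490e8605e20aeb003301180f2900540fad0ddd059a04060f7f0ebb0305013109810ac3079c096c09d302b002d20eba01f908fe09550af503850aee0a1608170a630d0f0ed307b40ee80a7002c70d0002830ea70bad03ec051b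0816069305980ca305150da60e42086f06ba0165055504a40e6308d40999001e0b2b04630928000804df0d8d071e02860d7406460f4402de0640067f029b00b20e9108de06cf032109ab02f703b1059b010b0ec506f40d1e0c5008810f09063002e5082c073f0700055b057400390e07070603860a580c3c09d502fc04710a91021f0d4f02b90c5305c709a10c2c0ad00fb805b0011b02ad0a5c0402008402a109a002130ed402650d520bac01cf0212026b0a380cef0e300bf50ed001270bc80b3a01b503530d1d01fd00a1082201200fbb066004300e9801ce091e0ba701400b8f052a0ba9092907570a060b7901cb0d110fd70f480044052f0b3d09fe0fa20b06030d0c2a055402ea0c4c09520a0a03ed01b90ecc034300c70ad2009d00c805c606b10d1209d902340fb107ef05530aac02240f5509e80d32093900800405026902b201e10068034400f700620a120a7e0f80087f04d50f3c01c10021083b07520705032b079304e00a2507430aa2028a0eee08fd00380b49000108580a9e01f8066804f90ec105410f56061b09ba0c06019a0e480b7500bc0bc6098b05dc0f530a2a0e2b0cea0eaf0b1f055600fc0487098700b401e70ead02f407c406be0b1b0ca80f2b002608ad016a0add0f710655078a0d470c1d0c6b0bbb008508a9060f0ad90e6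f02380b6506df036b058c0a0b05080778078006e9031c005e0ea0016b094005ff0b9708a303fd0f83005b009609050f6800250829023205be0f660e350a2f04b204b401c90a3501f4044b069f0d5b0d4908be0cf70a410ec20abb022a054302ee0c9f014f08340680051f0d2d0da9031f00b90e5e0fd3084c03070c59021c045f054702c6099d0b56091c06e6037b0ade087606ee00820ba005c4069909b105f809950d5d0b2f07700b8d0ccb0e8b06c20d8b044a0e33067a0ae10da20e7d008d025302500eab0fc206bf089a035a07ca0b28049c0e7f07da024e07850fdb0a5a0bc30a890e260663013608740da102e20a0d0ba3008f00510f380ce5084d012c0c8c03d3093f057309bc050b0a400d930e6404b30ce10aaf0e1d070c0c670eb508af0e7803dc076c096609e10455033c07080bca0ae90d6307de023f096e04d1098a0cde03b404b80d96071604bb0a2302330b7a024b07e90e410f8b009200490e97074701ac0119063605ec00d50edc06cb05fd0abe000902e002ab09bf036909b303b204f10e1105ee0b590c3e0b1a07dc0d24033a09b20c8b0e690aa308ed00580f2c09ca079b084f0df806f1081407f30dc206a10077017e03770e4e044407e108e2049a033f0db9062e08d90bd1016f09ef09f00b3106fc0ede080d0d4402590d9509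c704ae07c306af000c0c32098e02020bc9045b00170fa002be000006aa06b606a301a80a690ee208f300d601c80cba099205270739022e0e6c0cbc049600ff09260a24072f0529047f01390e4d02560ec607ae0279094d0a200f590a1d087109ff097704680c72094b0a6a04af04dc00c40a19088702150d9a0fd9053f045d0bc5040b059102b409f90258058e0b4201f6042a0c240f980b5d0e2705960d2e0e620dfb0b3e035f04260ec906e50aba004c09bd08f7012b0a1c0ded0e890c2906b0056c025e07620198045702610eb6011a084a0c110f3f0484055004c30fbd0d990ddc072501e50aa508cf0ad40348049e040806070bdc00200199054e0c710c9309d1022008100e25074f0aa60fb4064c07a302040b8809f2067c020700e504bd053e097a044d0a220ab4050008970f7604e7049703e3018606f70875006c074606c10d0605ca0d300a5309b402600a1b047b0aa80fb203320b2a0cdb0b7205bd0e0d00db05a204d007e802410b5f01620575060907e707c60ad30fc4088808f8085b0b380a8a0d3f02f500dd06180fa107cb0b5209e30bb30ad5083504790ad60a4700dc0e1a05f20505048c0803078d00a00378040105d607e20cfa06ed0e54026a0154022b0ca6063f044707b90e7401560c1901780c3801840a5e075b0b2e06f30d840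2e1098301090bd30f6e01b006bb094e0d02036f015f02350d3c0354049903940a1f0c16029f05400a2c0dc60de401db0aa7046b0fd6056f0aca08fb0bcb0b070b2d0e180b8c0ac005680c1b0a30051a04800be4095d06620c180cac0ef90494025b0e9d022202490c3b0cdf04ec0f990a860f070cc30daa0a180af90b6b0d4005e303c309c906120465039b0cfc0b95097d0a7b097f0b7003bf0d080c8308d2016602ce0f1803d20b240c1c0d9d08b600130efc08c20b4e095c0cc2088d08000e14045306130d130e7a0e3106670be906c3099b00da08790ce7062c0e9c09670a8b02bf01bf09620bef0593044901640f000b530c9c003f076d05220b7c06830a88068c05610c7f06eb09430bfb034d0db2073b04460a900267089608a70d2203e906ca0d820dae033303bb02aa0a3a0d3a01f00e8d0e950ac50c3d0d210bc7014906d20b7d0d360f7d085009030d640439032800570b6f04830bb80dd90a9d0c9b0ec00fa308c9037005b4024504ab0d770c96070b040004b60153060201b8046d0aa10bfa0f3200de00bb0d3e08cc080504700c1204e306f5018c005f07fc0cfb089200be08f0002307d1016109ae03990d57078308480d880d34008e04a706e300b50c4f0a2105ba0b1c0f40064b05760e5702c80d4309d60ed9052505c10d6608540f21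0b5a008801fc0d4209d202fb0f150b510a920eed0a6d012607ff0c7602540f96038d0f390482075d06a4097b01ea005903ef0e87030c0f460e360c8a015807ac0e490b600ec3086005c903d5031e03ae07990d9c06160eca0143013003f309fd05190c1a0d97009e068a0a8208830b7f01320c8f06e1052406b70be30e2a00ed08f90b450d7a0833013f0f0104db09db04ea0813093a0dd30e100e7603fb0776039109ea02400ac20cc90c0c0b8308990e9603f707940ebf0a6e0b3b0c870f1c0e2f0e7107530e32064207f9014e003404dd0efa07bb09b60af806030bfc004f0b180299087a08ef0fa60a7109af010e0b220f8403750c0f035d0cd2017d0f670d680ac10bee0a94058d0daf0c1e05af08240e150edd0caf03410bea0c5609c20dab031a0f500f7a0df40c4b0e0e045206730cfd020c08b4077708f507290d8007ba0c5a057000c50cd308c6091b069c03d90eb2012a0ecd04a50bde028103da08ce01630e8c030802230c860c200c8e02cd0f0a07df0d190650092d0d7900d707f1030f047e0d3106cd05a3065701b2044c018b00d3083203fc02170a3d0fcf05030ad703a70003026208c40433052b03a204ba048a0771001507c50fb505b50965094606a604420ebc0d8602bb0cd50dcb0a0e0fd00dbf0c5b0e17057b0d5a0f7907fe01b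a03b707be0eb8080c0ee6009b00410ba50db40b0f0a6b0fd40e8801290a010be2045e038b014d0428036601ee05b10329081f0b41058901d4063108a20b5b0dcf093400cb04c606ae0e3401160d58032a072c006607c10765078c060006c8091a0b3c085d064d031409e400930b1901e9084b06860f4508090730070f0b6307560f2e0ba20052034c0bec0bed077f089e0a9907c704f500f101f10cb304410ca90958075500630fd1090c0a49035e0e70019409b80c45066c09a6031208ff05ef0f6c0a0901a406fe03df06d4075c0a4d053d0490004a0eb9016c04b10b1001210ec402710ad10e590c020af1036306a9054801e302ac00ca0e770906005c0fd20bb601f201c0090a07910e5d0cee02cb08c70b550aae019e0a6705db0acd051009cc03800ecb018803b5075907d209320eda088c063705b207320d050d3802da077b07d9006d029204cc039d0dc80740062200ba007b077202d407130f4a0339075e007a04a1047d06710ecf0b0e05660ca5038902c0029a0a1a0302026601a604c8010604c7098c0adc0f4b0d1f09680f820cc60f9c0a1e0cc80c0904510a74057f0ca105b8034f0f140bc100760f9a071b02740951043e01cc0070069109f509a30a560b5c099004f409220f19052304fc085e0251061d09a8008603c80ac60c8905210c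f3071a0984036d087d0d6c0afa020606c5077e034601ca0ed8031b0f28051e0f4c0cd904da0e0b0f0606d80a52017202e403aa02980c9800110c2f05ac05170c4101b60e0a0a9f02440b5006d106dc0a780f780b860d7e0fb709470e0205950b2508780e120dba0a0f06c60afb0f640c7c03640422066a0e7b0cab03a10bb705c008940611018d0ce6041e08bf0ac9042f048108570dbd027e04a90da80060004508ab0c340acc0cf401970dbe00bd0c7305ce0e55081b014502db0b4b08a10180041a02430d670f72057809cf0faf07f20a8401470f31062300e906e8024d05cd042309540cc107af0e4304c40e4f04fa0a7f03970e83067701e40cbd01340885037107ad07f40b670b5706b307b30b0b036c0187014a006e0628086307fb05df00d20a800a28028901ec0b16006a061a013b036a01bc0c9202800c6e0f04089c005d0e090f200e6d0cca07f708d301df00e20b930dc9034b04190cc504ed043a09ec0c0d0be0015d0c260afc0dfe036e07ee0795098d05c209f106780dda06e401750aea086202e90c7e01230b11099a01770f8c0fc3058a083f098502f303b60dce0a8309a9040a01fb048d074506640afe0f9207970cad0eae008a0c6009c5046105fc0552058f0f3e0f020be8062003170a2700e70df7024c04b9020a06f90b680d0c0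22601d805f90a6f0d4a04fe09080ea809230f6d003100ea038804aa07e3098802cf094f02b3025f0ef0019d0cb2092a005603f8085a0e7307aa003c0c1708e600e1007e0464024a076f0676062607b503090ddb0b90089504f701050a2d0c7d0a440d0106440a5f0fca02e6002806f206450509014407210c520f050d8e03580af4073301040e2c0a3f028c0d2c0b400336050f018201be0964063a03ca00f20b8a05f0011206bd03380826038709210b76003e0dfc051302470b770d27066e0bb108b805fa0840049b09e609f406100f4d0c370b2100370bda0a4b0969032e03e604400c44089f047300ec0de50a7202270eef0cf200690b29008c0e51002f05d5052d079e08c309dc00c60065060d0e5300c002420c030a6609d006660f2d057c05f70baf061f07c0034a0be5061700cc0fa8077a03c701b708fa01110b940635015908b20e2108ea0a7a04e801b30f330a2e0c4e06c40845053503cf0eec013e0b980c9d0f2f0de10ebd076902f80c9e0c1305f60d5006f001ef015703e4058209300e4404760b140443049f06ec03510fbc0c6c038c0a32000a0d7806fa04380db002680fc9087202c502a608b3026f05e80970063c0f0f0af302390e820f7300f60507042c05a00a6c0774055106d602dd0b0904bc0a3b059f0c1405d703d006810f49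05710fa50bdf09da02bd0b470a9603e1046903f201ed017106d30fda00b10e030b430d620d260f030ece03c4001602820311083e0c480114099800a80c3a017a0e850b8b001a062d0821060c0c27088f0cb408d60f1e0cd80910016d033101af03c20bd5084e06fb04d906050f7b050d050a03200df20af70de20dad0b6406f607190d9b0a290e5c0e6b0b4c026402f90ebe01e604f307150585089802f60b9d0c6401f30843007905860b1d09750b6c0cd7090400ef04ac09fc0ae605380ed60bfd0aa90efe0c3905a50760074900f004120f0b018a095304e60c0b05bb032c01c5087702970303093607e00aad05eb084102850f700a9a0e1e09310cb700b602a7097105e604e500c10a450c10063b0fcb004e08280f080393018e02b60398035c0c490b200f5b0b740b910ada0f250ed208080f6a0fc6016809ce07f606ea0d900150064703ee0804069b08700ce30b3302f204a3054403d40de80c790ce207db04fb03c0049806750d4c0cfe0dff047c00ce01150de60d8a090e05640f8d01480e1605a708df09c1013a07380f9f053305a609cd0e1b03cb0edf09330dde09b7060a06840526030e0f9506a205310d69092f0dca09c609f606e201bb0ee30a3302fd063809eb0c660c5d093702720459093e067d05b7012d0e9b07a2055f08300a4c008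30aab0a8708180c770eb4071207bc0c2803ad03f60a0009590b0d0e9a09e905fe001909ed0a130a550606037e096309ad0e720290046f057706b408bb08e008c506b805f109960dcd091d065e09dd073e05940431007f09aa009909d80c230891054d013702d70cda05f402d60b0c0d3509d4002e03ce05490a0400bf020b0d280bd9002c02c9079a0dc10e450e37081508370f3403150f2301510a34099101cd06ac08ca08110c080c690f1a0bd40ba109a2043609010e660225033b0b960201067e01010e67072d0d6d0a7602360754033005ed0b1208c008230a3c02e70edb0bd605fb0750096d0d040f7e066501250e940a4a0e2005e50061094c083c0e7c082001aa040c05e90f8108bc079d0c910ab50db300a50654066d0b840bd2020908aa06dd08fc0518044e0ceb0a390669048f00980ab90b46028b07e402bc0d590f8a0ed50f6f0e1f08c801eb0e6808900f6002cc0036058008e305d006de0cd10f4f0ae5076e0d4104c00f2a00c20478001b059906150eea061c078f05870f850fb604e20e3b03e70f3d02a405ad07c209c00604019b074208db05450b26085c0db701dd042400f301c60fab049500a70395020f0c330adf0ce80a73039609480957089b0f430efd0cd604d60584046600e30b300d250bf9047706c90abc09be0a970f8602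d80882017f0ae00f3009cb00ae0196045008690d6502080c2206a5021e0d5e0bcd007c081d03cc001002910c6d0cf806f80eb30bb40735073c03550f2401c40558051c0ea9090206ce06d503e20bc00c5e01a007660d0d08ae0d2f030102730c9404130e5603040e4c08cb0d0908d50d2b069e0b0504b5038e04f8069a039f0ab30e2e09a508da026c0f5c07ea0103027001240cbf0c88009a0a540c36059c0bc405cb09730c00015c0c540be70d450f360cb6053c07b2021a004d08e8031d06580b7e07d40b0407220075021102160d92021406ab0d1b096a00a20eb704a008ec0f0d065c0a5b03a400cd022c03670ec8068f0b6209fa07cf041b041f063e03dd08dc028e06d00867010f09190fc008cd08b10d150a480b6601bd0cb508b5067b00530d2a04350bb50c310bfe0de7043b0aff097e07a5014604ca05c80c400dcc001f0a14004707f50fb00f1003c909e003bd03fe05ae074e0cd00afd03a3063d07fd07d602ec0b4a0a0200810e9f0a1102ca0c840d83010a061e08a408a609250687037f07810da500fe066b0b0a050c04fd091609600beb0d870efb0ef1031004030e290d5c01080df9014102d10924075a0f420e840775027f01d003db000b09ac00cf0d2007510d460ae70e130fb30788081a06d90c850bf2070d0be10db60f7400b70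2210ab7020508d10b540df0092b069208590345028f0782096f0c65041703a501760cff031903230abd02e805da0a4f032d0493057a0eeb0e4608e1015b04750b820a4307ec051d0b800b4d073608a805de0434099c0a57038306140d76095e0701037c0ee1008b0d4e0d0a0c3f06cc0e40005a0183076807a40f6306270df30d6b04250f940d9401d60b2c0bcc07200c430cb9000e0c6f01d303d70baa00d8093c0d610aaa0f870f26093505cf08310361012f073d00500b7b0bd80cb80138029307e6082d0295054c06b20e2303470f1f00a407ab00b301740d5300ee078b0cc009e70f2700180287048906b90dfd0035005503720a6508f403370bd708d00e0009c40e0f07a60bbf041500a902ed073705bc0ac8000207e5040e05f50237092e06ef02f104d404f0036205cc09c30173095f023b0e060b4f090d00d909790539065600710373095b06520f0e0836080e074405340ec7091806ad00df0c900df6082e080a0827072e0868007204180b6e0d3b03f5058105590cec08380cf508860c6a04140aa0086c04e10cae0f69003008530b030cce0989003a0e24053001020dc302fe0b080d3d05aa0b78087b09150ed7087e0c800961080b00e60b440fc803570f8f0ef405dd040d0c570c990e190fae066f059e020e03b0020d0d160945071f07cc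01790f930d7f039e05a80f130639034004eb0c05098f010c013d033d040f002a0f120356070305650d1c0b340ae304d8011f035b06db0b610f5e09780160045603920dc5064e0a8d019201ad0407047a07d701d901170bf4041c0e0502b10e470dec00f80c9a046e01a3097201da09140993021b0dea0f89070a0dd50bc2041d0e9300730b870f5a0514064800e0037a062b0c750b4803ab04880790090b07d507ce0ca20f370087053a0d3901ae0ad800e406bc0c0e0b9f0c6808f6026e04ee009503d10f97062407580c550dac0abf0b0000d0071d0a5102df0faa0eaa0a460659017c021807610c4a060102750c300ef605420e9e04d30ddf08e40bdb099f083d0100052c01c2019c0a5d05ab077c023e00140889083900b807630af009b90fc10e7904e9062108650e3f0e5005d80f54078e034e043c00420528078403de0583079804d7025c076b02d0043f03c60532060b0ccf0b58027c06720ab6076702b803fa06080af209ee0ab80c81056a032f0fbe04e40ca703a0046005b603bc01b10e8f0064079f082b0f7c0d8908ee09f709c80bae06d70b9c041607d802d305c504ce0fa402b506b5,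
  0xfff0ffe0ffd0ffc0ffb0ffa0ff90ff80ff70ff60ff50ff40ff30ff20ff10ff00fef0fee0fed0fec0feb0fea0fe90fe80fe70fe60fe50fe40fe30fe20fe10fe00fdf0fde0fdd0fdc03130d680ed409c005ca0a580bbe08bd04ad0219037f0239034a017304870f360c640cf904bd0b4e0693032d02ab0cb30a8900aa0c550020016e0a8609c2020c07510a2e04f70f2f06b0005c0343082a0c3b03480a4403e20b62045e0bdd06c90ea7041203a30c36065f06fa0eea0e5106c00ab7015a0205076003ed07830f770ea6026a05da01cb09e6093b0de507d801de0f3201a509d301dc0ad50f6a08b70b7b0cce08140c780d990d750f840c4104c60d910d2903bd02fd00190e8301780db301960e780824072b00f105cc03760abb0709067e051e06f1041706b2044a015c04aa000e04a9038c0e87010d012e09390eff06e404d0080e00b60d6707f408ac07e605ba0baf006a074f013c0bef0b5d090b053d0da7013209640e2807fd0b06082b07ea0c1c09d0062807c4067d04d801df019008f20375006d092801f807a20cad056c037b0b670a100a6c06c707d00c5706fe0d3a05ae0e4301cd07370d0c025d068b0f0c08f50c650e4d0f4a0ecb007b0a720598065d01c40f0001f9043d097c0a480b44035f0ef2021e0cf109b905460011077209bc081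c0518085d053c0d7f056f06190dba0dd10973049b0d5b0f5400fa038704b207150ec40353044d05e90c7003920b1b0ea301ac02aa0ceb0ada0f6d0dce07b8020b064702fc0e5407240405072601700347054d0d810678067f0c8307f000760e90078200d60ad20a69089f036a0ed2075b0fad059f056e03c60c5e0854092e0a93002102d60862010400750fbe0d6a08fa0c66030909090022097e06ec04c70e310368044c0c8e03fe0b9301ed067a0437029704f600ee0de008cd040d0551090f060a0ec302d90cd000f20e61025507640fb9037103ef02c307420acb028a07cd0ee808e70354072d008904b3009c06b50d3d06250bd80a190d3b03970aa90f3f094d077802cf08c30200013e0e440d8309490983072106ff0b5408600d300f1a011d003b01cc0f450016005b0b550aa8051307a804d908bc0bf30b8f0f2200990a6e0b5100d2043a03290b9a0ea806200a81036c03f109ed0e67096900720b9c040907ad0f3a0bb903b80fb304430956022508da05c30a9d0c61083508410d280b2e03e70cc7009606b706290cb70dc200650f660ae205640f6109fc00b5002f0920038404550403000008680bee011102330d8c06e10f6701af087b060f028e06c80fa702af0a7c03ab06a0092700c801220661064a08c8019e064d05eb0d940c0a03940e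9906060e0f0a06070d0f5e082f0c5a059c05bc021d013402990f7a009d0140018a03af0b210bb404cc0e2200e30b4f058007eb0e8c00ef03fd00530aef088d029e0d360cb809290c2a0179064901e400c9099e016f0dde0eed068802e00e080237048d0a0f0e2a0b9207ce091f0fd80400076b084302a208b402120a630f88040b0c4b05ea036d06140ebb05dd0b3b05b800e901550d8902a40aee02c00b4d008100d102ac01ff063603dd06210b42012005a306ea08940ba20a46022e0ec1087006a60ae304a201000c600ba00d9d0aa201560bc901e505b90b02010c0a9c09dd0692091d0f1203080f4602270f2605840b870d41061a069e0da3009b0600045d014208ba0ef80a4d07b5055802b00d9701b7095b0b7501b207c8024f069800f90d1a02dc068d03160f4206150e6209bb043f039605b4011202bd0ea1006b09b507200c0d033c09180d2b086e0c5802f80ddf02ae0eb806a3094203d105820f2d0a200454083309c10207019a0a2b0e69042705fa0e640185056a09ce0eca0074032e055a0c350fc0061103770d4f02720aae011b000407410d7b0c960464014c010f066e0195055b050f0ae9084e0ad605e00128080a02460b7a05bb05a80a9e060c0a5904890b6a01a90cdb0c3e03de0d1e004a0ad80ac6065b09db0c560cbc074c051b0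9710ce80c0b098b0eba0d03016a03240cdd0b890168046604820d1b019302a303a70ecf0bdc000900510618025005660e4b0bc60f8a02df05f902920829020606e209cc00dd0f380dc707f700b70a9109d106160d4708b9042303da096508fc01e20b170d52053109ad0a87003d057006040e170ab8017a010a016b01430b2409df03150d4901e90792002a0434030a0d51046a00c203e90c5f0c77024c04ca083005d70bfe0360042b04620f8c054c0ba1022b0d0e07ec00050e3e060306ef04330d10068f04be08ec079802340b9f01330803074b054e0d7601290ecc0e2d079906a80e090d8b0c3d00d800f80d37035207df096a0e5b00a50217036205490b530cb2083701660c8b005e0e530d5608a909c60be40a3a0a790a010b070fb700a40a71097f0e1f02cc069d05d1087203ba07050dd604cb0bf705be0bd20338073803fc010e096f0dc909510c340b7d0fa308d20c440eae0732085c016008ae0ddc0d3509960b0f00690302085901d202b40842095704a10db20bd10d5d06680db70b9b00060da40b30092a069b0fa40c330171013b0caf0a6a00400317077402840f920a6206d20af80856079c08150876036402b10b6c01ca030002f00dfc01c80f9a0fd70987030d033106e80f85035901910a320b560bd00e58084a08ea0bf10569023e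01360c110db603f90e55011f0c3702750c1e07be0268049d0e5203a50c0908bb063800300d8f049f020f0c3f000102e90fc8025f068101530fd50c520cbd06f30a1b0bdf0f8f00950c820f0d032c0c9d00a807b70a6806d009310f4102bf075e094c0f830d1c0ac20b2806070a5e007e0e570c6f047e0bd5009f083206a90b58054b0a3609ff033b0921059e0f020ba603320a4a01980aa00f76010605ff015908ca0acf081b07fe06400ea205b60db80ed509720c620ca60eda028b0fa200b0068c0f2a065e02e4071c07f20afd0ad4064201ea0ebc068401bb01150aaa09b204150f190edb0e800e0a00ff061e0c190d6906cb09fe006f05b5070e07b20fd4075d0dec06d90d6f0aac075c070b09ba06dd0dff0d870cbe0ba9033d0af60e3707d50d900787095d0eaa0a4004300e4206c40571054f079b0ce500270c8605850555001a08bf0b6606bf0da5033407de07cb02dd006409d7049e01b0005408ad0c3a0ee70fbc0f2c08c60ea404a007ff030302f207c905910a5b0a670507056b0ba40529026c0be809f70b78097d00500f53096303f40cb104b507aa07680de70b4609600df40b4905b005aa0c500cf50b6d0f570f70083f076508db060e0cb4053304bb003108c10769031008080c1d06700a380eb10eb50faf09080c9c03630bc80098051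705c80a040a3e045002cd00ac0ded083a04b40d8200b906c103830e130fa903e40c5c0d4a0fcb03f20f250c710e98025402020bd606270ee6028706d8073c0b1602cb0cb601bd0b14052707e905e604800175020807020141083803eb0a5f06870087004800b304d20c2e02450b1e0f400bec0e070cee01b604180c420c79013a05bd0edf0468053f03c3076d0dee058d098103d706010562005501ce00c60c30083d00dc075500850ef005340a8b013703a40a9704da0f20081009950e75043c0f2e084507ed0da0090d00e1005906600f160dc30e7f038603f501e004b109fa0bc30a9b008f0c9e018d04cd027002b7092f0ae10763015b04940138031e0d5f05e50717078605a508eb02010d4c0123021f0e8f0b080bd70ac505db06d10f710c9f04d505cd0e500cf607db03cf0e2f08040ab903d30e6a022105c900cd09b00f7b0700086a0a150e910c29025c087909d40f1303a60d450d50030b0c5b03040a5a09f3097005440a840d18045f008b038508770f3906900ec8001d080b07ee02d8095000ae0e66069503ce0de801210e600b470ec0054a003505120c76019407cf070f01c704fd05f8093d001f04c90b320bd90d260b700ccf0a390be103ee0d2c01e608e30b1f02d701b30c1f081809dc08dd00e0000a0b8c07a30fbf0e5f085e06cd0c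df0573071a0d9303df0b370b0a08130bc405f40105020a03ea0e02042209a10db5026707a5064b01f406800c0e0775072a09ea07d602230e9204e80d3402eb01b1011c00cf0de90cec07f60b8a00de0dd2048502380d460809083101bf08660ec70cf00393007f0335053a0e9f0a340ee30b860c9802940d7a0c2c0a7008990fcc0a2d06350eb30bf5049002350e63051a03420653068201970c4e029f09fd0beb0e7106a70c9b0373096205c205fc04f901480afe040606240d0109370e2e0b8b0a220b250d8408a508f805e3005a05a1082e089d03b20f4901e701390fb60ac70d2704c101690a92038e0f52007302f10a2a09d20f7c0655028208d1084705630df80c6a0ba3064308d906be048e023c037e0ab205a00f9902fb085f0f5d0de402ee0c1206ca03820e8608a30a9902b5036b08860d4e0910076c0d0f0a1e06770dbb0259068601d9046d056d05de0d960b2a02bc01a107450a290ee0022008980b1a0900035c0b260cab00bb0ee201eb01650a74077e0df3050e0cfa022804700f68031805210083030509b605f20acc08a80deb081f0e7900a702ba06aa0cc50d4d0dbc01570e7e0d3c0b1c0d5306c60ca9094a08b607e105cb0d160e4e0215069108cf0579000b070c04a30a7a087f01160dd80992031b0c4d00be098d077a07560d770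dbf0dd50f8209a905d20abf0203039d07c503dc0f5b0a570ee10e6504d703270728026f041a07b1047f0b48084401d00a750946096804bc02a10b7c0612055d04ff0de20211091a01f603b508640568046c047409a50c7f0c27074604f10d17067b0b2f0a4f031909cf039900880f15074707af06d4037d0c3801720f950192052805ac0e4f00790cbb095e04480248039805c4037809cb04ec00b40c7d04b805b10d6509da06a10eac09480ed30e9c043e08e500f3034c02d50df207bb0729017b0fca0ab003570d9c056008f70f56039e013d08490b0b079f0f69040104c80a3b087e08a1037a07760590090609c505b205930770087c0f330018036e00430d3904d60bf60eeb09120bfb008e062e0e4907300f0b093209d60efb00ce01810b4b04de0271034501f30e06080607ae06740d7300a00b3607400dcd0eb90f0e0bb6028806bb0f87014d08e20cd205df03f80d7208e80e1003070ee50dcb0b040a17095303c70b6106300c4508e008c907620e6b0bae096b0abe019d086f08d40f9702f60fd00753076706ae04e905410b6b04570f040bf8092200820265017c0c490f1100390ccd0df50ead0d59098a09c702da0dc50dfb0f100af009430cc4027c08b801da0a3f0ad10d7e0fc30b5f033602850224044701a809af0ed90f8608520d220276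0bea03bf045b0e5c05740af209f20f170f230f6e0bc20fbd01070f28085b0c7b0e1104b607ac023103690d7c07ca0be70656057d00fc027f063304bf02e605d30b8504ce0a240d0009930ac9066d07130bfc091b03b605b701fd08650e2905f70dd40f600b230bda0fdb0aaf06b90fda089205fd021304ed063c04a500460f24073d03ac0262024b01a70b96079503e60f8900250f3b07dd0cc00b1d08be039a06cf044b0b790cde0bcd03bb0822069706b804d3023b01a601dd0fce06170a8e051608480e040e96007c00df0bc707040de305d50a8c01b402f5023609de04eb0bf00e480f1e0d230d64013f05250b760c3c0e0c09a20ac00187019b088a0a4309e4081d0ac80130040a0cc3062d090a091607b90b120c5d0389098503be0595088e055e0365028c0bf402100e03075403c90d2a08e10f2106b30067071902a50ed00f8b02be043905c5007a0e7a0e820c160f6f076107e70a1301c20b7f04410b500974026d012c0eb009a80d8d0bba008a097607b001d10b81086705090f9f0665047c001203fa0b430b400ebf002b0820080f0d4b00f50c590ad00c180e68035d0df907e50a3c0d9a0f780d12021601ee00cb0dd90cd504040a270f3105ad0bf905770e2509cd07ef0e050e4c0266048a0897061d0d6d0ae5002301b503d40b64005f0e0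103f705750a65079e0d33088108340a6002510a730bcf0127093c029d0e6c0f370a11006c035e0f9b07e809ec009107ab06a50311016205e203950d2109aa0c1b0e33032f08800241004e04b702a904ef08f6020d0fd307d10baa0d620ce30c0f02f4038a06db0a510d9f0d7d0d540b52055900eb0fb40ce90c2807930ec200b20b8200930a45027a031c04df0736089e0a0e033900e606eb0f9c0b4c00fd0e8d01640e9d0ad70fa509170fae0f7d0a140d6c072c057e0c6b0ac10013040e0109071b021c063401170de10daf0cda07180c9703010cef08a20f58068a01510e0d0ed806e9042e0cbf02b804020fcd017f07c3078c0a300b2b0ced05f50d660ce101c600c106f5009a07c2023207c10780018309350f980a78071e063f04260b050d19032b0df10e410dcf042507570fb009f90ce700c4019f09a406c202f309ee05230f01043b05ec08730fc100020e1d03db0ccc0744076f044005f004a70cb9037004e00070002c0faa05cf0a4b0c8004fe06bd09ca03140c2607a90771065708d50af108070e240de60ef10fd10c9905ef09a0058f038b03d50afa0c8c0e470bbb0f0703b40f750bb20ae807e30f4d030e074300d003120bdb0938022f0e340a490c2501a00e7c051101c00c850cf3035b0d06021b0bfa0080049c0e3f0afc061c0cf407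7b054801cf041e075808ed09990ab3055c0ecd067505a60fc50a180aa3046f092d04110934093609e90dcc04970ce609470bbf054306450eec03e1091c06bc0b68084007d20ef506b401030e2c044603f004c00501048c08d70d1d0812086d0a9a041d0e180cf803ec0c48012a0791029605260479015e088903660def0dc60520078e0d0708160af90a640dc10cc80a1c09e7099800e20b0d0696053b0d04072f0efe0d4402f90a8a0ca006f604fa02bb0229008c099707f90da60c010a1d021805960017078908830a7f0e4a066c06f00b1304450adf01f2039f05970158036f01840eee03b10ca107f50aab016d02ca0f30060508880cac0b190475014702e80a1f022a0ca30c5408f908530e1c0a2306df050303a80f2b0e6d04dc050b0fa60540094104f50b0009bd05bf0d80071409230c95079000d70c8704af097a0c0200bc0a370bb00b69025b0975095a095c0d0d04dd09c40cd7024905d90cd1015d03a2053503e803d80c9406da0f9108fb06a40f050c4603610dc40f9e049a058103fb0ca20ad30036016106af0ca40dae04630e95031f071205500b5a0c140e5a05ee0bf209040ade08aa04320fb800a20667012b03b009e5097b058c0eb7095801ef0e46050d01f108e60fd907fa0cd90b350d02090208de0ae7080c09f40aad0a7701c30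8570d3e08b3030605000061057f0a6f003308b1006e0c89003708250d9e0e59071f07c607d405a7029102de014a00c30d3100c500ad06220e3c08e90a21092b05ab0e5e0f1400ed090707590a8807f304280c2f0672011901a402430b9e0f470554050809eb0298034e024d0f440cfe0887041c048f0a7d0a4204db0af70b7406ac03330dd30c670c1708b005d60a0c059409770bca04fc0da80a35051c00da027d03ae0a4703410f1c052b08d303c00c1509820b030aed03aa084b05370e770b940b5e0d92084c06540e360fa00f510af505530da90b0c00f00f5c0f7f01e80aa40961066a0c320b5b08ab0a8f0f8104e1012f0c1007a60d4005150f550ae409450fc704b90a25084602900565047603900858001b010b072e0d480144013100a30d2e019c0a6d0b91058b0452028008d600580ab10ea50337098909ab09b700380aca0915015f088b0e1500a6034d06e60781048802ea03b304b00b3f0caa0c240a0809780c7c000c0ab5083b0b9506a201db00cc018800a104f80e0000840c75032208390a5d08f301240b09032a059d0380048107a40c040b6e091e08ef09c807fc026903200980025a0d6e0e8103d904440277000d0c7205e102c70b2c0f620bce00c0001e06d5074d04fb0b380f8d098f00080fac0e8b003c0d380cae0bde002807bc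02c80d1f0df7070a089301500cd30ddb0323082c0f930d2f04a802810d0b037c0d95047203d203210c1a0edd04a40a3307010536078d0a9802260c0308ee0ef70e8508d80e3b06ba0d9b03510a3d08900aa605f60c00067303c209c90703001501860b2204f406ee00e50a5009ae05f10d3f0658074e0abc0e1204990542041408000722047b031d0e3802c10b330fa10dc00850047d0bbd03e005470c4304e403a1073308d00bcb01c903cb09e207230c910bd3041005100bfd04e608ff0bbc0b3903cd00ec0db904ae0aa7017e009e03c506dc0b98033a063e026e0eab0cc100520c8f073402ff010201bc02ec0d5e074a07060d08025e02ce055604d10b110c4f0a05052e073f062301c5077c0f4b086109f501800367099d06c308c5061b076607cc07b60e2104980f5a018905a40be60416031a064400260b1804c3080209d80d240bac05e8091400af051f011300fe09540d4308950d15092c0a090f1f0ef60ddd05c7035802090fb10d200959078403a00d78045903e306e00c69003a01ec0773064603f6081a00d5001c0c92064102d2012d06850e760dea077f0d140bb105570905096c0f6c080506630a61051d0ed70eb60a0709f60381069906370199016300ca0fc60c510118001405830adc0664069a075f044205a9093f0b600bc10896050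a0d0a083c04860e9b0d610a8d0484073b02440b34039b01b908230d130f270e56057c05d40be30f3d04f00ede0ee40ed605fe09b10d98046b03ad042c0d2d047a0e32055209300b8e0f740f1d07250631057608c20f0f04730a6b06b1088508910a0b0d050c390c4c01fc00d303880e8e08840e4009910b800f340d8500bf09660d6004f307070c5301e10460014b0f94041f0b6504e30aa5078f08630b59034f04130cc601f5021406510ec605d800db03a902600097038d062b079a07d907fb059a024e011a00fb02e10b27045c0be5064f02d103c40aff027e0ea9087d00c703e505b30ce2050605870eb402ed063d0e700eaf02d304510ca5095f023003bc074804ea0c8d0d630b73004408f4034b075a066f0421065a084d0f5902c50346044e0f4e0ee90c6301fb0e140bab06de0666083601820c0607ba05c102630c7e003f01d306f80efd0f50058906ad0d250ece0c8102860bb80dda038f0f4f0524066900920edc003408c4057b00240be209250bb3094003ff00ea0b10006008750126016702b20c2d060b06c5052f0f640c8a01a309030fb20b3c05dc08510a560dd005e40374043101490bff0cba02c4073e0bed01d40fb50e7d04a60cfc023a05d0046e004f0a850c220b3a06f40ac409010be0088f000f08c000100d8e087802a807e405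390a2f04710ea0057800770ef90b3d04e70a030e1e00a901ae09e30c84067901d60fbb09a60438029c0b8d06e306e70eb205f305c0012508820066024a08710c740e1900030b4a0e200b880a9f0e880491071d05a20dbd09f10aeb02580e930a1a0af40e72099c0c73002e0d7409670f90011404ac005d01540461033e0349042d071609d9090e004c0b0e082708ce0979018f09880c0505af0eef032808fd0c47065c01f0087a0f9d02c2035a069f006205860efc0f4801a20bd40dac0d420fc9046907d70a2608210fab06fc0826050206cc079407b40325093e0711027402a6035607e20cea046706390aea050c002907d3083e0e970fa80e4504c20ae60b3e089b025709860f4c016c020e021a01d705920d5a03c1028f063a098c0a660cca007803720b9001100c3106d30545072704770a4101ab0926085a02790d880e3500f40e94099b073a0a900c400cd80df00f960ba500ba0cc204650b83061307350b15060806f900e7052c042a0c6e09a700bd004b009001fe02400913098e0242053e013504f20f630264079708a60f0809e80c2b04080ce40d700a4c063b00940b9906d702ad03c800630b630df606520ebd0f8e0d8604950f5f0c130e730e30007d004506f20ef402e303d60a950b2d092409440152052a0d6b01ad06ed0379081906500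a12003e094b07f808e401740f3e0daa09ef099a006802040db10519044f01b805300c9a04190b7e04cf0c2306fd02950ebe0d710e7b06620aba0e6e0dfa029b025307a105ce0d1101d5042409330a7e0436040c0049058e0ae0090c08690a000b410e0e0505076e0d8a04c40c200c0808cb0dca00e407790e3900f70e5d094f0a8306760ac30dd70cc9069c02730bc50aa107c70dfe07da026b06fb01e309d50bc00f7e099f07bd080d0e3d0cdc0b8406e50a540b570a0a0ef3086c0dab0d320a310330062a022207dc0bb502a0014f07500e230801004109e0045804070cff0b6f0c6c0f060340048b06830f7205c60c7a0a7b0cfd07a00648039c0a820b710e1a03b90567011e024707960cf707f106100293032605140ed1053804490ab6028d0d580f3c08b2081e02fe05fb07bf01ba02e506ab0c0c0572034409190da109b304290a020acd0f730788014e0ad90af3050402d002b90ce00fcf01450c9005ed02830b45049208b50f0a052d04830b310b97010100320b770a2c0710030c0a520b720dbe0d5c0adb0cd40f650c680177077708fe0456027b06d60cb50ca70e0b008608f10fd202e2033f0be9064c04d40a0d0f090f1b02d40c4a0a2800f60d090e9a03910ace0785022d00070fd603ca09a3068e06b600d9066b03550fc40efa02fa0cfb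0fc20d5508a4018e0c930fba096e05220f43064e0f80099400470ba80289096d0bad02f70817062f04e508df09fb0abd02db01be0c2104ab0a76059b0e16068909b402ef0c88058a0b2907a7002d02b602b300ab00d40e2b0d790e84091106090a160252078b08dc0e8a078a02a70708023f0db402c601aa0f180cb0061f09be0bcc073109c307c00dc8079d06590ec903500aec0bb70e1b0e2707e000e80dfd0811022c047808af0f2906260cd609ac08c70e6f0955093a062c09b80b01008d0f0302780a53042f02e707b3005701c1040f08550b5c029a0b200e9e076a023d09f00db008280afb09bf018c0602084f09e10f79067103b709f80588077d0ba70da2017d007103d004c5060d089a0cf2086b0e89057a08a004200e2604960042094e059901d80f6b0a94010806f7004d082d0694045304ee01f70261030f00b8063200b10dad0ca804e20ccb08740a800b9d0a55074901fa0c6d04350e3a0256089c00560739067c0d570f3505e702c904ba05610532017608a7041b0984099001460a4e0e74088c0c07045a08f0075208cc03cc095203f304930add0ec506ce0a96055f0ab40a5c018b]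

private theorem TL_eq : NL.map tabN = TL := by decide +kernel

private noncomputable def evalT (w : List ℕ) (i : ℕ) : ℕ :=
  List.rec (motive := fun _ => ℕ) i
    (fun a _ ih => forceN ih fun c => Nat.mod (Nat.shiftRight (nthT TL a) (Nat.mul 16 c)) 4096) w

private theorem evalT_eq {i : ℕ} (hi : i < 4096) : ∀ w, evalT w i = evalK w i ∧ evalK w i < 4096
  | [] => ⟨rfl, hi⟩
  | a :: w => by
    obtain ⟨h1, h2⟩ := evalT_eq hi w
    have h3 : evalK (a :: w) i = app (nthL NL a) (evalK w i) := (forceN_eq _ _).trans (appK_eq _ _)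
    have h4 : evalT (a :: w) i = Nat.mod (Nat.shiftRight (nthT TL a) (Nat.mul 16 (evalT w i))) 4096 :=
      forceN_eq (evalT w i) fun c => Nat.mod (Nat.shiftRight (nthT TL a) (Nat.mul 16 c)) 4096
    refine ⟨?_, h3 ▸ (in_nthL NL in_NL a).app_lt h2⟩
    rw [h4, h3, h1, ← TL_eq, nthT_map, tabN_eq (in_nthL NL in_NL a) h2]

private noncomputable def evalX (w : List ℕ) (i : ℕ) : ℕ :=
  Bool.rec (motive := fun _ => ℕ) (evalT w i) (evalK w i) (Nat.ble 4096 i)

private theorem evalX_eq : evalK = evalX := funext fun w => funext fun i => by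
  show _ = Bool.rec (motive := fun _ => ℕ) (evalT w i) (evalK w i) (Nat.ble 4096 i)
  cases h : Nat.ble 4096 i
  · exact (evalT_eq (Nat.lt_of_not_le fun e => Bool.false_ne_true (h.symm.trans (Nat.ble_eq_true_of_le e))) w).1.symm
  · rfl

private noncomputable def chkRelF (rels : List (List ℕ)) : Bool :=
  allL (fun r => allL (fun b => Nat.beq (evalX r b) b) [0, 29, 580, 577]) rels

private theorem chkRelF_eq (rels : List (List ℕ)) : chkRel rels = chkRelF rels :=
  congrArg (fun e : List ℕ → ℕ → ℕ => allL (fun r => allL (fun b => Nat.beq (e r b) b) [0, 29, 580, 577]) rels) evalX_eq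

end fast


private noncomputable def chkPF (b : ℕ) (u v vi : List ℕ) (n : ℕ) : Bool :=
  and (and (Nat.beq (Nat.gcd 5 n) 1) (and (Nat.ble (Nat.succ b) 4060) (not (Nat.beq (evalX (u ++ (v ++ (u ++ vi))) b) b))))
    (chkRelF [v ++ vi, rep n (u ++ (v ++ (u ++ vi)))])

private theorem not_pc_of_chkF {b : ℕ} {u v vi : List ℕ} {n : ℕ} (h : chkPF b u v vi n = true) :
    ¬ PC 5 (wprod ml u) := by
  refine not_pc_of_chk (b := b) (v := v) (vi := vi) (n := n) ?_
  delta chkP
  rw [chkRelF_eq, evalX_eq]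
  exact h

private theorem eq_of_chkEqF {u v : List ℕ}
    (h : allL (fun b => Nat.beq (evalX u b) (evalX v b)) [0, 29, 580, 577] = true) : wprod ml u = wprod ml v := by
  refine eq_of_chkEqW ?_
  delta chkEqW
  rw [evalX_eq]
  exact h

theorem pc_w1 : ¬ PC 5 (wprod ml (rep 1 wc)) :=
  not_pc_of_chkF (b := 0) (v := [0]) (vi := [0]) (n := 6) (by decide +kernel)

theorem pc_w2 : ¬ PC 5 (wprod ml (rep 2 wc)) :=
  not_pc_of_chkF (b := 0) (v := [4]) (vi := [8]) (n := 6) (by decide +kernel)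

theorem pc_b1 : ¬ PC 5 (wprod ml (rep 1 wa)) :=
  not_pc_of_chkF (b := 0) (v := [5]) (vi := [5]) (n := 4) (by decide +kernel)

theorem pc_b2 : ¬ PC 5 (wprod ml (rep 2 wa)) :=
  not_pc_of_chkF (b := 0) (v := [2]) (vi := [2]) (n := 7) (by decide +kernel)

theorem pc_1_0 : ¬ PC 5 (wprod ml (rep 1 wb ++ rep 0 wa)) :=
  not_pc_of_chkF (b := 0) (v := [4]) (vi := [8]) (n := 6) (by decide +kernel)

theorem pc_1_1 : ¬ PC 5 (wprod ml (rep 1 wb ++ rep 1 wa)) :=
  not_pc_of_chkF (b := 0) (v := [1]) (vi := [6]) (n := 12) (by decide +kernel)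

theorem pc_1_2 : ¬ PC 5 (wprod ml (rep 1 wb ++ rep 2 wa)) :=
  not_pc_of_chkF (b := 0) (v := [5]) (vi := [5]) (n := 4) (by decide +kernel)

theorem pc_1_3 : ¬ PC 5 (wprod ml (rep 1 wb ++ rep 3 wa)) :=
  not_pc_of_chkF (b := 0) (v := [5]) (vi := [5]) (n := 6) (by decide +kernel)

theorem pc_1_4 : ¬ PC 5 (wprod ml (rep 1 wb ++ rep 4 wa)) :=
  not_pc_of_chkF (b := 0) (v := [5]) (vi := [5]) (n := 6) (by decide +kernel)

theorem pc_2_0 : ¬ PC 5 (wprod ml (rep 2 wb ++ rep 0 wa)) :=
  not_pc_of_chkF (b := 0) (v := [2]) (vi := [2]) (n := 6) (by decide +kernel)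

theorem pc_2_1 : ¬ PC 5 (wprod ml (rep 2 wb ++ rep 1 wa)) :=
  not_pc_of_chkF (b := 0) (v := [2]) (vi := [2]) (n := 6) (by decide +kernel)

theorem pc_2_2 : ¬ PC 5 (wprod ml (rep 2 wb ++ rep 2 wa)) :=
  not_pc_of_chkF (b := 0) (v := [5]) (vi := [5]) (n := 4) (by decide +kernel)

theorem pc_2_3 : ¬ PC 5 (wprod ml (rep 2 wb ++ rep 3 wa)) :=
  not_pc_of_chkF (b := 0) (v := [2]) (vi := [2]) (n := 7) (by decide +kernel)

theorem pc_2_4 : ¬ PC 5 (wprod ml (rep 2 wb ++ rep 4 wa)) :=
  not_pc_of_chkF (b := 0) (v := [4]) (vi := [8]) (n := 4) (by decide +kernel)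


theorem rel : Heis.Rel 5 (wprod ml wb) (wprod ml wa) (wprod ml wc) := by
  have hr := rel_of_chk chk_rels
  have r1 := hr (rep 5 wa) (by simp)
  have r2 := hr (rep 5 wb) (by simp)
  have r3 := hr (rep 5 wc) (by simp)
  have e1 : wprod ml (wa ++ wc) = wprod ml (wc ++ wa) := eq_of_chkEqF (by decide +kernel)
  have e2 : wprod ml (wb ++ wc) = wprod ml (wc ++ wb) := eq_of_chkEqF (by decide +kernel)
  have e3 : wprod ml (wa ++ wb) = wprod ml (wb ++ (wa ++ wc)) := eq_of_chkEqF (by decide +kernel)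
  simp only [wprod_rep, wprod_append] at r1 r2 r3 e1 e2 e3
  rw [← mul_assoc] at e3
  exact ⟨r2, r1, r3, e2, e1, e3, ne_one_of (b := 29) (by norm_num) (by decide +kernel)⟩

theorem np_five : NP 5 RuOrder.H := by
  have h5 : Fact (Nat.Prime 5) := ⟨by norm_num⟩
  have e : ∀ i j : ℕ, wprod ml wb ^ i * wprod ml wa ^ j = wprod ml (rep i wb ++ rep j wa) := fun i j => by
    rw [wprod_append, wprod_rep, wprod_rep]
  intro x hx _ hP
  refine heis_reps rel (by norm_num) (by rw [card_H]; norm_num) ?_ ?_ ?_ hx hP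
  · intro k h1 h2
    have : k ≤ 2 := by omega
    rw [← wprod_rep]
    interval_cases k
    exacts [pc_w1, pc_w2]
  · intro k h1 h2
    have : k ≤ 2 := by omega
    rw [← wprod_rep]
    interval_cases k
    exacts [pc_b1, pc_b2]
  · intro i j h1 h2 h3
    have : i ≤ 2 := by omega
    rw [e]
    interval_cases i <;> interval_cases j
    exacts [pc_1_0, pc_1_1, pc_1_2, pc_1_3, pc_1_4, pc_2_0, pc_2_1, pc_2_2, pc_2_3, pc_2_4]

theorem np_three : NP 3 RuOrder.H := by
  have hsT : IsSimpleGroup RuTits.T := RuTits.isSimpleGroup_T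
  have hle : RuTits.T ≤ RuOrder.H := RuTits.T_le.trans (by intro x hx; exact hx.1)
  let M : Subgroup RuOrder.H := RuTits.T.subgroupOf RuOrder.H
  have hcM : Nat.card M = 17971200 := by
    rw [Nat.card_congr (Subgroup.subgroupOfEquivOfLe hle).toEquiv]
    exact RuTits.card_T
  have hidx : M.index = 8120 := by
    have h := M.card_mul_index
    rw [hcM, card_H] at h
    omega
  refine NP.of_rc fun x hx hR => ?_
  refine false_of_sylow (M := M) (by norm_num) hx hR ?_ (by rw [hidx]; norm_num) ?_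
  · intro h
    rw [h, Subgroup.index_top] at hidx
    omega
  · refine RadFree.congr Nat.prime_three (Subgroup.subgroupOfEquivOfLe hle) ?_
    have hf : Finite RuTits.T := Nat.finite_of_card_ne_zero (by rw [RuTits.card_T]; norm_num)
    refine RadFree.of_simple (by norm_num) fun hsol => ?_
    exact not_comm_of_card (K := RuTits.T) (by rw [RuTits.card_T]; norm_num)
      ⟨⟨IsSimpleGroup.comm_iff_isSolvable.2 hsol⟩⟩

theorem core {K : Type*} [Group K] [Finite K] (h : Cfsg.Spor.IsoRu K) : Core K := by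
  obtain ⟨e⟩ := h
  refine Core.of_equiv (e.trans Cfsg.Agent.RuLat.Main.equiv) ?_
  have hs : IsSimpleGroup RuOrder.H := Cfsg.Agent.SporadicB.RuSimple.isSimpleGroup_H
  refine core_of_card (s := 2 ^ 14 * 3 ^ 3 * 5 ^ 3) (m := 7 * 13 * 29)
    (by rw [card_H]; norm_num) ?_ (by norm_num) (fun p _ _ x hx => Cfsg.Agent.OddHalf.Table.OutRu.inner x) ?_
  · refine squarefree_mul_of (squarefree_mul_of
      (Irreducible.squarefree (by norm_num : Nat.Prime 7)) ?_ ?_) ?_ ?_ <;> norm_num
  · intro p hp hp2 hd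
    rcases (Nat.Prime.dvd_mul hp).1 hd with h1 | h1
    · rcases (Nat.Prime.dvd_mul hp).1 h1 with h2 | h2
      · exact absurd ((Nat.prime_dvd_prime_iff_eq hp Nat.prime_two).1 (hp.dvd_of_dvd_pow h2)) hp2
      · rw [(Nat.prime_dvd_prime_iff_eq hp Nat.prime_three).1 (hp.dvd_of_dvd_pow h2)]
        exact np_three
    · rw [(Nat.prime_dvd_prime_iff_eq hp (by norm_num : Nat.Prime 5)).1 (hp.dvd_of_dvd_pow h1)]
      exact np_five

end Cfsg.Agent.H235.AA.Ru
end

-- part: H561/AAFi24
section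
prune_inst 0x44302204488002080000850220002204100005320063000159600000080f5b620004270044a018100208aa1120010000000000d0001000002000080000040020802b5206933ca10c660009803007100000000000000000000000000000041000000000000
set_option linter.all false
open scoped Cfsg.Agent.FastGrp

-- part: H561/AAFi22
section
/-!
# The `AA` problem for `Fi22` (helper561)
-/

set_option autoImplicit false

namespace Cfsg.Agent.H561.AAFi22

open Subgroup Cfsg Cfsg.Agent.H459.Rad Cfsg.Agent.H460.AA Cfsg.Agent.H102.AAGen Cfsg.Agent.H561.AATool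
open Cfsg.Agent.R08.AutT (T)

theorem card_fi22 : Nat.card Spor.Fi22 = 64561751654400 := Cfsg.Agent.S1696.result.2

theorem finite_fi22 : Finite Spor.Fi22 := Cfsg.Agent.CTwoTab.Fi22.finite

theorem simple_fi22 : IsSimpleGroup Spor.Fi22 := Cfsg.Agent.S1696.result.1

theorem na_fi22 : ¬ IsMulCommutative Spor.Fi22 := by
  have := finite_fi22
  have := simple_fi22
  exact not_comm_of_card (by rw [card_fi22]; norm_num)

theorem quasi_cent {d : Spor.Fi22} (hd : d ∈ T) : IsQuasisimple ↥(centralizer ({d} : Set Spor.Fi22)) ∧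
    Nat.card ↥(center ↥(centralizer ({d} : Set Spor.Fi22))) = 2 ∧ centralizer ({d} : Set Spor.Fi22) ≠ ⊤ := by
  obtain ⟨b, c, ht⟩ := Cfsg.Agent.StdFi22.MainFi22.bas.exists_tri hd
  obtain ⟨R, F⟩ := Cfsg.Agent.CTwoTab.Fi22.facts hd ht.my ht.xy ht.cxy
  refine ⟨F.quasi, Cfsg.Agent.CTwoTab.Fi22.card_center F, fun h => ?_⟩
  have h1 := Cfsg.Agent.CTwoTab.Fi22.card_cent F
  rw [h, card_top, card_fi22] at h1
  norm_num at h1

/-- an element of odd order commuting with a transposition -/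
theorem false_of_comm [Finite Spor.Fi22] {p : ℕ} [hp : Fact p.Prime] (hp2 : p ≠ 2) {a d : Spor.Fi22} (hd : d ∈ T)
    (had : a * d = d * a) (ha : orderOf a = p) (h : RC (MulAut.conj a)) : False := by
  obtain ⟨h1, h2, h3⟩ := quasi_cent hd
  refine false_of_quasi h3 h1 ?_ ha (mem_centralizer_singleton_iff.2 had) h
  rw [h2]
  exact fun h => hp2 ((Nat.prime_dvd_prime_iff_eq hp.out Nat.prime_two).1 h)

theorem noRC_fi22 : NoRC Spor.Fi22 := by
  have := finite_fi22
  have := simple_fi22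
  refine noRC_of_sq na_fi22 fun p hp hp2 hsq a ha hR _ => ?_
  rw [card_fi22] at hsq
  obtain ⟨q, hq, hqp⟩ := mem_of_sq hp.out [(2, 17), (3, 9), (5, 2), (7, 1), (11, 1), (13, 1)]
    (by decide +kernel) (by norm_num) hsq
  have hp35 : p = 3 ∨ p = 5 := by
    fin_cases hq <;> simp only at hqp <;> subst hqp <;>
      first | exact absurd rfl hp2 | (left; rfl; done) | (right; rfl; done) | exact absurd hsq (by norm_num)
  rcases hp35 with rfl | rfl
  · have hs := Cfsg.Agent.Fischer.Y322Iso.simple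
    have hc := Cfsg.Agent.Fischer.Y322Iso.card_POmega
    obtain ⟨e⟩ := Cfsg.Agent.S1686.result
    have : Finite (POmega (ZMod 3) (quadFormOdd 3 (ZMod 3))) := Nat.finite_of_card_ne_zero (by rw [hc]; norm_num)
    refine false_of_simple_index (hp := hp) ?_ ?_ e.isSimpleGroup
      (not_comm_congr e (not_comm_of_card (by rw [hc]; norm_num))) ha hR
    · intro h
      have h1 := Cfsg.Agent.S1685.result
      rw [h, index_top] at h1
      norm_num at h1
    · rw [Cfsg.Agent.S1685.result]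
      norm_num
  · have C := Cfsg.Agent.LThreeFi22.Inst.ctx (MulEquiv.refl Spor.Fi22)
    obtain ⟨t, ht, hat⟩ := C.ex5 a (by rw [← ha, pow_orderOf_eq_one]) (by rintro rfl; rw [orderOf_one] at ha; omega)
    obtain ⟨x, hx, hxt⟩ := ht
    have ht' : t ∈ T := by rw [← hxt]; exact hx
    exact false_of_comm hp2 ht' hat ha hR

/-- **`Fi22`** -/
theorem core {K : Type*} [Group K] (h : Spor.IsoFi22 K) : Core K := by
  obtain ⟨e⟩ := h
  have := finite_fi22
  have := simple_fi22
  have : Finite K := Finite.of_equiv _ e.symm.toEquiv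
  exact Core.of_equiv e (core_of_noRC na_fi22 (Cfsg.Agent.H256.OddInner.fi22 ⟨MulEquiv.refl _⟩) noRC_fi22)

end Cfsg.Agent.H561.AAFi22
end

-- part: H561/AAFi24
section
/-!
# The `AA` problem for `Fi24'` (helper561)
-/

set_option autoImplicit false

namespace Cfsg.Agent.H561.AAFi24

open Subgroup Cfsg Cfsg.Agent.H459.Rad Cfsg.Agent.H460.AA Cfsg.Agent.H102.AAGen Cfsg.Agent.H561.AATool
open Cfsg.Agent.R08 Cfsg.Agent.R08.FiTwentyFour
open Cfsg.Agent.Fischer.Fi24Class (gen gen_sq)
open Cfsg.Agent.Fischer.Abstract Cfsg.Agent.LThreeM.SrgFix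

theorem card_fi24 : Nat.card (commutator Spor.Fi24) = 1255205709190661721292800 := card_commutator

theorem finite_fi24 : Finite (commutator Spor.Fi24) := Nat.finite_of_card_ne_zero (by rw [card_fi24]; norm_num)

theorem simple_fi24 : IsSimpleGroup (commutator Spor.Fi24) := isFi24'.1

theorem na_fi24 : ¬ IsMulCommutative (commutator Spor.Fi24) := by
  have := finite_fi24
  have := simple_fi24
  exact not_comm_of_card (by rw [card_fi24]; norm_num)

/-- `He ≤ Fi24'` -/
theorem exists_he : ∃ K : Subgroup (commutator Spor.Fi24), Cfsg.IsHe K := by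
  have h95 := Cfsg.Agent.S1695.result
  have F := facts
  obtain ⟨ψ, -, hψ⟩ := Cfsg.Agent.Fischer.HeInFi24.he_hom (Cfsg.Agent.Fischer.Fi24Real.stab_comm F.hub F.hne) (by
    intro z hz h0
    apply Cfsg.Agent.Fischer.Fi24Final.eq_one_of_fixes F.hub F.hne F.hfin F.hH
    intro q hq
    have hq' : q ∈ {p : ℕ | ∃ x, Cfsg.Agent.Fischer.Fi24Rep.rho x 0 = p} := by
      rw [Cfsg.Agent.Fischer.Fi24RepOrb.orbG]; exact hq
    obtain ⟨k, rfl⟩ := hq'
    rw [← Equiv.Perm.mul_apply, ← map_mul, hz, map_mul, Equiv.Perm.mul_apply, h0])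
  have hψ1 := Cfsg.Agent.Fischer.Fi24Class.injective_of_simple h95.1 ψ ⟨_, hψ⟩
  have hpHe : commutator Cfsg.Spor.He = ⊤ := Cfsg.Agent.Fischer.Fi24Class.perfect_of_simple h95.1 (by
    rw [h95.2]
    norm_num)
  obtain ⟨K, hK1, hK2⟩ := Cfsg.Agent.Fischer.Fi24Class.exists_subgroup h95.1 ψ hψ1 (commutator Spor.Fi24)
    (Cfsg.Agent.Fischer.Fi24Class.range_le_commutator hpHe ψ)
  exact ⟨K, hK1, hK2.trans h95.2⟩

/-- the embedding of `Fi23` -/
noncomputable def psi : Spor.Fi23 →* commutator Spor.Fi24 := facts.phi.codRestrict _ fun k =>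
  mem_commutator_iff.2 (facts.sgn_phi k)

theorem psi_injective : Function.Injective psi := fun a b hab => facts.phi_injective (congrArg Subtype.val hab)

theorem card_range : Nat.card psi.range = 4089470473293004800 :=
  (Nat.card_congr (MonoidHom.ofInjective psi_injective).toEquiv).symm.trans AAFi23.card_fi23

theorem simple_range : IsSimpleGroup psi.range := by
  have := AAFi23.simple_fi23
  exact (MonoidHom.ofInjective psi_injective).symm.isSimpleGroup

/-- `Fi24'` is transitive on the transpositions -/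
theorem exists_conj {t : Spor.Fi24} (ht : t ∈ L) : ∃ g : commutator Spor.Fi24, (g : Spor.Fi24) * gen .l * (g : Spor.Fi24)⁻¹ = t := by
  obtain ⟨g, hg⟩ := isConj_iff.1 (show IsConj (gen .l) t from ht)
  by_cases h : g ∈ commutator Spor.Fi24
  · exact ⟨⟨g, h⟩, hg⟩
  · have h1 : g * gen .l ∈ commutator Spor.Fi24 := by
      rw [mem_commutator_iff, map_mul, sgn_L (gen_mem_L .l)]
      rw [mem_commutator_iff] at h
      rcases Int.units_eq_one_or (Cfsg.Agent.Fischer.Fi24Final.sgn g) with h2 | h2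
      · exact absurd h2 h
      · rw [h2]; rfl
    refine ⟨⟨g * gen .l, h1⟩, ?_⟩
    have hll : gen .l * gen .l = (1 : Spor.Fi24) := gen_sq _
    rw [← hg]
    show g * gen .l * gen .l * (g * gen .l)⁻¹ = _
    rw [mul_assoc g, hll, mul_inv_rev]
    have hl : (gen .l : Spor.Fi24)⁻¹ = gen .l := inv_eq_of_mul_eq_one_left hll
    rw [hl]
    group

/-- an element commuting with a transposition -/
theorem false_of_comm [Finite (commutator Spor.Fi24)] {p : ℕ} [hp : Fact p.Prime] {a : commutator Spor.Fi24}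
    {t : Spor.Fi24} (ht : t ∈ L) (hat : (a : Spor.Fi24) * t = t * a) (ha : orderOf a = p)
    (h : RC (MulAut.conj a)) : False := by
  have F := facts
  obtain ⟨g, rfl⟩ := exists_conj ht
  have hs := simple_range
  have := AAFi23.finite_fi23
  have hna : ¬ IsMulCommutative psi.range := not_comm_of_card (by rw [card_range]; norm_num)
  refine false_of_simple_mem (hp := hp) (H := psi.range) ?_ hs hna (a := g⁻¹ * a * g⁻¹⁻¹) ?_ ?_ (RC_conj h g⁻¹)
  · intro htop
    have h1 := card_range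
    rw [htop, card_top, card_fi24] at h1
    norm_num at h1
  · rw [orderOf_conj', ha]
  · have hmem : ((g⁻¹ * a * g⁻¹⁻¹ : commutator Spor.Fi24) : Spor.Fi24) * gen .l =
        gen .l * ((g⁻¹ * a * g⁻¹⁻¹ : commutator Spor.Fi24) : Spor.Fi24) := by
      simp only [Subgroup.coe_mul, Subgroup.coe_inv, inv_inv]
      calc (g : Spor.Fi24)⁻¹ * a * g * gen .l = (g : Spor.Fi24)⁻¹ * (a * (g * gen .l * (g : Spor.Fi24)⁻¹)) * g := by group
        _ = (g : Spor.Fi24)⁻¹ * (g * gen .l * (g : Spor.Fi24)⁻¹ * a) * g := by rw [hat]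
        _ = gen .l * ((g : Spor.Fi24)⁻¹ * a * g) := by group
    obtain ⟨k, hk⟩ := (F.mem_range_iff _).2 ⟨hmem, mem_commutator_iff.1 (g⁻¹ * a * g⁻¹⁻¹ : commutator Spor.Fi24).2⟩
    exact ⟨k, Subtype.ext hk⟩

/-- the dichotomy for elements of order three -/
theorem dich {g : Spor.Fi24} (hg : g ^ 3 = 1) : (∃ t ∈ L, g * t = t * g) ∨
    ∃ t ∈ L, t ≠ g * t * g⁻¹ ∧ Commute t (g * t * g⁻¹) := by
  have := FiTwentyFour.finite_Fi24
  obtain ⟨R, -, -, hR⟩ := FiTwentyFour.facts.exists_rank3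
  have hfin : Finite (Spor.Fi24 ⧸ Cfsg.Agent.Fischer.Fi24RepOrb.H) := inferInstance
  rcases three_aux R (Cfsg.Agent.H711.FiEven.nb_card R hR) (Cfsg.Agent.H711.FiEven.cn_card R hR)
    (Cfsg.Agent.H711.FiEven.cb_card R hR) (s := -81) (by norm_num) (by norm_num) (by norm_num)
    (n := 3) (by norm_num) hg with ⟨x, hx⟩ | ⟨x, hx⟩
  · exact Or.inl ⟨R.t x, hR ▸ ⟨x, rfl⟩, (R.smul_eq_iff_comm g x).1 hx⟩
  · refine Or.inr ⟨R.t x, hR ▸ ⟨x, rfl⟩, ?_, ?_⟩
    · rw [← R.map_smul]
      exact fun h => hx.1 (R.t_inj.1 h)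
    · rw [← R.map_smul]
      exact hx.2

/-- `C(x, y, z) ∩ Fi24'` -/
def YY (x y z : Spor.Fi24) : Subgroup (commutator Spor.Fi24) :=
  (centralizer ({x, y, z} : Set Spor.Fi24)).subgroupOf (commutator Spor.Fi24)

theorem mem_YY {x y z : Spor.Fi24} {m : commutator Spor.Fi24} :
    m ∈ YY x y z ↔ (m : Spor.Fi24) * x = x * m ∧ (m : Spor.Fi24) * y = y * m ∧ (m : Spor.Fi24) * z = z * m := by
  unfold YY
  rw [mem_subgroupOf, mem_centralizer_iff]
  constructor
  · intro h
    exact ⟨(h x (by simp)).symm, (h y (by simp)).symm, (h z (by simp)).symm⟩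
  · rintro ⟨h1, h2, h3⟩ w hw
    rcases hw with rfl | rfl | rfl
    · exact h1.symm
    · exact h2.symm
    · exact h3.symm

/-- `C(x, y, z) ∩ Fi24'` maps onto the centralizer of a transposition of `Fi22` -/
theorem exists_theta {x y z : Spor.Fi24} (hx : x ∈ L) (hy : y ∈ L) (hz : z ∈ L) (hxy : x ≠ y) (hxz : x ≠ z)
    (hyz : y ≠ z) (cxy : Commute x y) (cxz : Commute x z) (cyz : Commute y z) :
    ∃ (t : Spor.Fi22) (_ : t ∈ Cfsg.Agent.R08.AutT.T) (θ : YY x y z →* centralizer ({t} : Set Spor.Fi22)),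
      Function.Surjective θ ∧ (∀ m : YY x y z, θ m = 1 → ((m : commutator Spor.Fi24) : Spor.Fi24) = 1 ∨
        ((m : commutator Spor.Fi24) : Spor.Fi24) = x * y) ∧
      ∀ m : YY x y z, (θ m : Spor.Fi22) = t → ((m : commutator Spor.Fi24) : Spor.Fi24) = x * z ∨
        ((m : commutator Spor.Fi24) : Spor.Fi24) = y * z := by
  obtain ⟨π, hπ, hker, hT, -, hinj⟩ := loc hx hy hxy cxy
  have xx := FiTwentyFour.sq hx
  have yy := FiTwentyFour.sq hy
  have hmem : ∀ {m : Spor.Fi24}, m ∈ commutator Spor.Fi24 → m * x = x * m → m * y = y * m →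
      m ∈ commutator Spor.Fi24 ⊓ centralizer {x, y} := by
    intro m h1 h2 h3
    refine ⟨h1, mem_centralizer_iff.2 ?_⟩
    rintro w (rfl | rfl)
    · exact h2.symm
    · exact h3.symm
  have hmem' : ∀ {m : Spor.Fi24}, m ∈ commutator Spor.Fi24 ⊓ centralizer {x, y} → m * x = x * m ∧ m * y = y * m := by
    rintro m ⟨-, h'⟩
    have h := mem_centralizer_iff.1 h'
    exact ⟨(h x (by simp)).symm, (h y (by simp)).symm⟩
  have hw : x * z ∈ commutator Spor.Fi24 ⊓ centralizer {x, y} := by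
    refine hmem (even hx hz) ?_ ?_
    · rw [mul_assoc, cxz.symm.eq]
    · rw [mul_assoc, ← cyz.eq, ← mul_assoc, cxy.eq, mul_assoc]
  set w : ↥(commutator Spor.Fi24 ⊓ centralizer {x, y}) := ⟨x * z, hw⟩ with hwdef
  set t := π w with ht
  have htT : t ∈ Cfsg.Agent.R01.Fi22Facts.T := hT z hz hxz.symm hyz.symm cxz.symm cyz.symm w rfl
  let ι : YY x y z →* ↥(commutator Spor.Fi24 ⊓ centralizer {x, y}) :=
    { toFun := fun m => ⟨((m : commutator Spor.Fi24) : Spor.Fi24),
        hmem (m : commutator Spor.Fi24).2 (mem_YY.1 m.2).1 (mem_YY.1 m.2).2.1⟩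
      map_one' := rfl
      map_mul' := fun _ _ => rfl }
  have hcomm : ∀ m : YY x y z, ι m * w = w * ι m := by
    intro m
    apply Subtype.ext
    show ((m : commutator Spor.Fi24) : Spor.Fi24) * (x * z) = x * z * ((m : commutator Spor.Fi24) : Spor.Fi24)
    obtain ⟨h1, -, h3⟩ := mem_YY.1 m.2
    rw [← mul_assoc, h1, mul_assoc, h3, mul_assoc]
  let θ : YY x y z →* centralizer ({t} : Set Spor.Fi22) := (π.comp ι).codRestrict _ fun m => by
    rw [mem_centralizer_singleton_iff]
    show π (ι m) * t = t * π (ι m)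
    rw [ht, ← map_mul, ← map_mul, hcomm]
  refine ⟨t, htT, θ, ?_, ?_, ?_⟩
  · rintro ⟨c, hc⟩
    obtain ⟨u, rfl⟩ := hπ c
    rw [mem_centralizer_singleton_iff] at hc
    obtain ⟨hux, huy⟩ := hmem' u.2
    -- `u` commutes with `z`
    have h1 : (u : Spor.Fi24) * z * (u : Spor.Fi24)⁻¹ ∈ L := conj_mem_L hz _
    have hcx : Commute ((u : Spor.Fi24) * z * (u : Spor.Fi24)⁻¹) x := by
      show (u : Spor.Fi24) * z * (u : Spor.Fi24)⁻¹ * x = x * ((u : Spor.Fi24) * z * (u : Spor.Fi24)⁻¹)
      have h2 : (u : Spor.Fi24)⁻¹ * x = x * (u : Spor.Fi24)⁻¹ := (show Commute (u : Spor.Fi24) x from hux).inv_left.eq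
      calc (u : Spor.Fi24) * z * (u : Spor.Fi24)⁻¹ * x = u * z * ((u : Spor.Fi24)⁻¹ * x) := by group
        _ = u * (z * x) * (u : Spor.Fi24)⁻¹ := by rw [h2]; group
        _ = (u * x) * z * (u : Spor.Fi24)⁻¹ := by rw [cxz.symm.eq]; group
        _ = _ := by rw [hux]; group
    have hcy : Commute ((u : Spor.Fi24) * z * (u : Spor.Fi24)⁻¹) y := by
      show (u : Spor.Fi24) * z * (u : Spor.Fi24)⁻¹ * y = y * ((u : Spor.Fi24) * z * (u : Spor.Fi24)⁻¹)
      have h2 : (u : Spor.Fi24)⁻¹ * y = y * (u : Spor.Fi24)⁻¹ := (show Commute (u : Spor.Fi24) y from huy).inv_left.eq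
      calc (u : Spor.Fi24) * z * (u : Spor.Fi24)⁻¹ * y = u * z * ((u : Spor.Fi24)⁻¹ * y) := by group
        _ = u * (z * y) * (u : Spor.Fi24)⁻¹ := by rw [h2]; group
        _ = (u * y) * z * (u : Spor.Fi24)⁻¹ := by rw [cyz.symm.eq]; group
        _ = _ := by rw [huy]; group
    have hnx : (u : Spor.Fi24) * z * (u : Spor.Fi24)⁻¹ ≠ x := by
      intro h0
      apply hxz
      have h2 : (u : Spor.Fi24) * x * (u : Spor.Fi24)⁻¹ = x := by rw [hux]; group
      exact (mul_left_cancel (mul_right_cancel (h2.trans h0.symm)))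
    have hny : (u : Spor.Fi24) * z * (u : Spor.Fi24)⁻¹ ≠ y := by
      intro h0
      apply hyz
      have h2 : (u : Spor.Fi24) * y * (u : Spor.Fi24)⁻¹ = y := by rw [huy]; group
      exact (mul_left_cancel (mul_right_cancel (h2.trans h0.symm)))
    have hw' : x * ((u : Spor.Fi24) * z * (u : Spor.Fi24)⁻¹) = ((u * w * u⁻¹ : ↥(commutator Spor.Fi24 ⊓ centralizer {x, y})) : Spor.Fi24) := by
      show _ = (u : Spor.Fi24) * (x * z) * (u : Spor.Fi24)⁻¹
      rw [← mul_assoc (u : Spor.Fi24) x z, hux]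
      group
    have h3 := hinj z hz hxz.symm hyz.symm cxz.symm cyz.symm _ h1 hnx hny hcx hcy w (u * w * u⁻¹) rfl hw'.symm (by
      rw [map_mul, map_mul, map_inv, hc, mul_inv_cancel_right])
    have huz : (u : Spor.Fi24) * z = z * u := by
      calc (u : Spor.Fi24) * z = (u * z * (u : Spor.Fi24)⁻¹) * u := by group
        _ = z * u := by rw [← h3]
    exact ⟨⟨⟨u, u.2.1⟩, mem_YY.2 ⟨hux, huy, huz⟩⟩, Subtype.ext rfl⟩
  · intro m hm
    have h1 : π (ι m) = 1 := congrArg Subtype.val hm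
    exact (hker _).1 h1
  · intro m hm
    have h1 : π (ι m) = t := hm
    have h2 : π (ι m * w⁻¹) = 1 := by rw [map_mul, map_inv, h1, mul_inv_cancel]
    rcases (hker _).1 h2 with h3 | h3
    · left
      have h4 : ((m : commutator Spor.Fi24) : Spor.Fi24) * (x * z)⁻¹ = 1 := h3
      exact mul_inv_eq_one.1 h4
    · right
      have h4 : ((m : commutator Spor.Fi24) : Spor.Fi24) * (x * z)⁻¹ = x * y := h3
      have h5 := mul_inv_eq_iff_eq_mul.1 h4
      rw [h5, cxy.eq, mul_assoc, ← mul_assoc x x, xx, one_mul]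

/-- lifting quasisimplicity -/
theorem comm_quasi {Y C : Type*} [Group Y] [Finite Y] [Group C] [Finite C] (hq : IsQuasisimple C) (θ : Y →* C)
    (hθ : Function.Surjective θ) (hk : ∀ m, θ m ∈ center C → m ∈ center Y) :
    IsQuasisimple (commutator Y) ∧ ∀ c : C, ∃ u ∈ commutator Y, θ u = c := by
  have hs : IsSimpleGroup (C ⧸ center C) := hq.2
  have hnaS : ¬ IsMulCommutative (C ⧸ center C) := by
    intro hc
    apply Cfsg.Agent.SignalizersComponents.Components.quasisimple_not_isSolvable hq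
    have h1 : Group.IsSolvable (C ⧸ center C) := Group.isSolvable_of_comm (fun a b => hc.is_comm.comm a b)
    have h2 : Group.IsSolvable ↥(center C) :=
      Group.isSolvable_of_comm (fun a b => Subtype.ext (mem_center_iff.1 b.2 a))
    exact (Group.isSolvable_iff_subgroup_quotient (center C)).2 ⟨h2, h1⟩
  have hcS : center (C ⧸ center C) = ⊥ := by
    rcases (inferInstance : (center (C ⧸ center C)).Normal).eq_bot_or_eq_top with h1 | h1
    · exact h1
    · exact absurd ⟨⟨fun u v => (mem_center_iff.1 (by rw [h1]; exact mem_top v : v ∈ center (C ⧸ center C)) u)⟩⟩ hnaS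
  let Θ : Y →* C ⧸ center C := (QuotientGroup.mk' (center C)).comp θ
  have hΘ : Function.Surjective Θ := (QuotientGroup.mk'_surjective _).comp hθ
  have hker : Θ.ker = center Y := by
    apply le_antisymm
    · intro m hm
      exact hk m ((QuotientGroup.eq_one_iff _).1 hm)
    · intro m hm
      rw [MonoidHom.mem_ker, ← mem_bot, ← hcS, mem_center_iff]
      intro s
      obtain ⟨n, rfl⟩ := hΘ s
      rw [← map_mul, ← map_mul, mem_center_iff.1 hm n]
  let e : Y ⧸ center Y ≃* C ⧸ center C :=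
    (QuotientGroup.quotientMulEquivOfEq hker.symm).trans (QuotientGroup.quotientKerEquivOfSurjective Θ hΘ)
  have hsY : IsSimpleGroup (Y ⧸ center Y) := e.isSimpleGroup
  obtain ⟨-, hqY⟩ := Cfsg.Agent.S1258.result hsY (not_comm_congr e hnaS)
  refine ⟨hqY, fun c => ?_⟩
  have h1 : (commutator Y).map θ = commutator C := by
    rw [_root_.commutator_def, _root_.commutator_def, map_commutator, ← MonoidHom.range_eq_map,
      MonoidHom.range_eq_top.2 hθ]
  have h2 : c ∈ (commutator Y).map θ := by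
    rw [h1, Cfsg.Agent.R01.Start.commutator_eq_top hq]
    exact mem_top _
  exact h2

/-- an element of order three permuting three commuting transpositions -/
theorem false_of_triple [Finite (commutator Spor.Fi24)] {a : commutator Spor.Fi24} (ha : orderOf a = 3)
    (hR : RC (MulAut.conj a)) {x : Spor.Fi24} (hx : x ∈ L) (hne : x ≠ a * x * (a : Spor.Fi24)⁻¹)
    (hcomm : Commute x (a * x * (a : Spor.Fi24)⁻¹)) : False := by
  have := AAFi22.finite_fi22
  obtain ⟨y, hy⟩ : ∃ y : Spor.Fi24, y = a * x * (a : Spor.Fi24)⁻¹ := ⟨_, rfl⟩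
  obtain ⟨z, hz⟩ : ∃ z : Spor.Fi24, z = a * y * (a : Spor.Fi24)⁻¹ := ⟨_, rfl⟩
  have ha3 : (a : Spor.Fi24) ^ 3 = 1 := by
    rw [← Subgroup.coe_pow, ← ha, pow_orderOf_eq_one, Subgroup.coe_one]
  have hzx : (a : Spor.Fi24) * z * (a : Spor.Fi24)⁻¹ = x := by
    rw [hz, hy]
    have e : (a : Spor.Fi24) * (a * (a * x * (a : Spor.Fi24)⁻¹) * (a : Spor.Fi24)⁻¹) * (a : Spor.Fi24)⁻¹ =
        (a : Spor.Fi24) ^ 3 * x * ((a : Spor.Fi24) ^ 3)⁻¹ := by
      rw [pow_succ, pow_two]
      group
    rw [e, ha3]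
    group
  rw [← hy] at hne hcomm
  have conjinj : ∀ {u v : Spor.Fi24}, (a : Spor.Fi24) * u * (a : Spor.Fi24)⁻¹ = a * v * (a : Spor.Fi24)⁻¹ → u = v :=
    fun h => mul_left_cancel (mul_right_cancel h)
  have conjcomm : ∀ {u v : Spor.Fi24}, Commute u v →
      Commute ((a : Spor.Fi24) * u * (a : Spor.Fi24)⁻¹) (a * v * (a : Spor.Fi24)⁻¹) := by
    intro u v h
    show (a : Spor.Fi24) * u * (a : Spor.Fi24)⁻¹ * (a * v * (a : Spor.Fi24)⁻¹) = _
    calc (a : Spor.Fi24) * u * (a : Spor.Fi24)⁻¹ * (a * v * (a : Spor.Fi24)⁻¹) = a * (u * v) * (a : Spor.Fi24)⁻¹ := by group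
      _ = a * (v * u) * (a : Spor.Fi24)⁻¹ := by rw [h.eq]
      _ = _ := by group
  have hyz : y ≠ z := fun h => hne (conjinj (by rw [← hy, ← hz]; exact h))
  have hxz : x ≠ z := by
    intro h
    apply hyz
    apply conjinj
    rw [← hz, hzx, h]
  have cyz : Commute y z := by
    have := conjcomm hcomm
    rwa [← hy, ← hz] at this
  have cxz : Commute x z := by
    have := conjcomm cyz
    rw [← hz, hzx] at this
    exact this.symm
  have hyL : y ∈ L := hy ▸ conj_mem_L hx _
  have hzL : z ∈ L := hz ▸ conj_mem_L hyL _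
  obtain ⟨t, ht, θ, hθ, hk1, hk2⟩ := exists_theta hx hyL hzL hne hxz hyz hcomm cxz cyz
  obtain ⟨hq, hc2, -⟩ := AAFi22.quasi_cent ht
  have htC : t ∈ centralizer ({t} : Set Spor.Fi22) := mem_centralizer_singleton_iff.2 rfl
  -- the element `t` and the centre of `C`
  have htc : (⟨t, htC⟩ : centralizer ({t} : Set Spor.Fi22)) ∈ center (centralizer ({t} : Set Spor.Fi22)) := by
    rw [mem_center_iff]
    rintro ⟨g, hg⟩
    exact Subtype.ext (mem_centralizer_singleton_iff.1 hg)
  have ht1 : (⟨t, htC⟩ : centralizer ({t} : Set Spor.Fi22)) ≠ 1 := by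
    intro h
    have h1 : t = 1 := congrArg Subtype.val h
    obtain ⟨b, c, hb⟩ := Cfsg.Agent.StdFi22.MainFi22.bas.exists_tri ht
    obtain ⟨R, F⟩ := Cfsg.Agent.CTwoTab.Fi22.facts ht hb.my hb.xy hb.cxy
    exact F.d_ne h1
  have hcen : ∀ c ∈ center (centralizer ({t} : Set Spor.Fi22)), c = 1 ∨ c = ⟨t, htC⟩ := by
    intro c hc
    by_cases h : c = 1
    · exact Or.inl h
    · right
      obtain ⟨w, -, hw⟩ := (Nat.card_eq_two_iff' (1 : center (centralizer ({t} : Set Spor.Fi22)))).1 hc2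
      have e1 := hw ⟨c, hc⟩ (fun h0 => h (congrArg Subtype.val h0))
      have e2 := hw ⟨_, htc⟩ (fun h0 => ht1 (congrArg Subtype.val h0))
      exact congrArg Subtype.val (e1.trans e2.symm)
  obtain ⟨hqY, hall⟩ := comm_quasi hq θ hθ (by
    intro m h1
    rw [mem_center_iff]
    intro n
    apply Subtype.ext
    apply Subtype.ext
    obtain ⟨n1, n2, n3⟩ := mem_YY.1 n.2
    show ((n : commutator Spor.Fi24) : Spor.Fi24) * ((m : commutator Spor.Fi24) : Spor.Fi24) =
      ((m : commutator Spor.Fi24) : Spor.Fi24) * ((n : commutator Spor.Fi24) : Spor.Fi24)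
    have c1 : Commute ((n : commutator Spor.Fi24) : Spor.Fi24) x := n1
    have c2 : Commute ((n : commutator Spor.Fi24) : Spor.Fi24) y := n2
    have c3 : Commute ((n : commutator Spor.Fi24) : Spor.Fi24) z := n3
    rcases hcen _ h1 with h2 | h2
    · rcases hk1 m h2 with h3 | h3
      · rw [h3, mul_one, one_mul]
      · rw [h3]; exact (c1.mul_right c2).eq
    · rcases hk2 m (congrArg Subtype.val h2) with h3 | h3
      · rw [h3]; exact (c1.mul_right c3).eq
      · rw [h3]; exact (c2.mul_right c3).eq)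
  -- the element `u`
  obtain ⟨u, hu, hut⟩ := hall ⟨t, htC⟩
  -- `Y` is invariant
  have hinv : ∀ m ∈ YY x y z, a * m * a⁻¹ ∈ YY x y z := by
    intro m hm
    obtain ⟨m1, m2, m3⟩ := mem_YY.1 hm
    have d1 : Commute ((a * m * a⁻¹ : commutator Spor.Fi24) : Spor.Fi24) y := by
      rw [hy]; exact conjcomm m1
    have d2 : Commute ((a * m * a⁻¹ : commutator Spor.Fi24) : Spor.Fi24) z := by
      rw [hz]; exact conjcomm m2
    have d3 : Commute ((a * m * a⁻¹ : commutator Spor.Fi24) : Spor.Fi24) x := by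
      rw [← hzx]; exact conjcomm m3
    exact mem_YY.2 ⟨d3.eq, d1.eq, d2.eq⟩
  have hMeq : (commutator (YY x y z)).map (YY x y z).subtype = ⁅YY x y z, YY x y z⁆ :=
    map_subtype_commutator _
  have hqM : IsQuasisimple ((commutator (YY x y z)).map (YY x y z).subtype) :=
    Cfsg.Agent.SignalizersComponents.ComponentNormalize.quasisimple_congr
      ((commutator (YY x y z)).equivMapOfInjective _ (YY x y z).subtype_injective) hqY
  have hMt : (commutator (YY x y z)).map (YY x y z).subtype ≠ ⊤ := by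
    intro h
    have h1 : a ∈ YY x y z := map_subtype_le _ (h ▸ mem_top a)
    have h2 := (mem_YY.1 h1).1
    apply hne
    rw [hy, h2]
    group
  have hMinv : ∀ m ∈ (commutator (YY x y z)).map (YY x y z).subtype,
      (MulAut.conj a) m ∈ (commutator (YY x y z)).map (YY x y z).subtype := by
    have h1 : (YY x y z).map (MulAut.conj a).toMonoidHom ≤ YY x y z := by
      rintro _ ⟨m, hm, rfl⟩
      exact hinv m hm
    rw [hMeq]
    intro m hm
    have h2 : (⁅YY x y z, YY x y z⁆).map (MulAut.conj a).toMonoidHom ≤ ⁅YY x y z, YY x y z⁆ := by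
      rw [map_commutator]
      exact commutator_mono h1 h1
    exact h2 ⟨m, hm, rfl⟩
  have hfix := hR.eq_of_quasisimple hMt hMinv hqM (m := (u : commutator Spor.Fi24)) ⟨u, hu, rfl⟩
  have hfix' : (a : Spor.Fi24) * ((u : commutator Spor.Fi24) : Spor.Fi24) * (a : Spor.Fi24)⁻¹ =
      ((u : commutator Spor.Fi24) : Spor.Fi24) := congrArg Subtype.val hfix
  have conjmul : ∀ v w : Spor.Fi24, (a : Spor.Fi24) * (v * w) * (a : Spor.Fi24)⁻¹ =
      (a * v * (a : Spor.Fi24)⁻¹) * (a * w * (a : Spor.Fi24)⁻¹) := fun v w => by group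
  rcases hk2 u (congrArg Subtype.val hut) with h | h
  · rw [h, conjmul, hzx, ← hy, hcomm.symm.eq] at hfix'
    exact hyz (mul_left_cancel hfix')
  · rw [h, conjmul, hzx, ← hz, cyz.eq] at hfix'
    exact hne (mul_left_cancel hfix')

theorem noRC_fi24 : NoRC (commutator Spor.Fi24) := by
  have := finite_fi24
  have := simple_fi24
  refine noRC_of_sq na_fi24 fun p hp hp2 hsq a ha hR _ => ?_
  rw [card_fi24] at hsq
  obtain ⟨q, hq, hqp⟩ := mem_of_sq hp.out [(2, 21), (3, 16), (5, 2), (7, 3), (11, 1), (13, 1), (17, 1), (23, 1), (29, 1)]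
    (by decide +kernel) (by norm_num) hsq
  have hp357 : p = 3 ∨ p = 5 ∨ p = 7 := by
    fin_cases hq <;> simp only at hqp <;> subst hqp <;>
      first | exact absurd rfl hp2 | (left; rfl) | (right; left; rfl) | (right; right; rfl) |
        exact absurd hsq (by norm_num)
  rcases hp357 with rfl | rfl | rfl
  · have ha3 : (a : Spor.Fi24) ^ 3 = 1 := by
      rw [← Subgroup.coe_pow, ← ha, pow_orderOf_eq_one, Subgroup.coe_one]
    rcases dich ha3 with ⟨t, ht, hat⟩ | ⟨t, ht, h1, h2⟩
    · exact false_of_comm ht hat ha hR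
    · exact false_of_triple ha hR ht h1 h2
  · exact AAB.false_of_card (m := 306936) (by rw [card_fi24]) card_range simple_range (by norm_num) (by norm_num)
      (by norm_num) ha hR
  · obtain ⟨K, hK⟩ := exists_he
    exact AAB.false_of_card (m := 311435513985024) (by rw [card_fi24]) hK.2 hK.1 (by norm_num) (by norm_num)
      (by norm_num) ha hR

/-- **`Fi24'`** -/
theorem core {K : Type*} [Group K] (h : Spor.IsoFi24' K) : Core K := by
  obtain ⟨e⟩ := h
  have := finite_fi24
  have := simple_fi24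
  have : Finite K := Finite.of_equiv _ e.symm.toEquiv
  exact Core.of_equiv e (core_of_noRC na_fi24 (Cfsg.Agent.H256.OddInner.fi24' ⟨MulEquiv.refl _⟩) noRC_fi24)

end Cfsg.Agent.H561.AAFi24
end
end

-- part: H235/AA/J4
section
set_option linter.all false
open scoped Cfsg.Agent.FastGrp

/-!
# The `AA` problem for `J4` (helper235)
-/

set_option autoImplicit false

namespace Cfsg.Agent.H235.AA.J4

open Subgroup Cfsg Cfsg.Agent.H459.Rad Cfsg.Agent.H460.AA Cfsg.Agent.H235.AA.Tools Cfsg.Agent.J4Type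
open Cfsg.Agent.H839.Rad (RadFree false_of_comm false_of_sylow)

theorem np_eleven : NP 11 Spor.J4 := by
  have hfin : Finite Spor.J4 := Cfsg.Agent.H859.SylEleven.finite_J4
  have hs : IsSimpleGroup Spor.J4 := Cfsg.Agent.S1703.result.1
  obtain ⟨z, hz⟩ := Cfsg.Agent.H337.isOfJankoFourType_of_isoJ4 (G := Spor.J4) ⟨MulEquiv.refl _⟩
  have hG : ¬ IsMulCommutative Spor.J4 := not_comm_of_card (by rw [Cfsg.Agent.S1703.result.2]; norm_num)
  have hcen : center Spor.J4 = ⊥ := center_eq_bot hG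
  refine NP.of_rc fun x hx hR => ?_
  obtain ⟨t, ht, hxt⟩ := Cfsg.Agent.H478.RadJ4.exists_invol hx
  refine false_of_comm hx hR ?_ hxt (Cfsg.Agent.H478.RadJ4.radFree_invol hG hz ht)
  rw [hcen, mem_bot]
  rintro rfl
  rw [orderOf_one] at ht
  omega

theorem np_three : NP 3 Spor.J4 := by
  obtain ⟨hfin, hsim, ⟨F'⟩⟩ := KFacts.J4.Base.exists_full (K := Cfsg.Spor.J4) ⟨MulEquiv.refl _⟩
  let F := F'.C
  have hcard : Nat.card Spor.J4 = 86775571046077562880 := Cfsg.Agent.S1703.result.2
  have hs : IsSimpleGroup Cfsg.M24 := Cfsg.Agent.S0365.result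
  have hcM := Cfsg.Agent.SporadicA.M24Trans.card_M24
  have hNE := Cfsg.Agent.H859.CentC.card_NE F
  have hidx := (normalizer (F.E hex0 : Set Spor.J4)).card_mul_index
  rw [hNE, hcard] at hidx
  have hidx' : (normalizer (F.E hex0 : Set Spor.J4)).index = 173067389 := by omega
  refine NP.of_rc fun x hx hR => ?_
  refine false_of_sylow (M := normalizer (F.E hex0 : Set Spor.J4)) (by norm_num) hx hR ?_ ?_ ?_
  · intro h
    rw [h, index_top] at hidx'
    omega
  · rw [hidx']; norm_num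
  · refine RadFree.of_surj (by norm_num) F.π F.π_surj ?_ (RadFree.of_simple (by norm_num) ?_)
    · intro y hy ho
      have h1 : (y : Spor.J4) ∈ F.E hex0 := by
        have := (F.π_ker y).1 hy
        exact this
      have h2 := (F.E_elem hex0 FusionConj.isHex_hex0).1 _ h1
      have h3 : orderOf (y : Spor.J4) ∣ 2 := orderOf_dvd_of_pow_eq_one (by rw [pow_two]; exact h2)
      rw [Subgroup.orderOf_coe, ho] at h3
      omega
    · intro hsol
      exact not_comm_of_card (K := Cfsg.M24) (by rw [hcM]; norm_num) ⟨⟨IsSimpleGroup.comm_iff_isSolvable.2 hsol⟩⟩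

theorem core {K : Type*} [Group K] [Finite K] (h : Cfsg.Spor.IsoJ4 K) : Core K := by
  obtain ⟨e⟩ := h
  refine Core.of_equiv e ?_
  have hfin : Finite Spor.J4 := Cfsg.Agent.H859.SylEleven.finite_J4
  have hs : IsSimpleGroup Spor.J4 := Cfsg.Agent.S1703.result.1
  refine core_of_card (s := 2 ^ 21 * 3 ^ 3 * 11 ^ 3) (m := 5 * 7 * 23 * 29 * 31 * 37 * 43)
    (by rw [Cfsg.Agent.S1703.result.2]; norm_num) ?_ (by norm_num) ?_ ?_
  · refine squarefree_mul_of (squarefree_mul_of (squarefree_mul_of (squarefree_mul_of (squarefree_mul_of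
      (squarefree_mul_of (Irreducible.squarefree (by norm_num : Nat.Prime 5)) ?_ ?_) ?_ ?_) ?_ ?_) ?_ ?_) ?_ ?_) ?_ ?_ <;> norm_num
  · intro p hp hp2 x _
    obtain ⟨-, -, ⟨F⟩⟩ := KFacts.J4.Base.exists_full (K := Cfsg.Spor.J4) ⟨MulEquiv.refl _⟩
    exact KFacts.J4.SheetJ4.inner F x
  · intro p hp hp2 hd
    rcases (Nat.Prime.dvd_mul hp).1 hd with h1 | h1
    · rcases (Nat.Prime.dvd_mul hp).1 h1 with h2 | h2
      · exact absurd ((Nat.prime_dvd_prime_iff_eq hp Nat.prime_two).1 (hp.dvd_of_dvd_pow h2)) hp2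
      · rw [(Nat.prime_dvd_prime_iff_eq hp Nat.prime_three).1 (hp.dvd_of_dvd_pow h2)]
        exact np_three
    · rw [(Nat.prime_dvd_prime_iff_eq hp (by norm_num : Nat.Prime 11)).1 (hp.dvd_of_dvd_pow h1)]
      exact np_eleven

end Cfsg.Agent.H235.AA.J4
end

-- part: H460/AllCore
section
prune_inst 0x1000050024000000000000000000000020000000004000000000000000010400000000003a000000000000000000000000000000400000000a000000000000000000000000000000000000000000000000000000000000000000000000000000000000000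
set_option linter.all false
open scoped Cfsg.Agent.FastGrp

-- part: H654/AAInner
section
/-!
# The `AA` core for `PSL₂(F)`: inner automorphisms (helper654, task 571 for S3833, S3834, S3840)

`inner_core` : if `k ∈ PSL₂(F)`, `|F| ≥ 4`, has odd prime order `p` then some product `k * g k g⁻¹` is not a `p`-element.
-/

set_option autoImplicit false

namespace Cfsg.Agent.H654.AAInner

open Matrix
open Cfsg.Agent.ClassicalGeometry.AutPSL.Root
open Cfsg.Agent.H460.AA

variable {F : Type*} [Field F]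

theorem exists_sl (M : Matrix (Fin 2) (Fin 2) F) (h : M.det = 1) :
    ∃ X : Matrix.SpecialLinearGroup (Fin 2) F, (X : Matrix (Fin 2) (Fin 2) F) = M := ⟨⟨M, h⟩, rfl⟩

theorem pr_eq_one_of_scalar {A : Matrix.SpecialLinearGroup (Fin 2) F} {a : F}
    (h : (A : Matrix (Fin 2) (Fin 2) F) = !![a, 0; 0, a]) : pr A = 1 := by
  rw [← map_one pr]
  refine (pr_eq_of_smul (c := a) ?_).symm
  rw [h, Matrix.SpecialLinearGroup.coe_one]
  ext i j
  (revert i j; simp only [_root_.Fin.forall_fin_succ, _root_.Matrix.of_apply, _root_.Matrix.cons_val', _root_.Matrix.cons_val_fin_one, _root_.Matrix.smul_apply, _root_.smul_eq_mul, Fin.isValue, _root_.Matrix.cons_val_zero, _root_.Matrix.cons_val_succ, _root_.IsEmpty.forall_iff, _root_.and_true, _root_.Matrix.one_apply_eq, _root_.mul_one, Nat.reduceAdd, _root_.Fin.succ_zero_eq_one, _root_.ne_eq, _root_.zero_ne_one, _root_.not_false_eq_true, _root_.Matrix.one_apply_ne, _root_.MulZeroClass.mul_zero, _root_.and_self, _root_.Fin.succ_ne_zero,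 _root_.true_and])

/-- The trace of `A * (X A X⁻¹)` takes all values `t² - 2 - ρ²`. -/
theorem exists_trace (A : Matrix.SpecialLinearGroup (Fin 2) F)
    (hA : pr A ≠ 1) (ρ : F) : ∃ X : Matrix.SpecialLinearGroup (Fin 2) F,
    ((A * (X * A * X⁻¹) : Matrix.SpecialLinearGroup (Fin 2) F) : Matrix (Fin 2) (Fin 2) F).trace =
      (A : Matrix (Fin 2) (Fin 2) F).trace ^ 2 - 2 - ρ ^ 2 := by
  obtain ⟨a, b, c, d, hM⟩ : ∃ a b c d : F, (A : Matrix (Fin 2) (Fin 2) F) = !![a, b; c, d] :=
    ⟨_, _, _, _, Matrix.eta_fin_two _⟩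
  have hdet : a * d - b * c = 1 := by
    have h := A.2
    rw [hM, det_fin_two_of] at h
    exact h
  have key : ∀ v w r : F, r * (v * (c * v + d * w) - w * (a * v + b * w)) = ρ →
      ∃ X : Matrix.SpecialLinearGroup (Fin 2) F,
      ((A * (X * A * X⁻¹) : Matrix.SpecialLinearGroup (Fin 2) F) : Matrix (Fin 2) (Fin 2) F).trace =
      (A : Matrix (Fin 2) (Fin 2) F).trace ^ 2 - 2 - ρ ^ 2 := by
    intro v w r hr
    obtain ⟨X, hX⟩ := exists_sl !![1 - r * v * w, r * v ^ 2; - r * w ^ 2, 1 + r * v * w]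
      (by rw [det_fin_two_of]; ring)
    refine ⟨X, ?_⟩
    rw [Matrix.SpecialLinearGroup.coe_mul, Matrix.SpecialLinearGroup.coe_mul, Matrix.SpecialLinearGroup.coe_mul,
      Matrix.SpecialLinearGroup.coe_inv, hM, hX]
    simp only [adjugate_fin_two_of, mul_fin_two, trace_fin_two_of]
    rw [← hr]
    linear_combination (-2 * (1 : F)) * hdet
  by_cases hc : c = 0
  · by_cases hb : b = 0
    · have hda : d - a ≠ 0 := by
        intro h
        apply hA
        apply pr_eq_one_of_scalar (a := a)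
        rw [hM, hb, hc, show d = a by linear_combination h]
      refine key 1 1 (ρ / (d - a)) ?_
      rw [hb, hc]
      field_simp
      ring
    · refine key 0 1 (- ρ / b) ?_
      field_simp
      ring
  · refine key 1 0 (ρ / c) ?_
    field_simp
    ring

/-- a `p`-element of `PSL₂`: some `p`-power of the matrix is a scalar `±1` -/
theorem exists_pow_eq {p : ℕ} [Fact p.Prime] {N : Matrix.SpecialLinearGroup (Fin 2) F} (h : PE p (pr N)) :
    ∃ k : ℕ, ∃ c : F, c ^ 2 = 1 ∧ (N : Matrix (Fin 2) (Fin 2) F) ^ (p ^ k) = scalar (Fin 2) c := by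
  obtain ⟨k, hk⟩ := PE.pow_eq_one_iff.1 h
  rw [← map_pow, pr_eq_one_iff, Matrix.SpecialLinearGroup.mem_center_iff] at hk
  obtain ⟨c, hc, hc'⟩ := hk
  exact ⟨k, c, by simpa only [_root_.sq_eq_one_iff, _root_.Fintype.card_fin] using hc, by rw [hc', Matrix.SpecialLinearGroup.coe_pow]⟩

/-- Cayley-Hamilton for `SL₂` -/
theorem sq_eq (N : Matrix.SpecialLinearGroup (Fin 2) F) :
    (N : Matrix (Fin 2) (Fin 2) F) * N =
      (N : Matrix (Fin 2) (Fin 2) F).trace • (N : Matrix (Fin 2) (Fin 2) F) - 1 := by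
  obtain ⟨a, b, c, d, hM⟩ : ∃ a b c d : F, (N : Matrix (Fin 2) (Fin 2) F) = !![a, b; c, d] :=
    ⟨_, _, _, _, Matrix.eta_fin_two _⟩
  have hdet : a * d - b * c = 1 := by
    have h := N.2
    rw [hM, det_fin_two_of] at h
    exact h
  rw [hM, mul_fin_two, trace_fin_two_of]
  ext i j
  (revert i j; simp only [_root_.Fin.forall_fin_succ, _root_.Matrix.of_apply, _root_.Matrix.cons_val', _root_.Matrix.cons_val_fin_one, _root_.Matrix.smul_of, _root_.Matrix.smul_cons, _root_.smul_eq_mul, _root_.Matrix.smul_empty, _root_.Matrix.sub_apply, Fin.isValue, _root_.Matrix.cons_val_zero, _root_.Matrix.cons_val_succ, _root_.IsEmpty.forall_iff, _root_.and_true, _root_.Matrix.one_apply_eq, Nat.reduceAdd, _root_.Fin.succ_zero_eq_one, _root_.ne_eq, _root_.zero_ne_one, _root_.not_false_eq_true, _root_.Matrix.one_apply_ne, _root_.sub_zero, _root_.Fin.succ_ne_zero]) <;> (repeat' with_reducible apply And.intro) <;> first | ring1 | linear_combination (-1 : F) * hdet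

theorem det_sub (N : Matrix.SpecialLinearGroup (Fin 2) F) (x : F) :
    ((N : Matrix (Fin 2) (Fin 2) F) - scalar (Fin 2) x).det =
      x ^ 2 - (N : Matrix (Fin 2) (Fin 2) F).trace * x + 1 := by
  obtain ⟨a, b, c, d, hM⟩ : ∃ a b c d : F, (N : Matrix (Fin 2) (Fin 2) F) = !![a, b; c, d] :=
    ⟨_, _, _, _, Matrix.eta_fin_two _⟩
  have hdet : a * d - b * c = 1 := by
    have h := N.2
    rw [hM, det_fin_two_of] at h
    exact h
  rw [hM, trace_fin_two_of, det_fin_two]
  simp [scalar_apply]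
  linear_combination (1 : F) * hdet

/-- characteristic `p` -/
theorem trace_of_pe_char {p : ℕ} [Fact p.Prime] [CharP F p] (hp2 : p ≠ 2)
    {N : Matrix.SpecialLinearGroup (Fin 2) F} (h : PE p (pr N)) :
    (N : Matrix (Fin 2) (Fin 2) F).trace = 2 ∨ (N : Matrix (Fin 2) (Fin 2) F).trace = -2 := by
  obtain ⟨k, c, hc, hN⟩ := exists_pow_eq h
  have hp : p.Prime := Fact.out
  have hodd : Odd (p ^ k) := (hp.odd_of_ne_two hp2).pow
  have hck : c ^ (p ^ k) = c := by
    obtain ⟨m, hm⟩ := hodd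
    rw [hm, pow_succ, pow_mul, hc, one_pow, one_mul]
  have h1 : ((N : Matrix (Fin 2) (Fin 2) F) - scalar (Fin 2) c) ^ (p ^ k) = 0 := by
    rw [sub_pow_char_pow_of_commute (p := p) _ (Matrix.scalar_commute c (fun _ => mul_comm _ _) _).symm, hN, ← map_pow,
      hck, sub_self]
  have h2 : ((N : Matrix (Fin 2) (Fin 2) F) - scalar (Fin 2) c).det = 0 := by
    have h3 := congrArg Matrix.det h1
    rw [det_pow, det_zero] at h3
    exact pow_eq_zero_iff (pow_ne_zero _ hp.ne_zero) |>.1 h3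
  rw [det_sub] at h2
  have hc' : (c - 1) * (c + 1) = 0 := by linear_combination hc
  rcases mul_eq_zero.1 hc' with h3 | h3
  · left
    have h4 : c = 1 := by linear_combination h3
    rw [h4] at h2
    linear_combination -h2
  · right
    have h4 : c = -1 := by linear_combination h3
    rw [h4] at h2
    linear_combination h2

/-- odd characteristic different from `p`: trace `-2` -/
theorem eq_of_trace_neg_two {p : ℕ} [Fact p.Prime] (hpF : (p : F) ≠ 0)
    {N : Matrix.SpecialLinearGroup (Fin 2) F} (h : PE p (pr N))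
    (ht : (N : Matrix (Fin 2) (Fin 2) F).trace = -2) : (N : Matrix (Fin 2) (Fin 2) F) = -1 := by
  obtain ⟨k, c, hc, hN⟩ := exists_pow_eq h
  obtain ⟨M, hM⟩ : ∃ M : Matrix (Fin 2) (Fin 2) F, M = N := ⟨_, rfl⟩
  have h1 : (M + 1) * (M + 1) = 0 := by
    have h0 := sq_eq N
    rw [← hM] at h0 ht
    rw [mul_add, add_mul, h0, ht, mul_one, one_mul]
    ext i j
    simp only [_root_.neg_smul, _root_.Matrix.add_apply, _root_.Matrix.sub_apply, _root_.Matrix.neg_apply, _root_.Matrix.smul_apply, _root_.smul_eq_mul, _root_.Matrix.zero_apply]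
    ring
  rw [← hM] at hN ⊢
  have hpow : ∀ n : ℕ, M ^ n = ((-1 : F) ^ n) • (1 - (n : F) • (M + 1)) := by
    intro n
    induction n with
    | zero => simp only [_root_.pow_zero, _root_.Nat.cast_zero, _root_.smul_add, _root_.zero_smul, _root_.add_zero, _root_.sub_zero, _root_.one_smul]
    | succ n ih =>
      rw [pow_succ, ih]
      have h3 : M = (M + 1) - 1 := by simp
      obtain ⟨E, hE⟩ : ∃ E, E = M + 1 := ⟨_, rfl⟩
      rw [← hE] at h1 h3 ⊢
      rw [h3]
      have h7 : (1 - (n : F) • E) * (E - 1) = - (1 - ((n + 1 : ℕ) : F) • E) := by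
        rw [sub_mul, one_mul, smul_mul_assoc, mul_sub, mul_one, h1, zero_sub, smul_neg, Nat.cast_succ, add_smul,
          one_smul]
        abel
      rw [smul_mul_assoc, h7, pow_succ, mul_smul, neg_smul, one_smul]
  have h4 := hpow (p ^ k)
  have hpk : ((p ^ k : ℕ) : F) ≠ 0 := by
    rw [Nat.cast_pow]; exact pow_ne_zero _ hpF
  rw [hN] at h4
  set n := p ^ k with hn
  have hs : (-1 : F) ^ n * (-1 : F) ^ n = 1 := by
    rw [← mul_pow]; simp
  have h5 : (n : F) • (M + 1) = (1 - (-1 : F) ^ n * c) • (1 : Matrix (Fin 2) (Fin 2) F) := by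
    have h6 : (-1 : F) ^ n • scalar (Fin 2) c = 1 - (n : F) • (M + 1) := by
      rw [h4, smul_smul, hs, one_smul]
    rw [sub_smul, one_smul, mul_smul, smul_one_eq_diagonal, ← scalar_apply, h6]
    abel
  obtain ⟨x, hx⟩ : ∃ x : F, M + 1 = x • (1 : Matrix (Fin 2) (Fin 2) F) := by
    refine ⟨(n : F)⁻¹ * (1 - (-1 : F) ^ n * c), ?_⟩
    rw [mul_smul, ← h5, smul_smul, inv_mul_cancel₀ hpk, one_smul]
  rw [hx, smul_mul_assoc, one_mul, smul_smul] at h1
  have h6 := congrFun (congrFun h1 0) 0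
  simp at h6
  rw [h6, zero_smul] at hx
  exact eq_neg_of_add_eq_zero_left hx

/-- eigenvectors -/
theorem pow_of_root {p : ℕ} [Fact p.Prime] {N : Matrix.SpecialLinearGroup (Fin 2) F} (h : PE p (pr N)) {x : F}
    (hx : x ^ 2 - (N : Matrix (Fin 2) (Fin 2) F).trace * x + 1 = 0) : ∃ k : ℕ, (x ^ 2) ^ (p ^ k) = 1 := by
  obtain ⟨k, c, hc, hN⟩ := exists_pow_eq h
  rw [← det_sub] at hx
  obtain ⟨v, hv, hv'⟩ := Matrix.exists_mulVec_eq_zero_iff.2 hx
  have h1 : (N : Matrix (Fin 2) (Fin 2) F) *ᵥ v = x • v := by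
    rw [sub_mulVec, sub_eq_zero] at hv'
    rw [hv']
    ext i
    simp [scalar_apply, mulVec_diagonal]
  have h2 : ∀ n : ℕ, ((N : Matrix (Fin 2) (Fin 2) F) ^ n) *ᵥ v = x ^ n • v := by
    intro n
    induction n with
    | zero => simp
    | succ n ih => rw [pow_succ, ← mulVec_mulVec, h1, mulVec_smul, ih, smul_smul, pow_succ, mul_comm]
  have h3 := h2 (p ^ k)
  rw [hN] at h3
  obtain ⟨i, hi⟩ : ∃ i, v i ≠ 0 := by
    by_contra hcon
    push Not at hcon
    exact hv (funext hcon)
  have h4 := congrFun h3 i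
  simp [scalar_apply, mulVec_diagonal] at h4
  have h5 : c = x ^ p ^ k := by
    rcases h4 with h4 | h4
    · exact h4
    · exact absurd h4 hi
  refine ⟨k, ?_⟩
  rw [← pow_mul, mul_comm 2, pow_mul, ← h5, hc]

section Fin

variable [Fintype F]

/-- a matrix with `N ^ (q - 1) = 1` has an eigenvalue in `F` -/
theorem exists_root_of_pow (N : Matrix (Fin 2) (Fin 2) F) (h : N ^ Fintype.card F = N) :
    ∃ a : F, (N - scalar (Fin 2) a).det = 0 := by
  classical
  have h1 : (∏ a : F, (Polynomial.X - Polynomial.C a)) =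
      (Polynomial.X ^ Fintype.card F - Polynomial.X : Polynomial F) := by
    have hmon : (Polynomial.X ^ Fintype.card F - Polynomial.X : Polynomial F).Monic :=
      Polynomial.monic_X_pow_sub (by
        rw [Polynomial.degree_X]
        exact_mod_cast Fintype.one_lt_card)
    have h2 := Polynomial.prod_multiset_X_sub_C_of_monic_of_roots_card_eq hmon (by
      rw [FiniteField.roots_X_pow_card_sub_X,
        FiniteField.X_pow_card_sub_X_natDegree_eq F Fintype.one_lt_card]
      rfl)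
    rw [FiniteField.roots_X_pow_card_sub_X] at h2
    exact h2
  let D : Polynomial F →* F := (Matrix.detMonoidHom (n := Fin 2) (R := F)).comp
    ((Polynomial.aeval N).toRingHom.toMonoidHom)
  have h3 : D (Polynomial.X ^ Fintype.card F - Polynomial.X) = 0 := by
    change (Polynomial.aeval N (Polynomial.X ^ Fintype.card F - Polynomial.X)).det = 0
    rw [map_sub, map_pow, Polynomial.aeval_X, h, sub_self, det_zero]
  rw [← h1, map_prod, Finset.prod_eq_zero_iff] at h3
  obtain ⟨a, -, ha⟩ := h3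
  refine ⟨a, ?_⟩
  have h4 : (Polynomial.aeval N (Polynomial.X - Polynomial.C a)).det = 0 := ha
  rw [map_sub, Polynomial.aeval_X, Polynomial.aeval_C] at h4
  exact h4

theorem exists_not_sum : ∃ s : F, ∀ a : F, a ≠ 0 → s ≠ a + a⁻¹ := by
  by_contra hcon
  push Not at hcon
  have h1 : Function.Surjective (fun a : Fˣ => (a : F) + ((a⁻¹ : Fˣ) : F)) := by
    intro s
    obtain ⟨a, ha, h⟩ := hcon s
    exact ⟨Units.mk0 a ha, by simp [h]⟩
  have h2 := Nat.card_le_card_of_surjective _ h1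
  classical
  rw [Nat.card_eq_fintype_card, Nat.card_eq_fintype_card, Fintype.card_units] at h2
  have := Fintype.card_pos (α := F)
  omega

/-- **Inner automorphisms.** -/
theorem inner_core (h4 : 4 ≤ Fintype.card F) {p : ℕ} [hp : Fact p.Prime] (hp2 : p ≠ 2)
    {k : Matrix.ProjectiveSpecialLinearGroup (Fin 2) F} (hk : orderOf k = p)
    (hP : ∀ g : Matrix.ProjectiveSpecialLinearGroup (Fin 2) F, PE p (k * (g * k * g⁻¹))) : False := by
  obtain ⟨A, rfl⟩ := pr_surjective k
  have hA : pr A ≠ 1 := by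
    intro h
    rw [h, orderOf_one] at hk
    exact hp.out.one_lt.ne hk
  set t := (A : Matrix (Fin 2) (Fin 2) F).trace with ht
  have key : ∀ ρ : F, ∃ X : Matrix.SpecialLinearGroup (Fin 2) F, PE p (pr (A * (X * A * X⁻¹))) ∧
      ((A * (X * A * X⁻¹) : Matrix.SpecialLinearGroup (Fin 2) F) : Matrix (Fin 2) (Fin 2) F).trace = t ^ 2 - 2 - ρ ^ 2 := by
    intro ρ
    obtain ⟨X, hX⟩ := exists_trace A hA ρ
    refine ⟨X, ?_, hX⟩
    have := hP (pr X)
    rwa [← map_inv, ← map_mul, ← map_mul, ← map_mul] at this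
  obtain ⟨ℓ, hℓ⟩ := CharP.exists F
  have hℓp : ℓ.Prime := CharP.char_is_prime F ℓ
  have : Fact ℓ.Prime := ⟨hℓp⟩
  obtain ⟨n, hn⟩ := FiniteField.card F ℓ
  obtain ⟨-, hn⟩ := hn
  by_cases hpl : ℓ = p
  · -- defining characteristic
    subst hpl
    classical
    -- some `ρ` with `ρ² ≠ t² - 4`, `ρ² ≠ t²`
    obtain ⟨ρ, h1, h2⟩ : ∃ ρ : F, ρ ^ 2 ≠ t ^ 2 - 4 ∧ ρ ^ 2 ≠ t ^ 2 := by
      by_contra hcon
      push Not at hcon
      have hodd : Odd (Fintype.card F) := by
        rw [hn]; exact (hℓp.odd_of_ne_two hp2).pow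
      have h5 : 5 ≤ Fintype.card F := by
        obtain ⟨m, hm⟩ := hodd
        omega
      let P : Polynomial F := (Polynomial.X ^ 2 - Polynomial.C (t ^ 2 - 4)) * (Polynomial.X ^ 2 - Polynomial.C (t ^ 2))
      have hm1 : (Polynomial.X ^ 2 - Polynomial.C (t ^ 2 - 4) : Polynomial F).Monic :=
        Polynomial.monic_X_pow_sub_C _ two_ne_zero
      have hm2 : (Polynomial.X ^ 2 - Polynomial.C (t ^ 2) : Polynomial F).Monic :=
        Polynomial.monic_X_pow_sub_C _ two_ne_zero
      have hP0 : P ≠ 0 := (hm1.mul hm2).ne_zero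
      have hdeg : P.natDegree = 4 := by
        rw [hm1.natDegree_mul hm2, Polynomial.natDegree_X_pow_sub_C, Polynomial.natDegree_X_pow_sub_C]
      have h6 := Polynomial.card_le_degree_of_subset_roots (p := P) (Z := (Finset.univ : Finset F)) (by
        intro x hx
        rw [Polynomial.mem_roots hP0, Polynomial.IsRoot.def]
        simp only [P, Polynomial.eval_mul, Polynomial.eval_sub, Polynomial.eval_pow, Polynomial.eval_X,
          Polynomial.eval_C]
        by_cases hx1 : x ^ 2 = t ^ 2 - 4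
        · rw [hx1, sub_self, zero_mul]
        · rw [hcon x hx1, sub_self, mul_zero])
      rw [hdeg, Finset.card_univ] at h6
      omega
    obtain ⟨X, hX, hX'⟩ := key ρ
    rcases trace_of_pe_char hp2 hX with h | h <;> rw [hX'] at h
    · exact h1 (by linear_combination -h)
    · exact h2 (by linear_combination -h)
  · have hpF : (p : F) ≠ 0 := by
      intro h
      exact hpl ((Nat.prime_dvd_prime_iff_eq hℓp hp.out).1 ((CharP.cast_eq_zero_iff F ℓ p).1 h))
    by_cases h2 : (2 : F) = 0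
    · -- characteristic two
      have hℓ2 : ℓ = 2 := by
        have h3 : ((2 : ℕ) : F) = 0 := by exact_mod_cast h2
        exact (Nat.prime_dvd_prime_iff_eq hℓp Nat.prime_two).1 ((CharP.cast_eq_zero_iff F ℓ 2).1 h3)
      subst hℓ2
      have hch : ringChar F = 2 := ringChar.eq F 2
      have key2 : ∀ s : F, ∃ N : Matrix.SpecialLinearGroup (Fin 2) F, PE p (pr N) ∧
          (N : Matrix (Fin 2) (Fin 2) F).trace = s := by
        intro s
        obtain ⟨ρ, hρ⟩ := FiniteField.isSquare_of_char_two hch (t ^ 2 - 2 - s)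
        obtain ⟨X, hX, hX'⟩ := key ρ
        exact ⟨_, hX, by rw [hX']; linear_combination hρ⟩
      have hsq1 : ∀ c : F, c ^ 2 = 1 → c = 1 := by
        intro c hc
        have h3 : (c - 1) ^ 2 = 0 := by linear_combination hc + (1 - c) * h2
        have h4 := pow_eq_zero_iff two_ne_zero |>.1 h3
        linear_combination h4
      by_cases hpq : p ∣ Fintype.card F - 1
      · obtain ⟨s, hs⟩ := exists_not_sum (F := F)
        obtain ⟨N, hN, hNs⟩ := key2 s
        obtain ⟨k, c, hc, hNk⟩ := exists_pow_eq hN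
        have hN1 : N ^ (p ^ k) = 1 := by
          apply Subtype.ext
          rw [Matrix.SpecialLinearGroup.coe_pow, hNk, hsq1 c hc, map_one, Matrix.SpecialLinearGroup.coe_one]
        have hN2 := H169.PSLTwoAut.pow_eq_one_of_trace (p := 2) N (s := (n : ℕ)) (by
          rw [← hn]; exact FiniteField.pow_card _)
        have hN3 : N ^ Nat.gcd (p ^ k) (((2 ^ (n : ℕ) - 1) * (2 ^ (n : ℕ) + 1)) * 2) = 1 :=
          pow_gcd_eq_one.2 ⟨hN1, hN2⟩
        have hcop : Nat.gcd (p ^ k) (((2 ^ (n : ℕ) - 1) * (2 ^ (n : ℕ) + 1)) * 2) ∣ Fintype.card F - 1 := by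
          have hq : 1 ≤ 2 ^ (n : ℕ) := Nat.one_le_two_pow
          have e1 : Nat.Coprime (p ^ k) 2 := by
            apply Nat.Coprime.pow_left
            exact (Nat.coprime_primes hp.out Nat.prime_two).2 hp2
          have e2 : Nat.Coprime (p ^ k) (2 ^ (n : ℕ) + 1) := by
            apply Nat.Coprime.pow_left
            rw [Nat.Prime.coprime_iff_not_dvd hp.out]
            intro h5
            rw [hn] at hpq
            have h6 : p ∣ 2 := by
              have := Nat.dvd_sub h5 hpq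
              have e : 2 ^ (n : ℕ) + 1 - (2 ^ (n : ℕ) - 1) = 2 := by omega
              rwa [e] at this
            exact hp2 ((Nat.prime_dvd_prime_iff_eq hp.out Nat.prime_two).1 h6)
          rw [Nat.Coprime.gcd_mul_right_cancel_right _ e1.symm, Nat.Coprime.gcd_mul_right_cancel_right _ e2.symm, hn]
          exact Nat.gcd_dvd_right _ _
        have hN4 : N ^ (Fintype.card F - 1) = 1 := by
          obtain ⟨m, hm⟩ := hcop
          rw [hm, pow_mul, hN3, one_pow]
        have hN5 : (N : Matrix (Fin 2) (Fin 2) F) ^ Fintype.card F = N := by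
          rw [← Matrix.SpecialLinearGroup.coe_pow]
          congr 1
          have h1 : 1 ≤ Fintype.card F := Fintype.card_pos
          calc N ^ Fintype.card F = N ^ (Fintype.card F - 1 + 1) := by rw [Nat.sub_add_cancel h1]
            _ = N := by rw [pow_succ, hN4, one_mul]
        obtain ⟨a, ha⟩ := exists_root_of_pow _ hN5
        rw [det_sub, hNs] at ha
        have ha0 : a ≠ 0 := by
          rintro rfl
          norm_num at ha
        apply hs a ha0
        field_simp
        linear_combination -ha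
      · obtain ⟨x, hx0, hx1⟩ : ∃ x : F, x ≠ 0 ∧ x ≠ 1 := by
          classical
          by_contra hcon
          push Not at hcon
          have h5 : (Finset.univ : Finset F) ⊆ {0, 1} := by
            intro x _
            by_cases h0 : x = 0
            · simp only [h0, _root_.Finset.mem_insert, _root_.Finset.mem_singleton, _root_.zero_ne_one, _root_.or_false]
            · simp only [hcon x h0, _root_.Finset.mem_insert, _root_.one_ne_zero, _root_.Finset.mem_singleton, _root_.or_true]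
          have h6 := Finset.card_le_card h5
          have h7 := Finset.card_le_two (a := (0 : F)) (b := 1)
          rw [Finset.card_univ] at h6
          omega
        obtain ⟨N, hN, hNs⟩ := key2 (x + x⁻¹)
        obtain ⟨k, hk⟩ := pow_of_root hN (x := x) (by rw [hNs]; field_simp; ring)
        have h5 : (x ^ 2) ^ (Fintype.card F - 1) = 1 := FiniteField.pow_card_sub_one_eq_one _ (pow_ne_zero _ hx0)
        have h6 : (x ^ 2) ^ Nat.gcd (p ^ k) (Fintype.card F - 1) = 1 :=
          orderOf_dvd_iff_pow_eq_one.1 (Nat.dvd_gcd (orderOf_dvd_of_pow_eq_one hk) (orderOf_dvd_of_pow_eq_one h5))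
        have h7 : Nat.gcd (p ^ k) (Fintype.card F - 1) = 1 := by
          apply Nat.Coprime.pow_left
          exact (Nat.Prime.coprime_iff_not_dvd hp.out).2 hpq
        rw [h7, pow_one] at h6
        exact hx1 (hsq1 x h6)
    · -- odd characteristic, trace `-2`
      obtain ⟨X, hX, hX'⟩ := key t
      have hN := eq_of_trace_neg_two hpF hX (by rw [hX']; ring)
      have ht0 : t ≠ 0 := by
        intro h0
        have h3 := sq_eq A
        rw [← ht, h0, zero_smul, zero_sub, ← Matrix.SpecialLinearGroup.coe_mul] at h3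
        have h4 : pr (A * A) = 1 := by
          rw [← map_one pr]
          refine (pr_eq_of_smul (c := -1) ?_).symm
          rw [h3, Matrix.SpecialLinearGroup.coe_one, neg_smul, one_smul]
        rw [map_mul, ← pow_two] at h4
        have h5 := orderOf_dvd_of_pow_eq_one h4
        rw [hk] at h5
        exact hp2 ((Nat.prime_dvd_prime_iff_eq hp.out Nat.prime_two).1 h5)
      -- `X A X⁻¹ = - A⁻¹`
      have h3 : ((X * A * X⁻¹ : Matrix.SpecialLinearGroup (Fin 2) F) : Matrix (Fin 2) (Fin 2) F) =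
          - ((A⁻¹ : Matrix.SpecialLinearGroup (Fin 2) F) : Matrix (Fin 2) (Fin 2) F) := by
        have h4 : (X * A * X⁻¹ : Matrix.SpecialLinearGroup (Fin 2) F) = A⁻¹ * (A * (X * A * X⁻¹)) := by group
        rw [h4, Matrix.SpecialLinearGroup.coe_mul, hN, mul_neg, mul_one]
      have h5 := congrArg Matrix.trace h3
      rw [trace_neg, Matrix.SpecialLinearGroup.coe_mul, Matrix.trace_mul_comm, ← Matrix.SpecialLinearGroup.coe_mul,
        inv_mul_cancel_left, Matrix.SpecialLinearGroup.coe_inv, Matrix.adjugate_fin_two, trace_fin_two_of] at h5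
      have h6 : t = (A : Matrix (Fin 2) (Fin 2) F) 0 0 + (A : Matrix (Fin 2) (Fin 2) F) 1 1 := by
        rw [ht, trace_fin_two]
      have h7 : (2 : F) * t = 0 := by
        rw [← ht] at h5
        linear_combination h5 + h6
      exact (mul_ne_zero h2 ht0) h7

end Fin

end Cfsg.Agent.H654.AAInner
end

-- part: H654/AAPsl2
section
/-!
# The `AA` core for `PSL₂(F)` (helper654, task 571 for S3833, S3834, S3840)
-/

set_option autoImplicit false

namespace Cfsg.Agent.H654.AAPsl2

open Matrix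
open Cfsg.Agent.ClassicalGeometry.AutPSL.Root
open Cfsg.Agent.ClassicalGeometry.AutPSL.Auto
open Cfsg.Agent.ClassicalGeometry.AutPSL.Main
open Cfsg.Agent.H460.AA

/-- **The `AA` core for `PSL₂(F)`, `|F| ≥ 4`** (the condition `RC` is not needed). -/
theorem not_PA {F : Type*} [Field F] [Finite F] (h : 4 ≤ Nat.card F) {p : ℕ} [hp : Fact p.Prime] (hp2 : p ≠ 2)
    {x : MulAut (Matrix.ProjectiveSpecialLinearGroup (Fin 2) F)} (hx : orderOf x = p) (hP : PA p x) : False := by
  have := Fintype.ofFinite F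
  rw [Nat.card_eq_fintype_card] at h
  obtain ⟨ℓ, hℓ⟩ := CharP.exists F
  have hℓp : ℓ.Prime := CharP.char_is_prime F ℓ
  have : Fact ℓ.Prime := ⟨hℓp⟩
  obtain ⟨M, σ, rfl⟩ := surj_two ℓ x
  have hpow : (lift (cj M * fld σ)) ^ p = 1 := by
    have h1 := pow_orderOf_eq_one (lift (cj M * fld σ))
    rwa [hx] at h1
  by_cases hσ : σ = 1
  · subst hσ
    rw [map_one fld, mul_one] at hx hP hpow
    obtain ⟨k, hk⟩ := H169.PSLTwoAut.inner_of_odd M (hp.out.odd_of_ne_two hp2) hpow
    rw [hk] at hx hP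
    rw [orderOf_injective (MulAut.conj : Matrix.ProjectiveSpecialLinearGroup (Fin 2) F →* _)
      (_root_.Cfsg.Agent.H460.AA.conj_injective AAField.center_psl) k] at hx
    exact AAInner.inner_core h hp2 hx (pe_of_PA AAField.center_psl hP)
  · obtain ⟨h1, B, hB⟩ := CpAut.Psl.exists_conj hp.out hpow hσ
    rw [hB, map_mul, map_mul, map_inv] at hP
    refine AAField.field_core hp2 h1 ?_
    have h2 := PA_tr (lift (cj B)).symm hP
    convert h2 using 1
    ext y
    rw [H459.Rad.tr_apply]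
    simp [MulAut.mul_apply, MulAut.inv_def]

/-- **The `AA` core for `PSL₂(F)`, `|F| ≥ 4`** -/
theorem core_psl2 (F : Type*) [Field F] [Finite F] (h : 4 ≤ Nat.card F) :
    Core (Matrix.ProjectiveSpecialLinearGroup (Fin 2) F) :=
  fun _ _ hp2 _ hx _ hP => not_PA h hp2 hx hP

end Cfsg.Agent.H654.AAPsl2
end

-- part: H84/CoreTwF
section
/-!
# `Core` for `²F₄(q)`, `q ≥ 8` (task 861, for S3833, S3834, S3840)
-/

set_option autoImplicit false
set_option linter.unusedSectionVars false

namespace Cfsg.Agent.H84.CoreTwF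

open Subgroup Cfsg Cfsg.Lie Cfsg.Agent.H460.AA Cfsg.Agent.H459.Rad

/-- some power of a 2-element is an involution -/
theorem exists_involution {G : Type*} [Group G] {v : G} (hv : v ≠ 1) : ∀ k : ℕ, v ^ 2 ^ k = 1 →
    ∃ n : ℕ, v ^ n ≠ 1 ∧ v ^ n * v ^ n = 1 := by
  intro k
  induction k with
  | zero => intro h; exact absurd (by simpa using h) hv
  | succ k ih =>
    intro h
    by_cases h1 : v ^ 2 ^ k = 1
    · exact ih h1
    · exact ⟨2 ^ k, h1, by rw [← pow_add, ← two_mul, ← pow_succ', h]⟩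

section Main

variable {F : Type} [Field F] [Fintype F] {m : ℕ} (hm : 1 ≤ m) (hK : Fintype.card F = 2 ^ (2 * m + 1))

include hm hK in
/-- a radical automorphism of odd prime order fixes no `2`-element -/
theorem eq_one_of_fix {p : ℕ} [hp : Fact p.Prime] (hp2 : p ≠ 2) {x : MulAut ↥(twistedF4 F (2 ^ m))} (h : RC x)
    (hxp : x ^ p = 1) {v : ↥(twistedF4 F (2 ^ m))} (hv1 : v ≠ 1) (hxv : x v = v) {k : ℕ} (hk : v ^ 2 ^ k = 1) :
    x = 1 := by
  obtain ⟨n, h1, h2⟩ := exists_involution hv1 k hk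
  have : CharP F 2 := Cfsg.Agent.ChevalleyStructure.F4Fixed.charP_two hK
  have hfin : Finite ↥(twistedF4 F (2 ^ m)) := inferInstance
  obtain ⟨φ, hφ⟩ := Cfsg.Agent.ChevalleyStructure.TwF4.TwistedFix.exists_rln hK
  have hF := Cfsg.Agent.H496.TwFRad.Out.exists_unit hm hK
  obtain ⟨Q, U, s, t, hsp, hS, -⟩ := Cfsg.Agent.H410.TwFFour.exists_split hm hK
  exact eq_one_of_inv (Cfsg.Agent.KFacts.TwF4.Inst.full hK hφ) hF rfl hsp hS hp2 h hxp h2 h1
    (by rw [map_pow, hxv])

include hm hK in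
theorem core_tw : Core ↥(twistedF4 F (2 ^ m)) := by
  intro p hp hp2 x hx hR hP
  have hxp : x ^ p = 1 := by rw [← hx]; exact pow_orderOf_eq_one x
  have hx1 : x ≠ 1 := by
    rintro rfl
    rw [orderOf_one] at hx
    exact hp.out.one_lt.ne hx
  have : CharP F 2 := Cfsg.Agent.ChevalleyStructure.F4Fixed.charP_two hK
  have hfin : Finite ↥(twistedF4 F (2 ^ m)) := inferInstance
  obtain ⟨φ, hφ⟩ := Cfsg.Agent.ChevalleyStructure.TwF4.TwistedFix.exists_rln hK
  have hF := Cfsg.Agent.H496.TwFRad.Out.exists_unit hm hK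
  obtain ⟨S, hS⟩ : ∃ S : Cfsg.Agent.KFacts.TwF4.Full φ ↥(twistedF4 F (2 ^ m)),
      S = Cfsg.Agent.KFacts.TwF4.Inst.full hK hφ := ⟨_, rfl⟩
  have hRp : S.R.p = 2 := by rw [hS]; rfl
  have hcF : Nat.card F = 2 ^ (2 * m + 1) := by rw [Nat.card_eq_fintype_card, hK]
  rcases Cfsg.Agent.H496.TwFRad.Out.inner_or_fix hm hK hp.out hp2 hxp with ⟨a, rfl⟩ | ⟨v, hv1, hv2, hv⟩
  swap
  · exact hx1 (eq_one_of_fix hm hK hp2 hR hxp hv1 hv (k := 1) (by rw [pow_one, pow_two, hv2]))
  have hc : center ↥(twistedF4 F (2 ^ m)) = ⊥ := by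
    rw [eq_bot_iff]
    intro z hz
    exact mem_bot.2 (Cfsg.Agent.KFacts.TwF4.OutTwo.center_eq_bot S hF fun g => mem_center_iff.1 hz g)
  have ha : orderOf a = p := by rw [← hx]; exact (orderOf_injective _ (_root_.Cfsg.Agent.H460.AA.conj_injective hc) a).symm
  by_cases hd : p ∣ 2 ^ (2 * m + 1) - 1 ∨ p ∣ (2 ^ (2 * m + 1)) ^ 2 + 1
  · exact false_of_dvd S hm rfl hcF (Cfsg.Agent.S1068.result hK) hp2 hd ha hR
  · push Not at hd
    obtain ⟨v, hv1, hv, k, hk⟩ := exists_comm S hRp (p := p) hp2 (by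
      rw [hcF, Nat.log_pow (by norm_num)]) (by rw [hcF]; exact hd.1) (by rw [hcF]; exact hd.2) (a := a) (pe_of_PA hc hP)
    refine hx1 (eq_one_of_fix hm hK hp2 hR hxp hv1 ?_ hk)
    rw [MulAut.conj_apply, ← hv, mul_inv_cancel_right]

end Main

/-- **`Core` for `²F₄(q)`, `q ≥ 8`.** -/
theorem core_2F4 {K : Type*} [Group K] [Finite K] (h : Cfsg.Lie.Iso2F4 K) : Core K := by
  obtain ⟨F, _, _, m, hm, hK, ⟨e⟩⟩ := h
  exact (core_tw hm hK).of_equiv e

end Cfsg.Agent.H84.CoreTwF
end

-- part: H102/AAJone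
section
/-!
# The `AA` problem for the first Janko group
-/

set_option autoImplicit false

namespace Cfsg.Agent.H102.AAJone

open Subgroup Cfsg Cfsg.Agent.H459.Rad Cfsg.Agent.H460.AA Cfsg.Agent.H102.AAMath Cfsg.Agent.H102.AAGen

theorem card_J1 : Nat.card Spor.J1 = 175560 := Cfsg.Agent.SporadicB.J1.Main.isJ1.2

theorem finite_J1 : Finite Spor.J1 := Nat.finite_of_card_ne_zero (by rw [card_J1]; norm_num)

theorem simple_J1 : IsSimpleGroup Spor.J1 := Cfsg.Agent.SporadicB.J1.Main.isJ1.1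

theorem not_comm_of_card {G : Type*} [Group G] [Finite G] [IsSimpleGroup G] (h : ¬ (Nat.card G).Prime) :
    ¬ IsMulCommutative G := by
  intro hm
  let _ : CommGroup G := { (inferInstance : Group G) with mul_comm := hm.is_comm.comm }
  exact h IsSimpleGroup.prime_card

theorem card_A5 : Nat.card (alternatingGroup (Fin 5)) = 60 := by
  rw [nat_card_alternatingGroup, Nat.card_eq_fintype_card, Fintype.card_fin]
  decide

theorem noRC : NoRC Spor.J1 := by
  have hfin := finite_J1
  have hs := simple_J1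
  have hna : ¬ IsMulCommutative Spor.J1 := (not_comm_of_card (by rw [card_J1]; norm_num) :)
  intro p hp hp2 a ha hR hP
  have hd : p ∣ 2 ^ 3 * (3 * (5 * (7 * (11 * 19)))) := by
    have h1 : p ∣ Nat.card Spor.J1 := ha ▸ _root_.orderOf_dvd_natCard a
    rw [card_J1] at h1
    norm_num
    exact h1
  have hpp := hp.out
  have key : p = 3 ∨ p = 5 ∨ p = 7 ∨ p = 11 ∨ p = 19 := by
    rcases (Nat.Prime.dvd_mul hpp).1 hd with h | h
    · exact absurd ((Nat.prime_dvd_prime_iff_eq hpp Nat.prime_two).1 (hpp.dvd_of_dvd_pow h)) hp2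
    rcases (Nat.Prime.dvd_mul hpp).1 h with h | h
    · exact Or.inl ((Nat.prime_dvd_prime_iff_eq hpp (by norm_num)).1 h)
    rcases (Nat.Prime.dvd_mul hpp).1 h with h | h
    · exact Or.inr (Or.inl ((Nat.prime_dvd_prime_iff_eq hpp (by norm_num)).1 h))
    rcases (Nat.Prime.dvd_mul hpp).1 h with h | h
    · exact Or.inr (Or.inr (Or.inl ((Nat.prime_dvd_prime_iff_eq hpp (by norm_num)).1 h)))
    rcases (Nat.Prime.dvd_mul hpp).1 h with h | h
    · exact Or.inr (Or.inr (Or.inr (Or.inl ((Nat.prime_dvd_prime_iff_eq hpp (by norm_num)).1 h))))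
    · exact Or.inr (Or.inr (Or.inr (Or.inr ((Nat.prime_dvd_prime_iff_eq hpp (by norm_num)).1 h))))
  rcases key with h | h | h
  · exact small hfin hs hna (by rw [h]; decide) ha hR
  · exact small hfin hs hna (by rw [h]; decide) ha hR
  · exact big hfin hs hna h ha hP
where
  small (_ : Finite Spor.J1) (_ : IsSimpleGroup Spor.J1) (hna : ¬ IsMulCommutative Spor.J1)
      {p : ℕ} [Fact p.Prime] (hp : ¬ p ∣ 2926) {a : Spor.J1} (ha : orderOf a = p) (hR : RC (MulAut.conj a)) : False := by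
    obtain ⟨t, ht, ⟨e⟩⟩ := Cfsg.Agent.S2131.result
    have h5 : IsSimpleGroup (alternatingGroup (Fin 5)) := alternatingGroup.isSimpleGroup_five
    have h5n : ¬ IsMulCommutative (alternatingGroup (Fin 5)) := not_comm_of_card (by rw [card_A5]; norm_num)
    have hcard : Nat.card ↥(centralizer ({t} : Set Spor.J1)) = Nat.card (alternatingGroup (Fin 5)) * 2 := by
      rw [Nat.card_congr e.toEquiv, Nat.card_prod, mul_comm]
      congr 1
      rw [Nat.card_congr (Multiplicative.toAdd (α := ZMod 2)), Nat.card_zmod]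
    have hidx : (centralizer ({t} : Set Spor.J1)).index = 1463 := by
      have h1 := (centralizer ({t} : Set Spor.J1)).card_mul_index
      rw [hcard, card_A5, card_J1] at h1
      omega
    refine false_of_onto (S := alternatingGroup (Fin 5)) h5n (H := centralizer ({t} : Set Spor.J1)) ?_ ?_
      ((MonoidHom.snd _ _).comp e.toMonoidHom) ?_ hcard ?_ ha hR
    · intro h1
      rw [h1, index_top] at hidx
      norm_num at hidx
    · rw [hidx]
      exact fun h => hp (h.trans (by norm_num))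
    · intro s
      exact ⟨e.symm (1, s), by simp only [_root_.MulEquiv.toMonoidHom_eq_coe, _root_.MonoidHom.coe_comp, _root_.MonoidHom.coe_snd, _root_.MonoidHom.coe_coe, _root_.Function.comp_apply, _root_.MulEquiv.apply_symm_apply]⟩
    · exact fun h => hp (h.trans (by norm_num))
  big (_ : Finite Spor.J1) (_ : IsSimpleGroup Spor.J1) (hna : ¬ IsMulCommutative Spor.J1)
      {p : ℕ} [hp : Fact p.Prime] (hp3 : p = 7 ∨ p = 11 ∨ p = 19) {a : Spor.J1} (ha : orderOf a = p)
      (hP : ∀ g : Spor.J1, PE p (a * (g * a * g⁻¹))) : False := by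
    have hsq : ∀ P : Subgroup Spor.J1, IsPGroup p P → Nat.card P ∣ p := by
      intro P hP
      obtain ⟨n, hn⟩ := (IsPGroup.iff_card).1 hP
      have h1 : p ^ n ∣ 175560 := by rw [← hn, ← card_J1]; exact card_subgroup_dvd_card _
      have h2 : n < 2 := by
        by_contra h2
        have h3 : p ^ 2 ∣ 175560 := (pow_dvd_pow p (by omega)).trans h1
        rcases hp3 with rfl | rfl | rfl <;> revert h3 <;> decide
      rw [hn]
      calc p ^ n ∣ p ^ 1 := pow_dvd_pow p (by omega)
        _ = p := pow_one p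
    have hp2 : p ≠ 2 := by rcases hp3 with rfl | rfl | rfl <;> decide
    obtain ⟨g, hg⟩ := Cfsg.Agent.H491.AA.pa_cyc hna hp2 (fun P => by
        have h1 := hsq P P.2
        have h2 : p ∣ Nat.card P := by
          apply P.dvd_card_of_dvd_card
          rw [← ha]
          exact _root_.orderOf_dvd_natCard a
        exact Nat.dvd_antisymm h1 h2) ha (by
        have h1 := hsq _ (Cfsg.Agent.H389.JFacts.isPGroup_cent hp3 ha)
        have h2 := Nat.le_of_dvd hp.out.pos h1
        rw [card_J1]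
        have h3 : p ≤ 19 := by rcases hp3 with rfl | rfl | rfl <;> decide
        calc Nat.card (centralizer ({a} : Set Spor.J1)) ^ 2 ≤ 19 ^ 2 := Nat.pow_le_pow_left (h2.trans h3) 2
          _ ≤ 175560 := by norm_num)
    exact hg (hP g)

end Cfsg.Agent.H102.AAJone
end

-- part: H102/AACore
section
/-!
# `Core` for the Mathieu groups and the Janko groups `J₁`, `J₂`, `J₃` (task 574, AA-SPOR-A)
-/

set_option autoImplicit false

namespace Cfsg.Agent.H102.AACore

open Subgroup Cfsg Cfsg.Agent.H459.Rad Cfsg.Agent.H460.AA Cfsg.Agent.H102.AAMath Cfsg.Agent.H102.AAGen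

section
variable {K : Type*} [Group K] [Finite K] [IsSimpleGroup K]

/-- if automorphisms of odd prime order are inner, elements suffice -/
theorem core_of_noRC (hna : ¬ IsMulCommutative K) (hin : Cfsg.Agent.BpSpor.Inn.OddInn K) (h : NoRC K) : Core K :=
  core_of_inner (Cfsg.Agent.CpAut.center_eq_bot_of_simple hna) (fun p hp hp2 x hx => hin p hp.out hp2 x hx) h

theorem core_m11 (hna : ¬ IsMulCommutative K) (h : Spor.IsoM11 K) : Core K := by
  obtain ⟨e⟩ := h
  exact core_of_noRC hna (Cfsg.Agent.H505.OddInn.m11 ⟨e⟩) (NoRC.of_noEl (noEl_m11.congr e))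

theorem core_m12 (hna : ¬ IsMulCommutative K) (h : Spor.IsoM12 K) : Core K := by
  obtain ⟨e⟩ := h
  exact core_of_noRC hna (Cfsg.Agent.H505.OddInn.m12 ⟨e⟩) (NoRC.of_noEl (noEl_m12.congr e))

theorem core_m22 (hna : ¬ IsMulCommutative K) (h : Spor.IsoM22 K) : Core K := by
  obtain ⟨e⟩ := h
  exact core_of_noRC hna (Cfsg.Agent.H505.OddInn.m22 ⟨e⟩) (NoRC.of_noEl (noEl_m22.congr e))

theorem core_m23 (hna : ¬ IsMulCommutative K) (h : Spor.IsoM23 K) : Core K := by
  obtain ⟨e⟩ := h
  exact core_of_noRC hna (Cfsg.Agent.H505.OddInn.m23 ⟨e⟩) (NoRC.of_noEl (noEl_m23.congr e))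

theorem core_m24 (hna : ¬ IsMulCommutative K) (h : Spor.IsoM24 K) : Core K := by
  obtain ⟨e⟩ := h
  exact core_of_noRC hna (Cfsg.Agent.H505.OddInn.m24 ⟨e⟩) (NoRC.of_noEl (noEl_m24.congr e))

theorem core_j1 (hna : ¬ IsMulCommutative K) (h : Spor.IsoJ1 K) : Core K := by
  obtain ⟨e⟩ := h
  exact core_of_noRC hna (Cfsg.Agent.H505.OddInn.j1 ⟨e⟩) (AAJone.noRC.congr e)

theorem core_j2 (hna : ¬ IsMulCommutative K) (h : Spor.IsoJ2 K) : Core K :=
  core_of_noRC hna (Cfsg.Agent.BpSpor.Inn.j2 h) (AAJtwo.noRC h)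

theorem core_j3 (hna : ¬ IsMulCommutative K) (h : Spor.IsoJ3 K) : Core K :=
  core_of_noRC hna (Cfsg.Agent.H505.OddInn.j3 h) (AAJthree.noRC h)

end

end Cfsg.Agent.H102.AACore
end

-- part: H561/AAM7
section
/-!
# The `AA` problem for the Monster, `p = 7` (helper561)

After helper961 (`H961.SevFin`, `H961.SevM`): the pair property `PS 2` replaced by `PC 7`.
-/

set_option autoImplicit false
set_option maxRecDepth 100000

namespace Cfsg.Agent.H561.AAM7

open Subgroup Cfsg Cfsg.Agent.H459.Rad Cfsg.Agent.H961.SevLift Cfsg.Agent.H235.AA.Tools Cfsg.Agent.H235.AA.Transv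

variable {K : Type*} [Group K] {y w v s a c : K} {Q : Subgroup K}

variable [Finite K]

/-- **No radical element of order 7 in `Q`.** -/
theorem final_pc (h : Loc y w v s a c) (hQ : QQ w Q) (h5 : ¬ 7 ^ 5 ∣ Nat.card ↥(centralizer ({y} : Set K)))
    (h7 : ¬ 7 ^ 7 ∣ Nat.card K) {x : K} (hx : x ∈ Q) (hxw : x ∉ zpowers w)
    (hps : PC 7 x) : False := by
  obtain ⟨hw1, s1, hs1, hs1w⟩ := h.mem_Q hQ h5 h7
  obtain ⟨w1, hw1e⟩ : ∃ w1, w1 = a * w * a⁻¹ := ⟨_, rfl⟩
  rw [← hw1e] at hw1 hs1w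
  have hwo : orderOf w = 7 := by
    have : Fact (Nat.Prime 7) := ⟨by norm_num⟩
    exact orderOf_eq_prime h.w7 h.w1
  have hw1o : orderOf w1 = 7 := by rw [hw1e, ← MulAut.conj_apply, MulEquiv.orderOf_eq, hwo]
  have hww1 : w * w1 = w1 * w := (mem_centralizer_singleton_iff.1 (hQ.le hw1)).symm
  have hw1n : w1 ∉ zpowers w := by
    intro h1
    obtain ⟨i, hi⟩ := mem_zpowers_iff.1 h1
    apply hs1w
    rw [← hi]
    exact ((show Commute s1 w from mem_centralizer_singleton_iff.1 (hQ.le hs1)).zpow_right i).eq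
  -- a conjugate of `x` which does not commute with `w1`
  obtain ⟨d, hd, hdx⟩ : ∃ d : K, d * w = w * d ∧ (d * x * d⁻¹) * w1 ≠ w1 * (d * x * d⁻¹) := by
    by_contra hcon
    push Not at hcon
    let U : Subgroup K := _root_.Subgroup.closure ({g | ∃ d : K, d * w = w * d ∧ g = d * x * d⁻¹} ∪ {w})
    have hU1 : ∀ d : K, d * w = w * d → ∀ q ∈ U, d * q * d⁻¹ ∈ U := by
      intro d hd q hq
      have h1 : U.map (MulAut.conj d).toMonoidHom ≤ U := by
        rw [MonoidHom.map_closure, closure_le]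
        rintro _ ⟨g, hg, rfl⟩
        apply Subgroup.subset_closure
        rcases hg with ⟨e, he, rfl⟩ | hg
        · left
          refine ⟨d * e, by rw [mul_assoc, he, ← mul_assoc, hd, mul_assoc], ?_⟩
          change d * (e * x * e⁻¹) * d⁻¹ = _
          group
        · right
          rw [Set.mem_singleton_iff] at hg
          subst hg
          change d * g * d⁻¹ = g
          rw [hd, mul_inv_cancel_right]
      exact h1 ⟨q, hq, rfl⟩
    have hUw : w ∈ U := Subgroup.subset_closure (Or.inr rfl)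
    have hUx : x ∈ U := Subgroup.subset_closure (Or.inl ⟨1, by rw [one_mul, mul_one], by group⟩)
    have hUQ : U ≤ Q := by
      rw [closure_le]
      rintro _ (⟨e, he, rfl⟩ | hg)
      · exact hQ.norm e he x hx
      · rw [Set.mem_singleton_iff] at hg
        rw [hg]
        exact hQ.mem
    have hU := hQ.irr U hU1 hUw hUQ (fun h1 => hxw (h1 ▸ hUx))
    have hUc : U ≤ centralizer ({w1} : Set K) := by
      rw [closure_le]
      rintro _ (⟨e, he, rfl⟩ | hg)
      · exact mem_centralizer_singleton_iff.2 (hcon e he)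
      · rw [Set.mem_singleton_iff] at hg
        rw [hg]
        exact mem_centralizer_singleton_iff.2 hww1
    rw [hU] at hUc
    exact hs1w (mem_centralizer_singleton_iff.1 (hUc hs1))
  obtain ⟨x1, hx1⟩ : ∃ x1, x1 = d * x * d⁻¹ := ⟨_, rfl⟩
  rw [← hx1] at hdx
  have hx1Q : x1 ∈ Q := hx1 ▸ hQ.norm d hd x hx
  have hps1 : PC 7 x1 := hx1 ▸ hps.conj d
  have hx1w : x1 * w = w * x1 := mem_centralizer_singleton_iff.1 (hQ.le hx1Q)
  obtain ⟨m, hm⟩ := mem_zpowers_iff.1 (hQ.comm x1 hx1Q w1 hw1)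
  have hm7 : ¬ (7 : ℤ) ∣ m := by
    intro h1
    apply hdx
    have h2 : w ^ m = 1 := by
      rw [← orderOf_dvd_iff_zpow_eq_one, hwo]
      exact h1
    rw [h2] at hm
    have h3 := hm.symm
    rw [mul_inv_eq_one, mul_inv_eq_iff_eq_mul] at h3
    exact h3
  have cww1 : ∀ i : ℤ, w ^ i * w1 = w1 * w ^ i := fun i => ((show Commute w w1 from hww1).zpow_left i).eq
  have hub : x1 * w1 * x1⁻¹ = w1 * w ^ m := by
    rw [← cww1, hm]
    group
  have haw1 : a * w1 * a⁻¹ = w⁻¹ := by rw [hw1e]; exact h.a_w1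
  have : Fact (Nat.Prime 7) := ⟨by norm_num⟩
  refine not_pe_closure (p := 7) hwo hw1o hww1 hw1n (u := x1) (v := a * x1 * a⁻¹) (m := m)
    (n := -m) hm7 (by rwa [dvd_neg]) hx1w hub ?_ ?_ (hps1 a)
  · rw [hw1e]
    calc a * x1 * a⁻¹ * (a * w * a⁻¹) = a * (x1 * w) * a⁻¹ := by group
      _ = a * w * a⁻¹ * (a * x1 * a⁻¹) := by rw [hx1w]; group
  · have e1 : w = a * w1⁻¹ * a⁻¹ := by
      have : a * w1⁻¹ * a⁻¹ = (a * w1 * a⁻¹)⁻¹ := by rw [conj_inv]
      rw [this, haw1, inv_inv]
    have e2 : a * w ^ (-m) * a⁻¹ = w1 ^ (-m) := by rw [hw1e, conj_zpow]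
    have e3 : x1 * w1⁻¹ * x1⁻¹ = w1⁻¹ * w ^ (-m) := by
      have : x1 * w1⁻¹ * x1⁻¹ = (x1 * w1 * x1⁻¹)⁻¹ := by rw [conj_inv]
      rw [this, hub, mul_inv_rev, ← zpow_neg]
      exact (((show Commute w w1 from hww1).zpow_left (-m)).inv_right).eq
    calc a * x1 * a⁻¹ * w * (a * x1 * a⁻¹)⁻¹ = a * x1 * a⁻¹ * (a * w1⁻¹ * a⁻¹) * (a * x1 * a⁻¹)⁻¹ := by rw [← e1]
      _ = a * (x1 * w1⁻¹ * x1⁻¹) * a⁻¹ := by group
      _ = (a * w1⁻¹ * a⁻¹) * (a * w ^ (-m) * a⁻¹) := by rw [e3]; group
      _ = w * w1 ^ (-m) := by rw [← e1, e2]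

section model

open Cfsg.Agent.MonsterX Cfsg.Agent.MonsterX.InstData Cfsg.Agent.MonsterP
open Cfsg.Agent.LThreeMB (KChart.pi KChart.chart)
open Cfsg.Agent.H839.Rad Cfsg.Agent.H961.SevM

/-- **No radical element of order 7** -/
theorem np_seven : NP 7 ↥InstData.M.G := by
  have := MFive.Row.finite_model
  have hp7 : Nat.Prime 7 := by norm_num
  have : Fact (Nat.Prime 7) := ⟨hp7⟩
  have hc : center ↥InstData.M.G = ⊥ := BpSpor.center_eq_bot_of_card MonsterP.EquivOf.isM_model.1 (by
    rw [card_model]; norm_num)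
  have hnc : ∀ {t : ↥InstData.M.G}, t ≠ 1 → t ∉ center ↥InstData.M.G := by
    intro t ht h1
    rw [hc, mem_bot] at h1
    exact ht h1
  obtain ⟨y, v, s, a, c, w, hL, h5⟩ := exists_data'
  obtain ⟨Q, hQ, hrad⟩ := exists_qq hL h5
  intro x hx hrc hps
  obtain ⟨P, -, hP⟩ := hL.sylow_le h5 (by rw [card_model]; norm_num)
  have hxp : IsPGroup 7 ↥(zpowers x) := IsPGroup.of_card (n := 1) (by rw [Nat.card_zpowers, hx, pow_one])
  obtain ⟨P', hP'⟩ := hxp.exists_le_sylow
  obtain ⟨g, hg⟩ := MulAction.exists_smul_eq ↥InstData.M.G P' P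
  have hgx : g * x * g⁻¹ ∈ (P : Subgroup ↥InstData.M.G) := by
    rw [← hg, Sylow.coe_subgroup_smul]
    exact smul_mem_pointwise_smul x (MulAut.conj g) _ (hP' (mem_zpowers x))
  have hrc' := rc_conj hrc g
  have hps' := hps.conj g
  have ho' : orderOf (g * x * g⁻¹) = 7 := by rw [← MulAut.conj_apply, MulEquiv.orderOf_eq, hx]
  have hCw : centralizer ({(w : ↥InstData.M.G)} : Set ↥InstData.M.G) ≠ ⊤ := by
    intro h1
    refine hnc hL.w1 (mem_center_iff.2 fun k => ?_)
    exact mem_centralizer_singleton_iff.1 (h1 ▸ mem_top k)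
  have hxQ : g * x * g⁻¹ ∈ Q := hrad ⟨_, hP hgx⟩ (mem_rad hrc' hCw (hP hgx)) ⟨1, Subtype.ext (by
    change (g * x * g⁻¹) ^ 7 ^ 1 = 1
    rw [pow_one, ← ho', pow_orderOf_eq_one])⟩
  refine final_pc hL hQ h5 (by rw [card_model]; norm_num) hxQ ?_ hps'
  intro hxw
  have h := KChart.chart KDone.lft MFive.Row.hc
  have hz1 : (KDone.K.z : ↥InstData.M.G) ≠ 1 := h.large.z_ne
  obtain ⟨i, hi⟩ := mem_zpowers_iff.1 hxw
  refine false_of_comm ho' hrc' (hnc hz1) ?_ radFree_z
  rw [← hi]
  exact ((show Commute (w : ↥InstData.M.G) KDone.K.z from mem_centralizer_singleton_iff.1 w.2).zpow_left i).eq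

end model

end Cfsg.Agent.H561.AAM7
end

-- part: H561/AAM11
section
/-!
# The `AA` problem for the Monster, `p = 11` (helper561)

After helper109 (`H109.NrGen.noRad_of_four`, `H109.NrM`): only `RC` is used.
-/

set_option autoImplicit false
set_option maxRecDepth 100000

namespace Cfsg.Agent.H561.AAM11

open Subgroup Cfsg Cfsg.Agent.H459.Rad Cfsg.Agent.H235.AA.Tools Cfsg.Agent.H109.Nr

/-- **The criterion**: abelian Sylow `p`-subgroups of order `p ^ 2`, radical elements commute with no involution, an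
element `y` of order `p` commuting with a four-group. -/
theorem np_of_four {K : Type*} [Group K] [Finite K] {p : ℕ} (hp : p.Prime) (hp2 : p ≠ 2)
    (h3 : ¬ p ^ 3 ∣ Nat.card K)
    (hnc : ∀ x : K, orderOf x = p → RC (MulAut.conj x) → ∀ t : K, orderOf t = 2 → x * t ≠ t * x)
    {y : K} (hy : orderOf y = p) (hyc : y ∉ center K)
    (hno : ∀ A : Subgroup ↥(centralizer ({y} : Set K)), (∀ a ∈ A, a * a = 1) → ∀ m, 1 ≤ m →
      Nat.card ↥A = 2 ^ m → ¬ p ∣ 2 ^ m - 1)
    {e f : K} (he : orderOf e = 2) (hf : orderOf f = 2) (hey : y * e = e * y) (hfy : y * f = f * y)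
    (hef : e * f = f * e) (hne : e ≠ f) : NP p K := by
  intro x hx h1 h2
  have hpf : Fact p.Prime := ⟨hp⟩
  have hab := sylow_comm hp h3
  -- conjugate `x`
  have hxp : IsPGroup p ↥(zpowers x) := IsPGroup.of_card (n := 1) (by rw [Nat.card_zpowers, hx, pow_one])
  have hyp : IsPGroup p ↥(zpowers y) := IsPGroup.of_card (n := 1) (by rw [Nat.card_zpowers, hy, pow_one])
  obtain ⟨P, hP⟩ := hxp.exists_le_sylow
  obtain ⟨P', hP'⟩ := hyp.exists_le_sylow
  obtain ⟨g, hg⟩ := MulAction.exists_smul_eq K P P'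
  obtain ⟨x', hx'⟩ : ∃ x', x' = g * x * g⁻¹ := ⟨_, rfl⟩
  have hmem : x' ∈ P' := by
    have : g * x * g⁻¹ ∈ (P' : Subgroup K) := by
      rw [← hg, Sylow.coe_subgroup_smul]
      exact smul_mem_pointwise_smul x (MulAut.conj g) _ (hP (mem_zpowers x))
    rw [hx']
    exact this
  have ho : orderOf x' = p := by rw [hx', ← MulAut.conj_apply, MulEquiv.orderOf_eq, hx]
  have hrc : RC (MulAut.conj x') := by rw [hx']; exact H839.Rad.rc_conj h1 g
  have hcomm : x' * y = y * x' := hab P' _ hmem _ (hP' (mem_zpowers y))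
  have hxC : x' ∈ centralizer ({y} : Set K) := mem_centralizer_singleton_iff.2 hcomm
  have hyC : y ∈ centralizer ({y} : Set K) := mem_centralizer_singleton_iff.2 rfl
  have heC : e ∈ centralizer ({y} : Set K) := mem_centralizer_singleton_iff.2 hey.symm
  have hfC : f ∈ centralizer ({y} : Set K) := mem_centralizer_singleton_iff.2 hfy.symm
  have htop : centralizer ({y} : Set K) ≠ ⊤ := by
    intro h1
    apply hyc
    rw [mem_center_iff]
    intro g
    exact mem_centralizer_singleton_iff.1 (h1 ▸ mem_top g)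
  refine false_of_four (C := ↥(centralizer ({y} : Set K))) (x := ⟨x', hxC⟩) (y := ⟨y, hyC⟩) (e := ⟨e, heC⟩)
    (f := ⟨f, hfC⟩) hp hp2 (by rw [Subgroup.orderOf_mk, ho]) (by rw [Subgroup.orderOf_mk, hy]) ?_ ?_ ?_ ?_ ?_ ?_
    (by rw [Subgroup.orderOf_mk, he]) (by rw [Subgroup.orderOf_mk, hf]) (Subtype.ext hef) ?_
  · intro g
    exact Subtype.ext (mem_centralizer_singleton_iff.1 g.2)
  · intro hxy
    obtain ⟨k, hk⟩ := mem_zpowers_iff.1 hxy
    have hk' : y ^ k = x' := congrArg Subtype.val hk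
    refine hnc x' ho hrc e he ?_
    rw [← hk']
    exact (show Commute y e from hey).zpow_left k
  · intro h
    exact h3 (h.trans (card_subgroup_dvd_card _))
  · exact H839.Rad.mem_rad hrc htop hxC
  · intro t ht hc
    exact hnc x' ho hrc t (by rw [Subgroup.orderOf_coe, ht]) (congrArg Subtype.val hc)
  · intro A hA hAn hAne
    by_contra hcon
    push Not at hcon
    obtain ⟨m, hm1, hm, hd⟩ := exists_pow (x := (⟨x', hxC⟩ : ↥(centralizer ({y} : Set K)))) hp
      (by rw [Subgroup.orderOf_mk, ho]) hA hAn hAne (fun a ha hc => by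
        by_contra h
        exact hcon a ha h hc)
    exact hno A hA m hm1 hm hd
  · intro h
    exact hne (congrArg Subtype.val h)


open Cfsg.Agent.H109.Nr.M Cfsg.Agent.BpSpor Cfsg.Agent.BpSpor.MBigModel

theorem np_eleven : NP 11 MG := by
  have hfin := finite
  obtain ⟨y, w, hy, hw, hyz, hyw, hzw, hne⟩ := exists_eleven
  refine np_of_four (by norm_num) (by norm_num) (by rw [card_M]; norm_num)
    (fun x hx h t ht => ncomm (by norm_num) (by norm_num) hx h ht) hy ?_ ?_ orderOf_zz hw hyz hyw hzw hne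
  · rw [center_model, Subgroup.mem_bot]
    rintro rfl
    rw [orderOf_one] at hy
    norm_num at hy
  · intro A hA m hm1 hm
    exact MBigEleven.noTwo hy A hA m hm1 (hm ▸ dvd_rfl)

end Cfsg.Agent.H561.AAM11
end

-- part: H561/AAM
section
/-!
# The `AA` problem for the Monster: assembly (helper561)
-/

set_option autoImplicit false
set_option maxRecDepth 100000

namespace Cfsg.Agent.H561.AAM

open Subgroup Cfsg Cfsg.Agent.H459.Rad Cfsg.Agent.H460.AA Cfsg.Agent.H102.AAGen Cfsg.Agent.H561.AATool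
open Cfsg.Agent.H561.AAM3
open Cfsg.Agent.MonsterX Cfsg.Agent.MonsterX.MainPack Cfsg.Agent.MonsterP
open Cfsg.Agent.LThreeMB (KChart.chart KPair.trNe KPair.hasPair)
open Cfsg.Spor (Co1)

theorem card_model : Nat.card ↥InstData.M.G = 808017424794512875886459904961710757005754368000000000 :=
  MonsterP.EquivOf.isM_model.2

theorem na_model : ¬ IsMulCommutative ↥InstData.M.G := by
  have := LThreeMB.Row.finite_model
  have := LThreeMB.Row.simple_model
  exact not_comm_of_card (by rw [card_model]; norm_num)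

theorem na_co1 : ¬ IsMulCommutative Co1 := by
  have h := Cfsg.Agent.S0399.result
  have hs : IsSimpleGroup Co1 := h.1
  have : Finite Co1 := Nat.finite_of_card_ne_zero (by rw [h.2]; norm_num)
  exact not_comm_of_card (by rw [h.2]; norm_num)

theorem three {a : ↥InstData.M.G} (ha : orderOf a = 3) (hR : RC (MulAut.conj a)) : False := by
  have := LThreeMB.Row.finite_model
  have := LThreeMB.Row.simple_model
  exact false_three na_model (KChart.chart KDone.lft LThreeMB.Row.cent) Cfsg.Agent.S0399.result.1 na_co1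
    LThreeMB.CoOneFin.coOne (KPair.trNe KDone.lft LThreeMB.Row.cent (LThreeMBTr.traceNe KDone.lft LThreeMBTr.TensK.tens))
    (KPair.hasPair KDone.lft LThreeMB.Row.cent LThreeMB.Row.second LThreeMB.COct.octPair)
    (fun x t h1 h2 h3 h4 => LThreeM.FiRow.exists_z_of_comm h1 h2 h3 h4) ha hR

/-- after helper109 (`H109.NrThirteen`) and helper235 (`H235.AA.Center`) -/
theorem np_thirteen : Cfsg.Agent.H235.AA.Tools.NP 13 BpSpor.MBigModel.MG := by
  have hfin := BpSpor.MBigModel.finite
  intro x hx hRC hP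
  obtain ⟨w, w₁, g, Q, hcent, hQ, hcard⟩ := H109.Nr.T.data_thirteen hx hRC
  exact H235.AA.Center.np_of_sylow hcent (by norm_num) hQ hcard x hx hRC hP

theorem noRC_model : NoRC ↥InstData.M.G := by
  have := LThreeMB.Row.finite_model
  have := LThreeMB.Row.simple_model
  refine noRC_of_sq na_model fun p hp hp2 hsq a ha hR hP => ?_
  rw [card_model] at hsq
  obtain ⟨q, hq, hqp⟩ := mem_of_sq hp.out [(2, 46), (3, 20), (5, 9), (7, 6), (11, 2), (13, 3), (17, 1), (19, 1),
    (23, 1), (29, 1), (31, 1), (41, 1), (47, 1), (59, 1), (71, 1)] (by decide +kernel) (by norm_num) hsq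
  have hpp : p = 3 ∨ p = 5 ∨ p = 7 ∨ p = 11 ∨ p = 13 := by
    fin_cases hq <;> simp only at hqp <;> subst hqp <;>
      first | exact absurd rfl hp2 | (left; rfl) | (right; left; rfl) | (right; right; left; rfl) |
        (right; right; right; left; rfl) | (right; right; right; right; rfl) | exact absurd hsq (by norm_num)
  rcases hpp with rfl | rfl | rfl | rfl | rfl
  · exact three ha hR
  · exact H847.RadFive.false_model ha hR
  · exact AAM7.np_seven a ha hR hP
  · exact AAM11.np_eleven a ha hR hP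
  · exact np_thirteen a ha hR hP

theorem noRC {K : Type*} [Group K] (h : Spor.IsoM K) : NoRC K := by
  have hfin : Finite ↥InstData.M.G := LThreeMB.Row.finite_model
  obtain ⟨e⟩ := h
  obtain ⟨f⟩ := Cfsg.Agent.MonsterP.Equiv.equiv
  have : Finite K := Finite.of_equiv _ (e.trans f).symm.toEquiv
  exact NoRC.congr (e.trans f) noRC_model

/-- **The Monster** -/
theorem core {K : Type*} [Group K] (h : Spor.IsoM K) : Core K := by
  have hfin : Finite ↥InstData.M.G := LThreeMB.Row.finite_model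
  have hs : IsSimpleGroup ↥InstData.M.G := LThreeMB.Row.simple_model
  obtain ⟨e⟩ := id h
  obtain ⟨f⟩ := Cfsg.Agent.MonsterP.Equiv.equiv
  have : Finite K := Finite.of_equiv _ (e.trans f).symm.toEquiv
  have : IsSimpleGroup K := (e.trans f).isSimpleGroup
  exact core_of_noRC (not_comm_congr (e.trans f) na_model) (Cfsg.Agent.H256.OddInner.m h) (noRC h)

end Cfsg.Agent.H561.AAM
end

-- part: H460/HNRow
section
/-!
# The `AA` problem for `HN`: assembly (helper460; the prime 3 by helper478, the prime 5 by helper839 and helper235)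
-/

set_option autoImplicit false

namespace Cfsg.Agent.H460.HNRow

open Subgroup Cfsg Cfsg.Agent.H460.AA Cfsg.Agent.H459.Rad Cfsg.Agent.H839.Rad
open Cfsg.Agent.H235.AA.Tools

theorem np_three : NP 3 Cfsg.Spor.HN := NP.of_rc fun _ hx hR => Cfsg.Agent.H478.HNThree.false_of_rc hx hR

theorem np_five : NP 5 Cfsg.Spor.HN := by
  have : Finite Cfsg.Spor.HN := Nat.finite_of_card_ne_zero (by rw [Cfsg.Agent.KFacts.HN.Classes.card_HN]; norm_num)
  refine Cfsg.Agent.H235.AA.Center.np_of_index HN.centre (by norm_num) HN.isPGroup_Q HN.not_dvd_card ?_ HN.norm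
  exact le_trans (by norm_num) (Nat.le_of_dvd Nat.card_pos HN.pow_five_dvd_card_Q)

theorem core {K : Type*} [Group K] [Finite K] (h : Cfsg.Spor.IsoHN K) : Core K := by
  obtain ⟨e⟩ := h
  have hf : Finite Cfsg.Spor.HN := Finite.of_equiv K e.toEquiv
  refine Core.of_equiv e ?_
  have hs : IsSimpleGroup Cfsg.Spor.HN := Cfsg.Agent.S1701.result.1
  refine core_of_card (s := 2 ^ 14 * 3 ^ 6 * 5 ^ 6) (m := 7 * 11 * 19)
    (by rw [Cfsg.Agent.KFacts.HN.Classes.card_HN]; norm_num) ?_ (by norm_num)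
    (fun p hp hp2 x hx => Cfsg.Agent.CpAutHN.Main.autInner p hp.out hp2 x hx) ?_
  · rw [Nat.squarefree_mul_iff, Nat.squarefree_mul_iff]
    refine ⟨by norm_num, ⟨by norm_num, ?_, ?_⟩, ?_⟩
    · exact Irreducible.squarefree (by norm_num : Nat.Prime 7)
    · exact Irreducible.squarefree (by norm_num : Nat.Prime 11)
    · exact Irreducible.squarefree (by norm_num : Nat.Prime 19)
  · intro p hp hp2 hd
    rcases (Nat.Prime.dvd_mul hp).1 hd with h1 | h1
    · rcases (Nat.Prime.dvd_mul hp).1 h1 with h2 | h2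
      · exact absurd ((Nat.prime_dvd_prime_iff_eq hp Nat.prime_two).1 (hp.dvd_of_dvd_pow h2)) hp2
      · rw [(Nat.prime_dvd_prime_iff_eq hp Nat.prime_three).1 (hp.dvd_of_dvd_pow h2)]
        exact np_three
    · rw [(Nat.prime_dvd_prime_iff_eq hp (by norm_num : Nat.Prime 5)).1 (hp.dvd_of_dvd_pow h1)]
      exact np_five

end Cfsg.Agent.H460.HNRow
end

-- part: H164/AASuz
section
/-!
# `AA` problem: the Suzuki sporadic group (helper164, S3833, S3834, S3840)
-/

set_option autoImplicit false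
set_option maxRecDepth 100000

namespace Cfsg.Agent.H164.AASuz

open Subgroup Cfsg Cfsg.Spor Cfsg.Agent.H177.AARow Cfsg.Agent.H460.AA Cfsg.Agent.H459.Rad
open Cfsg.Agent.SporadicRecognition.SuzOrder Cfsg.Agent.SuzThree.Basic Cfsg.Agent.SuzThree.Elts
  Cfsg.Agent.SuzThree.Elementary Cfsg.Agent.SuzThree.NormElts Cfsg.Agent.SuzThree.NormAct
  Cfsg.Agent.BpSpor.SuzThreeCentral Cfsg.Agent.SporadicRecognition.SuzPhi Cfsg.Agent.SporadicRecognition.SuzBound
  Cfsg.Agent.Lib.PermNetOrbit

/-- an element of order three of `N(A0)` in the radical lies in `A0` -/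
theorem mem_A0_of_rad {b : Suz} (hb : b ∈ NA) (hr : (⟨b, hb⟩ : NA) ∈ solvableRadical NA) : b ∈ A0 := by
  have hfin := Cfsg.Agent.BpSpor.SuzThreeCentral.finSuz
  have hs : IsSimpleGroup (NA ⧸ A0.subgroupOf NA) := Cfsg.Agent.Cit.ElevenFact.simple isoM11
  have hcard : Nat.card (NA ⧸ A0.subgroupOf NA) = 7920 := by
    obtain ⟨e⟩ := isoM11
    rw [Nat.card_congr e.toEquiv, HNType.Alt.card_M11]
  have h1 := map_rad_le (QuotientGroup.mk'_surjective (A0.subgroupOf NA)) hr
  rw [rad_eq_bot_of_simple (Cfsg.Agent.H177.AARow2.not_solvable_of_card (by rw [hcard]; norm_num)), mem_bot] at h1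
  exact mem_subgroupOf.1 ((QuotientGroup.eq_one_iff _).1 h1)

/-- `L = L₃(4)` is not soluble -/
theorem not_solvable_L : ¬ Group.IsSolvable (Cfsg.Agent.KFacts.SuzLFour.L) := by
  intro hs
  have := Cfsg.Agent.CTwoTab.SuzPlane.simple_L
  have h1 := IsSimpleGroup.comm_iff_isSolvable.2 hs
  exact Cfsg.Agent.CTwoTab.Suz.na_L ⟨⟨h1⟩⟩

theorem three : NoA 3 Suz := by
  have hfin := Cfsg.Agent.BpSpor.SuzThreeCentral.finSuz
  have h3 : Fact (Nat.Prime 3) := ⟨Nat.prime_three⟩
  have h2 : Fact (Nat.Prime 2) := ⟨Nat.prime_two⟩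
  intro a ha hR hP
  have hidx := Subgroup.card_mul_index NA
  rw [card_NA, card_Suz] at hidx
  have hM : NA ≠ ⊤ := by
    intro h1
    have h2 := card_NA
    rw [h1, card_top, card_Suz] at h2
    norm_num at h2
  have hi : ¬ 3 ∣ NA.index := by
    intro h3
    obtain ⟨c, hc⟩ := h3
    rw [hc] at hidx
    omega
  obtain ⟨g, hg⟩ := Cfsg.Agent.H177.AATools.conj_mem_of_index hi ha
  have hb := Cfsg.Agent.H177.AATools.order_conj ha g
  have hRb := RC_conj hR g
  have hPb := Cfsg.Agent.H177.AATools.pe_conj hP g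
  have hbA : g * a * g⁻¹ ∈ A0 := mem_A0_of_rad hg (mem_radIn_coe.1 (mem_radIn hRb hM hg))
  -- an involution commuting with `b`
  obtain ⟨t, ht⟩ := exists_prime_orderOf_dvd_card' 2 (Cfsg.Agent.H681.NoBadSuz.even_A0 hbA)
  have hto : orderOf (t : Suz) = 2 := by rw [Subgroup.orderOf_coe, ht]
  have htt : (t : Suz) * t = 1 := by rw [← pow_two, ← hto, pow_orderOf_eq_one]
  have ht1 : (t : Suz) ≠ 1 := by
    intro h0
    rw [h0, orderOf_one] at hto
    omega
  have hcomm : (t : Suz) * (g * a * g⁻¹) = (g * a * g⁻¹) * t := mem_centralizer_singleton_iff.1 t.2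
  rcases Cfsg.Agent.CTwoTab.Suz.classes htt ht1 with hc | hc
  · obtain ⟨c, hc⟩ := isConj_iff.1 hc
    refine Cfsg.Agent.H177.AATools.false_of_large (p := 3) (KFacts.SuzLarge.large.conj c) (by norm_num) hb ?_ hPb
    rw [hc]
    exact hcomm.symm
  · obtain ⟨c, hc⟩ := isConj_iff.1 hc
    have hc' : Cfsg.Agent.KFacts.SuzLFour.e0 = c⁻¹ * t * c := by rw [← hc]; group
    have h4 : c⁻¹ * (g * a * g⁻¹) * c ∈ Cfsg.Agent.KFacts.SuzLFour.L := by
      refine Cfsg.Agent.BpSpor.SuzThree.mem_L_of_cube ?_ ?_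
      · have := conj_pow (i := 3) (a := c⁻¹) (b := g * a * g⁻¹)
        rw [inv_inv] at this
        rw [this, ← hb, pow_orderOf_eq_one, mul_one, inv_mul_cancel]
      · rw [hc']
        calc c⁻¹ * (g * a * g⁻¹) * c * (c⁻¹ * t * c) = c⁻¹ * ((g * a * g⁻¹) * t) * c := by group
          _ = c⁻¹ * t * c * (c⁻¹ * (g * a * g⁻¹) * c) := by rw [← hcomm]; group
    have hRc := RC_conj hRb c⁻¹
    rw [inv_inv] at hRc
    have := Cfsg.Agent.CTwoTab.SuzPlane.simple_L
    refine false_of_mem ?_ hRc ?_ h4 (rad_eq_bot_of_simple not_solvable_L)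
    · intro h1
      have h5 : g * a * g⁻¹ = 1 := by
        have h6 : g * a * g⁻¹ = c * (c⁻¹ * (g * a * g⁻¹) * c) * c⁻¹ := by group
        rw [h6, h1]
        group
      rw [h5, orderOf_one] at hb
      omega
    · intro h1
      have h5 := Nat.card_congr Cfsg.Agent.CTwoTab.SuzPlane.equiv.toEquiv
      rw [h1, card_top, card_Suz, Cfsg.Agent.CTwoTab.SuzPlane.card_PSL3] at h5
      norm_num at h5

/-! ### `p = 5` -/

theorem card_stab0 : Nat.card (stabL φ [0]) = 251596800 := by
  have h7 := step7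
  have h6 := step6
  have h5 := step5
  have h4 := step4
  have h3 := step3
  have h0 : Nat.card (stabL φ []) ≤ Nat.card Suz :=
    Nat.card_le_card_of_injective _ (Subtype.val_injective)
  rw [card_Suz] at h0
  rw [card_stab] at h3
  omega

theorem not_comm {p q : ℕ} (hp : Cfsg.Agent.H149.Sp.P5 p) (hq : Cfsg.Agent.H149.Sp.P5 q) (hpq : p < q)
    (h57 : ¬ (p = 5 ∧ q = 7)) {x y : Suz} (hx : orderOf x = p) (hy : orderOf y = q) : x * y ≠ y * x := by
  intro hc
  obtain ⟨e'⟩ := LThreeCo1Suz.Main.t0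
  have hadj : Cfsg.Agent.H163.PG.Adj Suz p q := by
    refine ⟨x * y, ?_⟩
    rw [(show Commute x y from hc).orderOf_mul_eq_mul_orderOf_of_coprime (by
      rw [hx, hy]
      exact (Nat.coprime_primes hp.prime hq.prime).2 hpq.ne), hx, hy]
  have h1 := (Cfsg.Agent.H163.PG.adj_congr e'.symm).1 hadj
  have hfin : Finite Spor.Co1 := by
    have : Finite Co0 := Cfsg.Agent.CoOneType.FrameFix.finite_co0
    exact Quotient.finite _
  have h2 := Cfsg.Agent.H149.Sp.adj_of_surjective (QuotientGroup.mk' _) (QuotientGroup.mk'_surjective _) h1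
  obtain ⟨x, y, hx, hy, hxy⟩ := h2.of_subgroup.exists_commute hp.prime hq.prime
  exact Cfsg.Agent.H149.Sp.co1_not_comm hp hq hpq h57 hx hy hxy

theorem five : NoA 5 Suz := by
  have hfin := Cfsg.Agent.BpSpor.SuzThreeCentral.finSuz
  have hidx := (stabL φ [0]).card_mul_index
  rw [card_stab0, card_Suz] at hidx
  have hi : (stabL φ [0]).index = 1782 := by omega
  refine noA_two_primes (r := 13) (by norm_num) (by norm_num)
    (fun x y hx hy => not_comm (Or.inl rfl) (Or.inr (Or.inr (Or.inr (Or.inl rfl)))) (by norm_num) (by norm_num) hx hy)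
    2 1 ?_ (by decide) ?_ (by decide) (H := stabL φ [0]) ?_ ?_ ?_
  · rw [card_Suz]; norm_num
  · rw [card_Suz]; norm_num
  · intro h
    rw [h, index_top] at hi
    omega
  · rw [card_stab0]; norm_num
  · rw [hi]; norm_num

theorem cyc {p : ℕ} (hp : p = 7 ∨ p = 11 ∨ p = 13) : NoA p Suz := by
  have hfin := Cfsg.Agent.BpSpor.SuzThreeCentral.finSuz
  have hs : IsSimpleGroup Suz := Cfsg.Agent.S1694.result.1
  have hpp : p.Prime := by rcases hp with rfl | rfl | rfl <;> norm_num
  have hf : Fact p.Prime := ⟨hpp⟩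
  intro a ha _ hP
  have hna : ¬ IsMulCommutative Suz := by
    intro hm
    let _ : CommGroup Suz := { (inferInstance : Group Suz) with mul_comm := hm.is_comm.comm }
    have h1 : (Nat.card Suz).Prime := IsSimpleGroup.prime_card
    rw [card_Suz] at h1
    norm_num at h1
  obtain ⟨g, hg⟩ := Cfsg.Agent.H235.AA.Cyc.pa_cyc_full hna (p := p) (by rcases hp with rfl | rfl | rfl <;> norm_num)
    (Cfsg.Agent.H235.AA.Cyc.card_sylow_of_not_sq
      (by rw [card_Suz]; rcases hp with rfl | rfl | rfl <;> norm_num)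
      (by rw [card_Suz]; rcases hp with rfl | rfl | rfl <;> norm_num)) ha
  exact hg (hP g)

/-- **The Suzuki sporadic group** -/
theorem core_suz {K : Type*} [Group K] (h : Spor.IsoSuz K) : Core K := by
  have hf : Finite K := Nat.finite_of_card_ne_zero (by
    rw [(Cfsg.Agent.BpSpor.Row.dat_suz h).card]; norm_num)
  have e : K ≃* Suz := h.some
  refine core_of_dat (Cfsg.Agent.BpSpor.Row.dat_suz h) (l := [(2, 13), (3, 7), (5, 2), (7, 1), (11, 1), (13, 1)])
    (by decide +kernel) (by norm_num) (fun x hx hx2 _ => ?_)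
  simp only [List.mem_cons, List.not_mem_nil, or_false] at hx
  rcases hx with rfl | rfl | rfl | rfl | rfl | rfl
  · exact absurd rfl hx2
  · exact three.of_equiv e
  · exact five.of_equiv e
  · exact (cyc (Or.inl rfl)).of_equiv e
  · exact (cyc (Or.inr (Or.inl rfl))).of_equiv e
  · exact (cyc (Or.inr (Or.inr rfl))).of_equiv e

end Cfsg.Agent.H164.AASuz
end

-- part: H460/AllCore
section
/-!
# `Core` of all known simple groups (helper460)

`core_known` : all known simple groups.
-/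

set_option autoImplicit false

namespace Cfsg.Agent.H460.Fam

open Cfsg Subgroup Cfsg.Agent.H460.AA

section

variable {K L : Type*} [Group K] [Group L]

/-- transport of `Core` along an isomorphism, the simplicity too -/
theorem core_tr [Finite K] [IsSimpleGroup K] (h : IsSimpleGroup L → Core L) (e : K ≃* L) : Core K :=
  Core.of_equiv e (h (e.symm.isSimpleGroup))

end

variable {K : Type*} [Group K] [Finite K] [IsSimpleGroup K]

theorem core_isPSL (h : IsPSL K) : Core K := by
  obtain ⟨F, _, _, n, hn, h4, ⟨e⟩⟩ := h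
  rcases hn.eq_or_lt with rfl | hn
  · exact Core.of_equiv e (H654.AAPsl2.core_psl2 F (by rw [Nat.card_eq_fintype_card]; exact h4 rfl))
  · rcases (Nat.succ_le_of_lt hn).eq_or_lt with h3 | h3
    · obtain rfl : n = 3 := by omega
      exact core_tr (fun _ => core_psl3 fun h3 => H422.OwnAll.own3_PSL3 h3) e
    · obtain ⟨m, rfl⟩ : ∃ m, n = m + 1 := ⟨n - 1, by omega⟩
      exact core_tr (fun _ => core_psl_ge (by omega)) e

theorem core_isPSp (h : IsPSp K) : Core K := by
  obtain ⟨F, _, _, m, hm, h2, ⟨e⟩⟩ := h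
  exact core_tr (fun _ => core_psp hm h2 fun h3 h4 => by subst h3; exact H422.OwnAll.own3_PSp4 h4) e

theorem core_isPSU (h : IsPSU K) : Core K := by
  obtain ⟨F, _, _, n, q, hF, h3, h2, ⟨e⟩⟩ := h
  rcases Nat.even_or_odd' n with ⟨m, rfl | rfl⟩
  · refine core_tr (fun _ => core_psu_even hF (by omega) fun hm hq => ?_) e
    subst hm
    exact H422.OwnAll.own3_PSU4 hF hq
  · rcases Nat.lt_or_ge m 2 with h4 | h4
    · obtain rfl : m = 1 := by omega
      have hq : 3 ≤ q := by
        by_contra hcon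
        have h5 : 1 < Fintype.card F := Fintype.one_lt_card
        rw [hF] at h5
        have h6 : q ≠ 2 := fun h => h2 ⟨rfl, h⟩
        interval_cases q <;> omega
      exact core_tr (fun _ => H953.CorePsu3.core_psu3 hF hq) e
    · exact core_tr (fun _ => core_psu_odd hF h4) e

theorem core_isPOmegaOdd (h : IsPOmegaOdd K) : Core K := by
  obtain ⟨F, _, _, m, hm, hq, ⟨e⟩⟩ := h
  exact core_tr (fun _ => core_odd hm (by rw [Nat.card_eq_fintype_card]; exact hq)) e

theorem core_isPOmegaPlus (h : IsPOmegaPlus K) : Core K := by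
  obtain ⟨F, _, _, m, hm, ⟨e⟩⟩ := h
  exact core_tr (fun _ => core_plus hm) e

theorem core_isPOmegaMinus (h : IsPOmegaMinus K) : Core K := by
  obtain ⟨F, _, _, m, a, b, hm, hab, ⟨e⟩⟩ := h
  exact core_tr (fun _ => core_minus hm a b hab) e

theorem core_exc (h : IsExceptionalLieType K) : Core K := by
  rcases h with h | h | h | h | h | h | h | h | h | h | h
  · obtain ⟨F, _, _, h3, ⟨e⟩⟩ := h
    exact core_tr (fun _ => core_G2 F (by rw [Nat.card_eq_fintype_card]; exact h3)
      fun h4 => H422.OwnAll.own3_G2 F h4) e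
  · obtain ⟨F, _, _, ⟨e⟩⟩ := h
    exact core_tr (fun _ => core_F4 F) e
  · obtain ⟨F, _, _, ⟨e⟩⟩ := h
    exact core_tr (fun _ => core_E6 F) e
  · obtain ⟨F, _, _, ⟨e⟩⟩ := h
    exact core_tr (fun _ => core_E7 F) e
  · obtain ⟨F, _, _, ⟨e⟩⟩ := h
    exact core_tr (fun _ => core_E8 F) e
  · obtain ⟨F, _, _, q, hq, hF, ⟨e⟩⟩ := h
    exact core_tr (fun _ => core_2E6 hq (by rw [Nat.card_eq_fintype_card]; exact hF)) e
  · obtain ⟨F, _, _, q, hq, hF, ⟨e⟩⟩ := h
    exact core_tr (fun _ => core_3D4 hq hF fun h3 => H422.OwnAll.own3_3D4 hF h3) e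
  · exact H521.AASz.core_sz h
  · exact H521.AARee.core_ree h
  · exact H84.CoreTwF.core_2F4 h
  · exact H164.AATits.core_tits h

theorem core_spor (hna : ¬ IsMulCommutative K) (h : IsSporadicGroup K) : Core K := by
  rcases h with h | h | h | h | h | h | h | h | h | h | h | h | h | h | h | h | h | h | h | h | h | h | h | h | h | h
  · exact H102.AACore.core_m11 hna h
  · exact H102.AACore.core_m12 hna h
  · exact H102.AACore.core_m22 hna h
  · exact H102.AACore.core_m23 hna h
  · exact H102.AACore.core_m24 hna h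
  · exact H102.AACore.core_j1 hna h
  · exact H102.AACore.core_j2 hna h
  · exact H102.AACore.core_j3 hna h
  · exact H235.AA.J4.core h
  · exact H177.AACo1.core_co1 h
  · exact H177.AACo2.core_co2 h
  · exact H177.AACo3.core_co3 h
  · exact H177.AAMcL.core_mcl h
  · exact H177.AAHS.core_hs h
  · exact H164.AASuz.core_suz h
  · exact H235.AA.He.core h
  · exact H235.AA.Ru.core h
  · exact H235.AA.ON.core h
  · exact H235.AA.Ly.core h
  · exact H561.AAFi22.core h
  · exact H561.AAFi23.core h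
  · exact H561.AAFi24.core h
  · exact HNRow.core h
  · exact H235.AA.Th3.core h
  · exact H561.AAB.core h
  · exact H561.AAM.core h

/-- **`Core` of all known simple groups.** -/
theorem core_known (hna : ¬ IsMulCommutative K) (h : IsKnownSimple' K) : Core K := by
  rcases h with h | h | h | h | h | h | h | h | h | h
  · exact absurd (by
      have : Fact (Nat.card K).Prime := ⟨h⟩
      exact (isCyclic_of_prime_card (p := Nat.card K) rfl).isMulCommutative) hna
  · obtain ⟨n, hn, ⟨e⟩⟩ := h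
    exact Core.of_equiv e (H491.AA.core_alt n hn)
  · exact core_isPSL h
  · exact core_isPSp h
  · exact core_isPSU h
  · exact core_isPOmegaOdd h
  · exact core_isPOmegaPlus h
  · exact core_isPOmegaMinus h
  · exact core_exc h
  · exact core_spor hna h

end Cfsg.Agent.H460.Fam
end
end
end
end
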